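import Mathlib.GroupTheory.Sylow
import Cfsg.Prelude.Def_Transfer

set_option autoImplicit false

/-!
Helper34 library: facts about `Cfsg.pResidual` (the subgroup `O^p` generated by `p'`-elements) and
conjugation of `p`-subgroups into a `p`-subgroup of index prime to `p`.
-/

namespace Cfsg.Agent.Lib.Helper34

open Cfsg

theorem pResidual_normal (p : ℕ) (N : Type*) [Group N] : (pResidual p N).Normal := by
  refine ⟨fun n hn g => ?_⟩
  unfold pResidual at hn ⊢
  induction hn using Subgroup.closure_induction with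
  | mem x hx =>
    apply Subgroup.subset_closure
    show Nat.Coprime (orderOf (g * x * g⁻¹)) p
    have : orderOf (g * x * g⁻¹) = orderOf x := by
      have := orderOf_injective (MulAut.conj g).toMonoidHom (MulAut.conj g).injective x
      simpa using this
    rw [this]; exact hx
  | one => simp
  | mul x y _ _ hx hy =>
    have : g * (x * y) * g⁻¹ = (g * x * g⁻¹) * (g * y * g⁻¹) := by group
    rw [this]; exact Subgroup.mul_mem _ hx hy
  | inv x _ hx =>
    have : g * x⁻¹ * g⁻¹ = (g * x * g⁻¹)⁻¹ := by group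
    rw [this]; exact Subgroup.inv_mem _ hx

theorem pow_ordProj_mem_pResidual (p : ℕ) [hp : Fact p.Prime] {N : Type*} [Group N] [Finite N]
    (x : N) : x ^ (p ^ (orderOf x).factorization p) ∈ pResidual p N := by
  apply Subgroup.subset_closure
  show Nat.Coprime (orderOf (x ^ (p ^ (orderOf x).factorization p))) p
  have hpos : 0 < orderOf x := orderOf_pos x
  rw [orderOf_pow' x (pow_ne_zero _ hp.out.ne_zero)]
  have hdvd : p ^ (orderOf x).factorization p ∣ orderOf x := Nat.ordProj_dvd _ _
  rw [Nat.gcd_eq_right hdvd]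
  exact (Nat.coprime_ordCompl hp.out hpos.ne').symm

theorem isPGroup_quotient_pResidual (p : ℕ) [hp : Fact p.Prime] (N : Type*) [Group N] [Finite N] :
    haveI := pResidual_normal p N
    IsPGroup p (N ⧸ pResidual p N) := by
  have := pResidual_normal p N
  intro g
  induction g using QuotientGroup.induction_on with
  | H x =>
    refine ⟨(orderOf x).factorization p, ?_⟩
    rw [← QuotientGroup.mk_pow, QuotientGroup.eq_one_iff]
    exact pow_ordProj_mem_pResidual p x

/-- If `S` has index prime to `p` then `O^p(N) S = N`. -/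
theorem pResidual_sup_eq_top (p : ℕ) [hp : Fact p.Prime] {N : Type*} [Group N] [Finite N]
    (S : Subgroup N) (hS : ¬ p ∣ S.index) : pResidual p N ⊔ S = ⊤ := by
  have := pResidual_normal p N
  have h1 : (pResidual p N ⊔ S).index ∣ (pResidual p N).index := Subgroup.index_dvd_of_le le_sup_left
  have h2 : (pResidual p N ⊔ S).index ∣ S.index := Subgroup.index_dvd_of_le le_sup_right
  obtain ⟨k, hk⟩ := (isPGroup_quotient_pResidual p N).exists_card_eq
  have h3 : (pResidual p N).index = p ^ k := by rw [Subgroup.index_eq_card, hk]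
  rw [h3] at h1
  have hcop : Nat.Coprime (p ^ k) S.index :=
    Nat.Coprime.pow_left k ((Nat.Prime.coprime_iff_not_dvd hp.out).mpr hS)
  exact Subgroup.index_eq_one.mp (Nat.eq_one_of_dvd_coprimes hcop h1 h2)

/-- Sylow conjugation with the conjugating element taken in `O^p(N)`: a `p`-subgroup `R` can be conjugated
into any `p`-subgroup `S` of index prime to `p` by an element of `O^p(N)`. -/
theorem exists_mem_pResidual_conj_le (p : ℕ) [hp : Fact p.Prime] {N : Type*} [Group N] [Finite N]
    (S R : Subgroup N) (hSp : IsPGroup p S) (hS : ¬ p ∣ S.index) (hR : IsPGroup p R) :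
    ∃ k ∈ pResidual p N, ∀ r ∈ R, k * r * k⁻¹ ∈ S := by
  have := pResidual_normal p N
  obtain ⟨Q, hQ⟩ := hR.exists_le_sylow
  obtain ⟨n, hn⟩ := MulAction.exists_smul_eq N Q (hSp.toSylow hS)
  -- n • Q = S, so n r n⁻¹ ∈ S for r ∈ R
  have hconj : ∀ r ∈ R, n * r * n⁻¹ ∈ S := by
    intro r hr
    have h1 : n * r * n⁻¹ ∈ ((n • Q : Sylow p N) : Subgroup N) := by
      rw [Sylow.coe_subgroup_smul]
      exact ⟨r, hQ hr, rfl⟩
    rw [hn] at h1
    exact h1
  -- decompose n = s * k with s ∈ S, k ∈ O^p(N)
  have htop : n ∈ S ⊔ pResidual p N := by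
    rw [sup_comm, pResidual_sup_eq_top p S hS]; exact Subgroup.mem_top n
  rw [← SetLike.mem_coe, Subgroup.mul_normal] at htop
  obtain ⟨s, hs, k, hk, rfl⟩ := htop
  refine ⟨k, hk, fun r hr => ?_⟩
  have h2 := hconj r hr
  have h3 : k * r * k⁻¹ = s⁻¹ * (s * k * r * (s * k)⁻¹) * s := by group
  rw [h3]
  exact S.mul_mem (S.mul_mem (S.inv_mem hs) h2) hs

end Cfsg.Agent.Lib.Helper34
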