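import Mathlib.GroupTheory.Sylow
import Mathlib.GroupTheory.Transfer
import Cfsg.Prelude.Def_Transfer
import Cfsg.Agent.Lib.Helper34.PResidual

set_option autoImplicit false

/-!
Helper34 library: normal `p`-complements.
-/

namespace Cfsg.Agent.Lib.Helper34

open Cfsg

/-- Burnside: a central Sylow `p`-subgroup has a normal complement. -/
theorem exists_normal_complement_of_sylow_le_center {p : ℕ} [Fact p.Prime] {G : Type*} [Group G]
    [Finite G] (P : Sylow p G) (hP : (P : Subgroup G) ≤ Subgroup.center G) :
    ∃ K : Subgroup G, K.Normal ∧ K.IsComplement' (P : Subgroup G) := by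
  have hP' : Subgroup.normalizer ((P : Subgroup G) : Set G) ≤ Subgroup.centralizer ((P : Subgroup G) : Set G) := by
    intro g _
    rw [Subgroup.mem_centralizer_iff]
    intro x hx
    exact (Subgroup.mem_center_iff.mp (hP hx) g).symm
  exact ⟨(MonoidHom.transferSylow P hP').ker, inferInstance,
    MonoidHom.ker_transferSylow_isComplement' P hP'⟩

/-- If `K` is a normal complement to a Sylow `p`-subgroup then every `p'`-element lies in `K`. -/
theorem mem_of_coprime_orderOf_of_isComplement' {p : ℕ} [hp : Fact p.Prime] {G : Type*} [Group G]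
    [Finite G] (P : Sylow p G) (K : Subgroup G) [K.Normal] (hK : K.IsComplement' (P : Subgroup G))
    (g : G) (hg : (orderOf g).Coprime p) : g ∈ K := by
  have hidx : K.index = Nat.card (P : Subgroup G) := hK.symm.index_eq_card
  obtain ⟨n, hn⟩ := P.isPGroup'.exists_card_eq
  have hq : IsPGroup p (G ⧸ K) := IsPGroup.of_card (n := n) (by rw [← Subgroup.index_eq_card, hidx, hn])
  obtain ⟨k, hk⟩ := hq (QuotientGroup.mk g)
  have h1 : orderOf (QuotientGroup.mk g : G ⧸ K) ∣ p ^ k := orderOf_dvd_of_pow_eq_one hk
  have h2 : orderOf (QuotientGroup.mk g : G ⧸ K) ∣ orderOf g :=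
    orderOf_map_dvd (QuotientGroup.mk' K) g
  have h3 : Nat.Coprime (orderOf g) (p ^ k) := Nat.Coprime.pow_right k hg
  have h4 : orderOf (QuotientGroup.mk g : G ⧸ K) = 1 := Nat.eq_one_of_dvd_coprimes h3 h2 h1
  rw [orderOf_eq_one_iff, QuotientGroup.eq_one_iff] at h4
  exact h4

theorem pResidual_le_of_isComplement' {p : ℕ} [hp : Fact p.Prime] {G : Type*} [Group G]
    [Finite G] (P : Sylow p G) (K : Subgroup G) [K.Normal] (hK : K.IsComplement' (P : Subgroup G)) :
    pResidual p G ≤ K := by
  unfold pResidual
  rw [Subgroup.closure_le]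
  intro g hg
  exact mem_of_coprime_orderOf_of_isComplement' P K hK g hg

theorem card_coprime_of_isComplement' {p : ℕ} [hp : Fact p.Prime] {G : Type*} [Group G]
    [Finite G] (P : Sylow p G) (K : Subgroup G) (hK : K.IsComplement' (P : Subgroup G)) :
    (Nat.card K).Coprime p := by
  have h1 : Nat.card K = (P : Subgroup G).index := hK.index_eq_card.symm
  rw [h1]
  exact ((Nat.Prime.coprime_iff_not_dvd hp.out).mpr P.not_dvd_index).symm

/-- A finite group has a normal `p`-complement iff `O^p(G)` has order prime to `p`. -/
theorem hasNormalPComplement_iff_pResidual_coprime {p : ℕ} [hp : Fact p.Prime] {G : Type*} [Group G]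
    [Finite G] : HasNormalPComplement p G ↔ (Nat.card (pResidual p G)).Coprime p := by
  constructor
  · rintro ⟨P, K, hKn, hK⟩
    have hle := pResidual_le_of_isComplement' P K hK
    exact Nat.Coprime.coprime_dvd_left (Subgroup.card_dvd_of_le hle) (card_coprime_of_isComplement' P K hK)
  · intro hcop
    have hn := pResidual_normal p G
    obtain ⟨P⟩ : Nonempty (Sylow p G) := inferInstance
    refine ⟨P, pResidual p G, hn, ?_⟩
    obtain ⟨k, hk⟩ := (isPGroup_quotient_pResidual p G).exists_card_eq
    have hidx : (pResidual p G).index = p ^ k := by rw [Subgroup.index_eq_card, hk]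
    have hcard : Nat.card (pResidual p G) * p ^ k = Nat.card G := by
      rw [← hidx]; exact Subgroup.card_mul_index _
    have hPcard : Nat.card (P : Subgroup G) = p ^ (Nat.card G).factorization p := P.card_eq_multiplicity
    have hfac : (Nat.card G).factorization p = k := by
      rw [← hcard, Nat.factorization_mul (Nat.card_pos.ne') (pow_ne_zero _ hp.out.ne_zero)]
      simp only [Finsupp.coe_add, Pi.add_apply]
      rw [Nat.factorization_eq_zero_of_not_dvd, hp.out.factorization_pow]
      · simp
      · intro hdvd
        exact (Nat.Prime.coprime_iff_not_dvd hp.out).mp hcop.symm hdvd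
    apply Subgroup.isComplement'_of_coprime
    · rw [hPcard, hfac, hcard]
    · rw [hPcard]; exact Nat.Coprime.pow_right _ hcop

end Cfsg.Agent.Lib.Helper34
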