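import Mathlib.GroupTheory.Sylow
import Mathlib.GroupTheory.Index
import Cfsg.Prelude.Def_Transfer
import Cfsg.Agent.Lib.Helper34.NormalPComplement

set_option autoImplicit false

/-!
Helper34 library: transport of `Cfsg.HasNormalPComplement` along homomorphisms.

* `hasNPC_iff_exists_normal`: `G` has a normal `p`-complement iff it has a normal subgroup of order prime to
  `p` and index a power of `p`.
* `hasNPC_of_injective`, `hasNPC_of_surjective`, `hasNPC_of_mulEquiv`.
* `hasNPC_of_quotient_coprime`: extension of a group with a normal `p`-complement by a normal `p'`-subgroup.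
* `hasNPC_of_card_coprime`, `hasNPC_of_isPGroup`.
-/

namespace Cfsg.Agent.Lib.Helper34

open Cfsg

theorem hasNPC_iff_exists_normal {p : ℕ} [hp : Fact p.Prime] {G : Type*} [Group G] [Finite G] :
    HasNormalPComplement p G ↔
      ∃ Y : Subgroup G, Y.Normal ∧ (Nat.card Y).Coprime p ∧ ∃ k : ℕ, Y.index = p ^ k := by
  constructor
  · rintro ⟨P, N, hN, hc⟩
    refine ⟨N, hN, card_coprime_of_isComplement' P N hc, ?_⟩
    obtain ⟨k, hk⟩ := P.isPGroup'.exists_card_eq
    exact ⟨k, by rw [hc.symm.index_eq_card, hk]⟩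
  · rintro ⟨Y, hY, hcop, k, hk⟩
    obtain ⟨P⟩ : Nonempty (Sylow p G) := inferInstance
    refine ⟨P, Y, hY, ?_⟩
    have hcard : Nat.card Y * p ^ k = Nat.card G := by
      rw [← hk]; exact Subgroup.card_mul_index _
    have hPcard : Nat.card (P : Subgroup G) = p ^ (Nat.card G).factorization p := P.card_eq_multiplicity
    have hfac : (Nat.card G).factorization p = k := by
      rw [← hcard, Nat.factorization_mul (Nat.card_pos.ne') (pow_ne_zero _ hp.out.ne_zero)]
      simp only [Finsupp.coe_add, Pi.add_apply]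
      rw [Nat.factorization_eq_zero_of_not_dvd, hp.out.factorization_pow]
      · simp
      · intro hdvd
        exact (Nat.Prime.coprime_iff_not_dvd hp.out).mp hcop.symm hdvd
    apply Subgroup.isComplement'_of_coprime
    · rw [hPcard, hfac, hcard]
    · rw [hPcard]; exact Nat.Coprime.pow_right _ hcop

theorem hasNPC_of_injective {p : ℕ} [hp : Fact p.Prime] {G H : Type*} [Group G] [Group H] [Finite G]
    [Finite H] (f : H →* G) (hf : Function.Injective f) (h : HasNormalPComplement p G) :
    HasNormalPComplement p H := by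
  rw [hasNPC_iff_exists_normal] at h ⊢
  obtain ⟨Y, hY, hcop, k, hk⟩ := h
  refine ⟨Y.comap f, hY.comap f, ?_, ?_⟩
  · exact Nat.Coprime.coprime_dvd_left (Subgroup.card_comap_dvd_of_injective Y f hf) hcop
  · have h1 : (Y.comap f).index ∣ p ^ k := by
      rw [Subgroup.index_comap, ← hk]
      exact Subgroup.relIndex_dvd_index_of_normal Y f.range
    obtain ⟨j, _, hj⟩ := (Nat.dvd_prime_pow hp.out).mp h1
    exact ⟨j, hj⟩

theorem hasNPC_of_surjective {p : ℕ} [hp : Fact p.Prime] {G H : Type*} [Group G] [Group H] [Finite G]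
    [Finite H] (f : G →* H) (hf : Function.Surjective f) (h : HasNormalPComplement p G) :
    HasNormalPComplement p H := by
  rw [hasNPC_iff_exists_normal] at h ⊢
  obtain ⟨Y, hY, hcop, k, hk⟩ := h
  refine ⟨Y.map f, hY.map f hf, ?_, ?_⟩
  · exact Nat.Coprime.coprime_dvd_left (Subgroup.card_map_dvd Y f) hcop
  · have h1 : (Y.map f).index ∣ p ^ k := by
      rw [← hk]
      exact Subgroup.index_map_dvd Y hf
    obtain ⟨j, _, hj⟩ := (Nat.dvd_prime_pow hp.out).mp h1
    exact ⟨j, hj⟩

theorem hasNPC_of_mulEquiv {p : ℕ} [hp : Fact p.Prime] {G H : Type*} [Group G] [Group H] [Finite G]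
    (e : G ≃* H) (h : HasNormalPComplement p G) : HasNormalPComplement p H := by
  have : Finite H := Finite.of_equiv G e.toEquiv
  exact hasNPC_of_surjective e.toMonoidHom e.surjective h

theorem hasNPC_of_card_coprime {p : ℕ} [hp : Fact p.Prime] {G : Type*} [Group G] [Finite G]
    (h : (Nat.card G).Coprime p) : HasNormalPComplement p G := by
  rw [hasNPC_iff_exists_normal]
  refine ⟨⊤, inferInstance, ?_, 0, ?_⟩
  · rwa [Subgroup.card_top]
  · simp

theorem hasNPC_of_isPGroup {p : ℕ} [hp : Fact p.Prime] {G : Type*} [Group G] [Finite G]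
    (h : IsPGroup p G) : HasNormalPComplement p G := by
  rw [hasNPC_iff_exists_normal]
  obtain ⟨k, hk⟩ := h.exists_card_eq
  refine ⟨⊥, inferInstance, ?_, k, ?_⟩
  · simp
  · rw [Subgroup.index_bot, hk]

theorem hasNPC_of_quotient_coprime {p : ℕ} [hp : Fact p.Prime] {G : Type*} [Group G] [Finite G]
    (O : Subgroup G) [O.Normal] (hO : (Nat.card O).Coprime p)
    (h : HasNormalPComplement p (G ⧸ O)) : HasNormalPComplement p G := by
  rw [hasNPC_iff_exists_normal] at h ⊢
  obtain ⟨Y, hY, hcop, k, hk⟩ := h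
  refine ⟨Y.comap (QuotientGroup.mk' O), hY.comap _, ?_, k, ?_⟩
  · have h1 : Nat.card (Y.comap (QuotientGroup.mk' O)) = Nat.card O * Nat.card Y :=
      QuotientGroup.card_preimage_mk O (Y : Set (G ⧸ O))
    rw [h1]
    exact Nat.Coprime.mul_left hO hcop
  · rw [Subgroup.index_comap_of_surjective Y (QuotientGroup.mk'_surjective O), hk]

/-- In a group with a normal `p`-complement `Y` (normal of order prime to `p`, index a `p`-power), a subgroup
of order prime to `p` lies in `Y`. -/
theorem le_of_card_coprime_of_index_pow {p : ℕ} [hp : Fact p.Prime] {G : Type*} [Group G] [Finite G]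
    (Y : Subgroup G) [Y.Normal] {k : ℕ} (hk : Y.index = p ^ k) (L : Subgroup G)
    (hL : (Nat.card L).Coprime p) : L ≤ Y := by
  intro g hg
  have hq : IsPGroup p (G ⧸ Y) := IsPGroup.of_card (n := k) (by rw [← Subgroup.index_eq_card, hk])
  obtain ⟨j, hj⟩ := hq (QuotientGroup.mk g)
  have h1 : orderOf (QuotientGroup.mk g : G ⧸ Y) ∣ p ^ j := orderOf_dvd_of_pow_eq_one hj
  have h2 : orderOf (QuotientGroup.mk g : G ⧸ Y) ∣ orderOf g :=
    orderOf_map_dvd (QuotientGroup.mk' Y) g
  have h2' : orderOf g ∣ Nat.card L := by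
    have := orderOf_dvd_natCard (⟨g, hg⟩ : L)
    rwa [Subgroup.orderOf_mk] at this
  have h3 : Nat.Coprime (Nat.card L) (p ^ j) := Nat.Coprime.pow_right j hL
  have h4 : orderOf (QuotientGroup.mk g : G ⧸ Y) = 1 :=
    Nat.eq_one_of_dvd_coprimes h3 (h2.trans h2') h1
  rw [orderOf_eq_one_iff, QuotientGroup.eq_one_iff] at h4
  exact h4

end Cfsg.Agent.Lib.Helper34
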