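import Mathlib.GroupTheory.Sylow
import Cfsg.Prelude.Def_Solvable

set_option autoImplicit false

/-!
Helper34 library: `O_{p'}(G)` (`Cfsg.pPrimeCore`) of a finite group has order prime to `p`.
(Same argument as in helper55's `Cores.lean`; restated here to keep this library self-contained.)
-/

namespace Cfsg.Agent.Lib.Helper34

open Cfsg

theorem card_sup_dvd_mul_of_normal {G : Type*} [Group G] [Finite G] (H K : Subgroup G) [K.Normal] :
    Nat.card ↥(H ⊔ K) ∣ Nat.card H * Nat.card K := by
  have h1 : Nat.card K * K.relIndex (H ⊔ K) = Nat.card ↥(H ⊔ K) := by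
    have := Subgroup.relIndex_mul_relIndex (H := ⊥) (K := K) (L := H ⊔ K) bot_le le_sup_right
    rwa [Subgroup.relIndex_bot_left, Subgroup.relIndex_bot_left] at this
  rw [Subgroup.relIndex_sup_right] at h1
  rw [← h1, mul_comm]
  exact Nat.mul_dvd_mul_right (Subgroup.relIndex_dvd_card K H) _

theorem coprime_card_sSup_normal {G : Type*} [Group G] [Finite G] (p : ℕ) (S : Set (Subgroup G))
    (hS : ∀ N ∈ S, N.Normal ∧ (Nat.card N).Coprime p) :
    (sSup S).Normal ∧ (Nat.card ↥(sSup S)).Coprime p := by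
  have hfin : S.Finite := Set.toFinite S
  induction S, hfin using Set.Finite.induction_on with
  | empty =>
    rw [sSup_empty]
    exact ⟨Subgroup.normal_bot, by simp⟩
  | insert ha hs ih =>
    rename_i a s
    rw [sSup_insert]
    obtain ⟨h1, h2⟩ := ih (fun N hN => hS N (Set.mem_insert_of_mem _ hN))
    obtain ⟨h3, h4⟩ := hS a (Set.mem_insert _ _)
    refine ⟨Subgroup.sup_normal a (sSup s), ?_⟩
    exact Nat.Coprime.coprime_dvd_left (card_sup_dvd_mul_of_normal a (sSup s)) (Nat.Coprime.mul_left h4 h2)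

theorem pPrimeCore_card_coprime {G : Type*} [Group G] [Finite G] (p : ℕ) :
    (Nat.card ↥(pPrimeCore p G)).Coprime p :=
  (coprime_card_sSup_normal p _ (fun _ h => h)).2

theorem pPrimeCore_isNormal {G : Type*} [Group G] (p : ℕ) : (pPrimeCore p G).Normal :=
  Subgroup.sSup_normal _ (fun _ h => h.1)

theorem le_pPrimeCore_of_normal {G : Type*} [Group G] {p : ℕ} {N : Subgroup G} (hN : N.Normal)
    (hc : (Nat.card N).Coprime p) : N ≤ pPrimeCore p G :=
  le_sSup ⟨hN, hc⟩

end Cfsg.Agent.Lib.Helper34
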