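import Mathlib.GroupTheory.Sylow
import Mathlib.GroupTheory.Nilpotent

set_option autoImplicit false

/-!
Helper34 library: conjugation of subgroups written as `H.map (MulAut.conj g).toMonoidHom`,
Sylow conjugates, growth of normalizers in `p`-groups.
-/

namespace Cfsg.Agent.Lib.Helper34

theorem mem_map_conj_iff {G : Type*} [Group G] (H : Subgroup G) (g x : G) :
    x ∈ H.map (MulAut.conj g).toMonoidHom ↔ g⁻¹ * x * g ∈ H := by
  constructor
  · rintro ⟨y, hy, rfl⟩
    simpa [MulAut.conj_apply, mul_assoc] using hy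
  · intro hx
    exact ⟨g⁻¹ * x * g, hx, by simp [MulAut.conj_apply, mul_assoc]⟩

theorem mem_sylow_smul_iff {G : Type*} [Group G] {p : ℕ} (P : Sylow p G) (g x : G) :
    x ∈ ((g • P : Sylow p G) : Subgroup G) ↔ g⁻¹ * x * g ∈ (P : Subgroup G) := by
  rw [Sylow.coe_subgroup_smul, Subgroup.mem_pointwise_smul_iff_inv_smul_mem]
  simp [MulAut.smul_def]

theorem sylow_smul_eq_map_conj {G : Type*} [Group G] {p : ℕ} (P : Sylow p G) (g : G) :
    ((g • P : Sylow p G) : Subgroup G) = (P : Subgroup G).map (MulAut.conj g).toMonoidHom := by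
  ext x
  rw [mem_sylow_smul_iff, mem_map_conj_iff]

theorem map_conj_mul {G : Type*} [Group G] (H : Subgroup G) (g k : G) :
    H.map (MulAut.conj (g * k)).toMonoidHom =
      (H.map (MulAut.conj k).toMonoidHom).map (MulAut.conj g).toMonoidHom := by
  ext x
  simp only [mem_map_conj_iff]
  have : (g * k)⁻¹ * x * (g * k) = k⁻¹ * (g⁻¹ * x * g) * k := by group
  rw [this]

theorem map_conj_inf {G : Type*} [Group G] (H K : Subgroup G) (g : G) :
    (H ⊓ K).map (MulAut.conj g).toMonoidHom =
      H.map (MulAut.conj g).toMonoidHom ⊓ K.map (MulAut.conj g).toMonoidHom := by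
  ext x
  simp only [mem_map_conj_iff, Subgroup.mem_inf]

theorem map_conj_normalizer {G : Type*} [Group G] (H : Subgroup G) (g : G) :
    (Subgroup.normalizer (H : Set G)).map (MulAut.conj g).toMonoidHom =
      Subgroup.normalizer ((H.map (MulAut.conj g).toMonoidHom : Subgroup G) : Set G) :=
  Subgroup.map_equiv_normalizer_eq H (MulAut.conj g)

theorem relIndex_map_conj {G : Type*} [Group G] (H K : Subgroup G) (g : G) :
    (H.map (MulAut.conj g).toMonoidHom).relIndex (K.map (MulAut.conj g).toMonoidHom) = H.relIndex K :=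
  Subgroup.relIndex_map_map_of_injective H K (MulAut.conj g).injective

theorem card_map_conj {G : Type*} [Group G] (H : Subgroup G) (g : G) :
    Nat.card (H.map (MulAut.conj g).toMonoidHom) = Nat.card H :=
  Subgroup.card_map_of_injective (MulAut.conj g).injective

theorem map_conj_le_iff {G : Type*} [Group G] (H K : Subgroup G) (g : G) :
    H.map (MulAut.conj g).toMonoidHom ≤ K.map (MulAut.conj g).toMonoidHom ↔ H ≤ K :=
  Subgroup.map_le_map_iff_of_injective (MulAut.conj g).injective

theorem map_conj_eq_self_of_mem_normalizer {G : Type*} [Group G] (H : Subgroup G) (g : G)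
    (hg : g ∈ Subgroup.normalizer (H : Set G)) : H.map (MulAut.conj g).toMonoidHom = H :=
  Subgroup.mem_normalizer_iff_map_conj_eq.mp hg

theorem card_lt_card_of_lt {G : Type*} [Group G] {H K : Subgroup G} [Finite K] (h : H < K) :
    Nat.card H < Nat.card K := by
  by_contra hcon
  push Not at hcon
  exact h.ne (Subgroup.eq_of_le_of_card_ge h.le hcon)

/-- In a finite `p`-group, normalizers grow. Stated inside an ambient group. -/
theorem lt_inf_normalizer_of_lt {X : Type*} [Group X] {p : ℕ} [Fact p.Prime] {D P : Subgroup X}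
    [Finite P] (hP : IsPGroup p P) (hDP : D < P) :
    D < P ⊓ Subgroup.normalizer (D : Set X) := by
  have : Group.IsNilpotent P := hP.isNilpotent
  have hnc : NormalizerCondition P := Group.normalizerCondition_of_isNilpotent
  have hlt : D.subgroupOf P < ⊤ := by
    rw [lt_top_iff_ne_top]
    intro h
    rw [Subgroup.subgroupOf_eq_top] at h
    exact absurd (le_antisymm hDP.le h) hDP.ne
  have h2 := hnc (D.subgroupOf P) hlt
  rw [← Subgroup.subgroupOf_normalizer_eq hDP.le] at h2
  obtain ⟨y, hy1, hy2⟩ := SetLike.exists_of_lt h2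
  refine lt_of_le_of_ne (le_inf hDP.le Subgroup.le_normalizer) ?_
  intro heq
  apply hy2
  rw [Subgroup.mem_subgroupOf] at hy1 ⊢
  rw [heq]
  exact ⟨y.2, hy1⟩

end Cfsg.Agent.Lib.Helper34
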