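import Mathlib.GroupTheory.Sylow
import Mathlib.Order.Atoms
import Cfsg.Prelude.Def_ConjugacyFunctors
import Cfsg.Prelude.Def_CaseTheorems
import Cfsg.Prelude.Def_Transfer
import Cfsg.Agent.Lib.Helper34.NPC
import Cfsg.Agent.Lib.Helper76.PCore

set_option autoImplicit false

/-!
Helper34 library: the "local hypothesis" of Thompson's normal `p`-complement criterion in functor form,
stated intrinsically for a group (`GoodSec`) and for all sections of a group (`SecGood`), with the closure
properties needed for an induction on the order of the group.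
-/

namespace Cfsg.Agent.Lib.Helper34

open Cfsg

universe u

section induced

variable {p : ℕ} (W : ∀ (Q : Type u) [Group Q], Subgroup Q)

/-- The induced functor commutes with homomorphisms that are injective on the `p`-subgroup in question. -/
theorem inducedFunctor_map_of_injOn (hW : Cfsg.IsCharPFunctor.{u} p W) {X Y : Type u} [Group X] [Group Y]
    [Finite X] (f : X →* Y) (T : Subgroup X) (hT : IsPGroup p T)
    (hinj : ∀ x ∈ T, f x = 1 → x = 1) :
    Cfsg.inducedFunctor W (T.map f) = (Cfsg.inducedFunctor W T).map f := by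
  have hbij : Function.Bijective (f.subgroupMap T) := by
    refine ⟨?_, f.subgroupMap_surjective T⟩
    rw [injective_iff_map_eq_one]
    intro x hx
    have h1 : f (x : X) = 1 := by
      have := congrArg Subtype.val hx
      simpa using this
    exact Subtype.ext (hinj x x.2 h1)
  have h := hW.2 ↥T ↥(T.map f) hT (MulEquiv.ofBijective (f.subgroupMap T) hbij)
  unfold Cfsg.inducedFunctor
  rw [← h, Subgroup.map_map, Subgroup.map_map]
  congr 1

/-- `inducedFunctor` along an isomorphism of ambient groups. -/
theorem inducedFunctor_map_mulEquiv (hW : Cfsg.IsCharPFunctor.{u} p W) {X Y : Type u} [Group X] [Group Y]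
    [Finite X] (e : X ≃* Y) (T : Subgroup X) (hT : IsPGroup p T) :
    Cfsg.inducedFunctor W (T.map e.toMonoidHom) = (Cfsg.inducedFunctor W T).map e.toMonoidHom :=
  inducedFunctor_map_of_injOn W hW e.toMonoidHom T hT
    (fun x _ hx => e.injective (by simpa using hx))

theorem inducedFunctor_le' {X : Type u} [Group X] (T : Subgroup X) : Cfsg.inducedFunctor W T ≤ T := by
  unfold Cfsg.inducedFunctor
  exact Subgroup.map_subtype_le _

theorem inducedFunctor_ne_bot (hW : Cfsg.IsCharPFunctor.{u} p W) {X : Type u} [Group X] [Finite X]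
    (T : Subgroup X) (hT : IsPGroup p T) (hne : T ≠ ⊥) : Cfsg.inducedFunctor W T ≠ ⊥ := by
  unfold Cfsg.inducedFunctor
  rw [Ne, Subgroup.map_eq_bot_iff_of_injective _ T.subtype_injective]
  have : Nontrivial ↥T := (Subgroup.nontrivial_iff_ne_bot T).mpr hne
  exact hW.1 ↥T hT this

/-- `N(T) ≤ N(W(T))`. -/
theorem normalizer_le_normalizer_inducedFunctor (hW : Cfsg.IsCharPFunctor.{u} p W) {X : Type u} [Group X]
    [Finite X] (T : Subgroup X) (hT : IsPGroup p T) :
    Subgroup.normalizer (T : Set X) ≤ Subgroup.normalizer ((Cfsg.inducedFunctor W T : Subgroup X) : Set X) := by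
  intro g hg
  rw [Subgroup.mem_normalizer_iff_map_conj_eq] at hg ⊢
  have h := inducedFunctor_map_mulEquiv W hW (MulAut.conj g) T hT
  have hg' : T.map (MulAut.conj g).toMonoidHom = T := hg
  rw [hg'] at h
  exact h.symm

end induced

section cores

theorem pCore_map_mulEquiv_le {A B : Type*} [Group A] [Group B] (p : ℕ) [Fact p.Prime]
    (e : A ≃* B) : (pCore p A).map e.toMonoidHom ≤ pCore p B := by
  apply le_sSup
  exact ⟨(Cfsg.pCore_normal p A).map e.toMonoidHom e.surjective,
    (Cfsg.Agent.Lib.Helper76.pCore_isPGroup p).map _⟩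

theorem pCore_map_mulEquiv {A B : Type*} [Group A] [Group B] (p : ℕ) [Fact p.Prime]
    (e : A ≃* B) : (pCore p A).map e.toMonoidHom = pCore p B := by
  apply le_antisymm (pCore_map_mulEquiv_le p e)
  have h1 := Subgroup.map_mono (f := e.toMonoidHom) (pCore_map_mulEquiv_le p e.symm)
  rw [Subgroup.map_map] at h1
  have h2 : e.toMonoidHom.comp e.symm.toMonoidHom = MonoidHom.id B := by
    ext b
    simp
  rw [h2, Subgroup.map_id] at h1
  exact h1

end cores

section goodsec

variable (p : ℕ) (W : ∀ (Q : Type u) [Group Q], Subgroup Q)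

/-- The local hypothesis of Thompson's criterion for the group `Y`. -/
def GoodSec (Y : Type u) [Group Y] : Prop :=
  Subgroup.centralizer ((Cfsg.pCore p Y : Subgroup Y) : Set Y) ≤ Cfsg.pCore p Y →
    Cfsg.HasNormalPComplement p (Y ⧸ Cfsg.pCore p Y) →
      ∀ T : Sylow p Y, IsCoatom (T : Subgroup Y) →
        (Cfsg.inducedFunctor (G := Y) W (T : Subgroup Y)).Normal

/-- The local hypothesis for every section of `G`. -/
def SecGood (G : Type u) [Group G] : Prop :=
  ∀ (K : Subgroup G) (Y : Type u) [Group Y] (φ : ↥K →* Y), Function.Surjective φ → GoodSec p W Y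

variable {p} {W}

theorem goodSec_of_mulEquiv [Fact p.Prime] (hW : Cfsg.IsCharPFunctor.{u} p W) {X Y : Type u} [Group X]
    [Group Y] [Finite X] (e : X ≃* Y) (h : GoodSec p W X) : GoodSec p W Y := by
  intro hC hQ T hT
  have hY : Finite Y := Finite.of_equiv X e.toEquiv
  have hcore : (pCore p X).map e.toMonoidHom = pCore p Y := pCore_map_mulEquiv p e
  -- centralizer condition
  have hCX : Subgroup.centralizer ((Cfsg.pCore p X : Subgroup X) : Set X) ≤ Cfsg.pCore p X := by
    intro x hx
    have h1 : e x ∈ Subgroup.centralizer ((Cfsg.pCore p Y : Subgroup Y) : Set Y) := by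
      rw [Subgroup.mem_centralizer_iff]
      intro y hy
      rw [← hcore] at hy
      obtain ⟨z, hz, rfl⟩ := hy
      have := Subgroup.mem_centralizer_iff.mp hx z hz
      show e z * e x = e x * e z
      rw [← map_mul, ← map_mul, this]
    have h2 := hC h1
    rw [← hcore] at h2
    obtain ⟨z, hz, hzx⟩ := h2
    have : z = x := e.injective hzx
    rwa [← this]
  -- quotient condition
  have hQX : Cfsg.HasNormalPComplement p (X ⧸ Cfsg.pCore p X) :=
    hasNPC_of_mulEquiv (QuotientGroup.congr (pCore p X) (pCore p Y) e hcore).symm hQ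
  -- Sylow subgroup
  let TX : Sylow p X := T.comapOfInjective e.toMonoidHom e.injective
    (by intro y _; exact ⟨e.symm y, by simp⟩)
  have hTX : ((TX : Subgroup X)).map e.toMonoidHom = T := by
    show ((T : Subgroup Y).comap e.toMonoidHom).map e.toMonoidHom = T
    exact Subgroup.map_comap_eq_self_of_surjective e.surjective _
  have hco : IsCoatom (TX : Subgroup X) := by
    rw [← (MulEquiv.mapSubgroup e).isCoatom_iff]
    have : (MulEquiv.mapSubgroup e) (TX : Subgroup X) = T := hTX
    rw [this]
    exact hT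
  have hn := h hCX hQX TX hco
  have h3 := inducedFunctor_map_mulEquiv W hW e (TX : Subgroup X) TX.isPGroup'
  rw [hTX] at h3
  rw [h3]
  exact hn.map e.toMonoidHom e.surjective

theorem secGood_of_sections [Fact p.Prime] (hW : Cfsg.IsCharPFunctor.{u} p W) {G : Type u} [Group G]
    [Finite G]
    (hloc : ∀ (K R : Subgroup G) [hR : (R.subgroupOf K).Normal],
      Subgroup.centralizer ((Cfsg.pCore p (↥K ⧸ R.subgroupOf K) : Subgroup (↥K ⧸ R.subgroupOf K)) :
        Set (↥K ⧸ R.subgroupOf K)) ≤ Cfsg.pCore p (↥K ⧸ R.subgroupOf K) →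
      Cfsg.HasNormalPComplement p ((↥K ⧸ R.subgroupOf K) ⧸ Cfsg.pCore p (↥K ⧸ R.subgroupOf K)) →
      ∀ T : Sylow p (↥K ⧸ R.subgroupOf K), IsCoatom (T : Subgroup (↥K ⧸ R.subgroupOf K)) →
        (Cfsg.inducedFunctor (G := (↥K ⧸ R.subgroupOf K)) W
          ((T : Subgroup (↥K ⧸ R.subgroupOf K)))).Normal) :
    SecGood p W G := by
  intro K Y _ φ hφ
  have hR : (φ.ker.map K.subtype).subgroupOf K = φ.ker :=
    Subgroup.comap_map_eq_self_of_injective K.subtype_injective φ.ker
  have : ((φ.ker.map K.subtype).subgroupOf K).Normal := by rw [hR]; infer_instance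
  have h1 : GoodSec p W (↥K ⧸ (φ.ker.map K.subtype).subgroupOf K) := hloc K (φ.ker.map K.subtype)
  exact goodSec_of_mulEquiv hW
    ((QuotientGroup.quotientMulEquivOfEq hR).trans (QuotientGroup.quotientKerEquivOfSurjective φ hφ)) h1

theorem SecGood.self {G : Type u} [Group G] (h : SecGood p W G) : GoodSec p W G :=
  h ⊤ G (Subgroup.topEquiv (G := G)).toMonoidHom (Subgroup.topEquiv (G := G)).surjective

theorem SecGood.subgroup {G : Type u} [Group G] (h : SecGood p W G) (N : Subgroup G) :
    SecGood p W ↥N := by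
  intro K Y _ φ hφ
  exact h (K.map N.subtype) Y
    (φ.comp (K.equivMapOfInjective N.subtype N.subtype_injective).symm.toMonoidHom)
    (hφ.comp (K.equivMapOfInjective N.subtype N.subtype_injective).symm.surjective)

theorem SecGood.quotient {G : Type u} [Group G] (h : SecGood p W G) (M : Subgroup G) [M.Normal] :
    SecGood p W (G ⧸ M) := by
  intro K Y _ φ hφ
  exact h (K.comap (QuotientGroup.mk' M)) Y (φ.comp ((QuotientGroup.mk' M).subgroupComap K))
    (hφ.comp ((QuotientGroup.mk' M).subgroupComap_surjective_of_surjective K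
      (QuotientGroup.mk'_surjective M)))

end goodsec

end Cfsg.Agent.Lib.Helper34
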