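import Mathlib.GroupTheory.Sylow
import Cfsg.Agent.Lib.Helper34.ThompsonSections
import Cfsg.Agent.Lib.Helper34.SylowConj
import Cfsg.Agent.Lib.Helper34.Cores

set_option autoImplicit false

/-!
Helper34 library: auxiliary group theory for Thompson's normal `p`-complement criterion.
-/

namespace Cfsg.Agent.Lib.Helper34

open Cfsg

universe u

section frattini

variable {G : Type*} [Group G]

/-- Normalizers of `p`-subgroups modulo a normal `p'`-subgroup: `N_{G/O}(VO/O) = N_G(V)O/O`. -/
theorem normalizer_map_mk_of_coprime [Finite G] {p : ℕ} [Fact p.Prime] (O : Subgroup G) [O.Normal]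
    (hO : (Nat.card O).Coprime p) (V : Subgroup G) (hV : IsPGroup p V) :
    Subgroup.normalizer ((V.map (QuotientGroup.mk' O) : Subgroup (G ⧸ O)) : Set (G ⧸ O)) =
      (Subgroup.normalizer (V : Set G)).map (QuotientGroup.mk' O) := by
  apply le_antisymm _ (Subgroup.le_normalizer_map _)
  intro xbar hxbar
  obtain ⟨x, rfl⟩ := QuotientGroup.mk'_surjective O xbar
  -- `V` is a Sylow `p`-subgroup of `L = V ⊔ O`
  set L : Subgroup G := V ⊔ O with hL
  have hVL : V ≤ L := le_sup_left
  have hidx : ¬ p ∣ V.relIndex L := by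
    have h1 : Nat.card V * V.relIndex L = Nat.card L := by
      have := Subgroup.relIndex_mul_relIndex (H := ⊥) (K := V) (L := L) bot_le hVL
      rwa [Subgroup.relIndex_bot_left, Subgroup.relIndex_bot_left] at this
    have h2 : Nat.card L ∣ Nat.card V * Nat.card O := card_sup_dvd_mul_of_normal V O
    rw [← h1] at h2
    have h3 : V.relIndex L ∣ Nat.card O := Nat.dvd_of_mul_dvd_mul_left Nat.card_pos h2
    intro hp
    have := Nat.Coprime.coprime_dvd_left h3 hO
    exact (Nat.Prime.coprime_iff_not_dvd Fact.out).mp this.symm hp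
  -- the conjugate of `V` by `x` lies in `L`
  have hconj : V.map (MulAut.conj x).toMonoidHom ≤ L := by
    rintro _ ⟨v, hv, rfl⟩
    have h1 : (QuotientGroup.mk' O) (x * v * x⁻¹) ∈ V.map (QuotientGroup.mk' O) := by
      have := (Subgroup.mem_normalizer_iff.mp hxbar ((QuotientGroup.mk' O) v)).mp ⟨v, hv, rfl⟩
      simpa using this
    have h2 : x * v * x⁻¹ ∈ (V.map (QuotientGroup.mk' O)).comap (QuotientGroup.mk' O) := h1
    rw [Subgroup.comap_map_eq, QuotientGroup.ker_mk'] at h2
    exact h2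
  -- Sylow conjugacy in `L`
  have hVsub : IsPGroup p (V.subgroupOf L) := hV.comap_subtype
  let PV : Sylow p L := hVsub.toSylow hidx
  have hQ : IsPGroup p ((V.map (MulAut.conj x).toMonoidHom).subgroupOf L) :=
    (hV.map _).comap_subtype
  obtain ⟨R, hR⟩ := hQ.exists_le_sylow
  obtain ⟨l, hl⟩ := MulAction.exists_smul_eq L R PV
  -- `l * x` normalizes `V`
  have hnorm : (l : G) * x ∈ Subgroup.normalizer (V : Set G) := by
    rw [Subgroup.mem_normalizer_iff_map_conj_eq]
    apply Subgroup.eq_of_le_of_card_ge _ (card_map_conj V _).ge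
    rintro _ ⟨v, hv, rfl⟩
    have hxv : x * v * x⁻¹ ∈ L := hconj ⟨v, hv, rfl⟩
    have h1 : (⟨x * v * x⁻¹, hxv⟩ : L) ∈ (R : Subgroup L) := by
      apply hR
      rw [Subgroup.mem_subgroupOf]
      exact ⟨v, hv, rfl⟩
    have h2 : l * (⟨x * v * x⁻¹, hxv⟩ : L) * l⁻¹ ∈ ((l • R : Sylow p L) : Subgroup L) := by
      rw [mem_sylow_smul_iff]
      have : l⁻¹ * (l * (⟨x * v * x⁻¹, hxv⟩ : L) * l⁻¹) * l = ⟨x * v * x⁻¹, hxv⟩ := by group
      rw [this]
      exact h1
    rw [hl] at h2
    have h3 : l * (⟨x * v * x⁻¹, hxv⟩ : L) * l⁻¹ ∈ V.subgroupOf L := h2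
    rw [Subgroup.mem_subgroupOf] at h3
    have h4 : (MulAut.conj ((l : G) * x)).toMonoidHom v = ((l * (⟨x * v * x⁻¹, hxv⟩ : L) * l⁻¹ : L) : G) := by
      simp [MulAut.conj_apply, mul_assoc]
    rw [h4]
    exact h3
  -- decompose `l = v * o`
  obtain ⟨v, hv, o, ho, hvo⟩ := Subgroup.mem_sup_of_normal_right.mp l.2
  refine ⟨v⁻¹ * ((l : G) * x), ?_, ?_⟩
  · exact Subgroup.mul_mem _ (Subgroup.inv_mem _ (Subgroup.le_normalizer hv)) hnorm
  · have h5 : (QuotientGroup.mk' O) o = 1 := by
      rw [QuotientGroup.mk'_apply, QuotientGroup.eq_one_iff]; exact ho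
    rw [← hvo]
    simp only [map_mul, map_inv, h5, mul_one]
    group

end frattini

section functor

variable {p : ℕ} [Fact p.Prime] {W : ∀ (Q : Type u) [Group Q], Subgroup Q}

/-- Lemma A: normalizers of `W(T)` computed inside a subgroup `N` embed in the normalizer computed in the
ambient group. -/
theorem hasNPC_normalizer_subgroup (hW : Cfsg.IsCharPFunctor.{u} p W) {Γ : Type u} [Group Γ] [Finite Γ]
    (N : Subgroup Γ) (T : Subgroup ↥N) (hT : IsPGroup p T)
    (h : HasNormalPComplement p
      ↥(Subgroup.normalizer ((Cfsg.inducedFunctor W (T.map N.subtype) : Subgroup Γ) : Set Γ))) :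
    HasNormalPComplement p
      ↥(Subgroup.normalizer ((Cfsg.inducedFunctor W T : Subgroup ↥N) : Set ↥N)) := by
  have hR : Cfsg.inducedFunctor W (T.map N.subtype) = (Cfsg.inducedFunctor W T).map N.subtype :=
    inducedFunctor_map_of_injOn W hW N.subtype T hT
      (fun x _ hx => N.subtype_injective (by simpa using hx))
  rw [hR] at h
  set V := Cfsg.inducedFunctor W T with hVdef
  have hmem : ∀ x : ↥(Subgroup.normalizer (V : Set ↥N)),
      (N.subtype.comp (Subgroup.normalizer (V : Set ↥N)).subtype) x ∈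
        Subgroup.normalizer ((V.map N.subtype : Subgroup Γ) : Set Γ) := by
    intro x
    exact Subgroup.le_normalizer_map N.subtype ⟨x.1, x.2, rfl⟩
  refine hasNPC_of_injective
    ((N.subtype.comp (Subgroup.normalizer (V : Set ↥N)).subtype).codRestrict _ hmem) ?_ h
  intro a b hab
  have h1 := congrArg Subtype.val hab
  exact Subtype.ext (Subtype.ext h1)

/-- Lemma B: if `N(W(S))` has a normal `p`-complement for one Sylow `p`-subgroup, then for all of them. -/
theorem hasNPC_normalizer_all_sylow (hW : Cfsg.IsCharPFunctor.{u} p W) {Γ : Type u} [Group Γ] [Finite Γ]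
    (S : Sylow p Γ)
    (h : HasNormalPComplement p
      ↥(Subgroup.normalizer ((Cfsg.inducedFunctor W (S : Subgroup Γ) : Subgroup Γ) : Set Γ)))
    (S' : Sylow p Γ) :
    HasNormalPComplement p
      ↥(Subgroup.normalizer ((Cfsg.inducedFunctor W (S' : Subgroup Γ) : Subgroup Γ) : Set Γ)) := by
  obtain ⟨g, rfl⟩ := MulAction.exists_smul_eq Γ S S'
  rw [sylow_smul_eq_map_conj, inducedFunctor_map_mulEquiv W hW (MulAut.conj g) _ S.isPGroup',
    ← Subgroup.map_equiv_normalizer_eq]
  exact hasNPC_of_mulEquiv ((MulAut.conj g).subgroupMap _) h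

end functor

section centralizer

variable {G : Type*} [Group G]

/-- If `G / O_p(G)` has a normal `p`-complement and `O_{p'}(G) = 1` then `C_G(O_p(G)) ≤ O_p(G)`. -/
theorem centralizer_pCore_le_of_hasNPC_quotient [Finite G] {p : ℕ} [Fact p.Prime]
    (hQ : HasNormalPComplement p (G ⧸ pCore p G)) (hO : pPrimeCore p G = ⊥) :
    Subgroup.centralizer ((pCore p G : Subgroup G) : Set G) ≤ pCore p G := by
  have hcore : ∀ N : Subgroup G, N.Normal → (Nat.card N).Coprime p → N = ⊥ := by
    intro N hN hc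
    have := le_pPrimeCore_of_normal hN hc
    rw [hO] at this
    exact le_bot_iff.mp this
  have hUp : IsPGroup p (pCore p G) := Cfsg.Agent.Lib.Helper76.pCore_isPGroup p
  set U := pCore p G with hU
  set C := Subgroup.centralizer (U : Set G) with hC
  have hCn : C.Normal := Subgroup.normal_centralizer
  rw [hasNPC_iff_exists_normal] at hQ
  obtain ⟨Y, hY, hcop, k, hk⟩ := hQ
  set M := Y.comap (QuotientGroup.mk' U) with hM
  have hMn : M.Normal := hY.comap _
  have hUM : U ≤ M := by
    have := Subgroup.ker_le_comap (QuotientGroup.mk' U) Y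
    rwa [QuotientGroup.ker_mk'] at this
  have hMidx : M.index = p ^ k := by
    rw [hM, Subgroup.index_comap_of_surjective Y (QuotientGroup.mk'_surjective U), hk]
  have hUMidx : (U.relIndex M).Coprime p := by
    have h1 : Nat.card M = Nat.card U * Nat.card Y :=
      QuotientGroup.card_preimage_mk U (Y : Set (G ⧸ U))
    have h2 : Nat.card U * U.relIndex M = Nat.card M := by
      have := Subgroup.relIndex_mul_relIndex (H := ⊥) (K := U) (L := M) bot_le hUM
      rwa [Subgroup.relIndex_bot_left, Subgroup.relIndex_bot_left] at this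
    rw [h1] at h2
    have h3 : U.relIndex M = Nat.card Y := Nat.eq_of_mul_eq_mul_left Nat.card_pos h2
    rw [h3]; exact hcop
  -- `C ⊓ M ≤ C ⊓ U`
  have hstep : C ⊓ M ≤ C ⊓ U := by
    apply Cfsg.Agent.Lib.Helper76.le_of_central_coprime_relIndex p hcore (C ⊓ M) (C ⊓ U)
      inferInstance (inf_le_inf_left C hUM) inferInstance (hUp.to_le inf_le_right)
    · intro b hb a ha
      exact (Subgroup.mem_centralizer_iff.mp ha.1 b hb.2).symm
    · have h1 : C ⊓ U = (C ⊓ M) ⊓ U := by
        rw [inf_assoc, inf_eq_right.mpr hUM]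
      rw [h1, Subgroup.inf_relIndex_left]
      have h2 : U.relIndex (C ⊓ M) ∣ U.relIndex M := by
        have h3 : U.relIndex (C ⊓ M) = U.relIndex (U ⊔ (C ⊓ M)) := by
          rw [Subgroup.relIndex_sup_left]
        rw [h3]
        have h4 : U ⊔ (C ⊓ M) ≤ M := sup_le hUM inf_le_right
        exact Dvd.intro _ (Subgroup.relIndex_mul_relIndex U (U ⊔ (C ⊓ M)) M le_sup_left h4)
      exact Nat.Coprime.coprime_dvd_left h2 hUMidx
  -- `C` is a `p`-group
  have hCp : IsPGroup p C := by
    have hCMp : IsPGroup p ↥(C ⊓ M) := hUp.to_le (hstep.trans inf_le_right)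
    obtain ⟨a, ha⟩ := hCMp.exists_card_eq
    have h1 : (C ⊓ M).relIndex C ∣ p ^ k := by
      rw [Subgroup.inf_relIndex_left, ← hMidx]
      exact Subgroup.relIndex_dvd_index_of_normal M C
    obtain ⟨b, _, hb⟩ := (Nat.dvd_prime_pow Fact.out).mp h1
    have h2 : Nat.card ↥(C ⊓ M) * (C ⊓ M).relIndex C = Nat.card C := by
      have := Subgroup.relIndex_mul_relIndex (H := ⊥) (K := C ⊓ M) (L := C) bot_le inf_le_left
      rwa [Subgroup.relIndex_bot_left, Subgroup.relIndex_bot_left] at this
    rw [ha, hb, ← pow_add] at h2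
    exact IsPGroup.of_card h2.symm
  exact Cfsg.Agent.Lib.Helper76.le_pCore p C hCn hCp

end centralizer

end Cfsg.Agent.Lib.Helper34
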