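import Mathlib.GroupTheory.Sylow

set_option autoImplicit false

/-!
Helper34 library: the subgroup `O^{p'}(M)` generated by the elements of `p`-power order is transitive
on the Sylow `p`-subgroups of `M`.
-/

namespace Cfsg.Agent.Lib.Helper34

/-- The subgroup generated by the elements of `p`-power order. -/
def pElementClosure (p : ℕ) (M : Type*) [Group M] : Subgroup M :=
  Subgroup.closure {y : M | ∃ k : ℕ, orderOf y = p ^ k}

theorem pElementClosure_normal (p : ℕ) (M : Type*) [Group M] : (pElementClosure p M).Normal := by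
  refine ⟨fun n hn g => ?_⟩
  unfold pElementClosure at hn ⊢
  induction hn using Subgroup.closure_induction with
  | mem x hx =>
    apply Subgroup.subset_closure
    obtain ⟨k, hk⟩ := hx
    refine ⟨k, ?_⟩
    have : orderOf (g * x * g⁻¹) = orderOf x := by
      have := orderOf_injective (MulAut.conj g).toMonoidHom (MulAut.conj g).injective x
      simpa using this
    rw [this]; exact hk
  | one => simp
  | mul x y _ _ hx hy =>
    have : g * (x * y) * g⁻¹ = (g * x * g⁻¹) * (g * y * g⁻¹) := by group
    rw [this]; exact Subgroup.mul_mem _ hx hy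
  | inv x _ hx =>
    have : g * x⁻¹ * g⁻¹ = (g * x * g⁻¹)⁻¹ := by group
    rw [this]; exact Subgroup.inv_mem _ hx

theorem sylow_le_pElementClosure {p : ℕ} [Fact p.Prime] {M : Type*} [Group M] (S : Sylow p M) :
    (S : Subgroup M) ≤ pElementClosure p M := by
  intro s hs
  apply Subgroup.subset_closure
  obtain ⟨k, hk⟩ := (IsPGroup.iff_orderOf.mp S.isPGroup') ⟨s, hs⟩
  exact ⟨k, by rw [← hk, Subgroup.orderOf_mk]⟩

theorem exists_mem_pElementClosure_smul_eq {p : ℕ} [Fact p.Prime] {M : Type*} [Group M] [Finite M]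
    (S₁ S₂ : Sylow p M) : ∃ y ∈ pElementClosure p M, y • S₁ = S₂ := by
  have h₁ := sylow_le_pElementClosure S₁
  have h₂ := sylow_le_pElementClosure S₂
  obtain ⟨k, hk⟩ := MulAction.exists_smul_eq (pElementClosure p M) (S₁.subtype h₁) (S₂.subtype h₂)
  refine ⟨(k : M), k.2, ?_⟩
  rw [Sylow.smul_subtype] at hk
  exact Sylow.subtype_injective hk

end Cfsg.Agent.Lib.Helper34
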