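import Mathlib.GroupTheory.Sylow
import Cfsg.Agent.Lib.Helper34.SylowConj
import Cfsg.Agent.Lib.Helper34.PElements

set_option autoImplicit false

/-!
Helper34 library: chains of conjugations through tame Sylow intersections (Alperin's fusion theorem with
`p`-element factors).
-/

namespace Cfsg.Agent.Lib.Helper34

variable {G : Type*} [Group G] {p : ℕ}

/-- right conjugation of a set: `g⁻¹ A g` -/
def rcj (g : G) (A : Set G) : Set G := (fun a => g⁻¹ * a * g) '' A

theorem mem_rcj {g x : G} {A : Set G} : x ∈ rcj g A ↔ g * x * g⁻¹ ∈ A := by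
  unfold rcj
  constructor
  · rintro ⟨a, ha, rfl⟩
    simpa [mul_assoc] using ha
  · intro h
    exact ⟨g * x * g⁻¹, h, by group⟩

theorem rcj_one (A : Set G) : rcj 1 A = A := by
  ext x; simp [mem_rcj]

theorem rcj_mul (g h : G) (A : Set G) : rcj (g * h) A = rcj h (rcj g A) := by
  ext x; simp [mem_rcj, mul_assoc]

theorem rcj_mono {g : G} {A B : Set G} (h : A ⊆ B) : rcj g A ⊆ rcj g B := Set.image_mono h

theorem rcj_subset_of_mem_normalizer {x : G} {T : Subgroup G} {A : Set G}
    (hx : x ∈ Subgroup.normalizer (T : Set G)) (hA : A ⊆ T) : rcj x A ⊆ T := by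
  intro y hy
  rw [mem_rcj] at hy
  have h1 := hA hy
  have h2 : x⁻¹ ∈ Subgroup.normalizer (T : Set G) := inv_mem hx
  rw [Subgroup.mem_normalizer_iff] at h2
  have := (h2 (x * y * x⁻¹)).mp h1
  simpa [mul_assoc] using this

/-- `P ∩ Q` is a tame intersection: `N_P(P ∩ Q)` and `N_Q(P ∩ Q)` are Sylow in `N_G(P ∩ Q)`. -/
def TameInter (P Q : Sylow p G) : Prop :=
  ¬ p ∣ ((P : Subgroup G) ⊓ Subgroup.normalizer ((((P : Subgroup G) ⊓ (Q : Subgroup G)) : Subgroup G) : Set G)).relIndex
      (Subgroup.normalizer ((((P : Subgroup G) ⊓ (Q : Subgroup G)) : Subgroup G) : Set G)) ∧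
  ¬ p ∣ ((Q : Subgroup G) ⊓ Subgroup.normalizer ((((P : Subgroup G) ⊓ (Q : Subgroup G)) : Subgroup G) : Set G)).relIndex
      (Subgroup.normalizer ((((P : Subgroup G) ⊓ (Q : Subgroup G)) : Subgroup G) : Set G))

/-- chains of right conjugations through normalizers of tame intersections `P ∩ Q`, the conjugating
elements being `p`-elements unless `Q = P`. -/
inductive TChain (P : Sylow p G) : Set G → G → Prop
  | nil (A : Set G) : TChain P A 1
  | cons (A : Set G) (Q : Sylow p G) (x g : G) :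
      x ∈ Subgroup.normalizer ((((P : Subgroup G) ⊓ (Q : Subgroup G)) : Subgroup G) : Set G) →
      TameInter P Q → ((Q : Subgroup G) = (P : Subgroup G) ∨ ∃ k : ℕ, orderOf x = p ^ k) →
      A ⊆ ((((P : Subgroup G) ⊓ (Q : Subgroup G)) : Subgroup G) : Set G) →
      TChain P (rcj x A) g → TChain P A (x * g)

theorem TChain.mono {P : Sylow p G} {A : Set G} {g : G} (h : TChain P A g) :
    ∀ {A' : Set G}, A' ⊆ A → TChain P A' g := by
  induction h with
  | nil A => intro A' _; exact TChain.nil A'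
  | cons A Q x g hx ht hp hA _ ih =>
    intro A' hA'
    exact TChain.cons A' Q x g hx ht hp (hA'.trans hA) (ih (rcj_mono hA'))

theorem TChain.single {P : Sylow p G} {A : Set G} (Q : Sylow p G) {x : G}
    (hx : x ∈ Subgroup.normalizer ((((P : Subgroup G) ⊓ (Q : Subgroup G)) : Subgroup G) : Set G))
    (ht : TameInter P Q) (hp : (Q : Subgroup G) = (P : Subgroup G) ∨ ∃ k : ℕ, orderOf x = p ^ k)
    (hA : A ⊆ ((((P : Subgroup G) ⊓ (Q : Subgroup G)) : Subgroup G) : Set G)) : TChain P A x := by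
  have := TChain.cons A Q x 1 hx ht hp hA (TChain.nil _)
  simpa using this

theorem TChain.comp {P : Sylow p G} {A : Set G} {g : G} (h : TChain P A g) :
    ∀ {k : G}, TChain P (rcj g A) k → TChain P A (g * k) := by
  induction h with
  | nil A => intro k hk; rw [rcj_one] at hk; simpa using hk
  | cons A Q x g hx ht hp hA _ ih =>
    intro k hk
    rw [rcj_mul] at hk
    rw [mul_assoc]
    exact TChain.cons A Q x (g * k) hx ht hp hA (ih hk)

/-- A `TChain` yields the data in the statement of Alperin's theorem. -/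
theorem TChain.exists_data {P : Sylow p G} {A : Set G} {g : G} (h : TChain P A g) :
    ∃ (n : ℕ) (Q : Fin n → Sylow p G) (x : Fin n → G), (List.ofFn x).prod = g ∧
      (∀ i : Fin n, x i ∈ Subgroup.normalizer ((((P : Subgroup G) ⊓ (Q i : Subgroup G)) : Subgroup G) : Set G) ∧
        TameInter P (Q i) ∧ ((Q i : Subgroup G) = (P : Subgroup G) ∨ ∃ k : ℕ, orderOf (x i) = p ^ k)) ∧
      (∀ h : 0 < n, A ⊆ (((P : Subgroup G) ⊓ (Q ⟨0, h⟩ : Subgroup G) : Subgroup G) : Set G)) ∧
      ∀ (i : Fin n) (h : i.val + 1 < n),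
        (fun a => (((List.ofFn x).take (i.val + 1)).prod)⁻¹ * a * ((List.ofFn x).take (i.val + 1)).prod) '' A ⊆
          (((P : Subgroup G) ⊓ (Q ⟨i.val + 1, h⟩ : Subgroup G) : Subgroup G) : Set G) := by
  induction h with
  | nil A =>
    exact ⟨0, Fin.elim0, Fin.elim0, by simp, fun i => i.elim0,
      fun h => absurd h (lt_irrefl 0), fun i => i.elim0⟩
  | cons A Q₀ x g hx ht hp hA _ ih =>
    obtain ⟨n, Q', x', hprod, hall, h0, hi⟩ := ih
    refine ⟨n + 1, Fin.cons Q₀ Q', Fin.cons x x', ?_, ?_, ?_, ?_⟩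
    · simp [List.ofFn_succ, hprod]
    · intro i
      refine Fin.cases ?_ (fun j => ?_) i
      · simpa using ⟨hx, ht, hp⟩
      · simpa using hall j
    · intro _
      simpa using hA
    · rintro ⟨i, hin⟩ hlt
      simp only at hlt
      have hlist : List.ofFn (Fin.cons x x' : Fin (n + 1) → G) = x :: List.ofFn x' := by
        simp [List.ofFn_succ]
      rw [hlist, List.take_succ_cons, List.prod_cons]
      change rcj (x * ((List.ofFn x').take i).prod) A ⊆
        (((P : Subgroup G) ⊓ ((Fin.cons Q₀ Q' : Fin (n + 1) → Sylow p G) ⟨i + 1, hlt⟩ : Subgroup G) : Subgroup G) : Set G)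
      have hQ : (Fin.cons Q₀ Q' : Fin (n + 1) → Sylow p G) ⟨i + 1, hlt⟩ = Q' ⟨i, by omega⟩ := by
        have : (⟨i + 1, hlt⟩ : Fin (n + 1)) = Fin.succ ⟨i, by omega⟩ := rfl
        rw [this, Fin.cons_succ]
      rw [hQ, rcj_mul]
      cases i with
      | zero =>
        simp only [List.take_zero, List.prod_nil, rcj_one]
        exact h0 (by omega)
      | succ j =>
        exact hi ⟨j, by omega⟩ (by simp only; omega)

end Cfsg.Agent.Lib.Helper34
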