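import Mathlib.GroupTheory.Sylow
import Cfsg.Agent.Lib.Helper34.TameChain

set_option autoImplicit false

/-!
Helper34 library: Alperin's fusion theorem (tame intersections, `p`-element factors): every Sylow
`p`-subgroup `Q` is joined to `P` by a `TChain` starting from `P ∩ Q`.
-/

namespace Cfsg.Agent.Lib.Helper34

variable {G : Type*} [Group G] {p : ℕ}

/-- `Q` is joined to `P` by a tame chain carrying `P ∩ Q`. -/
def Good (P Q : Sylow p G) : Prop :=
  ∃ x : G, TChain P ((((P : Subgroup G) ⊓ (Q : Subgroup G)) : Subgroup G) : Set G) x ∧ x • P = Q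

theorem mem_inv_smul_sylow (Q : Sylow p G) (c w : G) :
    w ∈ ((c⁻¹ • Q : Sylow p G) : Subgroup G) ↔ c * w * c⁻¹ ∈ (Q : Subgroup G) := by
  rw [mem_sylow_smul_iff]; simp

theorem Good.of_chain {P Q : Sylow p G} (c : G)
    (hc : TChain P ((((P : Subgroup G) ⊓ (Q : Subgroup G)) : Subgroup G) : Set G) c)
    (hsub : rcj c ((((P : Subgroup G) ⊓ (Q : Subgroup G)) : Subgroup G) : Set G) ⊆ ((P : Subgroup G) : Set G))
    (hQ' : Good P (c⁻¹ • Q)) : Good P Q := by
  obtain ⟨z, hz, hzP⟩ := hQ'
  refine ⟨c * z, hc.comp (hz.mono ?_), ?_⟩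
  · intro w hw
    refine ⟨hsub hw, ?_⟩
    exact (mem_inv_smul_sylow Q c w).mpr (mem_rcj.mp hw).2
  · rw [mul_smul, hzP, smul_inv_smul]

/-- conjugating a subgroup of `x • P` back into `P` -/
theorem rcj_subset_of_le_smul (P : Sylow p G) (x : G) (D : Subgroup G)
    (hD : D ≤ ((x • P : Sylow p G) : Subgroup G)) : rcj x (D : Set G) ⊆ ((P : Subgroup G) : Set G) := by
  intro w hw
  have h1 := hD (mem_rcj.mp hw)
  rw [mem_sylow_smul_iff] at h1
  have : x⁻¹ * (x * w * x⁻¹) * x = w := by group
  rw [this] at h1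
  exact h1

theorem map_conj_inv_le (P Q : Sylow p G) (x : G) (E : Subgroup G)
    (hEP : E ≤ ((x • P : Sylow p G) : Subgroup G)) (hEQ : E ≤ (Q : Subgroup G)) :
    E.map (MulAut.conj x⁻¹).toMonoidHom ≤ (P : Subgroup G) ⊓ ((x⁻¹ • Q : Sylow p G) : Subgroup G) := by
  intro w hw
  rw [mem_map_conj_iff] at hw
  simp only [inv_inv] at hw
  refine ⟨?_, ?_⟩
  · have h1 := hEP hw
    rw [mem_sylow_smul_iff] at h1
    have : x⁻¹ * (x * w * x⁻¹) * x = w := by group
    rw [this] at h1
    exact h1
  · exact (mem_inv_smul_sylow Q x w).mpr (hEQ hw)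

theorem relIndex_map_subtype_sylow [Fact p.Prime] [Finite G] {N : Subgroup G} (S : Sylow p N) :
    ¬ p ∣ ((S : Subgroup N).map N.subtype).relIndex N := by
  have : ((S : Subgroup N).map N.subtype).relIndex N = (S : Subgroup N).index := by
    unfold Subgroup.relIndex Subgroup.subgroupOf
    rw [Subgroup.comap_map_eq_self_of_injective N.subtype_injective]
  rw [this]
  exact S.not_dvd_index

theorem good_of_fullyNormalized [Fact p.Prime] [Finite G] (P Q : Sylow p G)
    (hlt : (P : Subgroup G) ⊓ (Q : Subgroup G) < (P : Subgroup G))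
    (hP : ¬ p ∣ ((P : Subgroup G) ⊓ Subgroup.normalizer ((((P : Subgroup G) ⊓ (Q : Subgroup G)) : Subgroup G) : Set G)).relIndex
      (Subgroup.normalizer ((((P : Subgroup G) ⊓ (Q : Subgroup G)) : Subgroup G) : Set G)))
    (IH : ∀ Q' : Sylow p G, Nat.card ↥((P : Subgroup G) ⊓ (Q : Subgroup G)) <
      Nat.card ↥((P : Subgroup G) ⊓ (Q' : Subgroup G)) → Good P Q') : Good P Q := by
  set D : Subgroup G := (P : Subgroup G) ⊓ (Q : Subgroup G) with hD
  set N : Subgroup G := Subgroup.normalizer (D : Set G) with hN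
  have hDN : D ≤ N := Subgroup.le_normalizer
  have hDQ : D < (Q : Subgroup G) := by
    refine lt_of_le_of_ne inf_le_right ?_
    intro h
    have hle : (Q : Subgroup G) ≤ (P : Subgroup G) := by rw [← h]; exact inf_le_left
    have heq : (P : Subgroup G) = (Q : Subgroup G) := (Q.is_maximal' P.isPGroup' hle)
    apply hlt.ne
    rw [hD, ← heq, inf_idem]
  have hQNp : IsPGroup p (((Q : Subgroup G) ⊓ N).subgroupOf N) :=
    (Q.isPGroup'.to_le inf_le_left).comap_subtype
  obtain ⟨T, hT⟩ := hQNp.exists_le_sylow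
  have hTp : IsPGroup p ((T : Subgroup N).map N.subtype) := T.isPGroup'.map _
  obtain ⟨U, hU⟩ := hTp.exists_le_sylow
  have hPNp : IsPGroup p (((P : Subgroup G) ⊓ N).subgroupOf N) :=
    (P.isPGroup'.to_le inf_le_left).comap_subtype
  set S_P : Sylow p N := hPNp.toSylow hP with hS_P
  obtain ⟨y, hy, hyT⟩ := exists_mem_pElementClosure_smul_eq S_P T
  -- elements of Q ∩ N lie in U
  have hQNU : (Q : Subgroup G) ⊓ N ≤ (U : Subgroup G) := by
    intro e he
    apply hU
    exact ⟨⟨e, he.2⟩, hT (by rw [Subgroup.mem_subgroupOf]; exact he), rfl⟩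
  have hDU : D ≤ (U : Subgroup G) := fun d hd => hQNU ⟨hDQ.le hd, hDN hd⟩
  have hcardQN : Nat.card D < Nat.card ↥((Q : Subgroup G) ⊓ N) :=
    card_lt_card_of_lt (lt_inf_normalizer_of_lt Q.isPGroup' hDQ)
  by_cases hcase : Nat.card D < Nat.card ↥((P : Subgroup G) ⊓ (U : Subgroup G))
  · -- case (a)
    obtain ⟨u, hu, huP⟩ := IH U hcase
    have hDPU : (D : Set G) ⊆ ((((P : Subgroup G) ⊓ (U : Subgroup G)) : Subgroup G) : Set G) :=
      fun d hd => ⟨hlt.le hd, hDU hd⟩
    apply Good.of_chain u (hu.mono hDPU)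
    · apply rcj_subset_of_le_smul P u D
      rw [huP]; exact hDU
    · apply IH
      have hle := map_conj_inv_le P Q u ((Q : Subgroup G) ⊓ N) (by rw [huP]; exact hQNU) inf_le_left
      calc Nat.card D < Nat.card ↥((Q : Subgroup G) ⊓ N) := hcardQN
        _ = Nat.card ↥(((Q : Subgroup G) ⊓ N).map (MulAut.conj u⁻¹).toMonoidHom) := (card_map_conj _ _).symm
        _ ≤ _ := Subgroup.card_le_of_le hle
  · -- case (b): P ∩ U = D is a tame intersection
    push Not at hcase
    have hPU : D = (P : Subgroup G) ⊓ (U : Subgroup G) :=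
      Subgroup.eq_of_le_of_card_ge (fun d hd => ⟨hlt.le hd, hDU hd⟩) hcase
    have htame : TameInter P U := by
      unfold TameInter
      rw [← hPU]
      refine ⟨hP, ?_⟩
      have h1 : (T : Subgroup N).map N.subtype ≤ (U : Subgroup G) ⊓ N :=
        le_inf hU (Subgroup.map_subtype_le _)
      intro hdvd
      exact relIndex_map_subtype_sylow T (dvd_trans hdvd (Subgroup.relIndex_dvd_of_le_left N h1))
    have hchain : ∀ y' : N, y' ∈ pElementClosure p N → ∀ A : Set G, A ⊆ (D : Set G) →
        TChain P A (y' : G) := by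
      intro y' hy'
      unfold pElementClosure at hy'
      induction hy' using Subgroup.closure_induction'' with
      | mem z hz =>
        intro A hA
        obtain ⟨k, hk⟩ := hz
        apply TChain.single U
        · rw [← hPU]; exact z.2
        · exact htame
        · right; exact ⟨k, by rw [Subgroup.orderOf_coe]; exact hk⟩
        · rw [← hPU]; exact hA
      | inv_mem z hz =>
        intro A hA
        obtain ⟨k, hk⟩ := hz
        apply TChain.single U
        · rw [← hPU]; exact (z⁻¹).2
        · exact htame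
        · right; exact ⟨k, by rw [Subgroup.orderOf_coe, orderOf_inv]; exact hk⟩
        · rw [← hPU]; exact hA
      | one =>
        intro A _
        exact TChain.nil A
      | mul a b _ _ iha ihb =>
        intro A hA
        rw [Subgroup.coe_mul]
        exact (iha A hA).comp (ihb _ (rcj_subset_of_mem_normalizer a.2 hA))
    apply Good.of_chain (y : G) (hchain y hy (D : Set G) le_rfl)
    · exact (rcj_subset_of_mem_normalizer y.2 le_rfl).trans (fun d hd => hlt.le hd)
    · apply IH
      have hle : ((Q : Subgroup G) ⊓ N).map (MulAut.conj (y : G)⁻¹).toMonoidHom ≤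
          (P : Subgroup G) ⊓ (((y : G)⁻¹ • Q : Sylow p G) : Subgroup G) := by
        intro w hw
        rw [mem_map_conj_iff] at hw
        simp only [inv_inv] at hw
        refine ⟨?_, ?_⟩
        · have h1 : (⟨(y : G) * w * (y : G)⁻¹, hw.2⟩ : N) ∈ (T : Subgroup N) :=
            hT (by rw [Subgroup.mem_subgroupOf]; exact hw)
          rw [← hyT, mem_sylow_smul_iff] at h1
          have h2 : (y⁻¹ * ⟨(y : G) * w * (y : G)⁻¹, hw.2⟩ * y : N) ∈ ((P : Subgroup G) ⊓ N).subgroupOf N := h1
          rw [Subgroup.mem_subgroupOf] at h2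
          have h3 : ((y⁻¹ * ⟨(y : G) * w * (y : G)⁻¹, hw.2⟩ * y : N) : G) = w := by
            simp only [Subgroup.coe_mul, Subgroup.coe_inv]
            group
          rw [h3] at h2
          exact h2.1
        · exact (mem_inv_smul_sylow Q (y : G) w).mpr hw.1
      calc Nat.card D < Nat.card ↥((Q : Subgroup G) ⊓ N) := hcardQN
        _ = Nat.card ↥(((Q : Subgroup G) ⊓ N).map (MulAut.conj (y : G)⁻¹).toMonoidHom) := (card_map_conj _ _).symm
        _ ≤ _ := Subgroup.card_le_of_le hle

theorem good_all [Fact p.Prime] [Finite G] (P : Sylow p G) :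
    ∀ (n : ℕ) (Q : Sylow p G),
      Nat.card (P : Subgroup G) - Nat.card ↥((P : Subgroup G) ⊓ (Q : Subgroup G)) = n → Good P Q := by
  intro n
  induction n using Nat.strong_induction_on with
  | _ n ih =>
  intro Q hn
  set D : Subgroup G := (P : Subgroup G) ⊓ (Q : Subgroup G) with hD
  have hfle : ∀ Q' : Sylow p G, Nat.card ↥((P : Subgroup G) ⊓ (Q' : Subgroup G)) ≤
      Nat.card (P : Subgroup G) := fun Q' => Subgroup.card_le_of_le inf_le_left
  have IH : ∀ Q' : Sylow p G, Nat.card D < Nat.card ↥((P : Subgroup G) ⊓ (Q' : Subgroup G)) →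
      Good P Q' := by
    intro Q' hQ'
    refine ih _ ?_ Q' rfl
    have := hfle Q'
    have := hfle Q
    omega
  by_cases hDP : D = (P : Subgroup G)
  · have hle : (P : Subgroup G) ≤ (Q : Subgroup G) := by rw [← hDP]; exact inf_le_right
    have heq : P = Q := Sylow.ext (P.is_maximal' Q.isPGroup' hle).symm
    refine ⟨1, TChain.nil _, ?_⟩
    rw [one_smul, heq]
  · have hlt : D < (P : Subgroup G) := lt_of_le_of_ne inf_le_left hDP
    set N : Subgroup G := Subgroup.normalizer (D : Set G) with hN
    set A₁ : Subgroup G := (P : Subgroup G) ⊓ N with hA₁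
    have hDA₁ : D < A₁ := lt_inf_normalizer_of_lt P.isPGroup' hlt
    have hA₁p : IsPGroup p (A₁.subgroupOf N) := (P.isPGroup'.to_le inf_le_left).comap_subtype
    obtain ⟨S, hS⟩ := hA₁p.exists_le_sylow
    have hSp : IsPGroup p ((S : Subgroup N).map N.subtype) := S.isPGroup'.map _
    obtain ⟨R, hR⟩ := hSp.exists_le_sylow
    have hA₁R : A₁ ≤ (R : Subgroup G) := by
      intro a ha
      apply hR
      exact ⟨⟨a, ha.2⟩, hS (by rw [Subgroup.mem_subgroupOf]; exact ha), rfl⟩
    have hcardR : Nat.card D < Nat.card ↥((P : Subgroup G) ⊓ (R : Subgroup G)) :=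
      lt_of_lt_of_le (card_lt_card_of_lt hDA₁) (Subgroup.card_le_of_le (le_inf inf_le_left hA₁R))
    obtain ⟨x, hx, hxR⟩ := IH R hcardR
    have hDR : D ≤ (R : Subgroup G) := hDA₁.le.trans hA₁R
    have hDPR : (D : Set G) ⊆ ((((P : Subgroup G) ⊓ (R : Subgroup G)) : Subgroup G) : Set G) :=
      fun d hd => ⟨hlt.le hd, hDR hd⟩
    apply Good.of_chain x (hx.mono hDPR)
    · apply rcj_subset_of_le_smul P x D
      rw [hxR]; exact hDR
    · by_cases hc : Nat.card D < Nat.card ↥((P : Subgroup G) ⊓ ((x⁻¹ • Q : Sylow p G) : Subgroup G))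
      · exact IH _ hc
      · push Not at hc
        -- P ∩ Q' = D^x
        have hD'le := map_conj_inv_le P Q x D (by rw [hxR]; exact hDR) inf_le_right
        have hD'eq : D.map (MulAut.conj x⁻¹).toMonoidHom =
            (P : Subgroup G) ⊓ ((x⁻¹ • Q : Sylow p G) : Subgroup G) :=
          Subgroup.eq_of_le_of_card_ge hD'le (by rw [card_map_conj]; exact hc)
        have hcardeq : Nat.card ↥((P : Subgroup G) ⊓ ((x⁻¹ • Q : Sylow p G) : Subgroup G)) = Nat.card D := by
          rw [← hD'eq, card_map_conj]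
        apply good_of_fullyNormalized P (x⁻¹ • Q)
        · refine lt_of_le_of_ne inf_le_left ?_
          intro h
          have := card_lt_card_of_lt hlt
          rw [← h, hcardeq] at this
          exact lt_irrefl _ this
        · rw [← hD'eq, ← map_conj_normalizer]
          have h1 : ((S : Subgroup N).map N.subtype).map (MulAut.conj x⁻¹).toMonoidHom ≤
              (P : Subgroup G) ⊓ N.map (MulAut.conj x⁻¹).toMonoidHom := by
            refine le_inf ?_ (Subgroup.map_mono (Subgroup.map_subtype_le _))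
            intro w hw
            rw [mem_map_conj_iff] at hw
            simp only [inv_inv] at hw
            have h2 := hR hw
            rw [← hxR, mem_sylow_smul_iff] at h2
            have : x⁻¹ * (x * w * x⁻¹) * x = w := by group
            rw [this] at h2
            exact h2
          intro hdvd
          have h3 := dvd_trans hdvd (Subgroup.relIndex_dvd_of_le_left (N.map (MulAut.conj x⁻¹).toMonoidHom) h1)
          rw [relIndex_map_conj] at h3
          exact relIndex_map_subtype_sylow S h3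
        · intro Q'' hQ''
          rw [hcardeq] at hQ''
          exact IH Q'' hQ''

/-- **Alperin's fusion theorem** with tame intersections and `p`-element factors, in chain form. -/
theorem alperin_tame_chain [Fact p.Prime] [Finite G] (P : Sylow p G) (A : Set G) (g : G)
    (hA : A ⊆ ((P : Subgroup G) : Set G)) (hAg : rcj g A ⊆ ((P : Subgroup G) : Set G)) :
    TChain P A g := by
  obtain ⟨x, hx, hxQ⟩ := good_all P _ (g • P) rfl
  have hA' : A ⊆ ((((P : Subgroup G) ⊓ ((g • P : Sylow p G) : Subgroup G)) : Subgroup G) : Set G) := by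
    intro a ha
    refine ⟨hA ha, ?_⟩
    apply (mem_sylow_smul_iff P g a).mpr
    exact hAg ⟨a, ha, rfl⟩
  have hn : (x⁻¹ * g) • P = P := by
    rw [mul_smul, ← hxQ, inv_smul_smul]
  have hnN : x⁻¹ * g ∈ Subgroup.normalizer ((P : Subgroup G) : Set G) :=
    Sylow.smul_eq_iff_mem_normalizer.mp hn
  have hg : g = x * (x⁻¹ * g) := by group
  rw [hg]
  apply (hx.mono hA').comp
  apply TChain.single P
  · rw [inf_idem]; exact hnN
  · unfold TameInter
    rw [inf_idem]
    have h1 : (P : Subgroup G) ⊓ Subgroup.normalizer ((P : Subgroup G) : Set G) = (P : Subgroup G) :=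
      inf_eq_left.mpr Subgroup.le_normalizer
    rw [h1]
    have h2 : ¬ p ∣ (P : Subgroup G).relIndex (Subgroup.normalizer ((P : Subgroup G) : Set G)) := by
      intro hdvd
      exact P.not_dvd_index (dvd_trans hdvd (Subgroup.relIndex_dvd_index_of_le Subgroup.le_normalizer))
    exact ⟨h2, h2⟩
  · left; rfl
  · rw [inf_idem]
    apply (rcj_mono hA').trans
    apply rcj_subset_of_le_smul P x
    rw [hxQ]; exact inf_le_right

end Cfsg.Agent.Lib.Helper34
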