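import Mathlib.GroupTheory.Sylow
import Cfsg.Agent.Lib.Helper34.ThompsonAux
import Cfsg.Agent.S0072

set_option autoImplicit false

/-!
Helper34 library: Thompson's normal `p`-complement criterion in functor form (the induction).
-/

namespace Cfsg.Agent.Lib.Helper34

open Cfsg

universe u

section defs

variable (p : ℕ) (W : ∀ (Q : Type u) [Group Q], Subgroup Q)

/-- `N(W(S))` has a normal `p`-complement for every Sylow `p`-subgroup `S`. -/
def AllN (Γ : Type u) [Group Γ] : Prop :=
  ∀ S : Sylow p Γ, HasNormalPComplement p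
    ↥(Subgroup.normalizer ((Cfsg.inducedFunctor W (S : Subgroup Γ) : Subgroup Γ) : Set Γ))

/-- Induction hypothesis: the theorem for groups of order `< n`. -/
def IHyp (n : ℕ) : Prop :=
  ∀ (Y : Type u) [Group Y] [Finite Y], Nat.card Y < n → SecGood p W Y → AllN p W Y →
    HasNormalPComplement p Y

/-- A nontrivial `p`-subgroup whose normalizer has no normal `p`-complement. -/
def Bad {Γ : Type u} [Group Γ] (Q : Subgroup Γ) : Prop :=
  IsPGroup p Q ∧ Q ≠ ⊥ ∧ ¬ HasNormalPComplement p ↥(Subgroup.normalizer (Q : Set Γ))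

/-- Exponent of the `p`-part of `|N(Q)|`. -/
noncomputable def eN {Γ : Type u} [Group Γ] (Q : Subgroup Γ) : ℕ :=
  (Nat.card ↥(Subgroup.normalizer (Q : Set Γ))).factorization p

/-- Measure used for the maximal choice. -/
noncomputable def mN {Γ : Type u} [Group Γ] (Q : Subgroup Γ) : ℕ :=
  eN p Q * (Nat.card Γ + 1) + Nat.card Q

end defs

section arith

variable {p : ℕ} {Γ : Type u} [Group Γ] [Finite Γ]

theorem mN_lt_of_eN_lt {Q Q' : Subgroup Γ} (h : eN p Q < eN p Q') : mN p Q < mN p Q' := by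
  unfold mN
  have h1 : Nat.card Q ≤ Nat.card Γ := Subgroup.card_le_card_group Q
  have h2 : (eN p Q + 1) * (Nat.card Γ + 1) ≤ eN p Q' * (Nat.card Γ + 1) :=
    Nat.mul_le_mul_right _ h
  nlinarith

omit [Finite Γ] in
theorem mN_lt_of_eN_eq_of_card_lt {Q Q' : Subgroup Γ} (h : eN p Q = eN p Q')
    (hc : Nat.card Q < Nat.card Q') : mN p Q < mN p Q' := by
  unfold mN
  rw [h]
  omega

theorem factorization_card_eq_of_index_coprime (K : Subgroup Γ)
    (h : ¬ p ∣ K.index) : (Nat.card K).factorization p = (Nat.card Γ).factorization p := by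
  have h1 : Nat.card K * K.index = Nat.card Γ := Subgroup.card_mul_index K
  have hidx : K.index ≠ 0 := Subgroup.index_ne_zero_of_finite
  rw [← h1, Nat.factorization_mul Nat.card_pos.ne' hidx]
  simp only [Finsupp.coe_add, Pi.add_apply]
  rw [Nat.factorization_eq_zero_of_not_dvd h, add_zero]

theorem card_quotient_lt_of_ne_bot (U : Subgroup Γ) [U.Normal] (hU : U ≠ ⊥) :
    Nat.card (Γ ⧸ U) < Nat.card Γ := by
  have h1 := Subgroup.card_eq_card_quotient_mul_card_subgroup U
  have h2 : 1 < Nat.card U := (Subgroup.one_lt_card_iff_ne_bot U).mpr hU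
  have h3 : 0 < Nat.card (Γ ⧸ U) := Nat.card_pos
  nlinarith

theorem card_subgroup_lt_of_ne_top (L : Subgroup Γ) (hL : L ≠ ⊤) : Nat.card ↥L < Nat.card Γ := by
  have h1 : L < ⊤ := lt_top_iff_ne_top.mpr hL
  have h2 := card_lt_card_of_lt h1
  rwa [Subgroup.card_top] at h2

end arith

section claims

variable {p : ℕ} [Fact p.Prime] {W : ∀ (Q : Type u) [Group Q], Subgroup Q}

/-- Claim 1: a maximal bad subgroup is normal. -/
theorem normalizer_eq_top_of_maximal (hW : Cfsg.IsCharPFunctor.{u} p W) {Γ : Type u} [Group Γ]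
    [Finite Γ] (ih : IHyp p W (Nat.card Γ)) (hsec : SecGood p W Γ) (ha : AllN p W Γ)
    (H : Subgroup Γ) (hH : Bad p H) (hmax : ∀ Q : Subgroup Γ, Bad p Q → mN p Q ≤ mN p H) :
    Subgroup.normalizer (H : Set Γ) = ⊤ := by
  by_contra hne
  set N := Subgroup.normalizer (H : Set Γ) with hN
  have hlt : Nat.card ↥N < Nat.card Γ := card_subgroup_lt_of_ne_top N hne
  apply hH.2.2
  apply ih ↥N hlt (hsec.subgroup N)
  intro T
  apply hasNPC_normalizer_subgroup hW N T T.isPGroup'
  set T' := (T : Subgroup ↥N).map N.subtype with hT'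
  have hT'p : IsPGroup p T' := T.isPGroup'.map _
  have hcardT' : Nat.card T' = p ^ eN p H := by
    rw [hT', Subgroup.card_map_of_injective N.subtype_injective]
    exact T.card_eq_multiplicity
  by_cases hS : Nat.card T' = p ^ (Nat.card Γ).factorization p
  · have := ha (Sylow.ofCard T' hS)
    rwa [Sylow.coe_ofCard] at this
  · by_contra hbad
    -- `H ≤ T'`
    have hHT : H ≤ T' := by
      intro h hh
      have hhN : h ∈ N := Subgroup.le_normalizer hh
      have : (H.subgroupOf N).Normal := Subgroup.normal_in_normalizer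
      have h1 : H.subgroupOf N ≤ T :=
        IsPGroup.le_sylow_of_normal (N := H.subgroupOf N) (hH.1.comap_subtype) T
      exact ⟨⟨h, hhN⟩, h1 (Subgroup.mem_subgroupOf.mpr hh), rfl⟩
    have hT'ne : T' ≠ ⊥ := ne_bot_of_le_ne_bot hH.2.1 hHT
    set V := Cfsg.inducedFunctor W T' with hV
    have hVbad : Bad p V :=
      ⟨hT'p.to_le (inducedFunctor_le' W T'), inducedFunctor_ne_bot W hW T' hT'p hT'ne, hbad⟩
    have h1 := hmax V hVbad
    have h2 : eN p H < eN p V := by
      obtain ⟨P', hP'⟩ := hT'p.exists_le_sylow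
      have hneP : T' ≠ (P' : Subgroup Γ) := by
        intro heq
        apply hS
        rw [heq]
        exact P'.card_eq_multiplicity
      have hltP : T' < (P' : Subgroup Γ) := lt_of_le_of_ne hP' hneP
      have hR := lt_inf_normalizer_of_lt P'.isPGroup' hltP
      set R := (P' : Subgroup Γ) ⊓ Subgroup.normalizer (T' : Set Γ) with hRdef
      have hRp : IsPGroup p R := P'.isPGroup'.to_le inf_le_left
      obtain ⟨k, hk⟩ := hRp.exists_card_eq
      have hRle : R ≤ Subgroup.normalizer (V : Set Γ) :=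
        inf_le_right.trans (normalizer_le_normalizer_inducedFunctor W hW T' hT'p)
      have h3 : p ^ k ∣ Nat.card ↥(Subgroup.normalizer (V : Set Γ)) := by
        rw [← hk]; exact Subgroup.card_dvd_of_le hRle
      have h4 : k ≤ eN p V :=
        (Nat.Prime.pow_dvd_iff_le_factorization Fact.out Nat.card_pos.ne').mp h3
      have h5 : p ^ eN p H < p ^ k := by
        rw [← hk, ← hcardT']; exact card_lt_card_of_lt hR
      have h6 : eN p H < k := (Nat.pow_lt_pow_iff_right (Fact.out : p.Prime).one_lt).mp h5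
      omega
    exact absurd h1 (not_le.mpr (mN_lt_of_eN_lt h2))

/-- Claim 3: `Γ / O_p(Γ)` has a normal `p`-complement. -/
theorem hasNPC_quotient_pCore (hW : Cfsg.IsCharPFunctor.{u} p W) {Γ : Type u} [Group Γ]
    [Finite Γ] (ih : IHyp p W (Nat.card Γ)) (hsec : SecGood p W Γ)
    (H : Subgroup Γ) (hH : Bad p H) (hmax : ∀ Q : Subgroup Γ, Bad p Q → mN p Q ≤ mN p H)
    (hnorm : Subgroup.normalizer (H : Set Γ) = ⊤) :
    HasNormalPComplement p (Γ ⧸ pCore p Γ) := by
  set U := pCore p Γ with hUdef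
  have hHn : H.Normal := Subgroup.normalizer_eq_top_iff.mp hnorm
  have hHU : H ≤ U := Cfsg.Agent.Lib.Helper76.le_pCore p H hHn hH.1
  have hUne : U ≠ ⊥ := ne_bot_of_le_ne_bot hH.2.1 hHU
  have hUp : IsPGroup p U := Cfsg.Agent.Lib.Helper76.pCore_isPGroup p
  have hlt : Nat.card (Γ ⧸ U) < Nat.card Γ := card_quotient_lt_of_ne_bot U hUne
  have heH : eN p H = (Nat.card Γ).factorization p := by
    unfold eN
    rw [hnorm, Subgroup.card_top]
  apply ih (Γ ⧸ U) hlt (hsec.quotient U)
  intro Sb
  by_cases hSb : (Sb : Subgroup (Γ ⧸ U)) = ⊥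
  · have hcop : (Nat.card (Γ ⧸ U)).Coprime p := by
      have := Sb.not_dvd_index
      rw [hSb, Subgroup.index_bot] at this
      exact ((Nat.Prime.coprime_iff_not_dvd Fact.out).mpr this).symm
    exact hasNPC_of_injective (Subgroup.subtype _) (Subgroup.subtype_injective _)
      (hasNPC_of_card_coprime hcop)
  · set Vb := Cfsg.inducedFunctor W (Sb : Subgroup (Γ ⧸ U)) with hVb
    have hVbp : IsPGroup p Vb := Sb.isPGroup'.to_le (inducedFunctor_le' W _)
    have hVbne : Vb ≠ ⊥ := inducedFunctor_ne_bot W hW _ Sb.isPGroup' hSb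
    set V' := Vb.comap (QuotientGroup.mk' U) with hV'
    have hV'p : IsPGroup p V' :=
      hVbp.comap_of_ker_isPGroup _ (by rw [QuotientGroup.ker_mk']; exact hUp)
    have hUV' : U ≤ V' := by
      have := Subgroup.ker_le_comap (QuotientGroup.mk' U) Vb
      rwa [QuotientGroup.ker_mk'] at this
    have hUV'ne : U ≠ V' := by
      intro heq
      apply hVbne
      have h1 : Vb = V'.map (QuotientGroup.mk' U) :=
        (Subgroup.map_comap_eq_self_of_surjective (QuotientGroup.mk'_surjective U) Vb).symm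
      rw [h1, ← heq, eq_bot_iff]
      rintro _ ⟨x, hx, rfl⟩
      rw [Subgroup.mem_bot, QuotientGroup.mk'_apply, QuotientGroup.eq_one_iff]
      exact hx
    have hV'ne : V' ≠ ⊥ := ne_bot_of_le_ne_bot hUne hUV'
    have hnormV' : Subgroup.normalizer (V' : Set Γ) =
        (Subgroup.normalizer (Vb : Set (Γ ⧸ U))).comap (QuotientGroup.mk' U) :=
      (Subgroup.comap_normalizer_eq_of_surjective Vb (QuotientGroup.mk'_surjective U)).symm
    have hgood : HasNormalPComplement p ↥(Subgroup.normalizer (V' : Set Γ)) := by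
      by_contra hbad
      have h1 := hmax V' ⟨hV'p, hV'ne, hbad⟩
      have h2 : eN p V' = eN p H := by
        rw [heH]
        unfold eN
        apply factorization_card_eq_of_index_coprime
        rw [hnormV', Subgroup.index_comap_of_surjective _ (QuotientGroup.mk'_surjective U)]
        intro hdvd
        apply Sb.not_dvd_index
        refine dvd_trans hdvd (Subgroup.index_dvd_of_le ?_)
        exact Subgroup.le_normalizer.trans
          (normalizer_le_normalizer_inducedFunctor W hW _ Sb.isPGroup')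
      have h3 : Nat.card H < Nat.card V' :=
        lt_of_le_of_lt (Subgroup.card_le_of_le hHU) (card_lt_card_of_lt (lt_of_le_of_ne hUV' hUV'ne))
      exact absurd h1 (not_le.mpr (mN_lt_of_eN_eq_of_card_lt h2.symm h3))
    rw [hnormV'] at hgood
    exact hasNPC_of_surjective ((QuotientGroup.mk' U).subgroupComap _)
      ((QuotientGroup.mk' U).subgroupComap_surjective_of_surjective _
        (QuotientGroup.mk'_surjective U)) hgood

/-- Claim 4: a counterexample of least order has trivial `p'`-core. -/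
theorem pPrimeCore_eq_bot_of_not_hasNPC (hW : Cfsg.IsCharPFunctor.{u} p W) {Γ : Type u} [Group Γ]
    [Finite Γ] (ih : IHyp p W (Nat.card Γ)) (hsec : SecGood p W Γ) (ha : AllN p W Γ)
    (hnot : ¬ HasNormalPComplement p Γ) : pPrimeCore p Γ = ⊥ := by
  by_contra hne
  set O := pPrimeCore p Γ with hOdef
  have hOcop : (Nat.card O).Coprime p := pPrimeCore_card_coprime p
  have hlt : Nat.card (Γ ⧸ O) < Nat.card Γ := card_quotient_lt_of_ne_bot O hne
  apply hnot
  apply hasNPC_of_quotient_coprime O hOcop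
  apply ih (Γ ⧸ O) hlt (hsec.quotient O)
  intro St
  obtain ⟨S₁, rfl⟩ := Sylow.mapSurjective_surjective (QuotientGroup.mk'_surjective O) p St
  rw [Sylow.coe_mapSurjective]
  have hinj : ∀ x ∈ (S₁ : Subgroup Γ), (QuotientGroup.mk' O) x = 1 → x = 1 := by
    intro x hx h1
    have hxO : x ∈ O := by rwa [QuotientGroup.mk'_apply, QuotientGroup.eq_one_iff] at h1
    have hdisj : (S₁ : Subgroup Γ) ⊓ O = ⊥ := by
      apply (Subgroup.disjoint_of_coprime_natCard _).eq_bot
      obtain ⟨k, hk⟩ := S₁.isPGroup'.exists_card_eq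
      rw [hk]
      exact (Nat.Coprime.pow_right k hOcop).symm
    have h2 : x ∈ (S₁ : Subgroup Γ) ⊓ O := ⟨hx, hxO⟩
    rw [hdisj] at h2
    exact h2
  rw [inducedFunctor_map_of_injOn W hW _ _ S₁.isPGroup' hinj]
  have hV₁p : IsPGroup p (Cfsg.inducedFunctor W (S₁ : Subgroup Γ)) :=
    S₁.isPGroup'.to_le (inducedFunctor_le' W _)
  rw [normalizer_map_mk_of_coprime O hOcop _ hV₁p]
  exact hasNPC_of_surjective ((QuotientGroup.mk' O).subgroupMap _)
    ((QuotientGroup.mk' O).subgroupMap_surjective _) (ha S₁)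

/-- Claim 6: in a counterexample of least order with `C(O_p) ≤ O_p`, Sylow `p`-subgroups are maximal. -/
theorem isCoatom_sylow_of_not_hasNPC (hW : Cfsg.IsCharPFunctor.{u} p W) {Γ : Type u} [Group Γ]
    [Finite Γ] (ih : IHyp p W (Nat.card Γ)) (hsec : SecGood p W Γ) (ha : AllN p W Γ)
    (hnot : ¬ HasNormalPComplement p Γ)
    (hC : Subgroup.centralizer ((pCore p Γ : Subgroup Γ) : Set Γ) ≤ pCore p Γ) (S : Sylow p Γ) :
    IsCoatom (S : Subgroup Γ) := by
  refine ⟨?_, ?_⟩
  · intro htop
    apply hnot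
    apply hasNPC_of_isPGroup
    have h1 := S.isPGroup'
    rw [htop] at h1
    exact h1.of_equiv Subgroup.topEquiv
  · intro L hSL
    by_contra hLtop
    have hlt : Nat.card ↥L < Nat.card Γ := card_subgroup_lt_of_ne_top L hLtop
    have hallN : AllN p W ↥L := by
      intro T
      apply hasNPC_normalizer_subgroup hW L T T.isPGroup'
      have hcard : Nat.card ((T : Subgroup ↥L).map L.subtype) = p ^ (Nat.card Γ).factorization p := by
        rw [Subgroup.card_map_of_injective L.subtype_injective, T.card_eq_multiplicity]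
        congr 1
        exact factorization_card_eq_of_index_coprime L
          (fun hp => S.not_dvd_index (dvd_trans hp (Subgroup.index_dvd_of_le hSL.le)))
      have := ha (Sylow.ofCard _ hcard)
      rwa [Sylow.coe_ofCard] at this
    have hL := ih ↥L hlt (hsec.subgroup L) hallN
    rw [hasNPC_iff_exists_normal] at hL
    obtain ⟨Y, hYn, hYcop, k, hk⟩ := hL
    set U := pCore p Γ with hUdef
    have hUn : U.Normal := Cfsg.pCore_normal p Γ
    have hUp : IsPGroup p U := Cfsg.Agent.Lib.Helper76.pCore_isPGroup p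
    have hUS : U ≤ S := Cfsg.Agent.Lib.Helper76.pCore_le_sylow p S
    have hUL : U ≤ L := hUS.trans hSL.le
    set Y' := Y.map L.subtype with hY'
    have hY'cop : (Nat.card Y').Coprime p := by
      rw [hY', Subgroup.card_map_of_injective L.subtype_injective]; exact hYcop
    have hdisj : Y' ⊓ U = ⊥ := by
      apply (Subgroup.disjoint_of_coprime_natCard _).eq_bot
      obtain ⟨a, ha'⟩ := hUp.exists_card_eq
      rw [ha']
      exact Nat.Coprime.pow_right a hY'cop
    have hY'C : Y' ≤ Subgroup.centralizer (U : Set Γ) := by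
      rintro _ ⟨y, hy, rfl⟩
      rw [Subgroup.mem_centralizer_iff]
      intro u hu
      have hu' : u ∈ U := hu
      have h1 : (y : Γ) * u * (y : Γ)⁻¹ * u⁻¹ ∈ U :=
        U.mul_mem (hUn.conj_mem u hu' y) (U.inv_mem hu')
      have h2 : (y : Γ) * u * (y : Γ)⁻¹ * u⁻¹ ∈ Y' := by
        refine ⟨y * (⟨u, hUL hu'⟩ * y⁻¹ * ⟨u, hUL hu'⟩⁻¹),
          Y.mul_mem hy (hYn.conj_mem _ (Y.inv_mem hy) _), ?_⟩
        simp [mul_assoc]
      have h3 : (y : Γ) * u * (y : Γ)⁻¹ * u⁻¹ ∈ Y' ⊓ U := ⟨h2, h1⟩
      rw [hdisj, Subgroup.mem_bot] at h3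
      show u * L.subtype y = L.subtype y * u
      calc u * (y : Γ) = ((y : Γ) * u * (y : Γ)⁻¹ * u⁻¹)⁻¹ * ((y : Γ) * u) := by group
        _ = (y : Γ) * u := by rw [h3]; simp
    have hY'bot : Y' = ⊥ := by
      rw [eq_bot_iff, ← hdisj]
      exact le_inf le_rfl (hY'C.trans hC)
    have hYbot : Y = ⊥ := (Subgroup.map_eq_bot_iff_of_injective _ L.subtype_injective).mp hY'bot
    rw [hYbot, Subgroup.index_bot] at hk
    have hLp : IsPGroup p ↥L := IsPGroup.of_card hk
    exact hSL.ne (S.is_maximal' hLp hSL.le).symm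

/-- Thompson's normal `p`-complement criterion, functor form, by induction on the order. -/
theorem thompson_main (hW : Cfsg.IsCharPFunctor.{u} p W) :
    ∀ (n : ℕ) (Γ : Type u) [Group Γ] [Finite Γ], Nat.card Γ = n → SecGood p W Γ → AllN p W Γ →
      HasNormalPComplement p Γ := by
  intro n
  induction n using Nat.strong_induction_on with
  | _ n IH =>
    intro Γ _ _ hn hsec ha
    have ih : IHyp p W (Nat.card Γ) := by
      intro Y _ _ hlt hsY haY
      exact IH (Nat.card Y) (hn ▸ hlt) Y rfl hsY haY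
    by_contra hnot
    have hex : ∃ Q : Subgroup Γ, Bad p Q := by
      by_contra hno
      apply hnot
      rw [Cfsg.Agent.S0072.result p]
      intro Q hQ hne
      by_contra hb
      exact hno ⟨Q, hQ, hne, hb⟩
    obtain ⟨Q₀, hQ₀⟩ := hex
    have hnonempty : Nonempty {Q : Subgroup Γ // Bad p Q} := ⟨⟨Q₀, hQ₀⟩⟩
    obtain ⟨⟨H, hH⟩, hmax'⟩ :=
      Finite.exists_max (fun Q : {Q : Subgroup Γ // Bad p Q} => mN p Q.1)
    have hmax : ∀ Q : Subgroup Γ, Bad p Q → mN p Q ≤ mN p H := fun Q hQ => hmax' ⟨Q, hQ⟩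
    have hnorm := normalizer_eq_top_of_maximal hW ih hsec ha H hH hmax
    have hquot := hasNPC_quotient_pCore hW ih hsec H hH hmax hnorm
    have hO := pPrimeCore_eq_bot_of_not_hasNPC hW ih hsec ha hnot
    have hC := centralizer_pCore_le_of_hasNPC_quotient hquot hO
    obtain ⟨S⟩ : Nonempty (Sylow p Γ) := inferInstance
    have hco := isCoatom_sylow_of_not_hasNPC hW ih hsec ha hnot hC S
    have hnormal := hsec.self hC hquot S hco
    have h1 := ha S
    rw [Subgroup.normalizer_eq_top_iff.mpr hnormal] at h1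
    exact hnot (hasNPC_of_mulEquiv Subgroup.topEquiv h1)

end claims

end Cfsg.Agent.Lib.Helper34
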