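import Mathlib

set_option autoImplicit false

/-!
Helper34 library: the abelian case of the Hall–Higman theorem, in ring-theoretic form.

Let `R` be a ring with `p = 0`, `g` a unit and `A` a finite abelian group of units of order prime to `p`
normalized by `g`. If `1 + g + ⋯ + g^(p-1) = 0` (equivalently `(g - 1)^(p-1) = 0`), then `g` commutes with `A`.
-/

namespace Cfsg.Agent.Lib.Helper34

open Finset

section binomial

variable {R : Type*} [Ring R] {p : ℕ}

theorem natCast_choose_pred_prime (hp : p.Prime) (hpR : (p : R) = 0) :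
    ∀ m : ℕ, m ≤ p - 1 → (((p - 1).choose m : ℕ) : R) = (-1) ^ m := by
  intro m
  induction m with
  | zero => intro _; simp
  | succ m ih =>
    intro hm
    have h1 : p.choose (m + 1) = (p - 1).choose m + (p - 1).choose (m + 1) := by
      have : p = (p - 1) + 1 := (Nat.succ_pred_prime hp).symm
      conv_lhs => rw [this]
      exact Nat.choose_succ_succ _ _
    have h2 : p ∣ p.choose (m + 1) :=
      hp.dvd_choose_self (Nat.succ_ne_zero m) (by have := hp.one_lt; omega)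
    have h3 : ((p.choose (m + 1) : ℕ) : R) = 0 := by
      obtain ⟨c, hc⟩ := h2
      rw [hc, Nat.cast_mul, hpR, zero_mul]
    rw [h1, Nat.cast_add, ih (by omega)] at h3
    rw [pow_succ]
    have h4 : (((p - 1).choose (m + 1) : ℕ) : R) = -((-1) ^ m) := by
      rw [eq_neg_iff_add_eq_zero, add_comm]; exact h3
    rw [h4]; simp

theorem neg_one_pow_pred_prime (hp : p.Prime) (hpR : (p : R) = 0) : ((-1 : R)) ^ (p - 1) = 1 := by
  by_cases h2 : p = 2
  · subst h2
    have h : (2 : R) = 0 := by exact_mod_cast hpR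
    simp only [Nat.add_one_sub_one, pow_one]
    have : (-1 : R) = 1 - 2 := by norm_num
    rw [this, h, sub_zero]
  · exact (hp.even_sub_one h2).neg_one_pow

/-- In characteristic `p`, `(x - 1)^(p-1) = 1 + x + ⋯ + x^(p-1)`. -/
theorem sub_one_pow_pred_eq_geom_sum (hp : p.Prime) (hpR : (p : R) = 0) (x : R) :
    (x - 1) ^ (p - 1) = ∑ i ∈ range p, x ^ i := by
  have hcomm : Commute x (-1) := (Commute.one_right x).neg_right
  rw [sub_eq_add_neg, hcomm.add_pow]
  have hp1 : p - 1 + 1 = p := Nat.succ_pred_prime hp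
  rw [hp1]
  apply Finset.sum_congr rfl
  intro m hm
  have hm' : m ≤ p - 1 := by have := Finset.mem_range.mp hm; omega
  rw [natCast_choose_pred_prime hp hpR m hm', mul_assoc, ← pow_add,
    Nat.sub_add_cancel hm', neg_one_pow_pred_prime hp hpR, mul_one]

end binomial

section hh

variable {R : Type*} [Ring R] {p : ℕ}

/-- Sum over the conjugates: if `h` normalizes the finite group of units `B` and no nontrivial element of `B`
commutes with `h`, then `∑_{b ∈ B} b h b⁻¹ = h ∑_{c ∈ B} c`. -/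
theorem sum_conj_eq_mul_sum (B : Subgroup Rˣ) [Fintype B] (h : Rˣ)
    (hB : ∀ b ∈ B, h⁻¹ * b * h ∈ B) (hfix : ∀ d ∈ B, d * h = h * d → d = 1) :
    ∑ b : B, ((b : Rˣ) : R) * (h : R) * (((b : Rˣ)⁻¹ : Rˣ) : R) = (h : R) * ∑ c : B, ((c : Rˣ) : R) := by
  have hfin : Finite B := Finite.of_fintype B
  let σ : B → B := fun b => ⟨h⁻¹ * b * h * (b : Rˣ)⁻¹, B.mul_mem (hB b b.2) (B.inv_mem b.2)⟩
  have hinj : Function.Injective σ := by
    intro b b' hbb
    have h1 : h⁻¹ * (b : Rˣ) * h * (b : Rˣ)⁻¹ = h⁻¹ * (b' : Rˣ) * h * (b' : Rˣ)⁻¹ :=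
      congrArg Subtype.val hbb
    have h2 : ((b' : Rˣ)⁻¹ * (b : Rˣ)) * h = h * ((b' : Rˣ)⁻¹ * (b : Rˣ)) := by
      have h3 : (b : Rˣ) * h * (b : Rˣ)⁻¹ = (b' : Rˣ) * h * (b' : Rˣ)⁻¹ := by
        have := congrArg (fun z => h * z) h1
        simpa [mul_assoc] using this
      calc ((b' : Rˣ)⁻¹ * (b : Rˣ)) * h = (b' : Rˣ)⁻¹ * ((b : Rˣ) * h * (b : Rˣ)⁻¹) * (b : Rˣ) := by group
        _ = (b' : Rˣ)⁻¹ * ((b' : Rˣ) * h * (b' : Rˣ)⁻¹) * (b : Rˣ) := by rw [h3]
        _ = h * ((b' : Rˣ)⁻¹ * (b : Rˣ)) := by group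
    have h4 := hfix _ (B.mul_mem (B.inv_mem b'.2) b.2) h2
    apply Subtype.ext
    have : (b : Rˣ) = (b' : Rˣ) * ((b' : Rˣ)⁻¹ * (b : Rˣ)) := by group
    rw [this, h4, mul_one]
  have hbij : Function.Bijective σ := Finite.injective_iff_bijective.mp hinj
  have hterm : ∀ b : B, ((b : Rˣ) : R) * (h : R) * (((b : Rˣ)⁻¹ : Rˣ) : R) =
      (h : R) * (((σ b : B) : Rˣ) : R) := by
    intro b
    have h6 : (b : Rˣ) * h * (b : Rˣ)⁻¹ = h * ((σ b : B) : Rˣ) := by
      show (b : Rˣ) * h * (b : Rˣ)⁻¹ = h * (h⁻¹ * b * h * (b : Rˣ)⁻¹)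
      group
    have h5 := congrArg Units.val h6
    simpa only [Units.val_mul] using h5
  rw [Finset.sum_congr rfl (fun b _ => hterm b), ← Finset.mul_sum]
  congr 1
  exact hbij.sum_comp (fun c : B => ((c : Rˣ) : R))

/-- **Hall–Higman, abelian case.** -/
theorem commute_of_geom_sum_eq_zero [hp : Fact p.Prime] (hpR : (p : R) = 0)
    (g : Rˣ) (A : Subgroup Rˣ) [Finite A]
    (hA : ∀ a ∈ A, ∀ b ∈ A, a * b = b * a) (hcop : (Nat.card A).Coprime p)
    (hg : ∀ a ∈ A, g * a * g⁻¹ ∈ A)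
    (hN : ∑ i ∈ range p, (g : R) ^ i = 0) : ∀ a ∈ A, g * a = a * g := by
  classical
  -- `g ^ p = 1`
  have hgp : g ^ p = 1 := by
    apply Units.ext
    have h1 := mul_geom_sum (g : R) p
    rw [hN, mul_zero] at h1
    rw [Units.val_pow_eq_pow_val, Units.val_one]
    exact (sub_eq_zero.mp h1.symm)
  -- the subgroup `B = [A, g]`
  let B : Subgroup Rˣ :=
    { carrier := {d | ∃ a ∈ A, d = g * a * g⁻¹ * a⁻¹}
      one_mem' := ⟨1, A.one_mem, by simp⟩
      mul_mem' := by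
        rintro _ _ ⟨a, ha, rfl⟩ ⟨b, hb, rfl⟩
        refine ⟨a * b, A.mul_mem ha hb, ?_⟩
        have h1 : a⁻¹ * (g * b * g⁻¹ * b⁻¹) = (g * b * g⁻¹ * b⁻¹) * a⁻¹ :=
          hA _ (A.inv_mem ha) _ (A.mul_mem (hg b hb) (A.inv_mem hb))
        calc g * a * g⁻¹ * a⁻¹ * (g * b * g⁻¹ * b⁻¹)
            = g * a * g⁻¹ * (a⁻¹ * (g * b * g⁻¹ * b⁻¹)) := by group
          _ = g * a * g⁻¹ * ((g * b * g⁻¹ * b⁻¹) * a⁻¹) := by rw [h1]
          _ = g * (a * b) * g⁻¹ * (a * b)⁻¹ := by group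
      inv_mem' := by
        rintro _ ⟨a, ha, rfl⟩
        refine ⟨a⁻¹, A.inv_mem ha, ?_⟩
        have h1 : a * (g * a⁻¹ * g⁻¹) = (g * a⁻¹ * g⁻¹) * a := hA _ ha _ (hg _ (A.inv_mem ha))
        calc (g * a * g⁻¹ * a⁻¹)⁻¹ = a * (g * a⁻¹ * g⁻¹) := by group
          _ = g * a⁻¹ * g⁻¹ * a := h1
          _ = g * a⁻¹ * g⁻¹ * a⁻¹⁻¹ := by group }
  have hBmem : ∀ d, d ∈ B ↔ ∃ a ∈ A, d = g * a * g⁻¹ * a⁻¹ := fun d => Iff.rfl
  have hBA : B ≤ A := by
    rintro _ ⟨a, ha, rfl⟩
    exact A.mul_mem (hg a ha) (A.inv_mem ha)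
  have hBfin : Finite B := Finite.of_injective (Subgroup.inclusion hBA) (Subgroup.inclusion_injective hBA)
  have hBg : ∀ b ∈ B, g * b * g⁻¹ ∈ B := by
    rintro _ ⟨a, ha, rfl⟩
    exact ⟨g * a * g⁻¹, hg a ha, by group⟩
  have hBgn : ∀ n : ℕ, ∀ b ∈ B, g ^ n * b * (g ^ n)⁻¹ ∈ B := by
    intro n
    induction n with
    | zero => intro b hb; simpa using hb
    | succ n ih =>
      intro b hb
      have := hBg _ (ih b hb)
      have h1 : g ^ (n + 1) * b * (g ^ (n + 1))⁻¹ = g * (g ^ n * b * (g ^ n)⁻¹) * g⁻¹ := by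
        rw [pow_succ']; group
      rw [h1]; exact this
  have hBgn' : ∀ n : ℕ, ∀ b ∈ B, (g ^ n)⁻¹ * b * g ^ n ∈ B := by
    intro n b hb
    have h1 : (g ^ n)⁻¹ = g ^ ((p - 1) * n) := by
      apply inv_eq_of_mul_eq_one_right
      rw [← pow_add]
      have : n + (p - 1) * n = p * n := by
        have := hp.out.one_lt
        have h2 : p - 1 + 1 = p := by omega
        calc n + (p - 1) * n = (p - 1 + 1) * n := by ring
          _ = p * n := by rw [h2]
      rw [this, pow_mul, hgp, one_pow]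
    have := hBgn ((p - 1) * n) b hb
    rw [← h1, inv_inv] at this
    exact this
  -- no nontrivial element of `B` commutes with `g`
  have hfix : ∀ d ∈ B, d * g = g * d → d = 1 := by
    rintro d ⟨a, ha, hd⟩ hdg
    have hconj : g * a * g⁻¹ = d * a := by rw [hd]; group
    have hpow : ∀ n : ℕ, g ^ n * a * (g ^ n)⁻¹ = d ^ n * a := by
      intro n
      induction n with
      | zero => simp
      | succ n ih =>
        have hdn : g * d ^ n = d ^ n * g := by
          have : Commute d g := hdg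
          exact (this.pow_left n).eq.symm
        calc g ^ (n + 1) * a * (g ^ (n + 1))⁻¹ = g * (g ^ n * a * (g ^ n)⁻¹) * g⁻¹ := by
              rw [pow_succ']; group
          _ = g * (d ^ n * a) * g⁻¹ := by rw [ih]
          _ = (g * d ^ n) * a * g⁻¹ := by group
          _ = d ^ n * g * a * g⁻¹ := by rw [hdn]
          _ = d ^ n * (g * a * g⁻¹) := by group
          _ = d ^ n * (d * a) := by rw [hconj]
          _ = d ^ (n + 1) * a := by rw [pow_succ]; group
    have h1 := hpow p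
    rw [hgp] at h1
    have hdp : d ^ p = 1 := by
      have : a = d ^ p * a := by simpa using h1
      have h2 : d ^ p * a = 1 * a := by rw [one_mul]; exact this.symm
      exact mul_right_cancel h2
    have hdA : d ∈ A := hBA ⟨a, ha, hd⟩
    have ho1 : orderOf d ∣ p := orderOf_dvd_of_pow_eq_one hdp
    have ho2 : orderOf d ∣ Nat.card A := Subgroup.orderOf_dvd_natCard A hdA
    have ho3 : orderOf d ∣ Nat.gcd (Nat.card A) p := Nat.dvd_gcd ho2 ho1
    rw [hcop.gcd_eq_one, Nat.dvd_one] at ho3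
    exact orderOf_eq_one_iff.mp ho3
  -- the same for the powers `g ^ i`, `0 < i < p`
  have hfixi : ∀ i : ℕ, 0 < i → i < p → ∀ d ∈ B, d * g ^ i = g ^ i * d → d = 1 := by
    intro i hi0 hip d hd hdi
    apply hfix d hd
    have hcop' : Nat.Coprime i p :=
      ((Nat.Prime.coprime_iff_not_dvd hp.out).mpr (Nat.not_dvd_of_pos_of_lt hi0 hip)).symm
    obtain ⟨m, -, hm⟩ := Nat.exists_mul_mod_eq_one_of_coprime hcop' hp.out.one_lt
    have h1 : g ^ (i * m) = g := by
      have := Nat.div_add_mod (i * m) p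
      rw [hm] at this
      rw [← this, pow_add, pow_mul, hgp, one_pow, one_mul, pow_one]
    have h2 : Commute d (g ^ i) := hdi
    have h3 : Commute d ((g ^ i) ^ m) := h2.pow_right m
    rw [← pow_mul, h1] at h3
    exact h3.eq
  -- the averaging argument
  have hBfintype : Fintype B := Fintype.ofFinite B
  set sB : R := ∑ c : B, ((c : Rˣ) : R) with hsBdef
  have hTi : ∀ i : ℕ, 0 < i → i < p →
      ∑ b : B, ((b : Rˣ) : R) * ((g : R) ^ i) * (((b : Rˣ)⁻¹ : Rˣ) : R) = (g : R) ^ i * sB := by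
    intro i hi0 hip
    have := sum_conj_eq_mul_sum B (g ^ i) (hBgn' i) (hfixi i hi0 hip)
    rw [Units.val_pow_eq_pow_val] at this
    exact this
  have hT0 : ∑ b : B, ((b : Rˣ) : R) * ((g : R) ^ 0) * (((b : Rˣ)⁻¹ : Rˣ) : R) = (Nat.card B : R) := by
    simp [Nat.card_eq_fintype_card]
  have hsum : (Nat.card B : R) = sB := by
    have h0 : ∑ b : B, ((b : Rˣ) : R) * (∑ i ∈ range p, (g : R) ^ i) * (((b : Rˣ)⁻¹ : Rˣ) : R) = 0 := by
      rw [hN]; simp
    have h1 : ∑ b : B, ((b : Rˣ) : R) * (∑ i ∈ range p, (g : R) ^ i) * (((b : Rˣ)⁻¹ : Rˣ) : R) =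
        ∑ i ∈ range p, ∑ b : B, ((b : Rˣ) : R) * ((g : R) ^ i) * (((b : Rˣ)⁻¹ : Rˣ) : R) := by
      rw [Finset.sum_comm]
      apply Finset.sum_congr rfl
      intro b _
      rw [Finset.mul_sum, Finset.sum_mul]
    have h2 : ∑ i ∈ range p, ∑ b : B, ((b : Rˣ) : R) * ((g : R) ^ i) * (((b : Rˣ)⁻¹ : Rˣ) : R) =
        ∑ i ∈ range p, ((g : R) ^ i * sB + if i = 0 then ((Nat.card B : R) - sB) else 0) := by
      apply Finset.sum_congr rfl
      intro i hi
      by_cases hi0 : i = 0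
      · subst hi0
        rw [hT0]; simp
      · rw [hTi i (Nat.pos_of_ne_zero hi0) (Finset.mem_range.mp hi), if_neg hi0, add_zero]
    rw [h1, h2, Finset.sum_add_distrib, ← Finset.sum_mul, hN, zero_mul, zero_add,
      Finset.sum_ite_eq' (range p) 0 (fun _ => (Nat.card B : R) - sB),
      if_pos (Finset.mem_range.mpr hp.out.pos)] at h0
    exact sub_eq_zero.mp h0
  -- every element of `B` is trivial
  have hBcop : (Nat.card B).Coprime p :=
    Nat.Coprime.coprime_dvd_left (Subgroup.card_dvd_of_le hBA) hcop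
  obtain ⟨m, -, hm⟩ := Nat.exists_mul_mod_eq_one_of_coprime hBcop hp.out.one_lt
  have hunit : (Nat.card B : R) * (m : R) = 1 := by
    have := Nat.div_add_mod (Nat.card B * m) p
    rw [hm] at this
    have h1 : ((Nat.card B * m : ℕ) : R) = 1 := by
      rw [← this, Nat.cast_add, Nat.cast_mul, hpR, zero_mul, zero_add, Nat.cast_one]
    rwa [Nat.cast_mul] at h1
  have hBtriv : ∀ c ∈ B, c = 1 := by
    intro c hc
    have h1 : (c : R) * sB = sB := by
      rw [hsBdef, Finset.mul_sum]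
      exact Fintype.sum_equiv (Equiv.mulLeft (⟨c, hc⟩ : B)) _ _ (fun b => by simp)
    rw [← hsum] at h1
    apply Units.ext
    have h2 : (c : R) = (c : R) * ((Nat.card B : R) * (m : R)) := by rw [hunit, mul_one]
    rw [h2, ← mul_assoc, h1, hunit, Units.val_one]
  intro a ha
  have h1 := hBtriv (g * a * g⁻¹ * a⁻¹) ⟨a, ha, rfl⟩
  calc g * a = (g * a * g⁻¹ * a⁻¹) * (a * g) := by group
    _ = a * g := by rw [h1, one_mul]

end hh

end Cfsg.Agent.Lib.Helper34
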