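import Mathlib
import Cfsg.Prelude.Def_OddOrderLocal
import Cfsg.Agent.Lib.Helper34.SylowConj
import Cfsg.Agent.Lib.Helper34.Cores
import Cfsg.Agent.Lib.Helper54.PCores
import Cfsg.Agent.Lib.Helper45.RankTools

set_option autoImplicit false

/-!
Helper34 library: auxiliary lemmas for the control of fusion by a maximal subgroup `M` with
`p ∈ σ(M)` (Bender–Glauberman, Lemma 10.1).

* `exists_mul_of_index_pPrimePCore_coprime`: Frattini factorisation `T = N_T(R) O_{p'}(T)` for a
  group `T` of `p`-length one in the form `p ∤ |T : O_{p',p}(T)|`.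
* `commute_of_mem_pPrimeCore`: `O_{p'}(T)` centralizes every normal `p`-subgroup of `T`.
-/

namespace Cfsg.Agent.Lib.Helper34

open Cfsg

section PLengthOne

variable {T : Type*} [Group T] [Finite T]

/-- A Sylow `p`-subgroup lies in every normal subgroup of index prime to `p`. -/
theorem sylow_le_of_normal_of_index_coprime {p : ℕ} [Fact p.Prime] (R : Sylow p T)
    (L : Subgroup T) [L.Normal] (hidx : L.index.Coprime p) : (R : Subgroup T) ≤ L := by
  intro x hx
  obtain ⟨k, hk⟩ := (IsPGroup.iff_orderOf.mp R.2) ⟨x, hx⟩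
  have hk' : orderOf x = p ^ k := by
    rw [← hk]; exact (Subgroup.orderOf_mk x hx).symm
  have h1 : orderOf (QuotientGroup.mk' L x) ∣ p ^ k := by
    rw [← hk']; exact orderOf_map_dvd _ x
  have h2 : orderOf (QuotientGroup.mk' L x) ∣ L.index := by
    rw [Subgroup.index_eq_card]; exact orderOf_dvd_natCard _
  have h3 : orderOf (QuotientGroup.mk' L x) = 1 :=
    Nat.eq_one_of_dvd_coprimes (Nat.Coprime.pow_right k hidx) h2 h1
  rw [orderOf_eq_one_iff, QuotientGroup.mk'_apply, QuotientGroup.eq_one_iff] at h3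
  exact h3

/-- Frattini factorisation for groups of `p`-length one: if `p ∤ |T : O_{p',p}(T)|` and `R` is a
Sylow `p`-subgroup, then `T = N_T(R) O_{p'}(T)`. -/
theorem exists_mul_of_index_pPrimePCore_coprime {p : ℕ} [Fact p.Prime] (R : Sylow p T)
    (hidx : (pPrimePCore p T).index.Coprime p) (t : T) :
    ∃ n ∈ Subgroup.normalizer ((R : Subgroup T) : Set T), ∃ a ∈ pPrimeCore p T, t = n * a := by
  haveI : (pPrimePCore p T).Normal := Cfsg.Agent.Lib.Helper54.pPrimePCore_normal_h54 p
  haveI : (pPrimeCore p T).Normal := pPrimeCore_isNormal p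
  have hRL : (R : Subgroup T) ≤ pPrimePCore p T :=
    sylow_le_of_normal_of_index_coprime R _ hidx
  have hfr : Subgroup.normalizer ((R : Subgroup T) : Set T) ⊔ pPrimePCore p T = ⊤ :=
    Sylow.normalizer_sup_eq_top' R hRL
  have hL : pPrimeCore p T ⊔ (R : Subgroup T) = pPrimePCore p T := by
    have h := Cfsg.Agent.Lib.Helper54.pPrimeCore_sup_sylow p (R.subtype hRL)
    rw [Sylow.coe_subtype, Subgroup.subgroupOf_map_subtype, inf_of_le_left hRL] at h
    exact h
  have htop : Subgroup.normalizer ((R : Subgroup T) : Set T) ⊔ pPrimeCore p T = ⊤ := by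
    apply top_le_iff.mp
    rw [← hfr, ← hL]
    apply sup_le le_sup_left
    apply sup_le le_sup_right
    exact le_sup_of_le_left Subgroup.le_normalizer
  have ht : t ∈ Subgroup.normalizer ((R : Subgroup T) : Set T) ⊔ pPrimeCore p T := by
    rw [htop]; exact Subgroup.mem_top t
  rw [← SetLike.mem_coe, Subgroup.mul_normal] at ht
  obtain ⟨n, hn, a, ha, rfl⟩ := ht
  exact ⟨n, hn, a, ha, rfl⟩

/-- `O_{p'}(T)` centralizes every normal `p`-subgroup of `T`. -/
theorem commute_of_mem_pPrimeCore {p : ℕ} [Fact p.Prime] (X : Subgroup T) [X.Normal]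
    (hX : IsPGroup p X) {a x : T} (ha : a ∈ pPrimeCore p T) (hx : x ∈ X) : a * x = x * a := by
  haveI : (pPrimeCore p T).Normal := pPrimeCore_isNormal p
  have h1 : a * x * a⁻¹ * x⁻¹ ∈ X :=
    X.mul_mem (Subgroup.Normal.conj_mem inferInstance x hx a) (X.inv_mem hx)
  have h2 : a * x * a⁻¹ * x⁻¹ ∈ pPrimeCore p T := by
    have : a * x * a⁻¹ * x⁻¹ = a * (x * a⁻¹ * x⁻¹) := by group
    rw [this]
    exact Subgroup.mul_mem _ ha
      (Subgroup.Normal.conj_mem inferInstance a⁻¹ (Subgroup.inv_mem _ ha) x)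
  have h3 : a * x * a⁻¹ * x⁻¹ = 1 :=
    Cfsg.Agent.Lib.Helper54.eq_one_of_mem_pGroup_of_mem_coprime hX
      (pPrimeCore_card_coprime p) h1 h2
  have : a * x = (a * x * a⁻¹ * x⁻¹) * (x * a) := by group
  rw [this, h3, one_mul]

end PLengthOne

end Cfsg.Agent.Lib.Helper34
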