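import Mathlib
import Cfsg.Prelude.Def_OddOrderLocal
import Cfsg.Agent.Lib.Helper34.SigmaFusionAux
import Cfsg.Agent.S1450

set_option autoImplicit false
set_option linter.style.haveILetI false

/-!
Helper34 library: control of fusion by a maximal subgroup `M` with `p ∈ σ(M)` in a minimal simple
group of odd order (Bender–Glauberman, Lemma 10.1), conditional on the Uniqueness Theorem.

The statement is false for arbitrary finite groups (`PSL(3,3)`, `p = 3`): the proof uses that a
proper subgroup with a Sylow `p`-subgroup of rank at most two has `p`-length one (`S1450`), and the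
Uniqueness Theorem for the Sylow `p`-subgroups of rank at least three.
-/

namespace Cfsg.Agent.Lib.Helper34

open Cfsg

section

variable {G : Type*} [Group G]

/-- conjugating a Sylow subgroup of a subgroup `N` by an element of `N`, seen in `G` -/
theorem map_subtype_smul_sylow {p : ℕ} {N : Subgroup G} (R : Sylow p N) (n : N) :
    ((n • R : Sylow p N) : Subgroup N).map N.subtype =
      ((R : Subgroup N).map N.subtype).map (MulAut.conj (n : G)).toMonoidHom := by
  ext x
  rw [mem_map_conj_iff]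
  constructor
  · rintro ⟨y, hy, rfl⟩
    rw [SetLike.mem_coe, mem_sylow_smul_iff] at hy
    exact ⟨n⁻¹ * y * n, hy, by simp⟩
  · rintro ⟨z, hz, hzx⟩
    have hxN : x ∈ N := by
      have h1 : x = (n : G) * (z : G) * (n : G)⁻¹ := by
        have : (z : G) = (n : G)⁻¹ * x * (n : G) := hzx
        rw [this]; group
      rw [h1]
      exact N.mul_mem (N.mul_mem n.2 z.2) (N.inv_mem n.2)
    refine ⟨⟨x, hxN⟩, ?_, rfl⟩
    rw [SetLike.mem_coe, mem_sylow_smul_iff]
    have : n⁻¹ * (⟨x, hxN⟩ : N) * n = z := by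
      apply Subtype.ext
      simpa using hzx.symm
    rw [this]
    exact hz

theorem map_conj_self_of_mem {M : Subgroup G} {m : G} (hm : m ∈ M) :
    M.map (MulAut.conj m).toMonoidHom = M :=
  map_conj_eq_self_of_mem_normalizer M m (Subgroup.le_normalizer hm)

theorem map_conj_le_of_le_of_mem {M X : Subgroup G} {m : G} (hm : m ∈ M) (hX : X ≤ M) :
    X.map (MulAut.conj m).toMonoidHom ≤ M := by
  calc X.map (MulAut.conj m).toMonoidHom ≤ M.map (MulAut.conj m).toMonoidHom :=
        Subgroup.map_mono hX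
    _ = M := map_conj_self_of_mem hm

theorem map_conj_inv_map_conj (X : Subgroup G) (g : G) :
    (X.map (MulAut.conj g).toMonoidHom).map (MulAut.conj g⁻¹).toMonoidHom = X := by
  rw [← map_conj_mul, inv_mul_cancel]
  ext x
  rw [mem_map_conj_iff]
  simp

theorem map_conj_map_conj_inv (X : Subgroup G) (g : G) :
    (X.map (MulAut.conj g⁻¹).toMonoidHom).map (MulAut.conj g).toMonoidHom = X := by
  have := map_conj_inv_map_conj X g⁻¹
  rwa [inv_inv] at this

theorem isPGroup_map_conj {p : ℕ} {X : Subgroup G} (hX : IsPGroup p X) (g : G) :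
    IsPGroup p (X.map (MulAut.conj g).toMonoidHom) := hX.map _

/-- elements of the centralizer fix the subgroup under conjugation -/
theorem map_conj_eq_self_of_mem_centralizer {X : Subgroup G} {c : G}
    (hc : c ∈ Subgroup.centralizer (X : Set G)) : X.map (MulAut.conj c).toMonoidHom = X :=
  map_conj_eq_self_of_mem_normalizer X c (Subgroup.centralizer_le_normalizer _ hc)

end

section

variable {G : Type*} [Group G] [Finite G]

/-- A Sylow `p`-subgroup of `M` whose normalizer in `G` lies in `M` is a Sylow `p`-subgroup of `G`. -/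
theorem exists_sylow_eq_map_of_normalizer_le {p : ℕ} [Fact p.Prime] {M : Subgroup G}
    (S : Sylow p M)
    (hN : Subgroup.normalizer (((S : Subgroup M).map M.subtype : Subgroup G) : Set G) ≤ M) :
    ∃ Q : Sylow p G, (Q : Subgroup G) = (S : Subgroup M).map M.subtype := by
  set S' := (S : Subgroup M).map M.subtype with hS'
  have hS'p : IsPGroup p S' := S.2.map _
  obtain ⟨Q, hQ⟩ := hS'p.exists_le_sylow
  refine ⟨Q, ?_⟩
  by_contra hne
  have hlt : S' < (Q : Subgroup G) := lt_of_le_of_ne hQ (Ne.symm hne)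
  have h1 := lt_inf_normalizer_of_lt Q.2 hlt
  set T := (Q : Subgroup G) ⊓ Subgroup.normalizer (S' : Set G) with hT
  have hTM : T ≤ M := inf_le_right.trans hN
  have hTp : IsPGroup p T := Q.2.to_le inf_le_left
  have h2 : IsPGroup p (T.subgroupOf M) := hTp.comap_subtype
  have h3 : (S : Subgroup M) ≤ T.subgroupOf M := by
    intro x hx
    rw [Subgroup.mem_subgroupOf]
    exact h1.le ⟨x, hx, rfl⟩
  have h4 := S.is_maximal' h2 h3
  have h5 : T ≤ S' := by
    intro t ht
    have : (⟨t, hTM ht⟩ : M) ∈ T.subgroupOf M := by rw [Subgroup.mem_subgroupOf]; exact ht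
    rw [h4] at this
    exact ⟨⟨t, hTM ht⟩, this, rfl⟩
  exact absurd (le_antisymm h5 h1.le) h1.ne'

/-- if one Sylow `p`-subgroup of `M` has its `G`-normalizer inside `M`, all of them do -/
theorem normalizer_map_sylow_le_of_exists {p : ℕ} [Fact p.Prime] {M : Subgroup G}
    (P₀ : Sylow p M)
    (h0 : Subgroup.normalizer (((P₀ : Subgroup M).map M.subtype : Subgroup G) : Set G) ≤ M)
    (S : Sylow p M) :
    Subgroup.normalizer (((S : Subgroup M).map M.subtype : Subgroup G) : Set G) ≤ M := by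
  obtain ⟨m, hm⟩ := MulAction.exists_smul_eq M P₀ S
  rw [← hm, map_subtype_smul_sylow, ← map_conj_normalizer]
  exact map_conj_le_of_le_of_mem m.2 h0

/-- the `p`-rank of a subgroup is bounded by that of its Sylow `p`-subgroups -/
theorem pRankLE_of_sylow {p : ℕ} [Fact p.Prime] {N : Subgroup G} (R : Sylow p N)
    (h : PRankLE p 2 ↥((R : Subgroup N).map N.subtype)) : PRankLE p 2 ↥N := by
  by_contra hcon
  obtain ⟨F, hFN, hFe, hFc⟩ := (Cfsg.Agent.Lib.Helper45.not_pRankLE_subgroup_iff 2 N).mp hcon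
  have hFp : IsPGroup p F := by
    intro x
    refine ⟨1, ?_⟩
    apply Subtype.ext
    simpa using hFe.2 x.1 x.2
  have hFp' : IsPGroup p (F.subgroupOf N) := hFp.comap_subtype
  obtain ⟨Q, hQ⟩ := hFp'.exists_le_sylow
  obtain ⟨n, hn⟩ := MulAction.exists_smul_eq N R Q
  have h1 : F ≤ ((R : Subgroup N).map N.subtype).map (MulAut.conj (n : G)).toMonoidHom := by
    rw [← map_subtype_smul_sylow, hn]
    intro x hx
    exact ⟨⟨x, hFN hx⟩, hQ (Subgroup.mem_subgroupOf.mpr hx), rfl⟩
  have h2 : F.map (MulAut.conj ((n : G)⁻¹)).toMonoidHom ≤ (R : Subgroup N).map N.subtype := by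
    have := Subgroup.map_mono (f := (MulAut.conj ((n : G)⁻¹)).toMonoidHom) h1
    rwa [map_conj_inv_map_conj] at this
  apply (Cfsg.Agent.Lib.Helper45.not_pRankLE_subgroup_iff 2 _).mpr _ h
  refine ⟨F.map (MulAut.conj ((n : G)⁻¹)).toMonoidHom, h2, ⟨?_, ?_⟩, ?_⟩
  · haveI := hFe.1
    exact Subgroup.map_isMulCommutative F _
  · rintro _ ⟨a, ha, rfl⟩
    rw [← map_pow, hFe.2 a ha, map_one]
  · rw [card_map_conj]; exact hFc

theorem rankLE_two_of_rankLE_one {H : Type*} [Group H] (h : RankLE 1 H) : RankLE 2 H := by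
  intro q hq A hAc hAe
  exact (h q hq A hAc hAe).trans (Nat.pow_le_pow_right hq.pos (by norm_num))

end

section Main

variable {G : Type*} [Group G] [Finite G]

/-- the hypotheses used in the proof of the fusion lemma -/
structure FusionData (p : ℕ) (M : Subgroup G) : Prop where
  simple : IsSimpleGroup G
  sol : ∀ H : Subgroup G, H ≠ ⊤ → Group.IsSolvable H
  odd : Odd (Nat.card G)
  coatom : IsCoatom M
  uniq : ∀ K : Subgroup G, K ≠ ⊤ → ¬ RankLE 1 K → ¬ RankLE 2 K → InUniqueMaximal K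
  sig : ∀ S : Sylow p M,
    Subgroup.normalizer (((S : Subgroup M).map M.subtype : Subgroup G) : Set G) ≤ M

/-- `M` controls the `G`-conjugates of `X` lying in `M`. -/
def Ctrl (M X : Subgroup G) : Prop :=
  ∀ g : G, X.map (MulAut.conj g).toMonoidHom ≤ M →
    ∃ m ∈ M, ∃ c ∈ Subgroup.centralizer (X : Set G), g = m * c

theorem card_sub_lt {M X T : Subgroup G} (hXT : X < T) (hTM : T ≤ M) :
    Nat.card M - Nat.card T < Nat.card M - Nat.card X := by
  have h1 : Nat.card X < Nat.card T := card_lt_card_of_lt hXT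
  have h2 : Nat.card T ≤ Nat.card M := Subgroup.card_le_of_le hTM
  omega

/-- the normalizer of a nontrivial `p`-subgroup `X ≤ M` is covered by `M C_G(X)`, provided some Sylow
`p`-subgroup of `N_G(X)` lies in `M` and is controlled by `M`. -/
theorem ctrl_normalizer {p : ℕ} [Fact p.Prime] {M : Subgroup G} (hD : FusionData p M)
    {X : Subgroup G} (hXp : IsPGroup p X) (hX1 : X ≠ ⊥) (hXM : X ≤ M)
    (N : Subgroup G) (hN : N = Subgroup.normalizer (X : Set G))
    (R : Sylow p N)
    (hRM : (R : Subgroup N).map N.subtype ≤ M)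
    (hXR : X ≤ (R : Subgroup N).map N.subtype)
    (hCR : Ctrl M ((R : Subgroup N).map N.subtype))
    {n : G} (hn : n ∈ N) :
    ∃ m ∈ M, ∃ c ∈ Subgroup.centralizer (X : Set G), n = m * c := by
  haveI := hD.simple
  set R' := (R : Subgroup N).map N.subtype with hR'
  have hMtop : M ≠ ⊤ := hD.coatom.1
  have hXN : X ≤ N := hN ▸ Subgroup.le_normalizer
  haveI hXnorm : (X.subgroupOf N).Normal := by subst hN; infer_instance
  have hNtop : N ≠ ⊤ := by
    intro h
    have hXn : X.Normal := Subgroup.normalizer_eq_top_iff.mp (hN ▸ h)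
    rcases hXn.eq_bot_or_eq_top with h1 | h1
    · exact hX1 h1
    · exact hMtop (top_le_iff.mp (h1 ▸ hXM))
  by_cases hr : RankLE 2 ↥R'
  · have hr2 : PRankLE p 2 ↥N := pRankLE_of_sylow R (hr p Fact.out)
    haveI : Group.IsSolvable ↥N := hD.sol N hNtop
    have hoddN : Odd (Nat.card N) := by
      have hdvd : Nat.card N ∣ Nat.card G := Subgroup.card_subgroup_dvd_card N
      exact Odd.of_dvd_nat hD.odd hdvd
    have hpN : p ∣ Nat.card N := by
      have h1 : p ∣ Nat.card X := by
        obtain ⟨k, hk⟩ := IsPGroup.iff_card.mp hXp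
        have hk0 : k ≠ 0 := by
          intro h0
          rw [h0, pow_zero] at hk
          exact hX1 (Subgroup.card_eq_one.mp hk)
        rw [hk]
        exact dvd_pow_self p hk0
      exact h1.trans (Subgroup.card_dvd_of_le hXN)
    have h1450 := Cfsg.Agent.S1450.result (G := ↥N) hoddN p hpN hr2
    have hidx := h1450.2.2.2.2.2
    obtain ⟨n₀, hn₀, a, ha, hna⟩ := exists_mul_of_index_pPrimePCore_coprime R hidx ⟨n, hn⟩
    have h2 : R'.map (MulAut.conj (n₀ : G)).toMonoidHom = R' := by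
      rw [hR', ← map_subtype_smul_sylow]
      congr 2
      exact Sylow.smul_eq_iff_mem_normalizer.mpr hn₀
    obtain ⟨m, hm, c, hc, hmc⟩ := hCR (n₀ : G) (by rw [h2]; exact hRM)
    have ha' : (a : G) ∈ Subgroup.centralizer (X : Set G) := by
      rw [Subgroup.mem_centralizer_iff]
      intro x hx
      have hx' : (⟨x, hXN hx⟩ : N) ∈ X.subgroupOf N :=
        Subgroup.mem_subgroupOf.mpr hx
      have := commute_of_mem_pPrimeCore (X.subgroupOf N) hXp.comap_subtype ha hx'
      exact (congrArg Subtype.val this).symm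
    refine ⟨m, hm, c * a, Subgroup.mul_mem _ (Subgroup.centralizer_le hXR hc) ha', ?_⟩
    have h3 : n = (n₀ : G) * (a : G) := by
      have := congrArg Subtype.val hna
      simpa using this
    rw [h3, hmc, mul_assoc]
  · have hR'top : R' ≠ ⊤ := fun h => hMtop (top_le_iff.mp (h ▸ hRM))
    have hu := hD.uniq R' hR'top (fun h => hr (rankLE_two_of_rankLE_one h)) hr
    obtain ⟨L₀, hL₀, hNL₀⟩ := (eq_top_or_exists_le_coatom N).resolve_left hNtop
    have hR'N : R' ≤ N := Subgroup.map_subtype_le _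
    have hML : M = L₀ := hu.unique ⟨hD.coatom, hRM⟩ ⟨hL₀, hR'N.trans hNL₀⟩
    exact ⟨n, hML ▸ hNL₀ hn, 1, Subgroup.one_mem _, (mul_one n).symm⟩

/-- some Sylow `p`-subgroup of `N_G(X)` containing `T₁` lies in `M`, if `T₁` is controlled by `M`. -/
theorem exists_sylow_normalizer_le {p : ℕ} [Fact p.Prime] {M : Subgroup G} (hD : FusionData p M)
    {X T₁ : Subgroup G} (N : Subgroup G) (hN : N = Subgroup.normalizer (X : Set G))
    (S : Sylow p M) (hXT : X ≤ T₁)
    (hT₁N : T₁ ≤ N)
    (hT₁S : T₁ ≤ (S : Subgroup M).map M.subtype) (hCT : Ctrl M T₁) :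
    ∃ R : Sylow p N, (R : Subgroup N).map N.subtype ≤ M ∧ T₁ ≤ (R : Subgroup N).map N.subtype := by
  set S' := (S : Subgroup M).map M.subtype with hS'
  have hS'M : S' ≤ M := Subgroup.map_subtype_le _
  have hS'p : IsPGroup p S' := S.2.map _
  have hT₁p : IsPGroup p T₁ := hS'p.to_le hT₁S
  obtain ⟨R₀, hR₀⟩ := (hT₁p.comap_subtype (K := N)).exists_le_sylow
  set R₀' := (R₀ : Subgroup N).map N.subtype with hR₀'
  have hT₁R₀ : T₁ ≤ R₀' := by
    intro t ht
    exact ⟨⟨t, hT₁N ht⟩, hR₀ (Subgroup.mem_subgroupOf.mpr ht), rfl⟩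
  obtain ⟨SG, hSG⟩ := exists_sylow_eq_map_of_normalizer_le S (hD.sig S)
  have hR₀p : IsPGroup p R₀' := R₀.2.map _
  obtain ⟨Q, hQ⟩ := hR₀p.exists_le_sylow
  obtain ⟨h, hh⟩ := MulAction.exists_smul_eq G SG Q
  have hR₀S : R₀' ≤ S'.map (MulAut.conj h).toMonoidHom := by
    have hSG' : (SG : Subgroup G) = S' := hSG
    rw [← hSG', ← sylow_smul_eq_map_conj, hh]; exact hQ
  have h1 : T₁.map (MulAut.conj h⁻¹).toMonoidHom ≤ M := by
    have := Subgroup.map_mono (f := (MulAut.conj h⁻¹).toMonoidHom) (hT₁R₀.trans hR₀S)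
    rw [map_conj_inv_map_conj] at this
    exact this.trans hS'M
  obtain ⟨m₁, hm₁, c₁, hc₁, hmc⟩ := hCT h⁻¹ h1
  have hc₁N : c₁ ∈ N := by
    rw [hN]
    exact Subgroup.centralizer_le_normalizer _ (Subgroup.centralizer_le hXT hc₁)
  refine ⟨(⟨c₁, hc₁N⟩ : N) • R₀, ?_, ?_⟩
  · rw [map_subtype_smul_sylow]
    have h2 : c₁ * h = m₁⁻¹ := by
      have : h = (m₁ * c₁)⁻¹ := by rw [← hmc, inv_inv]
      rw [this]; group
    calc R₀'.map (MulAut.conj c₁).toMonoidHom
        ≤ (S'.map (MulAut.conj h).toMonoidHom).map (MulAut.conj c₁).toMonoidHom :=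
          Subgroup.map_mono hR₀S
      _ = S'.map (MulAut.conj m₁⁻¹).toMonoidHom := by rw [← map_conj_mul, h2]
      _ ≤ M := map_conj_le_of_le_of_mem (M.inv_mem hm₁) hS'M
  · rw [map_subtype_smul_sylow]
    calc T₁ = T₁.map (MulAut.conj c₁).toMonoidHom :=
          (map_conj_eq_self_of_mem_centralizer hc₁).symm
      _ ≤ R₀'.map (MulAut.conj c₁).toMonoidHom := Subgroup.map_mono hT₁R₀

/-- **Control of fusion** (Bender–Glauberman 10.1(a)): every `p`-subgroup of `M` is controlled. -/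
theorem ctrl_all {p : ℕ} [Fact p.Prime] {M : Subgroup G} (hD : FusionData p M) :
    ∀ (d : ℕ) (X : Subgroup G), IsPGroup p X → X ≤ M → Nat.card M - Nat.card X = d → Ctrl M X := by
  intro d
  induction d using Nat.strong_induction_on with
  | _ d ih =>
  intro X hXp hXM hd g hg
  by_cases hX1 : X = ⊥
  · subst hX1
    refine ⟨1, M.one_mem, g, ?_, (one_mul g).symm⟩
    rw [Subgroup.mem_centralizer_iff]
    intro x hx
    rw [SetLike.mem_coe, Subgroup.mem_bot] at hx
    rw [hx, one_mul, mul_one]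
  obtain ⟨S, hS⟩ := (hXp.comap_subtype (K := M)).exists_le_sylow
  set S' := (S : Subgroup M).map M.subtype with hS'
  have hS'M : S' ≤ M := Subgroup.map_subtype_le _
  have hS'p : IsPGroup p S' := S.2.map _
  have hXS : X ≤ S' := by
    intro x hx
    exact ⟨⟨x, hXM hx⟩, hS (Subgroup.mem_subgroupOf.mpr hx), rfl⟩
  -- reduce to the case where the conjugate lies in `S'`
  have hYp : IsPGroup p (X.map (MulAut.conj g).toMonoidHom) := isPGroup_map_conj hXp g
  obtain ⟨S₂, hS₂⟩ := (hYp.comap_subtype (K := M)).exists_le_sylow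
  obtain ⟨m₀, hm₀⟩ := MulAction.exists_smul_eq M S S₂
  have hg' : X.map (MulAut.conj ((m₀ : G)⁻¹ * g)).toMonoidHom ≤ S' := by
    rw [map_conj_mul]
    have h1 : X.map (MulAut.conj g).toMonoidHom ≤
        S'.map (MulAut.conj (m₀ : G)).toMonoidHom := by
      rw [hS', ← map_subtype_smul_sylow, hm₀]
      intro y hy
      exact ⟨⟨y, hg hy⟩, hS₂ (Subgroup.mem_subgroupOf.mpr hy), rfl⟩
    have := Subgroup.map_mono (f := (MulAut.conj ((m₀ : G)⁻¹)).toMonoidHom) h1
    rwa [map_conj_inv_map_conj] at this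
  suffices hsuff : ∃ m ∈ M, ∃ c ∈ Subgroup.centralizer (X : Set G), (m₀ : G)⁻¹ * g = m * c by
    obtain ⟨m, hm, c, hc, h⟩ := hsuff
    refine ⟨m₀ * m, M.mul_mem m₀.2 hm, c, hc, ?_⟩
    rw [mul_assoc, ← h]; group
  generalize (m₀ : G)⁻¹ * g = g₁ at hg'
  clear hm₀ hS₂ S₂ hYp hg g
  have hNS : Subgroup.normalizer (S' : Set G) ≤ M := hD.sig S
  by_cases hXeq : X = S'
  · have h1 : X.map (MulAut.conj g₁).toMonoidHom = X := by
      apply Subgroup.eq_of_le_of_card_ge
      · rw [hXeq] at hg' ⊢; exact hg'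
      · rw [card_map_conj]
    have h2 : g₁ ∈ Subgroup.normalizer (X : Set G) :=
      Subgroup.mem_normalizer_iff_map_conj_eq.mpr h1
    rw [hXeq] at h2
    exact ⟨g₁, hNS h2, 1, Subgroup.one_mem _, (mul_one g₁).symm⟩
  · have hlt : X < S' := lt_of_le_of_ne hXS hXeq
    haveI : Finite S' := inferInstance
    have hT₁ := lt_inf_normalizer_of_lt hS'p hlt
    set N := Subgroup.normalizer (X : Set G) with hN
    set T₁ := S' ⊓ N with hT₁def
    set Y₁ := X.map (MulAut.conj g₁).toMonoidHom with hY₁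
    have hYlt : Y₁ < S' := by
      refine lt_of_le_of_ne hg' ?_
      intro h
      have h1 : Nat.card Y₁ = Nat.card X := card_map_conj X g₁
      have h2 : Nat.card X < Nat.card S' := card_lt_card_of_lt hlt
      rw [h] at h1
      omega
    have hT₂ := lt_inf_normalizer_of_lt hS'p hYlt
    set T₂ := S' ⊓ Subgroup.normalizer (Y₁ : Set G) with hT₂def
    have hT₁M : T₁ ≤ M := inf_le_left.trans hS'M
    have hT₂M : T₂ ≤ M := inf_le_left.trans hS'M
    have hT₁p : IsPGroup p T₁ := hS'p.to_le inf_le_left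
    have hT₂p : IsPGroup p T₂ := hS'p.to_le inf_le_left
    have ihT₁ : Ctrl M T₁ :=
      ih (Nat.card M - Nat.card T₁) (hd ▸ card_sub_lt hT₁ hT₁M) T₁ hT₁p hT₁M rfl
    have hcardY : Nat.card M - Nat.card Y₁ = d := by rw [hY₁, card_map_conj]; exact hd
    have ihT₂ : Ctrl M T₂ :=
      ih (Nat.card M - Nat.card T₂) (hcardY ▸ card_sub_lt hT₂ hT₂M) T₂ hT₂p hT₂M rfl
    obtain ⟨R, hRM, hT₁R⟩ :=
      exists_sylow_normalizer_le hD N hN S hT₁.le inf_le_right inf_le_left ihT₁
    set R' := (R : Subgroup N).map N.subtype with hR'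
    have hXR : X ≤ R' := hT₁.le.trans hT₁R
    have hXltR : X < R' := lt_of_lt_of_le hT₁ hT₁R
    have hR'p : IsPGroup p R' := R.2.map _
    have ihR : Ctrl M R' :=
      ih (Nat.card M - Nat.card R') (hd ▸ card_sub_lt hXltR hRM) R' hR'p hRM rfl
    -- move `T₂` into `N`
    have hT₂N : T₂.map (MulAut.conj g₁⁻¹).toMonoidHom ≤ N := by
      calc T₂.map (MulAut.conj g₁⁻¹).toMonoidHom
          ≤ (Subgroup.normalizer (Y₁ : Set G)).map (MulAut.conj g₁⁻¹).toMonoidHom :=
            Subgroup.map_mono inf_le_right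
        _ = Subgroup.normalizer
              ((Y₁.map (MulAut.conj g₁⁻¹).toMonoidHom : Subgroup G) : Set G) :=
            map_conj_normalizer _ _
        _ = N := by rw [hY₁, map_conj_inv_map_conj]
    have hT₂p' : IsPGroup p (T₂.map (MulAut.conj g₁⁻¹).toMonoidHom) := isPGroup_map_conj hT₂p _
    obtain ⟨Q, hQ⟩ := (hT₂p'.comap_subtype (K := N)).exists_le_sylow
    obtain ⟨n, hn⟩ := MulAction.exists_smul_eq N R Q
    have hT₂R : T₂.map (MulAut.conj g₁⁻¹).toMonoidHom ≤
        R'.map (MulAut.conj (n : G)).toMonoidHom := by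
      rw [hR', ← map_subtype_smul_sylow, hn]
      intro y hy
      exact ⟨⟨y, hT₂N hy⟩, hQ (Subgroup.mem_subgroupOf.mpr hy), rfl⟩
    have hT₂M' : T₂.map (MulAut.conj ((n : G)⁻¹ * g₁⁻¹)).toMonoidHom ≤ M := by
      rw [map_conj_mul]
      have := Subgroup.map_mono (f := (MulAut.conj ((n : G)⁻¹)).toMonoidHom) hT₂R
      rw [map_conj_inv_map_conj] at this
      exact this.trans hRM
    obtain ⟨m₂, hm₂, c₂, hc₂, h2⟩ := ihT₂ ((n : G)⁻¹ * g₁⁻¹) hT₂M'
    have hc₂Y : c₂⁻¹ ∈ Subgroup.centralizer (Y₁ : Set G) :=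
      Subgroup.inv_mem _ (Subgroup.centralizer_le hT₂.le hc₂)
    have hn' : m₂ * g₁ ∈ N := by
      rw [hN]
      apply Subgroup.mem_normalizer_iff_map_conj_eq.mpr
      have hm₂' : m₂ = (n : G)⁻¹ * g₁⁻¹ * c₂⁻¹ := by rw [h2]; group
      have h3 : X.map (MulAut.conj (m₂ * g₁)).toMonoidHom =
          Y₁.map (MulAut.conj m₂).toMonoidHom := by rw [map_conj_mul]
      have h4 : Y₁.map (MulAut.conj m₂).toMonoidHom = X := by
        rw [hm₂', map_conj_mul, map_conj_mul, map_conj_eq_self_of_mem_centralizer hc₂Y, hY₁,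
          map_conj_inv_map_conj]
        exact map_conj_eq_self_of_mem_normalizer X _ (Subgroup.inv_mem _ (hN ▸ n.2))
      exact h3.trans h4
    obtain ⟨m', hm', c', hc', h3⟩ := ctrl_normalizer hD hXp hX1 hXM N hN R hRM hXR ihR hn'
    refine ⟨m₂⁻¹ * m', M.mul_mem (M.inv_mem hm₂) hm', c', hc', ?_⟩
    rw [mul_assoc, ← h3]; group

/-- Bender–Glauberman, Lemma 10.1 (a) and (e), from the hypothesis package. -/
theorem sigma_fusion {p : ℕ} [Fact p.Prime] {M : Subgroup G} (hD : FusionData p M)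
    (X : Subgroup G) (hXp : IsPGroup p X) (hXM : X ≤ M) :
    (∀ g : G, X.map (MulAut.conj g).toMonoidHom ≤ M →
        ∃ m ∈ M, ∃ c ∈ Subgroup.centralizer (X : Set G), g = m * c) ∧
      Subgroup.normalizer (X : Set G) =
        (M ⊓ Subgroup.normalizer (X : Set G)) ⊔ Subgroup.centralizer (X : Set G) := by
  have hC : Ctrl M X := ctrl_all hD _ X hXp hXM rfl
  refine ⟨hC, le_antisymm ?_ ?_⟩
  · intro n hn
    have h1 : X.map (MulAut.conj n).toMonoidHom ≤ M := by
      rw [map_conj_eq_self_of_mem_normalizer X n hn]; exact hXM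
    obtain ⟨m, hm, c, hc, hmc⟩ := hC n h1
    have hcN : c ∈ Subgroup.normalizer (X : Set G) := Subgroup.centralizer_le_normalizer _ hc
    have hmN : m ∈ Subgroup.normalizer (X : Set G) := by
      have : m = n * c⁻¹ := by rw [hmc]; group
      rw [this]
      exact Subgroup.mul_mem _ hn (Subgroup.inv_mem _ hcN)
    rw [hmc]
    exact Subgroup.mul_mem_sup ⟨hm, hmN⟩ hc
  · exact sup_le inf_le_right (Subgroup.centralizer_le_normalizer _)

end Main

end Cfsg.Agent.Lib.Helper34
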