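import Mathlib
import Cfsg.Prelude.Def_OddOrderLocal
import Cfsg.Agent.Lib.Helper34.SigmaFusion
import Cfsg.Agent.Lib.Helper45.RankTools

set_option autoImplicit false
set_option linter.style.haveILetI false
set_option linter.unusedSectionVars false

/-!
Helper34 library: primes outside `σ(M)` in a simple group, conditional on the Uniqueness Theorem
(Bender–Glauberman 10.2(e),(f)-type consequences).  The Uniqueness Theorem enters as the hypothesis
`UniquenessThm G`, so this file does not depend on its proof.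
-/

namespace Cfsg.Agent.Lib.Helper34

open Cfsg

/-- the Uniqueness Theorem (Bender–Glauberman, Theorem 9.6), as a hypothesis -/
def UniquenessThm (G : Type*) [Group G] : Prop :=
  ∀ K : Subgroup G, K ≠ ⊤ → ¬ RankLE 1 K →
    (¬ RankLE 2 K ∨ ¬ RankLE 2 (Subgroup.centralizer (K : Set G))) → InUniqueMaximal K

section

variable {G : Type*} [Group G] [Finite G]

/-- a nontrivial `p`-subgroup has order divisible by `p` -/
theorem dvd_card_of_isPGroup_ne_bot {p : ℕ} [Fact p.Prime] {X : Subgroup G} (hXp : IsPGroup p X)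
    (hX1 : X ≠ ⊥) : p ∣ Nat.card X := by
  obtain ⟨k, hk⟩ := IsPGroup.iff_card.mp hXp
  have hk0 : k ≠ 0 := by
    intro h0
    rw [h0, pow_zero] at hk
    exact hX1 (Subgroup.card_eq_one.mp hk)
  rw [hk]
  exact dvd_pow_self p hk0

/-- every `p`-subgroup of `M` lies in (the image of) a Sylow `p`-subgroup of `M` -/
theorem exists_sylow_map_ge {p : ℕ} [Fact p.Prime] {M X : Subgroup G} (hXp : IsPGroup p X)
    (hXM : X ≤ M) : ∃ P : Sylow p M, X ≤ (P : Subgroup M).map M.subtype := by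
  obtain ⟨P, hP⟩ := (hXp.comap_subtype (K := M)).exists_le_sylow
  refine ⟨P, ?_⟩
  intro x hx
  exact ⟨⟨x, hXM hx⟩, hP (Subgroup.mem_subgroupOf.mpr hx), rfl⟩

/-- In a simple group, if `p ∉ σ(M)` for the maximal subgroup `M`, then no nontrivial `p`-subgroup
of `M` lies in a unique maximal subgroup. -/
theorem not_inUniqueMaximal_of_not_mem_sigma [IsSimpleGroup G] {M : Subgroup G} (hM : IsCoatom M)
    {p : ℕ} [Fact p.Prime] (hp : p ∉ sigma M) {X : Subgroup G} (hXp : IsPGroup p X) (hX1 : X ≠ ⊥)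
    (hXM : X ≤ M) : ¬ InUniqueMaximal X := by
  intro hu
  obtain ⟨P, hXP⟩ := exists_sylow_map_ge hXp hXM
  set P' := (P : Subgroup M).map M.subtype with hP'
  have hP'M : P' ≤ M := Subgroup.map_subtype_le _
  have hNtop : Subgroup.normalizer (P' : Set G) ≠ ⊤ := by
    intro h
    have hn : P'.Normal := Subgroup.normalizer_eq_top_iff.mp h
    rcases hn.eq_bot_or_eq_top with h1 | h1
    · exact hX1 (le_bot_iff.mp (h1 ▸ hXP))
    · exact hM.1 (top_le_iff.mp (h1 ▸ hP'M))
  obtain ⟨L, hL, hNL⟩ := (eq_top_or_exists_le_coatom _).resolve_left hNtop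
  have hLM : L = M :=
    hu.unique ⟨hL, hXP.trans (Subgroup.le_normalizer.trans hNL)⟩ ⟨hM, hXM⟩
  apply hp
  have hNM : Subgroup.normalizer (P' : Set G) ≤ M := hLM ▸ hNL
  refine ⟨Fact.out, ?_, P, hNM⟩
  exact (dvd_card_of_isPGroup_ne_bot hXp hX1).trans (Subgroup.card_dvd_of_le hXM)

/-- an elementary abelian `p`-subgroup is a `p`-group -/
theorem isPGroup_of_isElementaryAbelian {p : ℕ} {A : Subgroup G} (hA : IsElementaryAbelian p A) :
    IsPGroup p A := by
  intro x
  refine ⟨1, ?_⟩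
  apply Subtype.ext
  simpa using hA.2 x.1 x.2

/-- a subgroup `A` with an elementary abelian structure of order `> p ^ k` has `¬ RankLE k A` -/
theorem not_rankLE_of_isElementaryAbelian {p : ℕ} [Fact p.Prime] {k : ℕ} {A K : Subgroup G}
    (hA : IsElementaryAbelian p A) (hAK : A ≤ K) (hc : p ^ k < Nat.card A) : ¬ RankLE k ↥K := by
  intro h
  exact (Cfsg.Agent.Lib.Helper45.not_pRankLE_subgroup_iff k K).mpr ⟨A, hAK, hA, hc⟩
    (h p Fact.out)

/-- **BG 10.2(e), second half**: with the Uniqueness Theorem, if `p ∉ σ(M)` then every elementary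
abelian subgroup of order `p ^ 2` of `M` is maximal among elementary abelian `p`-subgroups of `G`. -/
theorem eq_of_le_isElementaryAbelian [IsSimpleGroup G] (hU : UniquenessThm G) {M : Subgroup G}
    (hM : IsCoatom M) {p : ℕ} [Fact p.Prime] (hp : p ∉ sigma M) {A : Subgroup G} (hAM : A ≤ M)
    (hAe : IsElementaryAbelian p A) (hAc : Nat.card A = p ^ 2) {B : Subgroup G}
    (hBe : IsElementaryAbelian p B) (hAB : A ≤ B) : B = A := by
  have hpp : p.Prime := Fact.out
  by_contra hne
  have hlt : A < B := lt_of_le_of_ne hAB (Ne.symm hne)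
  have hcard : p ^ 2 < Nat.card B := hAc ▸ card_lt_card_of_lt hlt
  have hA1 : A ≠ ⊥ := by
    intro h
    rw [h, Subgroup.card_bot] at hAc
    have : 1 < p ^ 2 := Nat.one_lt_pow (by norm_num) hpp.one_lt
    omega
  have hAtop : A ≠ ⊤ := fun h => hM.1 (top_le_iff.mp (h ▸ hAM))
  have hr1 : ¬ RankLE 1 ↥A := by
    apply not_rankLE_of_isElementaryAbelian hAe le_rfl
    rw [hAc]
    exact Nat.pow_lt_pow_right hpp.one_lt (by norm_num)
  have hBC : B ≤ Subgroup.centralizer (A : Set G) := by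
    intro b hb
    rw [Subgroup.mem_centralizer_iff]
    intro a ha
    exact Cfsg.Agent.Lib.Helper45.IsElementaryAbelian_comm hBe (hAB ha) hb
  have hr2 : ¬ RankLE 2 ↥(Subgroup.centralizer (A : Set G)) :=
    not_rankLE_of_isElementaryAbelian hBe hBC hcard
  exact not_inUniqueMaximal_of_not_mem_sigma hM hp (isPGroup_of_isElementaryAbelian hAe) hA1 hAM
    (hU A hAtop hr1 (Or.inr hr2))

/-- a `p`-group of order at least `p ^ 2` has a subgroup of order `p ^ 2` -/
theorem exists_le_card_eq_sq {p : ℕ} [Fact p.Prime] {F : Subgroup G} (hF : IsPGroup p F)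
    (hc : p < Nat.card F) : ∃ A : Subgroup G, A ≤ F ∧ Nat.card A = p ^ 2 := by
  have hpp : p.Prime := Fact.out
  obtain ⟨k, hk⟩ := IsPGroup.iff_card.mp hF
  have hk2 : 2 ≤ k := by
    by_contra hlt
    have hk1 : k ≤ 1 := by omega
    have : p ^ k ≤ p ^ 1 := Nat.pow_le_pow_right hpp.pos hk1
    rw [pow_one] at this
    omega
  obtain ⟨A', hA'⟩ := Sylow.exists_subgroup_card_pow_prime (G := F) p
    (show p ^ 2 ∣ Nat.card F from hk ▸ pow_dvd_pow p hk2)
  refine ⟨A'.map F.subtype, Subgroup.map_subtype_le _, ?_⟩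
  rw [Subgroup.card_map_of_injective F.subtype_injective]
  exact hA'

/-- **BG 10.2(e), first half**: with the Uniqueness Theorem, if `p ∉ σ(M)` and `M` has `p`-rank at
least two, then `p` is not an ideal prime. -/
theorem not_isIdealPrime_of_not_mem_sigma [IsSimpleGroup G] (hU : UniquenessThm G) {M : Subgroup G}
    (hM : IsCoatom M) {p : ℕ} [Fact p.Prime] (hp : p ∉ sigma M) (hr1 : ¬ PRankLE p 1 ↥M) :
    ¬ IsIdealPrime p G := by
  rintro ⟨_, _, hideal⟩
  obtain ⟨F, hFM, hFe, hFc⟩ := (Cfsg.Agent.Lib.Helper45.not_pRankLE_subgroup_iff 1 M).mp hr1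
  rw [pow_one] at hFc
  obtain ⟨A, hAF, hAc⟩ := exists_le_card_eq_sq (isPGroup_of_isElementaryAbelian hFe) hFc
  have hAe : IsElementaryAbelian p A := Cfsg.Agent.Lib.Helper45.isElementaryAbelian_of_le hFe hAF
  obtain ⟨S, hS⟩ := (isPGroup_of_isElementaryAbelian hAe).exists_le_sylow
  obtain ⟨B, _, hBe, hAB⟩ := hideal S A hS hAe hAc
  exact hAB.ne' (eq_of_le_isElementaryAbelian hU hM hp (hAF.trans hFM) hAe hAc hBe hAB.le)

/-- with the Uniqueness Theorem, `p ∉ σ(M)` forces `M` to have `p`-rank at most two -/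
theorem pRankLE_two_of_not_mem_sigma [IsSimpleGroup G] (hU : UniquenessThm G) {M : Subgroup G}
    (hM : IsCoatom M) {p : ℕ} [Fact p.Prime] (hp : p ∉ sigma M) : PRankLE p 2 ↥M := by
  have hpp : p.Prime := Fact.out
  by_contra h
  obtain ⟨F, hFM, hFe, hFc⟩ := (Cfsg.Agent.Lib.Helper45.not_pRankLE_subgroup_iff 2 M).mp h
  have hF1 : F ≠ ⊥ := by
    intro h0
    rw [h0, Subgroup.card_bot] at hFc
    have : 1 ≤ p ^ 2 := Nat.one_le_pow _ _ hpp.pos
    omega
  have hFtop : F ≠ ⊤ := fun h0 => hM.1 (top_le_iff.mp (h0 ▸ hFM))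
  have h1 : ¬ RankLE 1 ↥F := by
    apply not_rankLE_of_isElementaryAbelian hFe le_rfl
    have : p ^ 1 < p ^ 2 := Nat.pow_lt_pow_right hpp.one_lt (by norm_num)
    omega
  have h2 : ¬ RankLE 2 ↥F := not_rankLE_of_isElementaryAbelian hFe le_rfl hFc
  exact not_inUniqueMaximal_of_not_mem_sigma hM hp (isPGroup_of_isElementaryAbelian hFe) hF1 hFM
    (hU F hFtop h1 (Or.inl h2))

/-- In a finite `p`-group `P`, a subgroup `X` of order `p` either commutes with an element of order
`p` of `P` outside `X`, or contains every element of order dividing `p` of `P`. -/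
theorem exists_commuting_or_forall_mem {p : ℕ} [Fact p.Prime] {P X : Subgroup G}
    (hP : IsPGroup p P) (hXP : X ≤ P) (hXc : Nat.card X = p) :
    (∃ y ∈ P, y ∉ X ∧ y ^ p = 1 ∧ ∀ x ∈ X, x * y = y * x) ∨ ∀ y ∈ P, y ^ p = 1 → y ∈ X := by
  have hpp : p.Prime := Fact.out
  by_cases h : ∃ y ∈ P, y ∉ X ∧ y ^ p = 1 ∧ ∀ x ∈ X, x * y = y * x
  · exact Or.inl h
  right
  have h : ∀ y ∈ P, y ^ p = 1 → (∀ x ∈ X, x * y = y * x) → y ∈ X := by
    intro y hy hyp hyc
    by_contra hyX
    exact h ⟨y, hy, hyX, hyp, hyc⟩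
  have hX1 : X ≠ ⊥ := by
    intro h0
    rw [h0, Subgroup.card_bot] at hXc
    exact hpp.one_lt.ne hXc
  haveI : Nontrivial ↥P := by
    rw [← Subgroup.nontrivial_iff_ne_bot] at hX1
    obtain ⟨⟨a, ha⟩, ⟨b, hb⟩, hab⟩ := hX1
    exact ⟨⟨⟨a, hXP ha⟩, ⟨b, hXP hb⟩, fun h0 => hab (Subtype.ext (congrArg (fun t : P => (t : G)) h0))⟩⟩
  haveI : Nontrivial ↥(Subgroup.center ↥P) := hP.center_nontrivial
  have hZp : IsPGroup p ↥(Subgroup.center ↥P) := hP.to_subgroup _
  have hdvd : p ∣ Nat.card ↥(Subgroup.center ↥P) := by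
    obtain ⟨k, hk⟩ := IsPGroup.iff_card.mp hZp
    have hk0 : k ≠ 0 := by
      intro h0
      rw [h0, pow_zero] at hk
      have := Finite.one_lt_card (α := ↥(Subgroup.center ↥P))
      omega
    rw [hk]
    exact dvd_pow_self p hk0
  obtain ⟨z, hz⟩ := exists_prime_orderOf_dvd_card' p hdvd
  -- `z` is a central element of order `p` of `P`
  have hzP : ((z : ↥P) : G) ∈ P := (z : ↥P).2
  have hzord : orderOf ((z : ↥P) : G) = p := by
    rw [← hz, Subgroup.orderOf_coe, Subgroup.orderOf_coe]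
  have hzcomm : ∀ t ∈ P, t * ((z : ↥P) : G) = ((z : ↥P) : G) * t := by
    intro t ht
    have := (Subgroup.mem_center_iff.mp z.2) ⟨t, ht⟩
    exact congrArg (fun t : P => (t : G)) this
  have hzX : ((z : ↥P) : G) ∈ X := by
    refine h _ hzP ?_ (fun x hx => hzcomm x (hXP hx))
    rw [← hzord]; exact pow_orderOf_eq_one _
  have hXeq : X = Subgroup.zpowers ((z : ↥P) : G) := by
    symm
    apply Subgroup.eq_of_le_of_card_ge
    · rw [Subgroup.zpowers_le]; exact hzX
    · rw [Nat.card_zpowers, hzord, hXc]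
  intro y hy hyp
  refine h y hy hyp ?_
  intro x hx
  rw [hXeq, Subgroup.mem_zpowers_iff] at hx
  obtain ⟨k, rfl⟩ := hx
  have : Commute y ((z : ↥P) : G) := hzcomm y hy
  exact (this.zpow_right k).eq.symm

/-- if `X` contains every element of order dividing `p` of the `p`-group `P`, then `N_G(P)`
normalizes `X` -/
theorem normalizer_le_normalizer_of_forall_mem {p : ℕ} {P X : Subgroup G} (hXP : X ≤ P)
    (hXe : ∀ x ∈ X, x ^ p = 1) (h : ∀ y ∈ P, y ^ p = 1 → y ∈ X) :
    Subgroup.normalizer (P : Set G) ≤ Subgroup.normalizer (X : Set G) := by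
  have key : ∀ g ∈ Subgroup.normalizer (P : Set G), ∀ x ∈ X, g * x * g⁻¹ ∈ X := by
    intro g hg x hx
    apply h
    · exact (Subgroup.mem_normalizer_iff.mp hg x).mp (hXP hx)
    · rw [conj_pow, hXe x hx]; simp
  intro g hg
  rw [Subgroup.mem_normalizer_iff]
  intro x
  constructor
  · exact key g hg x
  · intro hx
    have := key g⁻¹ (Subgroup.inv_mem _ hg) _ hx
    simpa [mul_assoc] using this

/-- a subgroup of prime order `p` is elementary abelian -/
theorem isElementaryAbelian_of_card_eq_prime {p : ℕ} [Fact p.Prime] {X : Subgroup G}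
    (hXc : Nat.card X = p) : IsElementaryAbelian p X := by
  haveI : IsCyclic ↥X := isCyclic_of_prime_card hXc
  refine ⟨⟨⟨fun a b => ?_⟩⟩, fun a ha => ?_⟩
  · exact IsCyclic.commGroup.mul_comm a b
  · have h1 : (⟨a, ha⟩ : X) ^ Nat.card X = 1 := pow_card_eq_one'
    rw [hXc] at h1
    exact congrArg Subtype.val h1

/-- the cyclic subgroup generated by an element of order dividing `p` is elementary abelian -/
theorem isElementaryAbelian_zpowers {p : ℕ} {y : G} (hy : y ^ p = 1) :
    IsElementaryAbelian p (Subgroup.zpowers y) := by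
  refine ⟨⟨⟨fun a b => ?_⟩⟩, fun a ha => ?_⟩
  · obtain ⟨a, ha⟩ := a
    obtain ⟨b, hb⟩ := b
    apply Subtype.ext
    rw [Subgroup.mem_zpowers_iff] at ha hb
    obtain ⟨k, rfl⟩ := ha
    obtain ⟨l, rfl⟩ := hb
    change y ^ k * y ^ l = y ^ l * y ^ k
    rw [← zpow_add, ← zpow_add, add_comm]
  · rw [Subgroup.mem_zpowers_iff] at ha
    obtain ⟨k, rfl⟩ := ha
    rw [← zpow_natCast, ← zpow_mul, mul_comm, zpow_mul, zpow_natCast, hy, one_zpow]

/-- **BG 10.2(f)-type**: with the Uniqueness Theorem, if `p ∉ σ(M)` and `X ≤ G` has order `p` with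
`N_G(X) ≤ M`, then `X` lies in an elementary abelian subgroup of order `p ^ 2` of `M`. -/
theorem exists_isElementaryAbelian_sq_ge [IsSimpleGroup G] (hU : UniquenessThm G) {M : Subgroup G}
    (hM : IsCoatom M) {p : ℕ} [Fact p.Prime] (hp : p ∉ sigma M) {X : Subgroup G}
    (hXc : Nat.card X = p) (hNX : Subgroup.normalizer (X : Set G) ≤ M) :
    ∃ A : Subgroup G, A ≤ M ∧ IsElementaryAbelian p A ∧ Nat.card A = p ^ 2 ∧ X ≤ A := by
  have hpp : p.Prime := Fact.out
  have hXM : X ≤ M := Subgroup.le_normalizer.trans hNX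
  have hXe : IsElementaryAbelian p X := isElementaryAbelian_of_card_eq_prime hXc
  have hXp : IsPGroup p X := isPGroup_of_isElementaryAbelian hXe
  have hX1 : X ≠ ⊥ := by
    intro h0
    rw [h0, Subgroup.card_bot] at hXc
    exact hpp.one_lt.ne hXc
  obtain ⟨P, hXP⟩ := exists_sylow_map_ge hXp hXM
  set P' := (P : Subgroup M).map M.subtype with hP'
  have hP'M : P' ≤ M := Subgroup.map_subtype_le _
  have hP'p : IsPGroup p P' := P.2.map _
  rcases exists_commuting_or_forall_mem hP'p hXP hXc with ⟨y, hyP, hyX, hyp, hyc⟩ | hall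
  · set A := X ⊔ Subgroup.zpowers y with hA
    have hAe : IsElementaryAbelian p A := by
      apply Cfsg.Agent.Lib.Helper45.isElementaryAbelian_sup hXe (isElementaryAbelian_zpowers hyp)
      intro a ha b hb
      rw [Subgroup.mem_zpowers_iff] at hb
      obtain ⟨k, rfl⟩ := hb
      have : Commute a y := hyc a ha
      exact (this.zpow_right k).eq
    have hAM : A ≤ M := sup_le hXM (by rw [Subgroup.zpowers_le]; exact hP'M hyP)
    have hXA : X < A := by
      refine lt_of_le_of_ne le_sup_left ?_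
      intro h0
      apply hyX
      rw [h0]
      exact (le_sup_right : Subgroup.zpowers y ≤ A) (Subgroup.mem_zpowers y)
    have hlt : p < Nat.card A := hXc ▸ card_lt_card_of_lt hXA
    have hle : Nat.card A ≤ p ^ 2 := by
      have h2 := pRankLE_two_of_not_mem_sigma hU hM hp
      by_contra hcon
      exact (Cfsg.Agent.Lib.Helper45.not_pRankLE_subgroup_iff 2 M).mpr
        ⟨A, hAM, hAe, not_le.mp hcon⟩ h2
    refine ⟨A, hAM, hAe, ?_, le_sup_left⟩
    obtain ⟨k, hk⟩ := IsPGroup.iff_card.mp (isPGroup_of_isElementaryAbelian hAe)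
    rw [hk] at hlt hle ⊢
    have hk1 : 1 < k := by
      by_contra hcon
      have : p ^ k ≤ p ^ 1 := Nat.pow_le_pow_right hpp.pos (by omega)
      rw [pow_one] at this
      omega
    have hk2 : k ≤ 2 := (Nat.pow_le_pow_iff_right hpp.one_lt).mp hle
    have : k = 2 := by omega
    rw [this]
  · exfalso
    apply hp
    refine ⟨hpp, ?_, P, ?_⟩
    · exact (dvd_card_of_isPGroup_ne_bot hXp hX1).trans (Subgroup.card_dvd_of_le hXM)
    · exact (normalizer_le_normalizer_of_forall_mem hXP hXe.2 hall).trans hNX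

end

end Cfsg.Agent.Lib.Helper34
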