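import Mathlib
import Cfsg.Prelude.Def_OddOrderLocal
import Cfsg.Agent.Lib.Helper49.RankOneCyclic

set_option autoImplicit false
set_option linter.style.haveILetI false
set_option linter.unusedSectionVars false

/-!
Helper34 library: groups with nilpotent derived subgroup and cyclic Sylow subgroups for some primes
(used for Bender–Glauberman Lemma 12.1 on complements of `M_σ`).
-/

namespace Cfsg.Agent.Lib.Helper34

open Cfsg
open scoped Pointwise

section TypeLevel

variable {E : Type*} [Group E] [Finite E]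

/-- a subgroup with cyclic Sylow subgroups whose order is coprime to the order of the derived
subgroup is cyclic -/
theorem isCyclic_of_coprime_commutator (H : Subgroup E) [IsZGroup H]
    (hcop : (Nat.card H).Coprime (Nat.card (commutator E))) : IsCyclic H := by
  have hbot : H ⊓ commutator E = ⊥ := by
    rw [← Subgroup.card_eq_one]
    have h1 : Nat.card ↥(H ⊓ commutator E) ∣ Nat.card H := Subgroup.card_dvd_of_le inf_le_left
    have h2 : Nat.card ↥(H ⊓ commutator E) ∣ Nat.card (commutator E) :=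
      Subgroup.card_dvd_of_le inf_le_right
    exact Nat.eq_one_of_dvd_coprimes hcop h1 h2
  have hcomm : ∀ a b : H, a * b = b * a := by
    intro a b
    have h1 : (a : E) * b * (a : E)⁻¹ * (b : E)⁻¹ ∈ H ⊓ commutator E := by
      refine ⟨H.mul_mem (H.mul_mem (H.mul_mem a.2 b.2) (H.inv_mem a.2)) (H.inv_mem b.2), ?_⟩
      rw [commutator_def]
      exact Subgroup.commutator_mem_commutator (Subgroup.mem_top _) (Subgroup.mem_top _)
    rw [hbot, Subgroup.mem_bot] at h1
    apply Subtype.ext
    have : (a : E) * b = b * a := by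
      have h2 := congrArg (fun t => t * (b : E) * (a : E)) h1
      simpa [mul_assoc] using h2
    exact this
  letI : CommGroup H := { (inferInstance : Group H) with mul_comm := hcomm }
  infer_instance

/-- a subgroup all of whose prime divisors `p` have cyclic Sylow `p`-subgroups in `E` and divide the
order of the derived subgroup lies in the derived subgroup -/
theorem le_commutator_of_forall_cyclic (H : Subgroup E)
    (h : ∀ p : ℕ, ∀ _ : Fact p.Prime, p ∣ Nat.card H →
      (∀ P : Sylow p E, IsCyclic P) ∧ p ∣ Nat.card (commutator E)) :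
    H ≤ commutator E := by
  rw [← Subgroup.relIndex_eq_one]
  by_contra hne
  obtain ⟨p, hp, hpd⟩ := Nat.exists_prime_and_dvd hne
  haveI : Fact p.Prime := ⟨hp⟩
  have h1 : p ∣ Nat.card H := hpd.trans (Subgroup.relIndex_dvd_card _ _)
  obtain ⟨hcyc, hpc⟩ := h p ⟨hp⟩ h1
  have h2 : p ∣ (commutator E).index :=
    hpd.trans (Subgroup.relIndex_dvd_index_of_normal (commutator E) H)
  haveI := hcyc default
  rcases Sylow.not_dvd_card_commutator_or_not_dvd_index_commutator (default : Sylow p E) with h3 | h3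
  · exact h3 hpc
  · exact h3 h2

/-- in a finite nilpotent group, a subgroup whose order is coprime to its index is the only subgroup
of its order -/
theorem eq_of_card_eq_of_isNilpotent [Group.IsNilpotent E] (H K : Subgroup E)
    (hcard : Nat.card K = Nat.card H) (hHall : (Nat.card H).Coprime H.index) : K = H := by
  have hH0 : Nat.card H ≠ 0 := Nat.card_pos.ne'
  have hindex : K.index = H.index := by
    have h1 := Subgroup.card_mul_index H
    have h2 := Subgroup.card_mul_index K
    rw [hcard, ← h1] at h2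
    exact Nat.eq_of_mul_eq_mul_left (Nat.pos_of_ne_zero hH0) h2
  -- for each prime `p` dividing `|H|`, the Sylow `p`-subgroup of `E` lies in any subgroup of
  -- order `|H|`
  have key : ∀ L : Subgroup E, Nat.card L = Nat.card H → ∀ p : ℕ, ∀ _ : Fact p.Prime,
      p ∣ Nat.card H → ∀ S : Sylow p E, (S : Subgroup E) ≤ L := by
    intro L hL p hp hpH S
    haveI := hp
    have hLindex : L.index = H.index := by
      have h1 := Subgroup.card_mul_index H
      have h2 := Subgroup.card_mul_index L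
      rw [hL, ← h1] at h2
      exact Nat.eq_of_mul_eq_mul_left (Nat.pos_of_ne_zero hH0) h2
    have hpi : ¬ p ∣ L.index := by
      rw [hLindex]
      intro hpi
      have := Nat.dvd_gcd hpH hpi
      rw [hHall.gcd_eq_one] at this
      exact hp.out.one_lt.ne' (Nat.dvd_one.mp this)
    obtain ⟨Q⟩ : Nonempty (Sylow p L) := inferInstance
    -- the image of `Q` in `E` is a Sylow subgroup of `E`
    have hQp : IsPGroup p ((Q : Subgroup L).map L.subtype) := Q.2.map _
    obtain ⟨S', hS'⟩ := hQp.exists_le_sylow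
    have hcardQ : Nat.card ((Q : Subgroup L).map L.subtype) = Nat.card S' := by
      rw [Subgroup.card_map_of_injective L.subtype_injective, Sylow.card_eq_multiplicity,
        Sylow.card_eq_multiplicity]
      congr 1
      have h1 := Subgroup.card_mul_index L
      rw [← h1, Nat.factorization_mul Nat.card_pos.ne' (Subgroup.index_ne_zero_of_finite)]
      simp [Nat.factorization_eq_zero_of_not_dvd hpi]
    have hQS' : (Q : Subgroup L).map L.subtype = S' :=
      Subgroup.eq_of_le_of_card_ge hS' hcardQ.ge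
    have hSS' : S = S' := by
      haveI : (S : Subgroup E).Normal := inferInstance
      letI := Sylow.unique_of_normal S inferInstance
      exact Subsingleton.elim _ _
    rw [hSS', ← hQS']
    exact Subgroup.map_subtype_le _
  -- hence `|H|` divides `|H ⊓ K|`
  have hdvd : Nat.card H ∣ Nat.card ↥(H ⊓ K) := by
    rw [← Nat.factorization_prime_le_iff_dvd hH0 Nat.card_pos.ne']
    intro p hp
    haveI : Fact p.Prime := ⟨hp⟩
    by_cases hpH : p ∣ Nat.card H
    · obtain ⟨S⟩ : Nonempty (Sylow p E) := inferInstance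
      have hS : (S : Subgroup E) ≤ H ⊓ K :=
        le_inf (key H rfl p ⟨hp⟩ hpH S) (key K hcard p ⟨hp⟩ hpH S)
      have h1 : Nat.card S ∣ Nat.card ↥(H ⊓ K) := Subgroup.card_dvd_of_le hS
      rw [Sylow.card_eq_multiplicity] at h1
      have h2 : (Nat.card H).factorization p ≤ (Nat.card E).factorization p := by
        have := Subgroup.card_subgroup_dvd_card H
        exact (Nat.factorization_le_iff_dvd hH0 Nat.card_pos.ne').mpr this p
      have h3 := (hp.pow_dvd_iff_le_factorization Nat.card_pos.ne').mp h1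
      omega
    · rw [Nat.factorization_eq_zero_of_not_dvd hpH]
      exact Nat.zero_le _
  have hle : H ≤ K := by
    have h1 : H ⊓ K = H := by
      apply Subgroup.eq_of_le_of_card_ge inf_le_left
      exact Nat.le_of_dvd Nat.card_pos hdvd
    exact h1 ▸ inf_le_right
  exact (Subgroup.eq_of_le_of_card_ge hle hcard.le).symm

end TypeLevel

section Rank

/-- the `p`-rank bound passes along injective homomorphisms -/
theorem pRankLE_of_injective {A B : Type*} [Group A] [Group B] (f : A →* B)
    (hf : Function.Injective f) {p k : ℕ} (h : PRankLE p k B) : PRankLE p k A := by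
  intro X hXc hXe
  have h1 := h (X.map f) (Subgroup.map_isMulCommutative X f) (by
    rintro _ ⟨a, ha, rfl⟩
    rw [← map_pow, hXe a ha, map_one])
  rwa [Subgroup.card_map_of_injective hf] at h1

/-- the `p`-rank bound passes to smaller subgroups -/
theorem pRankLE_of_le {G : Type*} [Group G] {K M : Subgroup G} (hKM : K ≤ M) {p k : ℕ}
    (h : PRankLE p k ↥M) : PRankLE p k ↥K :=
  pRankLE_of_injective (Subgroup.inclusion hKM) (Subgroup.inclusion_injective hKM) h

end Rank

section SubgroupLevel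

variable {G : Type*} [Group G] [Finite G]

/-- Sylow subgroups of a subgroup `K ≤ M` of an odd-order group are cyclic for primes `p` with `M` of
`p`-rank at most one -/
theorem isCyclic_sylow_of_pRankLE_one (hodd : Odd (Nat.card G)) {K M : Subgroup G} (hKM : K ≤ M)
    {p : ℕ} [Fact p.Prime] (h : PRankLE p 1 ↥M) (P : Sylow p ↥K) : IsCyclic ↥(P : Subgroup ↥K) := by
  by_cases hp2 : p = 2
  · subst hp2
    have h1 : Nat.card ↥(P : Subgroup ↥K) ∣ Nat.card G :=
      (Subgroup.card_subgroup_dvd_card _).trans (Subgroup.card_subgroup_dvd_card K)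
    have h2 : Odd (Nat.card ↥(P : Subgroup ↥K)) := Odd.of_dvd_nat hodd h1
    obtain ⟨n, hn⟩ := IsPGroup.iff_card.mp P.2
    have hn0 : n = 0 := by
      by_contra h0
      rw [hn] at h2
      exact (Nat.not_even_iff_odd.mpr h2) (Nat.even_pow.mpr ⟨even_two, h0⟩)
    rw [hn0, pow_zero] at hn
    haveI : Subsingleton ↥(P : Subgroup ↥K) := (Nat.card_eq_one_iff_unique.mp hn).1
    infer_instance
  exact Cfsg.Agent.Lib.Helper49.isCyclic_of_pRankLE_one hp2 P.2
    (pRankLE_of_injective ((Subgroup.inclusion hKM).comp (P : Subgroup ↥K).subtype)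
      ((Subgroup.inclusion_injective hKM).comp (Subgroup.subtype_injective _)) h)

/-- projection of `M` onto a complement `E` of a normal subgroup `S` of `M`: a homomorphism which is
the identity on `E` -/
theorem exists_projection {M E S : Subgroup G} (hE : IsComplIn E S M)
    (hSn : M ≤ Subgroup.normalizer (S : Set G)) :
    ∃ π : ↥M →* ↥E, ∀ (m : ↥M) (hm : (m : G) ∈ E), π m = ⟨m, hm⟩ := by
  obtain ⟨hEM, hSM, hES, hprod⟩ := hE
  set H := E.subgroupOf M with hH
  set K := S.subgroupOf M with hK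
  haveI : K.Normal := Subgroup.normal_subgroupOf_of_le_normalizer hSn
  have hdisj : Disjoint H K := by
    rw [Subgroup.disjoint_def]
    intro x hxH hxK
    have h1 : (x : G) ∈ E ⊓ S := ⟨Subgroup.mem_subgroupOf.mp hxH, Subgroup.mem_subgroupOf.mp hxK⟩
    rw [hES, Subgroup.mem_bot] at h1
    exact Subtype.ext h1
  have hmul : (H : Set ↥M) * (K : Set ↥M) = Set.univ := by
    rw [Set.eq_univ_iff_forall]
    intro m
    obtain ⟨a, ha, b, hb, hab⟩ := hprod m m.2
    refine ⟨⟨a, hEM ha⟩, Subgroup.mem_subgroupOf.mpr ha, ⟨b, hSM hb⟩,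
      Subgroup.mem_subgroupOf.mpr hb, ?_⟩
    exact Subtype.ext hab.symm
  have hc : H.IsComplement' K := Subgroup.isComplement'_of_disjoint_and_mul_eq_univ hdisj hmul
  let e : ↥M ⧸ K ≃* ↥H := hc.QuotientMulEquiv
  let f : ↥H →* ↥E := (Subgroup.subgroupOfEquivOfLe hEM).toMonoidHom
  refine ⟨f.comp (e.toMonoidHom.comp (QuotientGroup.mk' K)), ?_⟩
  intro m hm
  have h1 : e (QuotientGroup.mk m) = ⟨m, Subgroup.mem_subgroupOf.mpr hm⟩ := by
    rw [← MulEquiv.eq_symm_apply]
    rfl
  change f (e (QuotientGroup.mk m)) = _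
  rw [h1]
  rfl

/-- Dedekind-type identity: `E ∩ M' ≤ E'` for a complement `E` of a normal subgroup of `M` -/
theorem inf_commutator_le_of_isComplIn {M E S : Subgroup G} (hE : IsComplIn E S M)
    (hSn : M ≤ Subgroup.normalizer (S : Set G)) : E ⊓ ⁅M, M⁆ ≤ ⁅E, E⁆ := by
  obtain ⟨π, hπ⟩ := exists_projection hE hSn
  rintro x ⟨hxE, hxM⟩
  have hxM' : x ∈ M := hE.1 hxE
  have h1 : (⟨x, hxM'⟩ : ↥M) ∈ commutator ↥M := by
    rw [← Subgroup.map_subtype_commutator] at hxM
    obtain ⟨y, hy, hyx⟩ := hxM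
    have : y = ⟨x, hxM'⟩ := Subtype.ext hyx
    rwa [← this]
  have h2 : π ⟨x, hxM'⟩ ∈ commutator ↥E := by
    have h3 : (commutator ↥M).map π ≤ commutator ↥E := by
      rw [commutator_def, Subgroup.map_commutator, commutator_def]
      exact Subgroup.commutator_mono le_top le_top
    exact h3 ⟨_, h1, rfl⟩
  rw [hπ ⟨x, hxM'⟩ hxE] at h2
  rw [← Subgroup.map_subtype_commutator]
  exact ⟨⟨x, hxE⟩, h2, rfl⟩

/-- a Hall `π`-subgroup has order coprime to its relative index -/
theorem coprime_card_relIndex_of_isPiHallOf {π : Set ℕ} {H K : Subgroup G}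
    (h : IsPiHallOf π H K) : (Nat.card H).Coprime (H.relIndex K) :=
  Nat.coprime_of_dvd fun k hk hkd => h.2.2 k hk (h.2.1 k hk hkd)

/-- if all Sylow subgroups of `K ≤ M` for primes dividing `|K|` come from primes with `M` of rank at
most one, then `K` is a Z-group -/
theorem isZGroup_of_forall_pRankLE_one (hodd : Odd (Nat.card G)) {K M : Subgroup G} (hKM : K ≤ M)
    (h : ∀ p : ℕ, p.Prime → p ∣ Nat.card K → PRankLE p 1 ↥M) : IsZGroup ↥K := by
  refine ⟨fun p hp P => ?_⟩
  haveI : Fact p.Prime := ⟨hp⟩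
  by_cases hpd : p ∣ Nat.card K
  · exact isCyclic_sylow_of_pRankLE_one hodd hKM (h p hp hpd) P
  · have h1 : Nat.card ↥(P : Subgroup ↥K) = 1 := by
      rw [Sylow.card_eq_multiplicity, Nat.factorization_eq_zero_of_not_dvd hpd, pow_zero]
    haveI : Subsingleton ↥(P : Subgroup ↥K) := (Nat.card_eq_one_iff_unique.mp h1).1
    infer_instance

/-- `E` normalizes its derived subgroup -/
theorem conj_mem_commutator_self {E : Subgroup G} {g x : G} (hg : g ∈ E) (hx : x ∈ ⁅E, E⁆) :
    g * x * g⁻¹ ∈ ⁅E, E⁆ := by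
  rw [← Subgroup.map_subtype_commutator] at hx ⊢
  obtain ⟨y, hy, rfl⟩ := hx
  have hn : (commutator ↥E).Normal := inferInstance
  exact ⟨⟨g, hg⟩ * y * ⟨g, hg⟩⁻¹, hn.conj_mem y hy ⟨g, hg⟩, rfl⟩

/-- **Bender–Glauberman, Lemma 12.1** in abstract form: `E` a complement in `M` of a normal subgroup
`S` of `M`, with `E'` nilpotent; Hall subgroups of `E` for primes `p` with `r_p(M) ≤ 1`. -/
theorem sigma_compl_structure (hodd : Odd (Nat.card G)) {M E S : Subgroup G} (hE : IsComplIn E S M)
    (hSn : M ≤ Subgroup.normalizer (S : Set G)) (hnil : Group.IsNilpotent ↥⁅E, E⁆)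
    (τ₁ τ₃ : Set ℕ)
    (h1 : ∀ p ∈ τ₁, PRankLE p 1 ↥M ∧ ¬ p ∣ Nat.card ↥⁅M, M⁆)
    (h3 : ∀ p ∈ τ₃, PRankLE p 1 ↥M ∧ p ∣ Nat.card ↥⁅M, M⁆) :
    (∀ E₁ : Subgroup G, IsPiHallOf τ₁ E₁ E → IsCyclic E₁) ∧
      ∀ E₃ : Subgroup G, IsPiHallOf τ₃ E₃ E →
        IsCyclic E₃ ∧ E₃ ≤ ⁅E, E⁆ ∧ E ≤ Subgroup.normalizer (E₃ : Set G) := by
  have hEM : E ≤ M := hE.1
  have hcardE' : Nat.card ↥(commutator ↥E) = Nat.card ↥⁅E, E⁆ := by
    rw [← Subgroup.map_subtype_commutator, Subgroup.card_map_of_injective E.subtype_injective]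
  have hcardM' : Nat.card ↥(commutator ↥M) = Nat.card ↥⁅M, M⁆ := by
    rw [← Subgroup.map_subtype_commutator, Subgroup.card_map_of_injective M.subtype_injective]
  constructor
  · intro E₁ hE₁
    have hE₁E : E₁ ≤ E := hE₁.1
    haveI hz : IsZGroup ↥E₁ := isZGroup_of_forall_pRankLE_one hodd (hE₁E.trans hEM)
      (fun p hp hpd => (h1 p (hE₁.2.1 p hp hpd)).1)
    let e : ↥(E₁.subgroupOf E) ≃* ↥E₁ := Subgroup.subgroupOfEquivOfLe hE₁E
    haveI : IsZGroup ↥(E₁.subgroupOf E) := IsZGroup.of_injective (f := e.toMonoidHom) e.injective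
    have hcop : (Nat.card ↥(E₁.subgroupOf E)).Coprime (Nat.card ↥(commutator ↥E)) := by
      rw [Nat.card_congr e.toEquiv, hcardE']
      refine Nat.coprime_of_dvd fun k hk hkd hkc => ?_
      exact (h1 k (hE₁.2.1 k hk hkd)).2
        (hkc.trans (Subgroup.card_dvd_of_le (Subgroup.commutator_mono hEM hEM)))
    haveI := isCyclic_of_coprime_commutator (E₁.subgroupOf E) hcop
    exact isCyclic_of_surjective e.toMonoidHom e.surjective
  · intro E₃ hE₃
    have hE₃E : E₃ ≤ E := hE₃.1
    have hE₃M : E₃ ≤ M := hE₃E.trans hEM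
    -- `E₃ ≤ M'`
    have hE₃M' : E₃ ≤ ⁅M, M⁆ := by
      have h4 : E₃.subgroupOf M ≤ commutator ↥M := by
        apply le_commutator_of_forall_cyclic
        intro p hp hpd
        haveI := hp
        rw [Nat.card_congr (Subgroup.subgroupOfEquivOfLe hE₃M).toEquiv] at hpd
        obtain ⟨hr, hd⟩ := h3 p (hE₃.2.1 p hp.out hpd)
        exact ⟨fun P => isCyclic_sylow_of_pRankLE_one hodd (le_refl M) hr P, hcardM' ▸ hd⟩
      intro x hx
      rw [← Subgroup.map_subtype_commutator]
      exact ⟨⟨x, hE₃M hx⟩, h4 (Subgroup.mem_subgroupOf.mpr hx), rfl⟩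
    have hE₃E' : E₃ ≤ ⁅E, E⁆ :=
      (le_inf hE₃E hE₃M').trans (inf_commutator_le_of_isComplIn hE hSn)
    haveI hz : IsZGroup ↥E₃ := isZGroup_of_forall_pRankLE_one hodd hE₃M
      (fun p hp hpd => (h3 p (hE₃.2.1 p hp hpd)).1)
    haveI : Group.IsNilpotent ↥E₃ := by
      let f : ↥E₃ →* ↥⁅E, E⁆ := Subgroup.inclusion hE₃E'
      have hf : Function.Injective f := Subgroup.inclusion_injective hE₃E'
      exact Group.nilpotent_of_mulEquiv (MonoidHom.ofInjective hf).symm
    refine ⟨inferInstance, hE₃E', ?_⟩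
    intro g hg
    set K := E₃.map (MulAut.conj g).toMonoidHom with hK
    have hKE' : K ≤ ⁅E, E⁆ := by
      rintro _ ⟨x, hx, rfl⟩
      exact conj_mem_commutator_self hg (hE₃E' hx)
    have hKcard : Nat.card K = Nat.card E₃ :=
      Subgroup.card_map_of_injective (MulAut.conj g).injective
    have hHall : (Nat.card ↥(E₃.subgroupOf ⁅E, E⁆)).Coprime (E₃.subgroupOf ⁅E, E⁆).index := by
      rw [Nat.card_congr (Subgroup.subgroupOfEquivOfLe hE₃E').toEquiv]
      have h5 : E₃.relIndex ⁅E, E⁆ ∣ E₃.relIndex E := by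
        have := Subgroup.relIndex_mul_relIndex E₃ ⁅E, E⁆ E hE₃E' (Subgroup.commutator_le_self E)
        exact Dvd.intro _ this
      exact (coprime_card_relIndex_of_isPiHallOf hE₃).coprime_dvd_right h5
    have heq : K.subgroupOf ⁅E, E⁆ = E₃.subgroupOf ⁅E, E⁆ := by
      apply eq_of_card_eq_of_isNilpotent _ _ _ hHall
      rw [Nat.card_congr (Subgroup.subgroupOfEquivOfLe hE₃E').toEquiv,
        Nat.card_congr (Subgroup.subgroupOfEquivOfLe hKE').toEquiv, hKcard]
    have hKE₃ : K = E₃ := by
      have := Subgroup.subgroupOf_inj.mp heq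
      rwa [inf_eq_left.mpr hKE', inf_eq_left.mpr hE₃E'] at this
    rw [Subgroup.mem_normalizer_iff]
    intro x
    constructor
    · intro hx
      rw [← hKE₃]
      exact ⟨x, hx, rfl⟩
    · intro hx
      rw [← hKE₃] at hx
      obtain ⟨y, hy, hyx⟩ := hx
      have : y = x := by
        have h6 : g * y * g⁻¹ = g * x * g⁻¹ := hyx
        simpa using h6
      exact this ▸ hy

/-- if the image of `M'` in `M/N` is nilpotent, `N ≤ S`, and `E` is a complement of `S` in `M`, then
`E'` is nilpotent -/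
theorem isNilpotent_commutator_of_isComplIn {M E S : Subgroup G} (hE : IsComplIn E S M)
    (N : Subgroup ↥M) [N.Normal] (hNS : N.map M.subtype ≤ S)
    (hnil : Group.IsNilpotent ↥((commutator ↥M).map (QuotientGroup.mk' N))) :
    Group.IsNilpotent ↥⁅E, E⁆ := by
  have hEM : E ≤ M := hE.1
  have hE'M : ⁅E, E⁆ ≤ M := (Subgroup.commutator_le_self E).trans hEM
  let f₀ : ↥⁅E, E⁆ →* ↥M ⧸ N := (QuotientGroup.mk' N).comp (Subgroup.inclusion hE'M)
  have hmem : ∀ x : ↥⁅E, E⁆, f₀ x ∈ (commutator ↥M).map (QuotientGroup.mk' N) := by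
    intro x
    refine ⟨Subgroup.inclusion hE'M x, ?_, rfl⟩
    have h1 : (x : G) ∈ ⁅M, M⁆ := Subgroup.commutator_mono hEM hEM x.2
    rw [← Subgroup.map_subtype_commutator] at h1
    obtain ⟨y, hy, hyx⟩ := h1
    have : y = Subgroup.inclusion hE'M x := Subtype.ext hyx
    rwa [← this]
  let f : ↥⁅E, E⁆ →* ↥((commutator ↥M).map (QuotientGroup.mk' N)) := f₀.codRestrict _ hmem
  have hf : Function.Injective f := by
    rw [injective_iff_map_eq_one]
    intro x hx
    have h1 : f₀ x = 1 := congrArg Subtype.val hx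
    have h2 : Subgroup.inclusion hE'M x ∈ N := (QuotientGroup.eq_one_iff _).mp h1
    have h3 : (x : G) ∈ S := hNS ⟨_, h2, rfl⟩
    have h4 : (x : G) ∈ E ⊓ S := ⟨Subgroup.commutator_le_self E x.2, h3⟩
    rw [hE.2.2.1, Subgroup.mem_bot] at h4
    exact Subtype.ext h4
  exact Group.nilpotent_of_mulEquiv (MonoidHom.ofInjective hf).symm

end SubgroupLevel

end Cfsg.Agent.Lib.Helper34
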