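import Mathlib
import Cfsg.Prelude.Def_OddOrderLocal
import Cfsg.Agent.Lib.Helper34.NonSigma
import Cfsg.Agent.Lib.Helper34.SigmaCompl
import Cfsg.Agent.Lib.Helper1.Fitting
import Cfsg.Agent.Lib.Helper24.FittingStructure2
import Cfsg.Agent.Lib.Helper29.Iso
import Cfsg.Agent.Lib.Helper54.BGTransitivity
import Cfsg.Agent.Lib.Helper54.PLocal
import Cfsg.Agent.Lib.Helper49.RankOneCyclic

set_option autoImplicit false
set_option linter.style.haveILetI false
set_option linter.unusedSectionVars false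

/-!
Helper34 library: the Fitting subgroup of a maximal subgroup `M` of a minimal simple group of odd
order splits as `F(M_σ) × Y` with `Y = O_{σ(M)'}(F(M))` cyclic and a `τ₂(M)`-group
(Bender–Glauberman).  The inputs from the local analysis (the Uniqueness Theorem and the structure of
the Sylow `p`-subgroups of `M` for `p ∈ τ₂(M)`) are hypotheses, so this file does not depend on their
proofs.
-/

namespace Cfsg.Agent.Lib.Helper34

open Cfsg

section General

variable {G : Type*} [Group G]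

/-- `O_q(M)` as a subgroup of `G` -/
def pCoreOf (q : ℕ) (M : Subgroup G) : Subgroup G := (pCore q ↥M).map M.subtype

theorem pCoreOf_le (q : ℕ) (M : Subgroup G) : pCoreOf q M ≤ M := Subgroup.map_subtype_le _

theorem pCoreOf_isPGroup (q : ℕ) (M : Subgroup G) : IsPGroup q (pCoreOf q M) :=
  (Cfsg.Agent.Lib.Helper1.pCore_isPGroup q).map _

theorem le_normalizer_pCoreOf (q : ℕ) (M : Subgroup G) :
    M ≤ Subgroup.normalizer ((pCoreOf q M : Subgroup G) : Set G) :=
  Cfsg.Agent.Lib.Helper54.le_normalizer_map_subtype M _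

/-- `O_q(M)` lies in every Sylow `q`-subgroup of `M` -/
theorem pCoreOf_le_sylow (q : ℕ) (M : Subgroup G) (P : Sylow q ↥M) :
    pCoreOf q M ≤ (P : Subgroup ↥M).map M.subtype :=
  Subgroup.map_mono (Cfsg.Agent.Lib.Helper1.pCore_le_sylow q P)

/-- a normal `q`-subgroup of `M` lies in `O_q(M)` -/
theorem le_pCoreOf {q : ℕ} {M V : Subgroup G} (hVM : V ≤ M)
    (hMV : M ≤ Subgroup.normalizer (V : Set G)) (hV : IsPGroup q V) : V ≤ pCoreOf q M := by
  have hn : (V.subgroupOf M).Normal := Subgroup.normal_subgroupOf_of_le_normalizer hMV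
  have h1 := Cfsg.Agent.Lib.Helper1.le_pCore hn (hV.comap_subtype (K := M))
  have h2 := Subgroup.map_mono (f := M.subtype) h1
  rwa [Subgroup.map_subgroupOf_eq_of_le hVM] at h2

/-- `F(M)` is the join of the `O_q(M)` -/
theorem fittingOf_eq_iSup [Finite G] (M : Subgroup G) :
    fittingOf M = ⨆ q : Nat.Primes, pCoreOf (q : ℕ) M := by
  unfold fittingOf pCoreOf
  rw [Cfsg.Agent.Lib.Helper1.fittingSubgroup_eq_iSup_pCore, Subgroup.map_iSup]

theorem fittingOf_le (M : Subgroup G) : fittingOf M ≤ M := Subgroup.map_subtype_le _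

theorem pCoreOf_le_fittingOf [Finite G] (q : ℕ) [Fact q.Prime] (M : Subgroup G) :
    pCoreOf q M ≤ fittingOf M := by
  rw [fittingOf_eq_iSup]
  exact le_iSup (fun q : Nat.Primes => pCoreOf (q : ℕ) M) ⟨q, Fact.out⟩

theorem fittingOf_isNilpotent [Finite G] (M : Subgroup G) : Group.IsNilpotent ↥(fittingOf M) := by
  haveI : Group.IsNilpotent ↥(fittingSubgroup ↥M) :=
    Cfsg.Agent.Lib.Helper1.fittingSubgroup_isNilpotent
  exact Group.nilpotent_of_mulEquiv
    ((fittingSubgroup ↥M).equivMapOfInjective M.subtype M.subtype_injective)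

theorem le_normalizer_fittingOf (M : Subgroup G) :
    M ≤ Subgroup.normalizer ((fittingOf M : Subgroup G) : Set G) :=
  Cfsg.Agent.Lib.Helper54.le_normalizer_map_subtype M _

/-- a `q`-subgroup of `F(M)` lies in `O_q(M)` -/
theorem le_pCoreOf_of_le_fittingOf [Finite G] {q : ℕ} [Fact q.Prime] {M Q : Subgroup G}
    (hQ : IsPGroup q Q) (hQF : Q ≤ fittingOf M) : Q ≤ pCoreOf q M := by
  have hQM : Q ≤ M := hQF.trans (fittingOf_le M)
  have h1 : Q.subgroupOf M ≤ fittingSubgroup ↥M := by
    intro x hx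
    obtain ⟨y, hy, hyx⟩ := hQF (Subgroup.mem_subgroupOf.mp hx)
    have : y = x := Subtype.ext hyx
    exact this ▸ hy
  have h2 := Cfsg.Agent.Lib.Helper24.le_pCore_of_le_fittingSubgroup q (Q.subgroupOf M)
    (hQ.comap_subtype (K := M)) h1
  have h3 := Subgroup.map_mono (f := M.subtype) h2
  rwa [Subgroup.map_subgroupOf_eq_of_le hQM] at h3

/-- the Fitting subgroup of the image of a subgroup of `M` -/
theorem fittingOf_map_subtype {M : Subgroup G} (H : Subgroup ↥M) :
    fittingOf (H.map M.subtype) = ((fittingSubgroup ↥H).map H.subtype).map M.subtype := by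
  let e : ↥H ≃* ↥(H.map M.subtype) := H.equivMapOfInjective M.subtype M.subtype_injective
  unfold fittingOf
  rw [← Cfsg.Agent.Lib.Helper29.fittingSubgroup_map_mulEquiv e, Subgroup.map_map, Subgroup.map_map]
  rfl

/-- `M` normalizes `F(N)` for a normal subgroup `N` of `M` -/
theorem le_normalizer_fittingOf_map {M : Subgroup G} (H : Subgroup ↥M) [H.Normal] :
    M ≤ Subgroup.normalizer ((fittingOf (H.map M.subtype) : Subgroup G) : Set G) := by
  rw [fittingOf_map_subtype]
  haveI : (fittingSubgroup ↥H).Characteristic :=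
    Cfsg.Agent.Lib.Helper29.fittingSubgroup_characteristic ↥H
  haveI : ((fittingSubgroup ↥H).map H.subtype).Normal :=
    ConjAct.normal_of_characteristic_of_normal
  exact Cfsg.Agent.Lib.Helper54.le_normalizer_map_subtype M _

/-- `F(N) ≤ F(M)` for a normal subgroup `N` of `M` -/
theorem fittingOf_map_le_fittingOf [Finite G] {M : Subgroup G} (H : Subgroup ↥M) [H.Normal] :
    fittingOf (H.map M.subtype) ≤ fittingOf M := by
  rw [fittingOf_map_subtype]
  haveI : (fittingSubgroup ↥H).Characteristic :=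
    Cfsg.Agent.Lib.Helper29.fittingSubgroup_characteristic ↥H
  haveI : ((fittingSubgroup ↥H).map H.subtype).Normal :=
    ConjAct.normal_of_characteristic_of_normal
  apply Subgroup.map_mono
  apply Cfsg.Agent.Lib.Helper1.le_fittingSubgroup inferInstance
  haveI hnil : Group.IsNilpotent ↥(fittingSubgroup ↥H) :=
    Cfsg.Agent.Lib.Helper1.fittingSubgroup_isNilpotent
  exact Group.nilpotent_of_mulEquiv
    ((fittingSubgroup ↥H).equivMapOfInjective H.subtype H.subtype_injective)

end General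

section Main

variable {G : Type*} [Group G] [Finite G]

/-- part (b) of Bender–Glauberman Theorem 12.5 (for all `p ∈ τ₂(M)`), as a hypothesis -/
def Tau2Omega (M : Subgroup G) : Prop :=
  ∀ (p : ℕ) [Fact p.Prime], p ∈ tau2 M → ∀ A : Subgroup G, A ≤ M → IsElementaryAbelian p A →
    Nat.card A = p ^ 2 → ∀ P : Sylow p M, A ≤ (P : Subgroup M).map M.subtype →
      (∀ x ∈ (P : Subgroup M).map M.subtype, x ^ p = 1 ↔ x ∈ A) ∧
        ¬ Subgroup.normalizer ((((P : Subgroup M).map M.subtype : Subgroup G)) : Set G) ≤ M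

/-- a nontrivial subgroup of a maximal subgroup `M` of a simple group that is normalized by `M` has
normalizer `M` -/
theorem normalizer_le_of_le_normalizer [IsSimpleGroup G] {M X : Subgroup G} (hM : IsCoatom M)
    (hX1 : X ≠ ⊥) (hXM : X ≤ M) (h : M ≤ Subgroup.normalizer (X : Set G)) :
    Subgroup.normalizer (X : Set G) ≤ M := by
  have hNtop : Subgroup.normalizer (X : Set G) ≠ ⊤ := by
    intro h0
    have hn : X.Normal := Subgroup.normalizer_eq_top_iff.mp h0
    rcases hn.eq_bot_or_eq_top with h1 | h1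
    · exact hX1 h1
    · exact hM.1 (top_le_iff.mp (h1 ▸ hXM))
  rcases eq_or_lt_of_le h with h1 | h1
  · exact h1 ▸ le_rfl
  · exact absurd (hM.2 _ h1) hNtop

/-- if `X ≤ O ≤ P` with `O` normalized by `M` and `X` the set of all elements of order dividing `q`
of `P`, then `M` normalizes `X` -/
theorem le_normalizer_of_forall_mem {q : ℕ} {M O P X : Subgroup G}
    (hMO : M ≤ Subgroup.normalizer (O : Set G)) (hOP : O ≤ P) (hXO : X ≤ O)
    (hXe : ∀ x ∈ X, x ^ q = 1) (h : ∀ y ∈ P, y ^ q = 1 → y ∈ X) :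
    M ≤ Subgroup.normalizer (X : Set G) := by
  have key : ∀ m ∈ M, ∀ x ∈ X, m * x * m⁻¹ ∈ X := by
    intro m hm x hx
    apply h
    · exact hOP ((Subgroup.mem_normalizer_iff.mp (hMO hm) x).mp (hXO hx))
    · rw [conj_pow, hXe x hx]; simp
  intro m hm
  rw [Subgroup.mem_normalizer_iff]
  intro x
  constructor
  · exact key m hm x
  · intro hx
    have := key m⁻¹ (M.inv_mem hm) _ hx
    simpa [mul_assoc] using this

/-- a prime divisor of the order of a `q`-group is `q` -/
theorem eq_of_prime_dvd_card_of_isPGroup {q r : ℕ} [Fact q.Prime] {V : Subgroup G}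
    (hV : IsPGroup q V) (hr : r.Prime) (hrd : r ∣ Nat.card V) : r = q := by
  obtain ⟨n, hn⟩ := IsPGroup.iff_card.mp hV
  rw [hn] at hrd
  exact (Nat.prime_dvd_prime_iff_eq hr Fact.out).mp (hr.dvd_of_dvd_pow hrd)

/-- a nilpotent subgroup of `N` normalized by `N` lies in `F(N)` -/
theorem le_fittingOf {N V : Subgroup G} (hVN : V ≤ N)
    (hNV : N ≤ Subgroup.normalizer (V : Set G)) (hnil : Group.IsNilpotent ↥V) :
    V ≤ fittingOf N := by
  have hn : (V.subgroupOf N).Normal := Subgroup.normal_subgroupOf_of_le_normalizer hNV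
  haveI : Group.IsNilpotent ↥(V.subgroupOf N) :=
    Group.nilpotent_of_mulEquiv (Subgroup.subgroupOfEquivOfLe hVN).symm
  have h1 := Cfsg.Agent.Lib.Helper1.le_fittingSubgroup hn inferInstance
  have h2 := Subgroup.map_mono (f := N.subtype) h1
  rwa [Subgroup.map_subgroupOf_eq_of_le hVN] at h2

/-- With the Uniqueness Theorem: if `q ∉ σ(M)` and `O_q(M) ≠ 1` then `q ∈ τ₂(M)`. -/
theorem mem_tau2_of_pCoreOf_ne_bot [IsSimpleGroup G] (hU : UniquenessThm G) {M : Subgroup G}
    (hM : IsCoatom M) {q : ℕ} [Fact q.Prime] (hq : q ∉ sigma M) (hO : pCoreOf q M ≠ ⊥) :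
    q ∈ tau2 M := by
  have hqp : q.Prime := Fact.out
  refine ⟨hqp, hq, pRankLE_two_of_not_mem_sigma hU hM hq, ?_⟩
  set O := pCoreOf q M with hOdef
  have hOp : IsPGroup q O := pCoreOf_isPGroup q M
  have hOM : O ≤ M := pCoreOf_le q M
  -- a subgroup of order `q` of `O`
  obtain ⟨x, hx⟩ := exists_prime_orderOf_dvd_card' (G := ↥O) q (dvd_card_of_isPGroup_ne_bot hOp hO)
  set X := Subgroup.zpowers (x : G) with hXdef
  have hxord : orderOf (x : G) = q := by rw [← hx, Subgroup.orderOf_coe]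
  have hXc : Nat.card X = q := by rw [hXdef, Nat.card_zpowers, hxord]
  have hXO : X ≤ O := by rw [hXdef, Subgroup.zpowers_le]; exact x.2
  have hX1 : X ≠ ⊥ := by
    intro h0
    rw [h0, Subgroup.card_bot] at hXc
    exact hqp.one_lt.ne hXc
  have hXe : IsElementaryAbelian q X := isElementaryAbelian_of_card_eq_prime hXc
  obtain ⟨P⟩ : Nonempty (Sylow q ↥M) := inferInstance
  set P' := (P : Subgroup M).map M.subtype with hP'
  have hOP : O ≤ P' := pCoreOf_le_sylow q M P
  have hP'M : P' ≤ M := Subgroup.map_subtype_le _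
  have hP'p : IsPGroup q P' := P.2.map _
  rcases exists_commuting_or_forall_mem hP'p (hXO.trans hOP) hXc with ⟨y, hyP, hyX, hyq, hyc⟩ | hall
  · -- an elementary abelian subgroup of order `> q`
    apply (Cfsg.Agent.Lib.Helper45.not_pRankLE_subgroup_iff 1 M).mpr
    refine ⟨X ⊔ Subgroup.zpowers y, sup_le (hXO.trans hOM)
      (by rw [Subgroup.zpowers_le]; exact hP'M hyP), ?_, ?_⟩
    · apply Cfsg.Agent.Lib.Helper45.isElementaryAbelian_sup hXe (isElementaryAbelian_zpowers hyq)
      intro a ha b hb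
      rw [Subgroup.mem_zpowers_iff] at hb
      obtain ⟨k, rfl⟩ := hb
      have : Commute a y := hyc a ha
      exact (this.zpow_right k).eq
    · rw [pow_one]
      have hlt : X < X ⊔ Subgroup.zpowers y := by
        refine lt_of_le_of_ne le_sup_left ?_
        intro h0
        apply hyX
        rw [h0]
        exact (le_sup_right : Subgroup.zpowers y ≤ X ⊔ Subgroup.zpowers y)
          (Subgroup.mem_zpowers y)
      exact hXc ▸ card_lt_card_of_lt hlt
  · have hMX : M ≤ Subgroup.normalizer (X : Set G) :=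
      le_normalizer_of_forall_mem (le_normalizer_pCoreOf q M) hOP hXO hXe.2 hall
    have hNX : Subgroup.normalizer (X : Set G) ≤ M :=
      normalizer_le_of_le_normalizer hM hX1 (hXO.trans hOM) hMX
    obtain ⟨A, hAM, hAe, hAc, _⟩ := exists_isElementaryAbelian_sq_ge hU hM hq hXc hNX
    apply (Cfsg.Agent.Lib.Helper45.not_pRankLE_subgroup_iff 1 M).mpr
    refine ⟨A, hAM, hAe, ?_⟩
    rw [hAc]
    exact Nat.pow_lt_pow_right hqp.one_lt (by norm_num)

/-- With the Uniqueness Theorem and BG 12.5(b): if `q ∉ σ(M)` then `O_q(M)` is cyclic. -/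
theorem isCyclic_pCoreOf_of_not_mem_sigma [IsSimpleGroup G] (hodd : Odd (Nat.card G))
    (hU : UniquenessThm G) {M : Subgroup G} (hM : IsCoatom M) (h12 : Tau2Omega M) {q : ℕ}
    [Fact q.Prime] (hq : q ∉ sigma M) : IsCyclic ↥(pCoreOf q M) := by
  have hqp : q.Prime := Fact.out
  set O := pCoreOf q M with hOdef
  have hOp : IsPGroup q O := pCoreOf_isPGroup q M
  have hOM : O ≤ M := pCoreOf_le q M
  by_cases hO : O = ⊥
  · rw [hO]; infer_instance
  have hq2 : q ∈ tau2 M := mem_tau2_of_pCoreOf_ne_bot hU hM hq hO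
  have hqne2 : q ≠ 2 := by
    rintro rfl
    have h1 : 2 ∣ Nat.card G :=
      (dvd_card_of_isPGroup_ne_bot hOp hO).trans (Subgroup.card_subgroup_dvd_card O)
    exact (Nat.not_even_iff_odd.mpr hodd) (even_iff_two_dvd.mpr h1)
  by_contra hnc
  have hr1 : ¬ PRankLE q 1 ↥O := fun h =>
    hnc (Cfsg.Agent.Lib.Helper49.isCyclic_of_pRankLE_one hqne2 (hOp) h)
  obtain ⟨B, hBO, hBe, hBc⟩ := (Cfsg.Agent.Lib.Helper45.not_pRankLE_subgroup_iff 1 O).mp hr1
  rw [pow_one] at hBc
  obtain ⟨A, hAB, hAc⟩ := exists_le_card_eq_sq (isPGroup_of_isElementaryAbelian hBe) hBc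
  have hAe : IsElementaryAbelian q A := Cfsg.Agent.Lib.Helper45.isElementaryAbelian_of_le hBe hAB
  have hAO : A ≤ O := hAB.trans hBO
  obtain ⟨P⟩ : Nonempty (Sylow q ↥M) := inferInstance
  set P' := (P : Subgroup M).map M.subtype with hP'
  have hOP : O ≤ P' := pCoreOf_le_sylow q M P
  obtain ⟨hΩ, hN⟩ := h12 q hq2 A (hAO.trans hOM) hAe hAc P (hAO.trans hOP)
  apply hN
  have hall : ∀ y ∈ P', y ^ q = 1 → y ∈ A := fun y hy h => (hΩ y hy).mp h
  have h1 : Subgroup.normalizer (P' : Set G) ≤ Subgroup.normalizer (A : Set G) :=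
    normalizer_le_normalizer_of_forall_mem (hAO.trans hOP) hAe.2 hall
  have hA1 : A ≠ ⊥ := by
    intro h0
    rw [h0, Subgroup.card_bot] at hAc
    have : 1 < q ^ 2 := Nat.one_lt_pow (by norm_num) hqp.one_lt
    omega
  have h2 : Subgroup.normalizer (A : Set G) ≤ M :=
    normalizer_le_of_le_normalizer hM hA1 (hAO.trans hOM)
      (le_normalizer_of_forall_mem (le_normalizer_pCoreOf q M) hOP hAO hAe.2 hall)
  exact h1.trans h2

/-- Bender–Glauberman: with the Uniqueness Theorem and BG 12.5(b), `Y = O_{σ(M)'}(F(M))` is a cyclic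
`τ₂(M)`-group and `F(M) = F(M_σ) ⊔ Y`. -/
theorem s1439_of [IsSimpleGroup G] (hodd : Odd (Nat.card G)) (hU : UniquenessThm G)
    {M : Subgroup G} (hM : IsCoatom M) (h12 : Tau2Omega M) :
    IsCyclic ↥(piCoreOf {q | q.Prime ∧ q ∉ sigma M} (fittingOf M)) ∧
      (∀ p : ℕ, p.Prime →
        p ∣ Nat.card ↥(piCoreOf {q | q.Prime ∧ q ∉ sigma M} (fittingOf M)) → p ∈ tau2 M) ∧
      fittingOf M =
        fittingOf (sigmaCore M) ⊔ piCoreOf {q | q.Prime ∧ q ∉ sigma M} (fittingOf M) := by
  set σ' : Set ℕ := {q | q.Prime ∧ q ∉ sigma M} with hσ'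
  set Y : Subgroup G := piCoreOf σ' (fittingOf M) with hY
  have hYF : Y ≤ fittingOf M := Cfsg.Agent.Lib.Helper54.piCoreOf_le _ _
  have hYpi : ∀ r : ℕ, r.Prime → r ∣ Nat.card Y → r ∈ σ' :=
    Cfsg.Agent.Lib.Helper54.piCoreOf_isPi σ' (fittingOf M)
  refine ⟨?_, ?_, ?_⟩
  · -- `Y` is nilpotent with cyclic Sylow subgroups
    haveI hFn : Group.IsNilpotent ↥(fittingOf M) := fittingOf_isNilpotent M
    haveI hYn : Group.IsNilpotent ↥Y :=
      Group.nilpotent_of_mulEquiv (Subgroup.subgroupOfEquivOfLe hYF)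
    haveI hYZ : IsZGroup ↥Y := by
      refine ⟨fun p hp P => ?_⟩
      haveI : Fact p.Prime := ⟨hp⟩
      set P' : Subgroup G := (P : Subgroup ↥Y).map Y.subtype with hP'
      have hP'p : IsPGroup p P' := P.2.map _
      have hP'Y : P' ≤ Y := Subgroup.map_subtype_le _
      have hP'O : P' ≤ pCoreOf p M := le_pCoreOf_of_le_fittingOf hP'p (hP'Y.trans hYF)
      by_cases hpσ : p ∈ sigma M
      · -- `p ∤ |Y|`
        have hnd : ¬ p ∣ Nat.card Y := fun hd => (hYpi p hp hd).2 hpσ
        have hbot : (P : Subgroup ↥Y) = ⊥ := by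
          by_contra hne
          apply hnd
          exact (dvd_card_of_isPGroup_ne_bot P.2 hne).trans (Subgroup.card_subgroup_dvd_card _)
        rw [hbot]
        infer_instance
      · haveI : IsCyclic ↥(pCoreOf p M) :=
          isCyclic_pCoreOf_of_not_mem_sigma hodd hU hM h12 hpσ
        let f : ↥(P : Subgroup ↥Y) →* ↥(pCoreOf p M) :=
          { toFun := fun x => ⟨((x : ↥Y) : G), hP'O ⟨(x : ↥Y), x.2, rfl⟩⟩
            map_one' := rfl
            map_mul' := fun _ _ => rfl }
        have hf : Function.Injective f := by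
          intro a b hab
          have h0 : (f a : G) = (f b : G) := congrArg Subtype.val hab
          exact Subtype.ext (Subtype.ext h0)
        exact isCyclic_of_injective f hf
    infer_instance
  · intro p hp hpd
    haveI : Fact p.Prime := ⟨hp⟩
    have hpσ : p ∉ sigma M := (hYpi p hp hpd).2
    apply mem_tau2_of_pCoreOf_ne_bot hU hM hpσ
    obtain ⟨y, hy⟩ := exists_prime_orderOf_dvd_card' (G := ↥Y) p hpd
    have hyord : orderOf (y : G) = p := by rw [← hy, Subgroup.orderOf_coe]
    have hZp : IsPGroup p (Subgroup.zpowers (y : G)) := by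
      apply IsPGroup.of_card (n := 1)
      rw [Nat.card_zpowers, hyord, pow_one]
    have hZF : Subgroup.zpowers (y : G) ≤ fittingOf M := by
      rw [Subgroup.zpowers_le]; exact hYF y.2
    have hZO : Subgroup.zpowers (y : G) ≤ pCoreOf p M := le_pCoreOf_of_le_fittingOf hZp hZF
    intro h0
    rw [h0, le_bot_iff, Subgroup.zpowers_eq_bot] at hZO
    rw [hZO, orderOf_one] at hyord
    exact hp.ne_one hyord.symm
  · apply le_antisymm
    · rw [fittingOf_eq_iSup]
      apply iSup_le
      intro q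
      haveI : Fact (q : ℕ).Prime := ⟨q.2⟩
      by_cases hqσ : (q : ℕ) ∈ sigma M
      · refine le_trans ?_ le_sup_left
        have h1 : pCoreOf (q : ℕ) M ≤ sigmaCore M := by
          apply Cfsg.Agent.Lib.Helper54.le_piCoreOf (sigma M) (pCoreOf_le _ M)
            (le_normalizer_pCoreOf _ M)
          intro r hr hrd
          rw [eq_of_prime_dvd_card_of_isPGroup (pCoreOf_isPGroup (q : ℕ) M) hr hrd]
          exact hqσ
        apply le_fittingOf h1
          ((show sigmaCore M ≤ M from Subgroup.map_subtype_le _).trans (le_normalizer_pCoreOf _ M))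
        exact (pCoreOf_isPGroup (q : ℕ) M).isNilpotent
      · refine le_trans ?_ le_sup_right
        apply Cfsg.Agent.Lib.Helper54.le_piCoreOf σ' (pCoreOf_le_fittingOf _ M)
          ((fittingOf_le M).trans (le_normalizer_pCoreOf _ M))
        intro r hr hrd
        rw [eq_of_prime_dvd_card_of_isPGroup (pCoreOf_isPGroup (q : ℕ) M) hr hrd]
        exact ⟨q.2, hqσ⟩
    · apply sup_le
      · exact fittingOf_map_le_fittingOf (piCore (sigma M) ↥M)
      · exact hYF

end Main

end Cfsg.Agent.Lib.Helper34
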