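import Mathlib
import Cfsg.Prelude.Def_OddOrderLocal
import Cfsg.Agent.Lib.Helper51.BGTwelveA
import Cfsg.Agent.Lib.Helper54.BGElevenA
import Cfsg.Agent.Lib.Helper34.SylowConj

/-!
# Equivariance of the Bender–Glauberman vocabulary under automorphisms (helper34)

For an automorphism `φ : G ≃* G` (in particular `MulAut.conj g`) and a subgroup `M`:
`sigma`, `kappa` are invariant, `sigmaCore`, `fittingHallOf`, `fittingOf`, `supportR` commute
with `map φ`, and `tildeOf` of the `σ`-core is invariant under conjugation of `M`.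
-/

set_option autoImplicit false

namespace Cfsg.Agent.Lib.Helper34.TildeEquiv

open Cfsg

section Equiv

variable {X Y : Type*} [Group X] [Group Y]

theorem map_symm_map (e : X ≃* Y) (H : Subgroup Y) :
    (H.map e.symm.toMonoidHom).map e.toMonoidHom = H := by
  ext y
  constructor
  · rintro ⟨x, ⟨z, hz, rfl⟩, rfl⟩
    simpa using hz
  · intro hy
    exact ⟨e.symm y, ⟨y, hy, rfl⟩, by simp⟩

theorem card_map_equiv (e : X ≃* Y) (H : Subgroup X) :
    Nat.card (H.map e.toMonoidHom) = Nat.card H :=
  Subgroup.card_map_of_injective e.injective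

theorem piCore_map_le (e : X ≃* Y) (π : Set ℕ) :
    (piCore π X).map e.toMonoidHom ≤ piCore π Y := by
  unfold piCore
  rw [(Subgroup.gc_map_comap e.toMonoidHom).l_sSup]
  refine iSup₂_le fun N hN => le_sSup ⟨hN.1.map e.toMonoidHom e.surjective, ?_⟩
  rw [card_map_equiv]
  exact hN.2

theorem piCore_map_equiv (e : X ≃* Y) (π : Set ℕ) :
    (piCore π X).map e.toMonoidHom = piCore π Y := by
  apply le_antisymm (piCore_map_le e π)
  have h := Subgroup.map_mono (f := e.toMonoidHom) (piCore_map_le e.symm π)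
  rwa [map_symm_map] at h

theorem fittingHall_map_le (e : X ≃* Y) :
    (fittingHall X).map e.toMonoidHom ≤ fittingHall Y := by
  unfold fittingHall
  rw [(Subgroup.gc_map_comap e.toMonoidHom).l_sSup]
  refine iSup₂_le fun N hN => le_sSup ⟨hN.1.map e.toMonoidHom e.surjective, ?_, ?_⟩
  · exact (Group.isNilpotent_congr (N.equivMapOfInjective e.toMonoidHom e.injective)).mp hN.2.1
  · rw [card_map_equiv]
    have : (N.map e.toMonoidHom).index = N.index := by
      have := Subgroup.index_map_of_bijective (f := e.toMonoidHom) e.bijective N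
      exact this
    rw [this]
    exact hN.2.2

theorem fittingHall_map_equiv (e : X ≃* Y) :
    (fittingHall X).map e.toMonoidHom = fittingHall Y := by
  apply le_antisymm (fittingHall_map_le e)
  have h := Subgroup.map_mono (f := e.toMonoidHom) (fittingHall_map_le e.symm)
  rwa [map_symm_map] at h

end Equiv

section Aut

variable {G : Type*} [Group G]

theorem map_map_symm (φ : G ≃* G) (H : Subgroup G) :
    (H.map φ.toMonoidHom).map φ.symm.toMonoidHom = H := by
  have := map_symm_map φ.symm H
  simpa using this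

/-- The isomorphism `M ≃* φ(M)` induced by an automorphism. -/
noncomputable def mapEquiv (φ : G ≃* G) (M : Subgroup G) : M ≃* (M.map φ.toMonoidHom : Subgroup G) :=
  M.equivMapOfInjective φ.toMonoidHom φ.injective

theorem coe_mapEquiv (φ : G ≃* G) (M : Subgroup G) (m : M) :
    ((mapEquiv φ M m : (M.map φ.toMonoidHom : Subgroup G)) : G) = φ m :=
  Subgroup.coe_equivMapOfInjective_apply M φ.toMonoidHom φ.injective m

/-- Transport of a subgroup of `M` to a subgroup of `φ(M)`, seen in `G`. -/
theorem map_mapEquiv_map_subtype (φ : G ≃* G) (M : Subgroup G) (H : Subgroup M) :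
    (H.map (mapEquiv φ M).toMonoidHom).map (M.map φ.toMonoidHom).subtype =
      (H.map M.subtype).map φ.toMonoidHom := by
  rw [Subgroup.map_map, Subgroup.map_map]
  congr 1

theorem sigma_map_subset (φ : G ≃* G) (M : Subgroup G) :
    sigma M ⊆ sigma (M.map φ.toMonoidHom) := by
  intro p hp
  have hpp : p.Prime := hp.1
  have : Fact p.Prime := ⟨hpp⟩
  rw [Cfsg.Agent.Lib.Helper51.BG12.mem_sigma_iff] at hp ⊢
  obtain ⟨hd, Q, hQM, hQp, hmax, hN⟩ := hp
  refine ⟨by rwa [card_map_equiv], Q.map φ.toMonoidHom, Subgroup.map_mono hQM, hQp.map _, ?_, ?_⟩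
  · intro R hRM hRp hQR
    have h1 : R.map φ.symm.toMonoidHom = Q := by
      apply hmax
      · have := Subgroup.map_mono (f := φ.symm.toMonoidHom) hRM
        rwa [map_map_symm] at this
      · exact hRp.map _
      · have := Subgroup.map_mono (f := φ.symm.toMonoidHom) hQR
        rwa [map_map_symm] at this
    rw [← h1]
    exact (map_symm_map φ R).symm
  · have h := Subgroup.map_equiv_normalizer_eq Q φ
    have h' : Subgroup.normalizer ((Q.map φ.toMonoidHom : Subgroup G) : Set G) =
        (Subgroup.normalizer (Q : Set G)).map φ.toMonoidHom := h.symm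
    rw [h']
    exact Subgroup.map_mono hN

theorem sigma_map (φ : G ≃* G) (M : Subgroup G) : sigma (M.map φ.toMonoidHom) = sigma M := by
  apply Set.Subset.antisymm
  · have := sigma_map_subset φ.symm (M.map φ.toMonoidHom)
    rwa [map_map_symm] at this
  · exact sigma_map_subset φ M

theorem sigmaCore_map (φ : G ≃* G) (M : Subgroup G) :
    sigmaCore (M.map φ.toMonoidHom) = (sigmaCore M).map φ.toMonoidHom := by
  unfold sigmaCore
  rw [sigma_map, ← piCore_map_equiv (mapEquiv φ M), map_mapEquiv_map_subtype]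

theorem fittingHallOf_map (φ : G ≃* G) (M : Subgroup G) :
    fittingHallOf (M.map φ.toMonoidHom) = (fittingHallOf M).map φ.toMonoidHom := by
  unfold fittingHallOf
  rw [← fittingHall_map_equiv (mapEquiv φ M), map_mapEquiv_map_subtype]

theorem isCoatom_map (φ : G ≃* G) {L : Subgroup G} (hL : IsCoatom L) :
    IsCoatom (L.map φ.toMonoidHom) := (φ.mapSubgroup.isCoatom_iff L).mpr hL

theorem kappa_map_subset (φ : G ≃* G) (M : Subgroup G) :
    kappa M ⊆ kappa (M.map φ.toMonoidHom) := by
  rintro p ⟨hpp, hd, hσ, hP⟩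
  refine ⟨hpp, by rwa [card_map_equiv], by rwa [sigma_map], ?_⟩
  intro P'
  set e := mapEquiv φ M with he
  have hrange : (P' : Subgroup (M.map φ.toMonoidHom : Subgroup G)) ≤ e.toMonoidHom.range := by
    intro z _
    exact ⟨e.symm z, e.apply_symm_apply z⟩
  obtain ⟨hcyc, x, hxP, hx1, y, hy, hy1, hxy⟩ :=
    hP (P'.comapOfInjective e.toMonoidHom e.injective hrange)
  have hxP' : e x ∈ (P' : Subgroup (M.map φ.toMonoidHom : Subgroup G)) := hxP
  refine ⟨?_, e x, hxP', ?_, φ y, ?_, ?_, ?_⟩
  · have hc : IsCyclic ↥((P' : Subgroup (M.map φ.toMonoidHom : Subgroup G)).comap e.toMonoidHom) :=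
      hcyc
    exact isCyclic_of_surjective (e.toMonoidHom.subgroupComap
      (P' : Subgroup (M.map φ.toMonoidHom : Subgroup G)))
      (MonoidHom.subgroupComap_surjective_of_surjective _ _ e.surjective)
  · intro h
    exact hx1 (e.injective (by rw [h, map_one]))
  · rw [sigmaCore_map]
    exact ⟨y, hy, rfl⟩
  · intro h
    exact hy1 (φ.injective (by rw [h, map_one]))
  · rw [he, coe_mapEquiv, ← map_mul, ← map_mul, hxy]

theorem kappa_map (φ : G ≃* G) (M : Subgroup G) : kappa (M.map φ.toMonoidHom) = kappa M := by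
  apply Set.Subset.antisymm
  · have := kappa_map_subset φ.symm (M.map φ.toMonoidHom)
    rwa [map_map_symm] at this
  · exact kappa_map_subset φ M

theorem centralizer_singleton_map (φ : G ≃* G) (x : G) :
    Subgroup.centralizer ({φ x} : Set G) =
      (Subgroup.centralizer ({x} : Set G)).map φ.toMonoidHom := by
  ext y
  constructor
  · intro hy
    rw [Subgroup.mem_centralizer_singleton_iff] at hy
    refine ⟨φ.symm y, Subgroup.mem_centralizer_singleton_iff.mpr ?_, by simp⟩
    apply φ.injective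
    simpa using hy
  · rintro ⟨z, hz, rfl⟩
    have hz' := Subgroup.mem_centralizer_singleton_iff.mp hz
    apply Subgroup.mem_centralizer_singleton_iff.mpr
    show φ z * φ x = φ x * φ z
    rw [← map_mul, ← map_mul, hz']

theorem map_le_map_iff_equiv (φ : G ≃* G) (H K : Subgroup G) :
    H.map φ.toMonoidHom ≤ K.map φ.toMonoidHom ↔ H ≤ K :=
  Subgroup.map_le_map_iff_of_injective φ.injective

theorem supportR_map (φ : G ≃* G) (M : Subgroup G) (x : G) :
    supportR (M.map φ.toMonoidHom) (φ x) = (supportR M x).map φ.toMonoidHom := by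
  by_cases h : ¬ Subgroup.centralizer ({x} : Set G) ≤ M ∧
      ∃! L : Subgroup G, IsCoatom L ∧ Subgroup.centralizer ({x} : Set G) ≤ L
  · have h' : ¬ Subgroup.centralizer ({φ x} : Set G) ≤ M.map φ.toMonoidHom ∧
        ∃! L : Subgroup G, IsCoatom L ∧ Subgroup.centralizer ({φ x} : Set G) ≤ L := by
      refine ⟨?_, ?_⟩
      · rw [centralizer_singleton_map, map_le_map_iff_equiv]
        exact h.1
      · obtain ⟨L, ⟨hL, hCL⟩, huniq⟩ := h.2
        refine ⟨L.map φ.toMonoidHom, ⟨isCoatom_map φ hL, ?_⟩, ?_⟩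
        · rw [centralizer_singleton_map, map_le_map_iff_equiv]
          exact hCL
        · rintro L' ⟨hL', hCL'⟩
          have h1 : L'.map φ.symm.toMonoidHom = L := by
            apply huniq
            refine ⟨isCoatom_map φ.symm hL', ?_⟩
            rw [centralizer_singleton_map] at hCL'
            have := Subgroup.map_mono (f := φ.symm.toMonoidHom) hCL'
            rwa [map_map_symm] at this
          rw [← h1, map_symm_map]
    have e1 : supportR M x = fittingHallOf (Classical.choose h.2.exists) ⊓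
        Subgroup.centralizer ({x} : Set G) := by
      unfold supportR
      rw [dif_pos h]
    have e2 : supportR (M.map φ.toMonoidHom) (φ x) = fittingHallOf (Classical.choose h'.2.exists) ⊓
        Subgroup.centralizer ({φ x} : Set G) := by
      unfold supportR
      rw [dif_pos h']
    have hs := Classical.choose_spec h.2.exists
    have hs' := Classical.choose_spec h'.2.exists
    have hL : Classical.choose h'.2.exists =
        (Classical.choose h.2.exists).map φ.toMonoidHom := by
      apply h'.2.unique hs'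
      refine ⟨isCoatom_map φ hs.1, ?_⟩
      rw [centralizer_singleton_map, map_le_map_iff_equiv]
      exact hs.2
    rw [e1, e2, hL, fittingHallOf_map, centralizer_singleton_map]
    exact (Subgroup.map_inf _ _ _ φ.injective).symm
  · have h' : ¬ (¬ Subgroup.centralizer ({φ x} : Set G) ≤ M.map φ.toMonoidHom ∧
        ∃! L : Subgroup G, IsCoatom L ∧ Subgroup.centralizer ({φ x} : Set G) ≤ L) := by
      rintro ⟨h1, L', ⟨hL', hCL'⟩, huniq'⟩
      apply h
      refine ⟨?_, ?_⟩
      · rw [centralizer_singleton_map, map_le_map_iff_equiv] at h1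
        exact h1
      · refine ⟨L'.map φ.symm.toMonoidHom, ⟨isCoatom_map φ.symm hL', ?_⟩, ?_⟩
        · rw [centralizer_singleton_map] at hCL'
          have := Subgroup.map_mono (f := φ.symm.toMonoidHom) hCL'
          rwa [map_map_symm] at this
        · rintro L ⟨hL, hCL⟩
          have h2 : L.map φ.toMonoidHom = L' := by
            apply huniq'
            refine ⟨isCoatom_map φ hL, ?_⟩
            rw [centralizer_singleton_map, map_le_map_iff_equiv]
            exact hCL
          rw [← h2, map_map_symm]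
    have e1 : supportR M x = ⊥ := by
      unfold supportR
      rw [dif_neg h]
    have e2 : supportR (M.map φ.toMonoidHom) (φ x) = ⊥ := by
      unfold supportR
      rw [dif_neg h']
    rw [e1, e2, Subgroup.map_bot]

end Aut

section Tilde

variable {G : Type*} [Group G]

/-- `M̃` for a maximal subgroup: the union of the conjugates of the cosets `x R(x)`, `x ∈ M_σ^#`. -/
noncomputable def tildeSigma (M : Subgroup G) : Set G :=
  tildeOf M ((sigmaCore M : Set G) \ {1})

theorem conj_mul_conj (y a r : G) : y * (a * r) * y⁻¹ = (y * a * y⁻¹) * (y * r * y⁻¹) := by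
  group

/-- Normal form of the elements of `M̃`: they are the `a * r` with `a ∈ (M^g)_σ^#`,
`r ∈ R_{M^g}(a)`, for the conjugates `M^g` of `M`. -/
theorem mem_tildeSigma_iff (M : Subgroup G) (t : G) :
    t ∈ tildeSigma M ↔ ∃ g : G, ∃ a ∈ sigmaCore (M.map (MulAut.conj g).toMonoidHom), a ≠ 1 ∧
      ∃ r ∈ supportR (M.map (MulAut.conj g).toMonoidHom) a, t = a * r := by
  constructor
  · rintro ⟨a, ⟨ha, ha1⟩, r, hr, y, rfl⟩
    refine ⟨y, y * a * y⁻¹, ?_, ?_, y * r * y⁻¹, ?_, conj_mul_conj y a r⟩
    · rw [sigmaCore_map]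
      exact ⟨a, ha, by simp [MulAut.conj_apply]⟩
    · intro h
      apply ha1
      have : a = y⁻¹ * (y * a * y⁻¹) * y := by group
      rw [Set.mem_singleton_iff, this, h]
      group
    · have h1 := supportR_map (MulAut.conj y) M a
      have h2 : (MulAut.conj y) a = y * a * y⁻¹ := by simp [MulAut.conj_apply]
      rw [h2] at h1
      rw [h1]
      exact ⟨r, hr, by simp [MulAut.conj_apply]⟩
  · rintro ⟨g, a, ha, ha1, r, hr, rfl⟩
    rw [sigmaCore_map] at ha
    obtain ⟨a₀, ha₀, rfl⟩ := ha
    have h1 := supportR_map (MulAut.conj g) M a₀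
    rw [show (MulAut.conj g).toMonoidHom a₀ = (MulAut.conj g) a₀ from rfl, h1] at hr
    obtain ⟨r₀, hr₀, rfl⟩ := hr
    refine ⟨a₀, ⟨ha₀, ?_⟩, r₀, hr₀, g, ?_⟩
    · intro h
      apply ha1
      rw [Set.mem_singleton_iff.mp h, map_one]
    · simp [MulAut.conj_apply, mul_assoc]

theorem conj_mem_tildeSigma {M : Subgroup G} {t : G} (ht : t ∈ tildeSigma M) (y : G) :
    y * t * y⁻¹ ∈ tildeSigma M := by
  obtain ⟨a, ha, r, hr, z, rfl⟩ := ht
  refine ⟨a, ha, r, hr, y * z, ?_⟩
  group

theorem tildeSigma_map_conj (M : Subgroup G) (g : G) :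
    tildeSigma (M.map (MulAut.conj g).toMonoidHom) = tildeSigma M := by
  ext t
  rw [mem_tildeSigma_iff, mem_tildeSigma_iff]
  constructor
  · rintro ⟨h, a, ha, ha1, r, hr, rfl⟩
    rw [← Cfsg.Agent.Lib.Helper34.map_conj_mul] at ha hr
    exact ⟨h * g, a, ha, ha1, r, hr, rfl⟩
  · rintro ⟨h, a, ha, ha1, r, hr, rfl⟩
    refine ⟨h * g⁻¹, a, ?_, ha1, r, ?_, rfl⟩
    · rw [← Cfsg.Agent.Lib.Helper34.map_conj_mul, inv_mul_cancel_right]
      exact ha
    · rw [← Cfsg.Agent.Lib.Helper34.map_conj_mul, inv_mul_cancel_right]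
      exact hr

/-- The literal statement S1433 (B&G Lemma 14.5) for `G`. -/
def Stmt1433 (G : Type*) [Group G] : Prop :=
  ∀ (M N : Subgroup G), IsCoatom M → IsCoatom N → ∀ (x y : G), x ∈ sigmaCore M → y ∈ sigmaCore N →
    x ≠ 1 → y ≠ 1 → x ≠ y → ∀ r ∈ supportR M x, ∀ s ∈ supportR N y, x * r ≠ y * s

theorem isCoatom_map_conj {M : Subgroup G} (hM : IsCoatom M) (g : G) :
    IsCoatom (M.map (MulAut.conj g).toMonoidHom) := isCoatom_map (MulAut.conj g) hM

theorem sigma_map_conj (M : Subgroup G) (g : G) :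
    sigma (M.map (MulAut.conj g).toMonoidHom) = sigma M := sigma_map (MulAut.conj g) M

/-- S1379, first clause: `M̃ ∩ Ñ = ∅` for non-conjugate maximal subgroups. -/
theorem tildeSigma_disjoint_of [Finite G] (h1433 : Stmt1433 G)
    (hσ : ∀ M N : Subgroup G, IsCoatom M → IsCoatom N → (sigma M ∩ sigma N).Nonempty →
      ∃ g : G, N = M.map (MulAut.conj g).toMonoidHom)
    (M N : Subgroup G) (hM : IsCoatom M) (hN : IsCoatom N)
    (hne : ∀ g : G, N ≠ M.map (MulAut.conj g).toMonoidHom) :
    tildeSigma M ∩ tildeSigma N = ∅ := by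
  rw [Set.eq_empty_iff_forall_notMem]
  rintro t ⟨htM, htN⟩
  obtain ⟨g, a, ha, ha1, r, hr, rfl⟩ := (mem_tildeSigma_iff M t).mp htM
  obtain ⟨h, b, hb, hb1, s, hs, hars⟩ := (mem_tildeSigma_iff N _).mp htN
  have hMg := isCoatom_map_conj hM g
  have hNh := isCoatom_map_conj hN h
  have hab : a = b := by
    by_contra hab
    exact h1433 _ _ hMg hNh a b ha hb ha1 hb1 hab r hr s hs hars
  subst hab
  obtain ⟨q, hq, hqa⟩ : ∃ q : ℕ, q.Prime ∧ q ∣ orderOf a :=
    Nat.exists_prime_and_dvd (fun h => ha1 (orderOf_eq_one_iff.mp h))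
  have hqM : q ∈ sigma M := by
    rw [← sigma_map_conj M g]
    apply Cfsg.Agent.Lib.Helper54.sigmaCore_isPi _ q hq
    have h1 : orderOf (⟨a, ha⟩ : sigmaCore (M.map (MulAut.conj g).toMonoidHom)) = orderOf a :=
      Subgroup.orderOf_mk a ha
    rw [← h1] at hqa
    exact hqa.trans (orderOf_dvd_natCard _)
  have hqN : q ∈ sigma N := by
    rw [← sigma_map_conj N h]
    apply Cfsg.Agent.Lib.Helper54.sigmaCore_isPi _ q hq
    have h1 : orderOf (⟨a, hb⟩ : sigmaCore (N.map (MulAut.conj h).toMonoidHom)) = orderOf a :=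
      Subgroup.orderOf_mk a hb
    rw [← h1] at hqa
    exact hqa.trans (orderOf_dvd_natCard _)
  obtain ⟨k, hk⟩ := hσ M N hM hN ⟨q, hqM, hqN⟩
  exact hne k hk

end Tilde

end Cfsg.Agent.Lib.Helper34.TildeEquiv
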