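import Mathlib
import Cfsg.Prelude.Def_Local
import Cfsg.Agent.Lib.Helper34.Cores
import Cfsg.Agent.Lib.Helper34.SylowConj

set_option autoImplicit false

/-!
Helper34 library: `O_{p'}(H)` of a subgroup `H`, viewed inside the ambient group (`coreOf p H`),
its characterisation as the largest `H`-invariant `p'`-subgroup of `H`, and the behaviour on
subnormal subgroups: `O_{p'}(H) = H ⊓ O_{p'}(X)` for `H` subnormal in `X`.
-/

namespace Cfsg.Agent.Lib.Helper34

open Cfsg

variable {X : Type*} [Group X]

/-- `O_{p'}(H)` as a subgroup of the ambient group. -/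
def coreOf (p : ℕ) (H : Subgroup X) : Subgroup X := (pPrimeCore p ↥H).map H.subtype

theorem coreOf_le (p : ℕ) (H : Subgroup X) : coreOf p H ≤ H :=
  Subgroup.map_subtype_le _

theorem coreOf_subgroupOf (p : ℕ) (H : Subgroup X) :
    (coreOf p H).subgroupOf H = pPrimeCore p ↥H := by
  unfold coreOf Subgroup.subgroupOf
  exact Subgroup.comap_map_eq_self_of_injective H.subtype_injective _

theorem card_coreOf (p : ℕ) (H : Subgroup X) :
    Nat.card ↥(coreOf p H) = Nat.card ↥(pPrimeCore p ↥H) :=
  (Nat.card_congr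
    ((pPrimeCore p ↥H).equivMapOfInjective H.subtype H.subtype_injective).toEquiv).symm

theorem card_coreOf_coprime [Finite X] (p : ℕ) (H : Subgroup X) :
    (Nat.card ↥(coreOf p H)).Coprime p := by
  rw [card_coreOf]
  exact pPrimeCore_card_coprime p

theorem le_normalizer_coreOf (p : ℕ) (H : Subgroup X) :
    H ≤ Subgroup.normalizer (coreOf p H : Set X) := by
  have h := pPrimeCore_isNormal (G := ↥H) p
  rw [← coreOf_subgroupOf, Subgroup.normal_subgroupOf_iff_le_normalizer (coreOf_le p H)] at h
  exact h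

/-- `O_{p'}(H)` contains every `H`-invariant `p'`-subgroup of `H`. -/
theorem le_coreOf {p : ℕ} {N H : Subgroup X} (hNH : N ≤ H)
    (hn : H ≤ Subgroup.normalizer (N : Set X)) (hc : (Nat.card ↥N).Coprime p) :
    N ≤ coreOf p H := by
  have h1 : (N.subgroupOf H).Normal := (Subgroup.normal_subgroupOf_iff_le_normalizer hNH).mpr hn
  have h2 : Nat.card ↥(N.subgroupOf H) = Nat.card ↥N :=
    Nat.card_congr (Subgroup.subgroupOfEquivOfLe hNH).toEquiv
  have h3 : N.subgroupOf H ≤ pPrimeCore p ↥H := le_pPrimeCore_of_normal h1 (by rw [h2]; exact hc)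
  calc N = (N.subgroupOf H).map H.subtype := (Subgroup.map_subgroupOf_eq_of_le hNH).symm
    _ ≤ coreOf p H := Subgroup.map_mono h3

/-- Everything normalizing `H` normalizes `O_{p'}(H)`. -/
theorem normalizer_le_normalizer_coreOf [Finite X] (p : ℕ) (H : Subgroup X) :
    Subgroup.normalizer (H : Set X) ≤ Subgroup.normalizer (coreOf p H : Set X) := by
  have key : ∀ g : X, g ∈ Subgroup.normalizer (H : Set X) →
      (coreOf p H).map (MulAut.conj g).toMonoidHom ≤ coreOf p H := by
    intro g hg
    have hHg : H.map (MulAut.conj g).toMonoidHom = H :=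
      Subgroup.mem_normalizer_iff_map_conj_eq.mp hg
    apply le_coreOf
    · calc (coreOf p H).map (MulAut.conj g).toMonoidHom ≤ H.map (MulAut.conj g).toMonoidHom :=
            Subgroup.map_mono (coreOf_le p H)
        _ = H := hHg
    · have h1 := Subgroup.map_mono (f := (MulAut.conj g).toMonoidHom) (le_normalizer_coreOf p H)
      rw [hHg] at h1
      refine h1.trans ?_
      exact Subgroup.le_normalizer_map _
    · rw [card_map_conj]
      exact card_coreOf_coprime p H
  intro g hg
  rw [Subgroup.mem_normalizer_iff_map_conj_eq]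
  apply le_antisymm (key g hg)
  have h2 := key g⁻¹ (inv_mem hg)
  have h3 := Subgroup.map_mono (f := (MulAut.conj g).toMonoidHom) h2
  rw [Subgroup.map_map] at h3
  have h4 : (MulAut.conj g).toMonoidHom.comp (MulAut.conj g⁻¹).toMonoidHom = MonoidHom.id X := by
    ext x
    simp [MulAut.conj_apply, mul_assoc]
  rw [h4, Subgroup.map_id] at h3
  exact h3

theorem coreOf_le_pPrimeCore_of_isSubnormal [Finite X] (p : ℕ) {H : Subgroup X}
    (hH : H.IsSubnormal) : coreOf p H ≤ pPrimeCore p X := by
  induction hH with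
  | top =>
    apply le_pPrimeCore_of_normal
    · rw [← Subgroup.normalizer_eq_top_iff]
      have := normalizer_le_normalizer_coreOf p (⊤ : Subgroup X)
      rw [Subgroup.normalizer_eq_top_iff.mpr Subgroup.normal_top] at this
      exact top_le_iff.mp this
    · exact card_coreOf_coprime p _
  | step H K hle hK hN ih =>
    refine le_trans ?_ ih
    apply le_coreOf ((coreOf_le p H).trans hle)
    · rw [Subgroup.normal_subgroupOf_iff_le_normalizer hle] at hN
      exact hN.trans (normalizer_le_normalizer_coreOf p H)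
    · exact card_coreOf_coprime p H

theorem coreOf_eq_inf_of_isSubnormal [Finite X] (p : ℕ) {H : Subgroup X}
    (hH : H.IsSubnormal) : coreOf p H = H ⊓ pPrimeCore p X := by
  apply le_antisymm (le_inf (coreOf_le p H) (coreOf_le_pPrimeCore_of_isSubnormal p hH))
  apply le_coreOf inf_le_left
  · intro h hh
    have h1 : h ∈ Subgroup.normalizer (H : Set X) := Subgroup.le_normalizer hh
    have h2 : h ∈ Subgroup.normalizer (pPrimeCore p X : Set X) := by
      have := pPrimeCore_isNormal (G := X) p
      rw [Subgroup.normalizer_eq_top_iff.mpr this]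
      trivial
    rw [Subgroup.mem_normalizer_iff] at h1 h2 ⊢
    intro x
    rw [Subgroup.mem_inf, Subgroup.mem_inf, h1 x, h2 x]
  · exact Nat.Coprime.coprime_dvd_left (Subgroup.card_dvd_of_le inf_le_right)
      (pPrimeCore_card_coprime p)

/-- A subnormal `p'`-subgroup lies in `O_{p'}(X)`. -/
theorem le_pPrimeCore_of_isSubnormal [Finite X] {p : ℕ} {H : Subgroup X}
    (hH : H.IsSubnormal) (hc : (Nat.card ↥H).Coprime p) : H ≤ pPrimeCore p X := by
  refine le_trans ?_ (coreOf_le_pPrimeCore_of_isSubnormal p hH)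
  exact le_coreOf le_rfl Subgroup.le_normalizer hc

/-- `O_{p'}(X / O_{p'}(X)) = 1`. -/
theorem pPrimeCore_quotient_pPrimeCore_eq_bot [Finite X] (p : ℕ) :
    pPrimeCore p (X ⧸ pPrimeCore p X) = ⊥ := by
  refine sSup_eq_bot.mpr ?_
  rintro M ⟨hMn, hMc⟩
  have hsurj : Function.Surjective (QuotientGroup.mk' (pPrimeCore p X)) :=
    QuotientGroup.mk'_surjective _
  have h1 : (M.comap (QuotientGroup.mk' (pPrimeCore p X))).Normal := hMn.comap _
  have h2 : Nat.card ↥(M.comap (QuotientGroup.mk' (pPrimeCore p X))) =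
      Nat.card ↥(pPrimeCore p X) * Nat.card ↥M :=
    QuotientGroup.card_preimage_mk (pPrimeCore p X) (M : Set (X ⧸ pPrimeCore p X))
  have h3 : (Nat.card ↥(M.comap (QuotientGroup.mk' (pPrimeCore p X)))).Coprime p := by
    rw [h2]
    exact Nat.Coprime.mul_left (pPrimeCore_card_coprime p) hMc
  have h4 : M.comap (QuotientGroup.mk' (pPrimeCore p X)) ≤ pPrimeCore p X :=
    le_pPrimeCore_of_normal h1 h3
  rw [eq_bot_iff]
  intro m hm
  obtain ⟨g, rfl⟩ := hsurj m
  have hg : g ∈ pPrimeCore p X := h4 hm
  rw [Subgroup.mem_bot]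
  exact (QuotientGroup.eq_one_iff g).mpr hg

/-- A subnormal `p'`-subgroup of `X / O_{p'}(X)` is trivial. -/
theorem eq_bot_of_isSubnormal_quotient_pPrimeCore [Finite X] {p : ℕ}
    {M : Subgroup (X ⧸ pPrimeCore p X)} (hM : M.IsSubnormal) (hc : (Nat.card ↥M).Coprime p) :
    M = ⊥ := by
  have := le_pPrimeCore_of_isSubnormal hM hc
  rwa [pPrimeCore_quotient_pPrimeCore_eq_bot, le_bot_iff] at this

end Cfsg.Agent.Lib.Helper34
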