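import Mathlib
import Cfsg.Prelude.Def_Local
import Cfsg.Agent.Lib.Helper34.CoreOf
import Cfsg.Agent.Lib.Helper22.Quasisimple

set_option autoImplicit false

/-!
Helper34 library: basic theory of `p`-components (`Cfsg.IsPComponent`).

* `exists_isPComponent_map_eq`: over every component of `X / O_{p'}(X)` lies a `p`-component.
* `quotient_pPrimeCore_equiv_map`: for `K` subnormal, `K / O_{p'}(K) ≃* K O_{p'}(X) / O_{p'}(X)`.
* `isQuasisimple_quotient_of_isPComponent`: `K / O_{p'}(K)` is quasisimple for a `p`-component `K`.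
* `exists_mul_mem_centralizer_of_coprime`: a coprime fixed-point lemma for cosets.
-/

namespace Cfsg.Agent.Lib.Helper34

open Cfsg

variable {X : Type*} [Group X]

/-- Over every subnormal subgroup of `X / O_{p'}(X)` there is a minimal subnormal subgroup of `X`
mapping onto it. -/
theorem exists_minimal_isSubnormal_map_eq [Finite X] (p : ℕ)
    {Kbar : Subgroup (X ⧸ pPrimeCore p X)} (h : Kbar.IsSubnormal) :
    ∃ K : Subgroup X, K.IsSubnormal ∧ K.map (QuotientGroup.mk' (pPrimeCore p X)) = Kbar ∧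
      ∀ H : Subgroup X, H.IsSubnormal → H ≤ K →
        H.map (QuotientGroup.mk' (pPrimeCore p X)) = K.map (QuotientGroup.mk' (pPrimeCore p X)) →
        H = K := by
  have hex : ∃ H : Subgroup X,
      H.IsSubnormal ∧ H.map (QuotientGroup.mk' (pPrimeCore p X)) = Kbar :=
    ⟨Kbar.comap (QuotientGroup.mk' (pPrimeCore p X)), h.comap _,
      Subgroup.map_comap_eq_self_of_surjective (QuotientGroup.mk'_surjective _) _⟩
  obtain ⟨K, hK, hmin⟩ := exists_minimal_of_wellFoundedLT
    (fun H : Subgroup X => H.IsSubnormal ∧ H.map (QuotientGroup.mk' (pPrimeCore p X)) = Kbar) hex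
  refine ⟨K, hK.1, hK.2, ?_⟩
  intro H hH hle heq
  exact le_antisymm hle (hmin ⟨hH, heq.trans hK.2⟩ hle)

/-- Over every component of `X / O_{p'}(X)` there is a `p`-component of `X`. -/
theorem exists_isPComponent_map_eq [Finite X] (p : ℕ)
    {Kbar : Subgroup (X ⧸ pPrimeCore p X)} (h : IsComponent Kbar) :
    ∃ K : Subgroup X, IsPComponent p K ∧
      K.map (QuotientGroup.mk' (pPrimeCore p X)) = Kbar := by
  obtain ⟨K, h1, h2, h3⟩ := exists_minimal_isSubnormal_map_eq p h.1
  exact ⟨K, ⟨h1, by rw [h2]; exact h, h3⟩, h2⟩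

/-- For `K` subnormal in `X`, `K / O_{p'}(K)` is isomorphic to the image of `K` in
`X / O_{p'}(X)`. -/
theorem quotient_pPrimeCore_equiv_map [Finite X] (p : ℕ) {K : Subgroup X} (hK : K.IsSubnormal) :
    Nonempty (↥K ⧸ pPrimeCore p ↥K ≃* ↥(K.map (QuotientGroup.mk' (pPrimeCore p X)))) := by
  set φ : ↥K →* X ⧸ pPrimeCore p X := (QuotientGroup.mk' (pPrimeCore p X)).comp K.subtype with hφ
  have hker : φ.ker = pPrimeCore p ↥K := by
    rw [← coreOf_subgroupOf, coreOf_eq_inf_of_isSubnormal p hK]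
    ext k
    rw [MonoidHom.mem_ker, Subgroup.mem_subgroupOf, Subgroup.mem_inf, hφ, MonoidHom.comp_apply,
      QuotientGroup.mk'_apply, QuotientGroup.eq_one_iff]
    simp
  have hrange : φ.range = K.map (QuotientGroup.mk' (pPrimeCore p X)) := by
    rw [hφ, MonoidHom.range_comp, Subgroup.range_subtype]
  exact ⟨((QuotientGroup.quotientMulEquivOfEq hker).symm.trans
    (QuotientGroup.quotientKerEquivRange φ)).trans (MulEquiv.subgroupCongr hrange)⟩

/-- `K / O_{p'}(K)` is quasisimple for a `p`-component `K`. -/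
theorem isQuasisimple_quotient_of_isPComponent [Finite X] {p : ℕ} {K : Subgroup X}
    (hK : IsPComponent p K) : IsQuasisimple (↥K ⧸ pPrimeCore p ↥K) := by
  obtain ⟨e⟩ := quotient_pPrimeCore_equiv_map p hK.1
  exact Cfsg.Agent.Lib.Helper29.isQuasisimple_of_mulEquiv e.symm hK.2.1.2

/-- If conjugation by `g` maps the finite subgroup `H` into itself then `g` normalizes `H`. -/
theorem mem_normalizer_of_map_conj_le [Finite X] {H : Subgroup X} {g : X}
    (h : H.map (MulAut.conj g).toMonoidHom ≤ H) : g ∈ Subgroup.normalizer (H : Set X) := by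
  rw [Subgroup.mem_normalizer_iff_map_conj_eq]
  exact Subgroup.eq_of_le_of_card_ge h (card_map_conj H g).ge

/-- Coprime fixed points in a coset: if the `p`-element `y` normalizes the `p'`-group `W` and
`[y, k] ∈ W`, then the coset `W k` contains an element centralizing `y`. -/
theorem exists_mul_mem_centralizer_of_coprime [Finite X] {p : ℕ} [Fact p.Prime] {W : Subgroup X}
    (hW : (Nat.card ↥W).Coprime p) {y : X} (hy : y ^ p = 1)
    (hyW : y ∈ Subgroup.normalizer (W : Set X)) {k : X} (hk : y * k * y⁻¹ * k⁻¹ ∈ W) :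
    ∃ w ∈ W, w * k ∈ Subgroup.centralizer ({y} : Set X) := by
  classical
  have hmem : ∀ w : ↥W, y * ((w : X) * k) * y⁻¹ * k⁻¹ ∈ W := by
    intro w
    have h1 : y * (w : X) * y⁻¹ ∈ W := (Subgroup.mem_normalizer_iff.mp hyW _).mp w.2
    have h2 : y * ((w : X) * k) * y⁻¹ * k⁻¹ = (y * (w : X) * y⁻¹) * (y * k * y⁻¹ * k⁻¹) := by
      group
    rw [h2]
    exact mul_mem h1 hk
  let f : Function.End ↥W := fun w => ⟨y * ((w : X) * k) * y⁻¹ * k⁻¹, hmem w⟩
  have hiter : ∀ (n : ℕ) (w : ↥W), (((f ^ n) w : ↥W) : X) = y ^ n * ((w : X) * k) * (y ^ n)⁻¹ * k⁻¹ := by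
    intro n
    induction n with
    | zero =>
      intro w
      rw [pow_zero]
      change (w : X) = _
      simp
    | succ n ih =>
      intro w
      rw [pow_succ']
      change y * ((((f ^ n) w : ↥W) : X) * k) * y⁻¹ * k⁻¹ = _
      rw [ih w, pow_succ']
      group
  have hfp : f ^ p ^ 1 = 1 := by
    rw [pow_one]
    funext w
    apply Subtype.ext
    rw [hiter p w, hy]
    change _ = (w : X)
    simp
  let _ : Fintype ↥W := Fintype.ofFinite _
  have hmod := Equiv.Perm.card_fixedPoints_modEq (p := p) (n := 1) hfp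
  have hne : (Function.fixedPoints f).Nonempty := by
    by_contra hempty
    rw [Set.not_nonempty_iff_eq_empty] at hempty
    have h0 : Fintype.card (Function.fixedPoints f) = 0 := by
      rw [Fintype.card_eq_zero_iff]
      rw [hempty]
      exact Set.isEmpty_coe_sort.mpr rfl
    rw [h0, Nat.modEq_zero_iff_dvd, ← Nat.card_eq_fintype_card] at hmod
    have h1 : p ∣ Nat.gcd (Nat.card ↥W) p := Nat.dvd_gcd hmod dvd_rfl
    rw [hW] at h1
    exact (Fact.out : p.Prime).one_lt.ne' (Nat.dvd_one.mp h1)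
  obtain ⟨w, hw⟩ := hne
  refine ⟨w, w.2, ?_⟩
  rw [Subgroup.mem_centralizer_iff]
  intro z hz
  rw [Set.mem_singleton_iff] at hz
  rw [hz]
  have h3 : y * ((w : X) * k) * y⁻¹ * k⁻¹ = (w : X) := congrArg Subtype.val hw
  have h4 : y * ((w : X) * k) * y⁻¹ = (w : X) * k := by
    calc y * ((w : X) * k) * y⁻¹ = (y * ((w : X) * k) * y⁻¹ * k⁻¹) * k := by group
      _ = (w : X) * k := by rw [h3]
  calc y * ((w : X) * k) = y * ((w : X) * k) * y⁻¹ * y := by group
    _ = (w : X) * k * y := by rw [h4]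

end Cfsg.Agent.Lib.Helper34
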