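import Cfsg.Agent.Lib.Helper34.PFParity
import Cfsg.Agent.Lib.Helper10.PF14Tour
import Cfsg.Agent.Lib.Helper52.FrobSetup
import Cfsg.Agent.Lib.Helper52.CohTILinear
import Cfsg.Agent.S1524

/-!
# PF sec. 14, case (b): the tournament and parity bounds for Frobenius classes (module PF14-[END])

A *Frobenius class* `FrobClass L H` in `G`: `1 ≠ H < L`, `H ⊴ L`, `C_L(h) ≤ H` for `h ∈ H#`
(so `L` is a Frobenius group with kernel `H`), `H` a T.I. subset of `G` with normaliser `L`.
(For a maximal subgroup `L` of Type I of a minimal simple group of odd order and `H = L_F` this is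
what PF (12.7)/S1541/S1549 give.)  Coherence comes from Sibley's theorem (S1524), exactly as in
S1526, so the statements below have no character-theoretic hypotheses:

* `tournament_frobenius` : two Frobenius classes without fusion in a group of odd order satisfy
  `|H'| + e' ≤ e e' + 1` or `|H| + e ≤ e e' + 1` (`e = |L : H|`, `e' = |L' : H'|`);
* `parity_frobenius` : a real generalized character `Θ` which is constant `= t` on `H#`, with
  `t - ⟨Θ,1⟩` odd, has `|H| - 1 ≤ e ‖Θ‖²`.
-/

set_option autoImplicit false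
set_option linter.unusedSectionVars false
set_option linter.style.haveILetI false

namespace Cfsg.Agent.Lib.Helper34.PF14End

open Cfsg Cfsg.Agent.Lib.Helper74 Cfsg.Agent.Lib.Helper78 Cfsg.Agent.Lib.Helper75
open Cfsg.Agent.Lib.Helper52 Cfsg.Agent.Lib.Helper34
open scoped ComplexConjugate

universe u

variable {G : Type u} [Group G]

/-- a Frobenius class: `L` Frobenius with kernel `H`, `H` T.I. in `G` with normaliser `L` -/
structure FrobClass (L H : Subgroup G) : Prop where
  lt : H < L
  ne_bot : H ≠ ⊥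
  normal : ∀ x ∈ L, ∀ h ∈ H, x * h * x⁻¹ ∈ H
  frob : ∀ h ∈ H, h ≠ 1 → L ⊓ Subgroup.centralizer ({h} : Set G) ≤ H
  ti : Cfsg.IsTISubset (H : Set G)
  nor : Subgroup.normalizer (H : Set G) = L

namespace FrobClass

variable {L H : Subgroup G}

theorem ti' (c : FrobClass L H) :
    ∀ g : G, g ∉ Subgroup.normalizer (H : Set G) → ∀ k ∈ H, g * k * g⁻¹ ∈ H → k = 1 := c.ti

theorem lt_nor (c : FrobClass L H) : H < Subgroup.normalizer (H : Set G) := by
  rw [c.nor]; exact c.lt

/-- the full centraliser of `h ∈ H#` lies in `H` -/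
theorem cent (c : FrobClass L H) :
    ∀ k ∈ H, k ≠ 1 → Subgroup.centralizer ({k} : Set G) ≤ H := by
  intro k hk hk1 g hg
  have hg' := Subgroup.mem_centralizer_singleton_iff.mp hg
  have hgN : g ∈ Subgroup.normalizer (H : Set G) := by
    by_contra hgN
    apply hk1
    apply c.ti' g hgN k hk
    have : g * k * g⁻¹ = k := by rw [hg']; group
    rw [this]
    exact hk
  apply c.frob k hk hk1
  rw [c.nor] at hgN
  exact Subgroup.mem_inf.mpr ⟨hgN, hg⟩

theorem nilpotent (c : FrobClass L H) [Finite G] : Group.IsNilpotent H :=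
  (frobenius_kernel_setup H L c.lt c.ne_bot c.normal c.frob).1

section Fin

variable [Fintype G] [Fintype ↥(Subgroup.normalizer (H : Set G))]

/-- coherence of the relevant characters (Sibley, S1524) -/
theorem coherent (c : FrobClass L H) (hodd : Odd (Nat.card G)) :
    IsCoherent (tifnS H) ({1}ᶜ : Set ↥(Subgroup.normalizer (H : Set G)))
      (fun α : ↥(Subgroup.normalizer (H : Set G)) → ℂ =>
        indFun (Subgroup.normalizer (H : Set G)) α) := by
  obtain ⟨hnil, W, hWL, hW1, hinf, hsup, hfpf⟩ :=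
    frobenius_kernel_setup H L c.lt c.ne_bot c.normal c.frob
  have hoddL : Odd (Nat.card ↥(Subgroup.normalizer (H : Set G))) :=
    Odd.of_dvd_nat hodd (Subgroup.card_subgroup_dvd_card _)
  have hN := c.nor
  have h := Cfsg.Agent.S1524.result H (Subgroup.normalizer (H : Set G)) W hoddL
    Subgroup.le_normalizer (by rw [hN]; exact hWL) c.ne_bot hW1 hnil
    (by rw [hN]; exact c.normal) hinf (by rw [hN]; exact hsup) hfpf c.ti rfl
  rw [inducedIrrAbove_eq_tifnS c.cent] at h
  exact h

theorem exists_lin (c : FrobClass L H) :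
    ∃ ζ : RelChar H, (ζ.1 : ↥(Subgroup.normalizer (H : Set G)) → ℂ) 1 =
      ((H.subgroupOf (Subgroup.normalizer (H : Set G))).index : ℂ) :=
  exists_relChar_degree_index c.cent c.ne_bot c.nilpotent

end Fin

theorem index_eq (c : FrobClass L H) :
    (H.subgroupOf (Subgroup.normalizer (H : Set G))).index = H.relIndex L := by
  rw [c.nor]; rfl

end FrobClass

/-- **Tournament bound for two Frobenius classes** without fusion in a group of odd order. -/
theorem tournament_frobenius [Finite G] (hodd : Odd (Nat.card G)) {L H L' H' : Subgroup G}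
    (c : FrobClass L H) (c' : FrobClass L' H')
    (hnf : ∀ g : G, ∀ k ∈ H, g * k * g⁻¹ ∈ H' → k = 1) :
    Nat.card H' + H'.relIndex L' ≤ H.relIndex L * H'.relIndex L' + 1 ∨
      Nat.card H + H.relIndex L ≤ H.relIndex L * H'.relIndex L' + 1 := by
  classical
  haveI : Fintype G := Fintype.ofFinite G
  haveI : Fintype ↥(Subgroup.normalizer (H : Set G)) := Fintype.ofFinite _
  haveI : Fintype ↥(Subgroup.normalizer (H' : Set G)) := Fintype.ofFinite _
  have h := tournament_bound hodd c.ne_bot c'.ne_bot c.ti' c'.ti' c.lt_nor c'.lt_nor c.cent c'.cent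
    (c.coherent hodd) (c'.coherent hodd) c.exists_lin c'.exists_lin hnf
  rw [c.index_eq, c'.index_eq] at h
  exact h

/-- **Parity bound for a Frobenius class**: `Θ` a real generalized character of `G` (`|G|` odd),
constant `= t` on `H#`, `t - ⟨Θ,1⟩` odd.  Then `|H| - 1 ≤ |L : H| ‖Θ‖²`. -/
theorem parity_frobenius [Fintype G] (hodd : Odd (Nat.card G)) {L H : Subgroup G}
    (c : FrobClass L H) {Θ : G → ℂ} (hΘ : IsGeneralizedCharacter G Θ)
    (hr : ∀ g, (Θ g).im = 0) (a₁ N t : ℤ)
    (h1 : classInner Θ (fun _ => (1 : ℂ)) = a₁) (hN : classInner Θ Θ = N)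
    (hconst : ∀ k ∈ H, k ≠ 1 → Θ k = (t : ℂ)) (hodd' : Odd (t - a₁)) :
    (Nat.card H : ℤ) - 1 ≤ (H.relIndex L : ℤ) * N := by
  classical
  haveI : Fintype ↥(Subgroup.normalizer (H : Set G)) := Fintype.ofFinite _
  have hcf : IsClassFunction G Θ := Cfsg.Agent.Lib.Helper10.PF14Tour.isClassFunction_of_gen hΘ
  choose a ha using fun ψ => Cfsg.Agent.Lib.Helper10.PF14Tour.gen_coeff_int hΘ ψ
  have hΘa : Θ = genChar a := by
    conv_lhs => rw [classFunction_eq_sum_irr hcf]
    funext x
    unfold genChar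
    rw [Finset.sum_apply]
    apply Finset.sum_congr rfl
    intro ψ _
    rw [Pi.smul_apply, ha ψ, smul_eq_mul]
  have hac : ∀ ψ, a (conjIrrChar ψ) = a ψ := by
    intro ψ
    have h2 := Cfsg.Agent.Lib.Helper10.PF14Tour.classInner_conjIrrChar hr ψ
    rw [ha, ha, map_intCast] at h2
    exact_mod_cast h2
  have ha1 : a oneIrr = a₁ := by
    have h2 := ha oneIrr
    have h3 : ((oneIrr : IrrCharacter G) : G → ℂ) = fun _ => (1 : ℂ) := rfl
    rw [h3, h1] at h2
    exact_mod_cast h2.symm
  have hNa : (N : ℂ) = ((∑ ψ : IrrCharacter G, (a ψ) ^ 2 : ℤ) : ℂ) := by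
    rw [← hN, classInner_eq_sum_mul_conj Θ hcf]
    push_cast
    apply Finset.sum_congr rfl
    intro ψ _
    rw [ha ψ, map_intCast]
    ring
  have hNa' : N = ∑ ψ : IrrCharacter G, (a ψ) ^ 2 := by exact_mod_cast hNa
  have h := parity_bound hodd c.ne_bot c.ti' c.lt_nor c.cent (c.coherent hodd) c.exists_lin a t hac
    (fun k hk hk1 => by rw [← hΘa]; exact hconst k hk hk1) (by rw [ha1]; exact hodd')
  rw [c.index_eq, ← hNa'] at h
  exact h

end Cfsg.Agent.Lib.Helper34.PF14End
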