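import Cfsg.Agent.Lib.Helper34.PF14EndNum
import Cfsg.Agent.Lib.Helper34.PF14EndFrob
import Cfsg.Agent.Lib.Helper82.NilAbelCyclic
import Cfsg.Agent.Lib.Helper74.SibleySetup

/-!
# PF sec. 14, case (b): the endgame at the level of subgroups (module PF14-[END])

`L ≥ N_G(U)` is a Frobenius class `FrobClass L H` with `U ≤ H` and `|L : H| = pq`
(S1549, alternative (b)); `|U| = n = (p^q-1)/(p-1)`, `|V| = v = (q^p-1)/(q-1)`.

* `eq_of_caseA` : a second Frobenius class `(L', H')` with `V ≤ H'`, `|L' : H'| ∈ {p, pq}`, no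
  fusion with `H`: `H = U` (or the residual `(5,3)` configuration);
* `eq_of_small` : the same with `|L' : H'| = p` (Type III pseudo-class `(V W₂, V)`, or Type II with
  complement `W₂`), all `(p,q)`: `H = U`;
* `eq_of_caseB` : `V^g ≤ H` (`L` conjugate to `L_T`), `Γ_S, Γ_T` real generalized characters
  with `‖Γ_S‖² q = n - 1`, `‖Γ_T‖² p = v - 1`, constant `x - 1`, `y - 1` on `H#`, Bessel for `(x,y)`
  and the three tight cases: `H = V^g`;
* `exists_conj_le_normalizer` : `H` cyclic gives the last clause of S1544.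
-/

set_option autoImplicit false
set_option linter.unusedSectionVars false
set_option linter.style.haveILetI false

namespace Cfsg.Agent.Lib.Helper34.PF14End

open Cfsg Cfsg.Agent.Lib.Helper74

universe u

variable {G : Type u} [Group G]

/-- A group acting fixed-point-freely by conjugation: `|W|` divides `|H| - 1` (Burnside). -/
theorem card_dvd_card_sub_one_of_fpf [Finite G] {H W : Subgroup G}
    (hn : ∀ w ∈ W, ∀ h ∈ H, w * h * w⁻¹ ∈ H)
    (hfpf : ∀ w ∈ W, w ≠ 1 → ∀ h ∈ H, w * h = h * w → h = 1) :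
    Nat.card W ∣ Nat.card H - 1 := by
  classical
  haveI : Fintype G := Fintype.ofFinite G
  letI act : MulAction ↥W ↥H :=
    { smul := fun w h => ⟨(w : G) * h * (w : G)⁻¹, hn w w.2 h h.2⟩
      one_smul := fun h => Subtype.ext (by
        show ((1 : W) : G) * (h : G) * ((1 : W) : G)⁻¹ = h
        simp)
      mul_smul := fun a b h => Subtype.ext (by
        show ((a * b : W) : G) * (h : G) * ((a * b : W) : G)⁻¹ =
          (a : G) * ((b : G) * (h : G) * (b : G)⁻¹) * (a : G)⁻¹
        simp [mul_assoc]) }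
  have hsmul : ∀ (w : W) (h : H), ((w • h : H) : G) = (w : G) * h * (w : G)⁻¹ := fun _ _ => rfl
  have hB := MulAction.sum_card_fixedBy_eq_card_orbits_mul_card_group ↥W ↥H
  have h1 : Fintype.card (MulAction.fixedBy ↥H (1 : W)) = Fintype.card H := by
    apply Fintype.card_of_subtype Finset.univ
    intro x
    simp
  have h2 : ∀ w : W, w ≠ 1 → Fintype.card (MulAction.fixedBy ↥H w) = 1 := by
    intro w hw
    apply Fintype.card_of_subtype {(1 : H)}
    intro x
    rw [Finset.mem_singleton, MulAction.mem_fixedBy]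
    constructor
    · rintro rfl
      apply Subtype.ext
      rw [hsmul]
      simp
    · intro hx
      have hx' := congrArg Subtype.val hx
      rw [hsmul] at hx'
      have hcomm : (w : G) * (x : G) = (x : G) * (w : G) := by
        calc (w : G) * (x : G) = ((w : G) * x * (w : G)⁻¹) * w := by group
          _ = x * w := by rw [hx']
      have := hfpf w w.2 (fun h => hw (Subtype.ext h)) x x.2 hcomm
      exact Subtype.ext this
  rw [Fintype.sum_eq_add_sum_compl (1 : W), h1] at hB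
  have h3 : ∑ w ∈ ({(1 : W)} : Finset W)ᶜ, Fintype.card (MulAction.fixedBy ↥H w) =
      Fintype.card W - 1 := by
    rw [Finset.sum_congr rfl (fun w hw => h2 w (by simpa using hw))]
    simp [Finset.card_compl]
  rw [h3] at hB
  rw [Nat.card_eq_fintype_card, Nat.card_eq_fintype_card]
  have hW : 0 < Fintype.card W := Fintype.card_pos
  have hH : 0 < Fintype.card H := Fintype.card_pos
  set O := Fintype.card (MulAction.orbitRel.Quotient ↥W ↥H) with hO
  have hO1 : 1 ≤ O := by
    rcases Nat.eq_zero_or_pos O with h0 | h0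
    · rw [h0] at hB; omega
    · exact h0
  refine ⟨O - 1, ?_⟩
  have : Fintype.card W * (O - 1) = O * Fintype.card W - Fintype.card W := by
    rw [Nat.mul_sub, mul_one, mul_comm]
  omega

namespace FrobClass

variable [Finite G] {L H : Subgroup G}

/-- the index of the kernel is the order of any complement -/
theorem relIndex_eq_card (c : FrobClass L H) {W : Subgroup G} (hWL : W ≤ L)
    (hinf : H ⊓ W = ⊥) (hsup : H ⊔ W = L) : H.relIndex L = Nat.card W := by
  classical
  haveI : Fintype G := Fintype.ofFinite G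
  haveI : Fintype L := Fintype.ofFinite L
  exact index_subgroupOf_eq_card H L W c.lt.le hWL c.normal hinf hsup

/-- `|L : H|` divides `|H| - 1` -/
theorem relIndex_dvd (c : FrobClass L H) : H.relIndex L ∣ Nat.card H - 1 := by
  obtain ⟨-, W, hWL, -, hinf, hsup, hfpf⟩ :=
    Cfsg.Agent.Lib.Helper52.frobenius_kernel_setup H L c.lt c.ne_bot c.normal c.frob
  rw [c.relIndex_eq_card hWL hinf hsup]
  exact card_dvd_card_sub_one_of_fpf (fun w hw h hh => c.normal w (hWL hw) h hh) hfpf

/-- `|H| ≡ 1 (mod 2 |L : H|)` in a group of odd order -/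
theorem card_modEq_one (c : FrobClass L H) (hodd : Odd (Nat.card G)) :
    Nat.card H ≡ 1 [MOD 2 * H.relIndex L] := by
  have hH : Odd (Nat.card H) := Odd.of_dvd_nat hodd (Subgroup.card_subgroup_dvd_card H)
  have hL : Odd (Nat.card L) := Odd.of_dvd_nat hodd (Subgroup.card_subgroup_dvd_card L)
  have he : Odd (H.relIndex L) := Odd.of_dvd_nat hL (Subgroup.relIndex_dvd_card H L)
  have h2 : 2 ∣ Nat.card H - 1 := by
    obtain ⟨k, hk⟩ := hH
    exact ⟨k, by omega⟩
  have hcop : Nat.Coprime 2 (H.relIndex L) := he.coprime_two_left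
  have h3 : 2 * H.relIndex L ∣ Nat.card H - 1 :=
    Nat.Coprime.mul_dvd_of_dvd_of_dvd hcop h2 c.relIndex_dvd
  have h1 : 1 ≤ Nat.card H := Nat.card_pos
  exact ((Nat.modEq_iff_dvd' h1).mpr h3).symm

end FrobClass

section Main

variable [Finite G] {L H L' H' U V : Subgroup G}

/-- the numeric data of `H ≥ U` -/
theorem FrobClass.numeric (c : FrobClass L H) (hodd : Odd (Nat.card G)) {p q : ℕ}
    (hp : p.Prime) (hq : q.Prime) (hq3 : 3 ≤ q) (hqp : q < p) (hUH : U ≤ H)
    (hU : Nat.card U * (p - 1) = p ^ q - 1) (hUq : Nat.card U ≡ 1 [MOD q])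
    (he : H.relIndex L = p * q) :
    Nat.card U ≡ 1 [MOD 2 * p * q] ∧ Nat.card U ∣ Nat.card H ∧ 0 < Nat.card H ∧
      Nat.card H ≡ 1 [MOD 2 * p * q] := by
  refine ⟨?_, Subgroup.card_dvd_of_le hUH, Nat.card_pos, ?_⟩
  · apply modEq_two_mul_mul p q _ hp hq (by omega) (by omega) (by omega)
      (Odd.of_dvd_nat hodd (Subgroup.card_subgroup_dvd_card U))
      (modEq_one_of_geom p q _ (by omega) (by omega) hU) hUq
  · have h := c.card_modEq_one hodd
    rwa [he, ← mul_assoc] at h

/-- **Case A**: a second Frobenius class `(L', H')` with `V ≤ H'`, `|L' : H'| ∈ {p, pq}`, without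
fusion with `H`, forces `H = U`, except for the residual `(5,3)` configuration. -/
theorem eq_of_caseA (hodd : Odd (Nat.card G)) (c : FrobClass L H) (c' : FrobClass L' H')
    (hnf : ∀ g : G, ∀ k ∈ H, g * k * g⁻¹ ∈ H' → k = 1) {p q : ℕ}
    (hp : p.Prime) (hq : q.Prime) (hq3 : 3 ≤ q) (hqp : q < p) (hUH : U ≤ H) (hVH : V ≤ H')
    (hU : Nat.card U * (p - 1) = p ^ q - 1) (hV : Nat.card V * (q - 1) = q ^ p - 1)
    (hUq : Nat.card U ≡ 1 [MOD q]) (he : H.relIndex L = p * q)
    (he' : H'.relIndex L' = p ∨ H'.relIndex L' = p * q) :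
    H = U ∨ (p = 5 ∧ q = 3 ∧ H'.relIndex L' = 15 ∧ Nat.card H' = 121) := by
  obtain ⟨hn1, hnh, h0, h1⟩ := c.numeric hodd hp hq hq3 hqp hUH hU hUq he
  have t := tournament_frobenius hodd c c' hnf
  rw [he] at t
  rcases caseA_gen p q (Nat.card U) (Nat.card V) (Nat.card H) (Nat.card H') (H'.relIndex L')
    hp hq hq3 hqp hU hV hn1 hnh h0 h1 (Subgroup.card_dvd_of_le hVH) Nat.card_pos he' t with h | h
  · left
    exact (Subgroup.eq_of_le_of_card_ge hUH (le_of_eq h)).symm
  · right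
    exact h

/-- **Small complement** (`|L' : H'| = p`: the Type III pseudo-class `(V W₂, V)`, or `T` of Type II
with complement `W₂`), all `(p,q)`: `H = U`. -/
theorem eq_of_small (hodd : Odd (Nat.card G)) (c : FrobClass L H) (c' : FrobClass L' H')
    (hnf : ∀ g : G, ∀ k ∈ H, g * k * g⁻¹ ∈ H' → k = 1) {p q : ℕ}
    (hp : p.Prime) (hq : q.Prime) (hq3 : 3 ≤ q) (hqp : q < p) (hUH : U ≤ H) (hVH : V ≤ H')
    (hU : Nat.card U * (p - 1) = p ^ q - 1) (hV : Nat.card V * (q - 1) = q ^ p - 1)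
    (hUq : Nat.card U ≡ 1 [MOD q]) (he : H.relIndex L = p * q)
    (he' : H'.relIndex L' = p) : H = U := by
  obtain ⟨hn1, hnh, h0, h1⟩ := c.numeric hodd hp hq hq3 hqp hUH hU hUq he
  have t := tournament_frobenius hodd c c' hnf
  rw [he, he'] at t
  have h := caseA_small p q (Nat.card U) (Nat.card V) (Nat.card H) (Nat.card H')
    hp hq hq3 hqp hU hV hn1 hnh h0 h1 (Nat.le_of_dvd Nat.card_pos (Subgroup.card_dvd_of_le hVH)) t
  exact (Subgroup.eq_of_le_of_card_ge hUH (le_of_eq h)).symm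

/-- a cyclic kernel: every subgroup of `L` normalises every subgroup of `H` -/
theorem FrobClass.le_normalizer_of_isCyclic (c : FrobClass L H) (hcyc : IsCyclic H) (hUH : U ≤ H)
    {W : Subgroup G} (hWL : W ≤ L) : W ≤ Subgroup.normalizer (U : Set G) := by
  intro w hw
  have : w ∈ Subgroup.normalizer (H : Set G) := by rw [c.nor]; exact hWL hw
  exact Cfsg.Agent.Lib.Helper82.NilAbel.mem_normalizer_of_le_cyclic hcyc hUH this

/-- **The last clause of S1544** from `H` cyclic and alternative (b) of S1549. -/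
theorem exists_conj_le_normalizer (c : FrobClass L H) (hcyc : IsCyclic H) (hUH : U ≤ H)
    {TF W₁ W₂ : Subgroup G}
    (hb : ∃ y ∈ TF, H ⊓ (W₁ ⊔ W₂.map (MulAut.conj y).toMonoidHom) = ⊥ ∧
      H ⊔ (W₁ ⊔ W₂.map (MulAut.conj y).toMonoidHom) = L) :
    ∃ y ∈ TF, W₂.map (MulAut.conj y).toMonoidHom ≤ Subgroup.normalizer (U : Set G) := by
  obtain ⟨y, hy, -, hsup⟩ := hb
  refine ⟨y, hy, c.le_normalizer_of_isCyclic hcyc hUH ?_⟩
  rw [← hsup]
  exact le_sup_right.trans le_sup_right

/-- a conjugate of a cyclic subgroup is cyclic -/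
theorem isCyclic_map_conj (hV : IsCyclic V) (g : G) :
    IsCyclic (V.map (MulAut.conj g).toMonoidHom) := by
  haveI := hV
  exact isCyclic_of_surjective
    (V.equivMapOfInjective (MulAut.conj g).toMonoidHom (MulAut.conj g).injective).toMonoidHom
    (V.equivMapOfInjective (MulAut.conj g).toMonoidHom (MulAut.conj g).injective).surjective

end Main

section CaseB

variable [Fintype G] {L H U V : Subgroup G}

/-- **Case B** (`L` conjugate to `L_T`, so `V^g ≤ H`): `H = V^g`.
`Γ_S, Γ_T` are the real generalized characters of PF (13.6) for `S` and `T` (`‖Γ_S‖² = (n-1)/q`,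
`‖Γ_T‖² = (v-1)/p`, orthogonal to `1`, constant `x - 1`, `y - 1` on `H#`), `hB` is Bessel for `Ξ_L`,
and the three tight cases of Bessel are supplied by the caller. -/
theorem eq_of_caseB (hodd : Odd (Nat.card G)) (c : FrobClass L H) {p q : ℕ}
    (hp : p.Prime) (hq : q.Prime) (hq3 : 3 ≤ q) (hqp : q < p) (hUH : U ≤ H) (g : G)
    (hVg : V.map (MulAut.conj g).toMonoidHom ≤ H)
    (hU : Nat.card U * (p - 1) = p ^ q - 1) (hV : Nat.card V * (q - 1) = q ^ p - 1)
    (hUq : Nat.card U ≡ 1 [MOD q]) (he : H.relIndex L = p * q)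
    {ΓS ΓT : G → ℂ} (hS : IsGeneralizedCharacter G ΓS) (hT : IsGeneralizedCharacter G ΓT)
    (hSr : ∀ g, (ΓS g).im = 0) (hTr : ∀ g, (ΓT g).im = 0)
    (hS1 : classInner ΓS (fun _ => (1 : ℂ)) = 0) (hT1 : classInner ΓT (fun _ => (1 : ℂ)) = 0)
    (NS NT : ℤ) (hNS : classInner ΓS ΓS = NS) (hNT : classInner ΓT ΓT = NT)
    (hNSq : NS * q = (Nat.card U : ℤ) - 1) (hNTp : NT * p = (Nat.card V : ℤ) - 1)
    (x y : ℤ) (hSx : ∀ k ∈ H, k ≠ 1 → ΓS k = ((x - 1 : ℤ) : ℂ))
    (hTy : ∀ k ∈ H, k ≠ 1 → ΓT k = ((y - 1 : ℤ) : ℂ))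
    (hB : ((q : ℤ) - 1) * y ^ 2 + ((p : ℤ) - 1) * x ^ 2 +
      ((p : ℤ) - 1) * ((q : ℤ) - 1) * (x + y - 1) ^ 2 ≤ (p : ℤ) * q - 1)
    (h1m : x = 1 → y = -1 → 4 * (Nat.card H - 1) ≤ q * (Nat.card V - 1))
    (hm1 : x = -1 → y = 1 → 4 * (Nat.card H - 1) ≤ p * (Nat.card U - 1))
    (h11 : x = 1 → y = 1 → False) :
    H = V.map (MulAut.conj g).toMonoidHom := by
  obtain ⟨hn1, hnh, h0, h1⟩ := c.numeric hodd hp hq hq3 hqp hUH hU hUq he
  have hcardV : Nat.card (V.map (MulAut.conj g).toMonoidHom) = Nat.card V :=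
    Subgroup.card_map_of_injective (MulAut.conj g).injective
  have hvh : Nat.card V ∣ Nat.card H := by
    rw [← hcardV]; exact Subgroup.card_dvd_of_le hVg
  have hv1 := v_modEq_one p q (Nat.card V) hp (by omega) hqp hV
  have hH1 : 1 ≤ Nat.card H := Nat.card_pos
  have hU1 : 1 ≤ Nat.card U := Nat.card_pos
  have hV1 : 1 ≤ Nat.card V := Nat.card_pos
  have oddsub : ∀ w : ℤ, Even w → Odd (w - 1 - 0) := by
    rintro w ⟨k, hk⟩
    exact ⟨k - 1, by omega⟩
  have hx : Even x → Nat.card H - 1 ≤ p * (Nat.card U - 1) := by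
    intro hxe
    have hb := parity_frobenius hodd c hS hSr 0 NS (x - 1) (by simpa using hS1) hNS hSx
      (oddsub x hxe)
    rw [he] at hb
    have e1 : ((p * q : ℕ) : ℤ) * NS = p * (NS * q) := by push_cast; ring
    rw [e1, hNSq] at hb
    zify [hH1, hU1]
    exact hb
  have hy : Even y → Nat.card H - 1 ≤ q * (Nat.card V - 1) := by
    intro hye
    have hb := parity_frobenius hodd c hT hTr 0 NT (y - 1) (by simpa using hT1) hNT hTy
      (oddsub y hye)
    rw [he] at hb
    have e1 : ((p * q : ℕ) : ℤ) * NT = q * (NT * p) := by push_cast; ring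
    rw [e1, hNTp] at hb
    zify [hH1, hV1]
    exact hb
  have h := caseB p q (Nat.card U) (Nat.card V) (Nat.card H) x y hp hq hq3 hqp hU hV hn1 hnh h0 h1
    hvh hv1 hB hx hy h1m hm1 h11
  exact (Subgroup.eq_of_le_of_card_ge hVg (by rw [hcardV, h])).symm

end CaseB

end Cfsg.Agent.Lib.Helper34.PF14End
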