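import Mathlib
import Cfsg.Prelude.Def_GeometricClasses
import Cfsg.Agent.Lib.Helper94.BHRSP.Kit

/-!
# BHRSP-[P5] (helper34): `spGL m F` is contained in no subfield group over a proper subfield.
-/

set_option autoImplicit false

namespace Cfsg.Agent.Lib.Helper94.BHRSP

open Cfsg Cfsg.Geo
open scoped MatrixGroups Matrix Kronecker

namespace P5

variable {F : Type*} [Field F] {ι : Type} [Fintype ι] [DecidableEq ι]

/-- elements of the subfield group, matrix form (any index type) -/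
theorem exists_of_mem_subfieldSubgroup (F₀ : Subfield F) (P g : GL ι F)
    (hg : g ∈ subfieldSubgroup F₀ P) : ∃ (A : GL ι F₀) (μ : Fˣ),
      (g : Matrix ι ι F) * (P : Matrix ι ι F) =
        (μ : F) • ((P : Matrix ι ι F) * (A : Matrix ι ι F₀).map F₀.subtype) := by
  unfold subfieldSubgroup at hg
  rw [Subgroup.mem_map] at hg
  obtain ⟨x, hx, rfl⟩ := hg
  rw [Subgroup.mem_sup_of_normal_right] at hx
  obtain ⟨y, ⟨A, rfl⟩, z, hz, rfl⟩ := hx
  rw [mem_scalars_iff] at hz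
  obtain ⟨μ, hμ⟩ := hz
  refine ⟨A, μ, ?_⟩
  show ((P * (Matrix.GeneralLinearGroup.map F₀.subtype A * z) * P⁻¹ : GL ι F) :
    Matrix ι ι F) * (P : Matrix ι ι F) = _
  rw [← Units.val_mul, inv_mul_cancel_right, Units.val_mul, Units.val_mul, hμ]
  rw [Matrix.mul_smul, Matrix.mul_one, Matrix.mul_smul]
  rfl

end P5

variable {F : Type*} [Field F] [Fintype F] {m : ℕ}

/-- **[P5]** -/
theorem not_spGL_le_subfieldSubgroup (hm : 1 ≤ m) (F₀ : Subfield F) (hF₀ : F₀ ≠ ⊤) (P : GL (Fin m ⊕ Fin m) F) :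
    ¬ spGL m F ≤ subfieldSubgroup F₀ P := by
  intro hle
  obtain ⟨lam, hlam⟩ : ∃ lam : F, lam ∉ F₀ := by
    by_contra hcon
    push Not at hcon
    exact hF₀ (eq_top_iff.mpr fun x _ => hcon x)
  let i₀ : Fin m ⊕ Fin m := Sum.inl ⟨0, by omega⟩
  set PM : Matrix (Fin m ⊕ Fin m) (Fin m ⊕ Fin m) F := (P : Matrix (Fin m ⊕ Fin m) (Fin m ⊕ Fin m) F) with hPM
  set PI : Matrix (Fin m ⊕ Fin m) (Fin m ⊕ Fin m) F := ((P⁻¹ : GL (Fin m ⊕ Fin m) F) : Matrix (Fin m ⊕ Fin m) (Fin m ⊕ Fin m) F) with hPI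
  have hPIP : PI * PM = 1 := by rw [hPI, hPM, ← Units.val_mul, inv_mul_cancel, Units.val_one]
  have hPPI : PM * PI = 1 := by rw [hPI, hPM, ← Units.val_mul, mul_inv_cancel, Units.val_one]
  have hinj : ∀ x y : Fin m ⊕ Fin m → F, PM *ᵥ x = PM *ᵥ y → x = y := by
    intro x y h
    have := congrArg (fun w => PI *ᵥ w) h
    simpa [Matrix.mulVec_mulVec, hPIP] using this
  set p₁ : Fin m ⊕ Fin m → F := PM *ᵥ Pi.single i₀ 1 with hp₁
  have hp₁0 : p₁ ≠ 0 := by
    intro h0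
    have : (Pi.single i₀ (1 : F) : Fin m ⊕ Fin m → F) = 0 := hinj _ _ (by rw [← hp₁, h0, Matrix.mulVec_zero])
    have := congrFun this i₀
    simp at this
  let ψ : Fin m ⊕ Fin m → F := fun j => sympForm m F (PM *ᵥ Pi.single j 1) p₁
  have hψ0 : ψ i₀ = 0 := sympForm_self p₁
  -- some ψ j ≠ 0
  obtain ⟨j, hj⟩ : ∃ j, ψ j ≠ 0 := by
    by_contra hcon
    push Not at hcon
    obtain ⟨x, hx⟩ := exists_sympForm_ne_zero p₁ hp₁0
    apply hx
    rw [sympForm_skew, neg_eq_zero]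
    -- the functional y ↦ f (PM y, p₁) vanishes on the basis
    let φ : (Fin m ⊕ Fin m → F) →ₗ[F] F :=
      ((Cfsg.Agent.Lib.Helper94.sympBilin m F).flip p₁).comp (Matrix.mulVecLin PM)
    have hφ : φ = 0 := by
      apply LinearMap.pi_ext'
      intro k
      apply LinearMap.ext_ring
      simp only [LinearMap.comp_apply, LinearMap.single_apply, LinearMap.zero_apply, φ,
        Matrix.mulVecLin_apply, LinearMap.flip_apply]
      show Cfsg.Agent.Lib.Helper94.sympBilin m F (PM *ᵥ Pi.single k 1) p₁ = 0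
      rw [Cfsg.Agent.Lib.Helper94.sympBilin_apply]
      exact hcon k
    have := LinearMap.congr_fun hφ (PI *ᵥ x)
    simp only [LinearMap.comp_apply, LinearMap.zero_apply, φ, Matrix.mulVecLin_apply,
      LinearMap.flip_apply, Matrix.mulVec_mulVec, hPPI, Matrix.one_mulVec] at this
    change Cfsg.Agent.Lib.Helper94.sympBilin m F x p₁ = 0 at this
    rw [Cfsg.Agent.Lib.Helper94.sympBilin_apply] at this
    exact this
  have hji : j ≠ i₀ := fun h => hj (h ▸ hψ0)
  -- the transvection with centre p₁ and parameter c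
  set c : F := lam / ψ j with hc
  obtain ⟨τ, hτ, hτx⟩ := exists_transvection (m := m) p₁ c
  obtain ⟨A, μ, hA⟩ := P5.exists_of_mem_subfieldSubgroup F₀ P τ (hle hτ)
  set AM : Matrix (Fin m ⊕ Fin m) (Fin m ⊕ Fin m) F := (A : Matrix (Fin m ⊕ Fin m) (Fin m ⊕ Fin m) F₀).map F₀.subtype with hAM
  -- column k of the identity
  have hcol : ∀ k : Fin m ⊕ Fin m,
      (Pi.single k (1 : F) : Fin m ⊕ Fin m → F) + (c * ψ k) • Pi.single i₀ 1 =
        (μ : F) • (AM *ᵥ Pi.single k 1) := by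
    intro k
    apply hinj
    have h1 := congrArg (fun M => M *ᵥ (Pi.single k (1 : F) : Fin m ⊕ Fin m → F)) hA
    simp only [← Matrix.mulVec_mulVec, Matrix.smul_mulVec] at h1
    rw [hτx] at h1
    rw [Matrix.mulVec_add, Matrix.mulVec_smul, Matrix.mulVec_smul, ← h1]
  have h00 := congrFun (hcol i₀) i₀
  have h0j := congrFun (hcol j) i₀
  simp only [Pi.add_apply, Pi.smul_apply, Pi.single_eq_same, smul_eq_mul, mul_one,
    Matrix.mulVec_single_one, Matrix.col_apply, hψ0, mul_zero, add_zero] at h00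
  simp only [Pi.add_apply, Pi.smul_apply, Pi.single_eq_same, smul_eq_mul, mul_one,
    Matrix.mulVec_single_one, Matrix.col_apply, Pi.single_eq_of_ne hji.symm, zero_add] at h0j
  have hAMmem : ∀ a b, AM a b ∈ F₀ := fun a b => by
    rw [hAM, Matrix.map_apply]; exact SetLike.coe_mem _
  have hμ : (μ : F) ∈ F₀ := by
    have : (μ : F) = (AM i₀ i₀)⁻¹ := eq_inv_of_mul_eq_one_left h00.symm
    rw [this]
    exact F₀.inv_mem (hAMmem _ _)
  apply hlam
  have hlam' : lam = c * ψ j := by rw [hc, div_mul_cancel₀ _ hj]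
  rw [hlam', h0j]
  exact F₀.mul_mem hμ (hAMmem _ _)

end Cfsg.Agent.Lib.Helper94.BHRSP
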