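import Mathlib
import Cfsg.Prelude.Def_GeometricClasses
import Cfsg.Prelude.Def_ClassicalGeometry
import Cfsg.Agent.Lib.Helper37.BHRSU.Defs
import Cfsg.Agent.Lib.Helper13.Herm
import Cfsg.Agent.Lib.Helper36.HermNorm
import Cfsg.Agent.Lib.Helper34.BhrspP5

/-!
# BHRSU-[P5-TWO] (helper34, hedge): `SU_n(q)`, `n ≥ 4`, lies in no subfield group over the subfield of index 2.

Direct route (no perfectness needed).  `σ x = x ^ q`.  `Θ := P ∘ σ ∘ P⁻¹` is the `σ`-semilinear "conjugation" of the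
`F₀`-structure spanned by the columns of `P`; every `g` of the subfield group satisfies `Θ g = ζ g Θ` for a scalar `ζ`.
For a unitary transvection `τ = 1 + c N_v` this forces `ζ = 1` (`n ≥ 3`) and `Θ v ∈ F v`.  For the orthogonal isotropic
vectors `v = e₀ + η e₁`, `w = e₂ + η e₃` all `l v + w` are isotropic, and comparing `Θ (l v + w)` gives `σ l = l` for all `l`.
-/

set_option autoImplicit false

namespace Cfsg.Agent.Lib.Helper34.BhrsuP5Two

open Cfsg Cfsg.Geo Cfsg.Agent.Lib.Helper37.BHRSU Cfsg.Agent.Lib.Helper13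
open scoped MatrixGroups Matrix Kronecker

set_option linter.unusedSectionVars false

variable {F : Type*} [Field F] [Fintype F] {n q : ℕ}

theorem exists_not_fixed (hF : Fintype.card F = q ^ 2) : ∃ a : F, a ^ q ≠ a := by
  classical
  by_contra hcon
  push Not at hcon
  have hq : 2 ≤ q := two_le_of_card_eq_sq hF
  have hp : (Polynomial.X ^ q - Polynomial.X : Polynomial F) = 0 := by
    apply Polynomial.eq_zero_of_natDegree_lt_card_of_eval_eq_zero _ (f := id) Function.injective_id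
    · intro a; simp [hcon a]
    · rw [FiniteField.X_pow_card_sub_X_natDegree_eq F (by omega), hF]; nlinarith
  exact FiniteField.X_pow_card_sub_X_ne_zero F (by omega) hp

/-- [K-TV] (own copy): the unitary transvections lie in `SU`. -/
theorem tv_mem (hF : Fintype.card F = q ^ 2) (v : Fin n → F) (hv : hermForm n F q v v = 0) (c : F)
    (hc : c + c ^ q = 0) :
    ∃ g ∈ SUg n F q, (g : Matrix (Fin n) (Fin n) F) = unitaryTransvection n q v c := by
  have hdet : (unitaryTransvection n q v c).det = 1 := by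
    unfold unitaryTransvection
    rw [← Matrix.smul_vecMulVec, Matrix.vecMulVec_eq (ι := Fin 1),
      Matrix.det_one_add_replicateCol_mul_replicateRow]
    have : (fun j => v j ^ q) ⬝ᵥ (c • v) = c * hermForm n F q v v := by
      rw [dotProduct_smul, ← hermForm_eq_dotProduct, smul_eq_mul]
    rw [this, hv, mul_zero, add_zero]
  refine ⟨Matrix.GeneralLinearGroup.mkOfDetNeZero (unitaryTransvection n q v c)
    (by rw [hdet]; exact one_ne_zero), ⟨?_, ?_⟩, rfl⟩
  · intro x y
    show hermForm n F q (unitaryTransvection n q v c *ᵥ x) (unitaryTransvection n q v c *ᵥ y) = _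
    rw [hermForm_unitaryTransvection hF v hv]
    have : c ^ q + c = 0 := by rw [add_comm]; exact hc
    rw [this, zero_mul, add_zero]
  · show _ ∈ (Matrix.GeneralLinearGroup.det : GL (Fin n) F →* Fˣ).ker
    rw [MonoidHom.mem_ker]
    apply Units.ext
    exact hdet

section theta

variable (σ : F →+* F) (P : GL (Fin n) F)

/-- the `σ`-semilinear conjugation attached to the `F₀`-structure spanned by the columns of `P` -/
def Theta (x : Fin n → F) : Fin n → F :=
  (P : Matrix (Fin n) (Fin n) F) *ᵥ (σ ∘ (((P⁻¹ : GL (Fin n) F) : Matrix (Fin n) (Fin n) F) *ᵥ x))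

theorem comp_add' (x y : Fin n → F) : σ ∘ (x + y) = σ ∘ x + σ ∘ y := by
  funext i; simp

theorem comp_smul' (l : F) (x : Fin n → F) : σ ∘ (l • x) = σ l • (σ ∘ x) := by
  funext i; simp

theorem comp_mulVec' (M : Matrix (Fin n) (Fin n) F) (x : Fin n → F) :
    σ ∘ (M *ᵥ x) = M.map σ *ᵥ (σ ∘ x) := by
  funext i
  exact RingHom.map_mulVec σ M x i

theorem Theta_add (x y : Fin n → F) : Theta σ P (x + y) = Theta σ P x + Theta σ P y := by
  unfold Theta
  rw [Matrix.mulVec_add, comp_add', Matrix.mulVec_add]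

theorem Theta_smul (l : F) (x : Fin n → F) : Theta σ P (l • x) = σ l • Theta σ P x := by
  unfold Theta
  rw [Matrix.mulVec_smul, comp_smul', Matrix.mulVec_smul]

theorem Theta_eq_zero {x : Fin n → F} (h : Theta σ P x = 0) : x = 0 := by
  unfold Theta at h
  have h1 := congrArg (fun w => ((P⁻¹ : GL (Fin n) F) : Matrix (Fin n) (Fin n) F) *ᵥ w) h
  simp only [Matrix.mulVec_mulVec, ← Units.val_mul, inv_mul_cancel, Units.val_one, Matrix.one_mulVec,
    Matrix.mulVec_zero] at h1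
  have h2 : ((P⁻¹ : GL (Fin n) F) : Matrix (Fin n) (Fin n) F) *ᵥ x = 0 := by
    funext i
    have := congrFun h1 i
    simp only [Function.comp_apply, Pi.zero_apply] at this
    exact (map_eq_zero σ).1 this
  have h3 := congrArg (fun w => (P : Matrix (Fin n) (Fin n) F) *ᵥ w) h2
  simpa only [Matrix.mulVec_mulVec, ← Units.val_mul, mul_inv_cancel, Units.val_one, Matrix.one_mulVec,
    Matrix.mulVec_zero] using h3

theorem Theta_comm (g AM : Matrix (Fin n) (Fin n) F) (μ : F) (hμ : μ ≠ 0)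
    (hA : g * (P : Matrix (Fin n) (Fin n) F) = μ • ((P : Matrix (Fin n) (Fin n) F) * AM))
    (hAM : AM.map σ = AM) (x : Fin n → F) :
    Theta σ P (g *ᵥ x) = (σ μ * μ⁻¹) • (g *ᵥ Theta σ P x) := by
  set PM : Matrix (Fin n) (Fin n) F := (P : Matrix (Fin n) (Fin n) F) with hPM
  set PI : Matrix (Fin n) (Fin n) F := ((P⁻¹ : GL (Fin n) F) : Matrix (Fin n) (Fin n) F) with hPI
  have hPIP : PI * PM = 1 := by rw [hPI, hPM, ← Units.val_mul, inv_mul_cancel, Units.val_one]
  have hPPI : PM * PI = 1 := by rw [hPI, hPM, ← Units.val_mul, mul_inv_cancel, Units.val_one]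
  set y := PI *ᵥ x with hy
  have hx : x = PM *ᵥ y := by rw [hy, Matrix.mulVec_mulVec, hPPI, Matrix.one_mulVec]
  have hgx : g *ᵥ x = μ • (PM *ᵥ (AM *ᵥ y)) := by
    rw [hx, Matrix.mulVec_mulVec, hA, Matrix.smul_mulVec, ← Matrix.mulVec_mulVec]
  have h1 : PI *ᵥ (g *ᵥ x) = μ • (AM *ᵥ y) := by
    rw [hgx, Matrix.mulVec_smul, Matrix.mulVec_mulVec, hPIP, Matrix.one_mulVec]
  have h2 : Theta σ P (g *ᵥ x) = σ μ • (PM *ᵥ (AM *ᵥ (σ ∘ y))) := by
    unfold Theta
    rw [← hPI, ← hPM, h1, comp_smul', comp_mulVec', hAM, Matrix.mulVec_smul]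
  have h3 : g *ᵥ Theta σ P x = μ • (PM *ᵥ (AM *ᵥ (σ ∘ y))) := by
    unfold Theta
    rw [← hPI, ← hPM, ← hy, Matrix.mulVec_mulVec, hA, Matrix.smul_mulVec, ← Matrix.mulVec_mulVec]
  rw [h2, h3, smul_smul, mul_assoc, inv_mul_cancel₀ hμ, mul_one]

end theta

/-- an isotropic vector is an eigenvector of `Θ` -/
theorem Theta_isotropic (hF : Fintype.card F = q ^ 2) (hn : 3 ≤ n) (σ : F →+* F) (hσ : ∀ x, σ x = x ^ q)
    (hσ2 : ∀ x, σ (σ x) = x) (P : GL (Fin n) F)
    (hcomm : ∀ g ∈ SUg n F q, ∃ ζ : F, ∀ x, Theta σ P ((g : Matrix (Fin n) (Fin n) F) *ᵥ x) =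
      ζ • ((g : Matrix (Fin n) (Fin n) F) *ᵥ Theta σ P x))
    (v : Fin n → F) (hv0 : v ≠ 0) (hv : hermForm n F q v v = 0) :
    ∃ κ : F, Theta σ P v = κ • v := by
  obtain ⟨a, ha⟩ := exists_not_fixed hF
  obtain ⟨c, hc⟩ : ∃ c : F, c = a - σ a := ⟨_, rfl⟩
  have hc0 : c ≠ 0 := fun h => ha (by rw [← hσ]; exact (sub_eq_zero.1 (hc ▸ h)).symm)
  have hcc : c + c ^ q = 0 := by
    rw [← hσ c, hc, map_sub, hσ2]
    ring
  obtain ⟨τ, hτ, hτM⟩ := tv_mem hF v hv c hcc
  obtain ⟨ζ, hζ⟩ := hcomm τ hτ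
  have hτx : ∀ x, (τ : Matrix (Fin n) (Fin n) F) *ᵥ x = x + (c * hermForm n F q x v) • v := by
    intro x; rw [hτM, unitaryTransvection_mulVec]
  have key : ∀ x, Theta σ P x + σ (c * hermForm n F q x v) • Theta σ P v =
      ζ • (Theta σ P x + (c * hermForm n F q (Theta σ P x) v) • v) := by
    intro x
    have := hζ x
    rw [hτx, hτx, Theta_add, Theta_smul] at this
    exact this
  -- Step A: ζ = 1
  have hζ1 : ζ = 1 := by
    let φ₁ : (Fin n → F) →ₗ[F] F :=
      { toFun := fun x => hermForm n F q x v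
        map_add' := fun x y => hermForm_add_left x y v
        map_smul' := fun l x => by
          simp only [RingHom.id_apply, smul_eq_mul]
          exact hermForm_smul_left l x v }
    let φ₂ : (Fin n → F) →ₗ[F] F :=
      { toFun := fun x => σ (hermForm n F q (Theta σ P x) v)
        map_add' := fun x y => by
          show σ (hermForm n F q (Theta σ P (x + y)) v) = _
          rw [Theta_add, hermForm_add_left, map_add]
        map_smul' := fun l x => by
          show σ (hermForm n F q (Theta σ P (l • x)) v) = _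
          rw [Theta_smul, hermForm_smul_left, map_mul, hσ2]
          rfl }
    have hker : LinearMap.ker (φ₁.prod φ₂) ≠ ⊥ := LinearMap.ker_ne_bot_of_finrank_lt (by
      rw [Module.finrank_prod, Module.finrank_self, Module.finrank_fin_fun]; omega)
    obtain ⟨x₀, hx₀, hx₀0⟩ := (Submodule.ne_bot_iff _).1 hker
    rw [LinearMap.mem_ker, LinearMap.prod_apply, Prod.mk_eq_zero] at hx₀
    obtain ⟨h1, h2⟩ := hx₀
    have h1' : hermForm n F q x₀ v = 0 := h1
    have h2' : hermForm n F q (Theta σ P x₀) v = 0 := (map_eq_zero σ).1 h2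
    have hk := key x₀
    rw [h1', h2', mul_zero, map_zero, zero_smul, zero_smul, add_zero] at hk
    have hΘ0 : Theta σ P x₀ ≠ 0 := fun h => hx₀0 (Theta_eq_zero σ P h)
    by_contra hne
    apply hΘ0
    have h3 : (1 - ζ) • Theta σ P x₀ = 0 := by
      rw [sub_smul, one_smul, ← hk, sub_self]
    rcases smul_eq_zero.1 h3 with h | h
    · exact absurd (sub_eq_zero.1 h).symm hne
    · exact h
  -- Step B
  obtain ⟨i, hi⟩ : ∃ i, v i ≠ 0 := by
    by_contra hcon
    push Not at hcon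
    exact hv0 (funext hcon)
  have hf1 : hermForm n F q (Pi.single i 1) v ≠ 0 := by
    rw [hermForm_single_left]
    exact pow_ne_zero _ hi
  have hk := key (Pi.single i 1)
  rw [hζ1, one_smul] at hk
  have hk' := add_left_cancel hk
  have hs0 : σ (c * hermForm n F q (Pi.single i 1) v) ≠ 0 := by
    rw [Ne, map_eq_zero]
    exact mul_ne_zero hc0 hf1
  refine ⟨(σ (c * hermForm n F q (Pi.single i 1) v))⁻¹ *
    (c * hermForm n F q (Theta σ P (Pi.single i 1)) v), ?_⟩
  rw [mul_smul, ← hk', smul_smul, inv_mul_cancel₀ hs0, one_smul]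

theorem herm_pair (i j : Fin n) (η : F) (y : Fin n → F) :
    hermForm n F q (Pi.single i 1 + η • Pi.single j 1) y = (y i) ^ q + η * (y j) ^ q := by
  rw [hermForm_add_left, hermForm_smul_left, hermForm_single_left, hermForm_single_left]

end Cfsg.Agent.Lib.Helper34.BhrsuP5Two

namespace Cfsg.Agent.Lib.Helper37.BHRSU

open Cfsg Cfsg.Geo Cfsg.Agent.Lib.Helper70.AschU Cfsg.Agent.Lib.Helper13 Cfsg.Agent.Lib.Helper34.BhrsuP5Two
open scoped MatrixGroups Matrix Kronecker

variable {F : Type*} [Field F] [Fintype F] {n q : ℕ}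

/-- BHRSU-[P5-TWO] -/
theorem not_SUg_le_subfieldSubgroup_two (hF : Fintype.card F = q ^ 2) (hn : 4 ≤ n) (F₀ : Subfield F)
    (hcard : Fintype.card F = Nat.card F₀ ^ 2) (P : GL (Fin n) F) :
    ¬ SUg n F q ≤ subfieldSubgroup F₀ P := by
  classical
  intro hle
  obtain ⟨σ, hσ, hσ2⟩ := exists_frob hF
  have hq2 : 2 ≤ q := two_le_of_card_eq_sq hF
  have hq0 : Nat.card F₀ = q := by
    have h : Nat.card F₀ ^ 2 = q ^ 2 := by rw [← hcard, hF]
    exact Nat.pow_left_injective (by norm_num) h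
  have hfix : ∀ a : F₀, σ (a : F) = a := by
    intro a
    have : Fintype F₀ := Fintype.ofFinite F₀
    have h := FiniteField.pow_card a
    rw [← Nat.card_eq_fintype_card, hq0] at h
    rw [hσ]
    have h' := congrArg (Subtype.val) h
    simpa using h'
  have hcomm : ∀ g ∈ SUg n F q, ∃ ζ : F, ∀ x, Theta σ P ((g : Matrix (Fin n) (Fin n) F) *ᵥ x) =
      ζ • ((g : Matrix (Fin n) (Fin n) F) *ᵥ Theta σ P x) := by
    intro g hg
    obtain ⟨A, μ, hA⟩ := Cfsg.Agent.Lib.Helper94.BHRSP.P5.exists_of_mem_subfieldSubgroup F₀ P g (hle hg)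
    refine ⟨σ μ * (μ : F)⁻¹, fun x => Theta_comm σ P _ _ μ μ.ne_zero hA ?_ x⟩
    ext i j
    rw [Matrix.map_apply, Matrix.map_apply]
    exact hfix _
  obtain ⟨a, ha⟩ := exists_not_fixed hF
  have hσne : σ ≠ RingHom.id F := by
    intro h; apply ha; rw [← hσ, h]; rfl
  obtain ⟨η, hη⟩ := Cfsg.Agent.Lib.Helper36.exists_mul_map_eq σ hσne hσ2 (-1) (by rw [map_neg, map_one])
  rw [hσ] at hη
  obtain ⟨i0, hi0⟩ : ∃ i : Fin n, i = ⟨0, by omega⟩ := ⟨_, rfl⟩
  obtain ⟨i1, hi1⟩ : ∃ i : Fin n, i = ⟨1, by omega⟩ := ⟨_, rfl⟩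
  obtain ⟨i2, hi2⟩ : ∃ i : Fin n, i = ⟨2, by omega⟩ := ⟨_, rfl⟩
  obtain ⟨i3, hi3⟩ : ∃ i : Fin n, i = ⟨3, by omega⟩ := ⟨_, rfl⟩
  have h01 : i0 ≠ i1 := by rw [hi0, hi1, Ne, Fin.ext_iff]; simp
  have h02 : i0 ≠ i2 := by rw [hi0, hi2, Ne, Fin.ext_iff]; simp
  have h03 : i0 ≠ i3 := by rw [hi0, hi3, Ne, Fin.ext_iff]; simp
  have h12 : i1 ≠ i2 := by rw [hi1, hi2, Ne, Fin.ext_iff]; simp
  have h13 : i1 ≠ i3 := by rw [hi1, hi3, Ne, Fin.ext_iff]; simp
  have h23 : i2 ≠ i3 := by rw [hi2, hi3, Ne, Fin.ext_iff]; simp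
  obtain ⟨v, hvdef⟩ : ∃ v : Fin n → F, v = Pi.single i0 1 + η • Pi.single i1 1 := ⟨_, rfl⟩
  obtain ⟨w, hwdef⟩ : ∃ w : Fin n → F, w = Pi.single i2 1 + η • Pi.single i3 1 := ⟨_, rfl⟩
  have hv_0 : v i0 = 1 := by simp [hvdef, Pi.single_eq_of_ne h01]
  have hv_1 : v i1 = η := by simp [hvdef, Pi.single_eq_of_ne h01.symm]
  have hv_2 : v i2 = 0 := by simp [hvdef, Pi.single_eq_of_ne h02.symm, Pi.single_eq_of_ne h12.symm]
  have hv_3 : v i3 = 0 := by simp [hvdef, Pi.single_eq_of_ne h03.symm, Pi.single_eq_of_ne h13.symm]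
  have hw_0 : w i0 = 0 := by simp [hwdef, Pi.single_eq_of_ne h02, Pi.single_eq_of_ne h03]
  have hw_1 : w i1 = 0 := by simp [hwdef, Pi.single_eq_of_ne h12, Pi.single_eq_of_ne h13]
  have hw_2 : w i2 = 1 := by simp [hwdef, Pi.single_eq_of_ne h23]
  have hw_3 : w i3 = η := by simp [hwdef, Pi.single_eq_of_ne h23.symm]
  have hq0' : q ≠ 0 := by omega
  have hvv : hermForm n F q v v = 0 := by
    conv_lhs => rw [hvdef]
    rw [herm_pair, ← hvdef, hv_0, hv_1, one_pow]
    linear_combination hη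
  have hvw : hermForm n F q v w = 0 := by
    conv_lhs => rw [hvdef]
    rw [herm_pair, hw_0, hw_1, zero_pow hq0']
    ring
  have hwv : hermForm n F q w v = 0 := by
    conv_lhs => rw [hwdef]
    rw [herm_pair, hv_2, hv_3, zero_pow hq0']
    ring
  have hww : hermForm n F q w w = 0 := by
    conv_lhs => rw [hwdef]
    rw [herm_pair, ← hwdef, hw_2, hw_3, one_pow]
    linear_combination hη
  have hv0 : v ≠ 0 := by
    intro h; have := congrFun h i0; rw [hv_0] at this; exact one_ne_zero this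
  have hw0 : w ≠ 0 := by
    intro h; have := congrFun h i2; rw [hw_2] at this; exact one_ne_zero this
  have hn3 : 3 ≤ n := by omega
  obtain ⟨κv, hκv⟩ := Theta_isotropic hF hn3 σ hσ hσ2 P hcomm v hv0 hvv
  obtain ⟨κw, hκw⟩ := Theta_isotropic hF hn3 σ hσ hσ2 P hcomm w hw0 hww
  have hκv0 : κv ≠ 0 := by
    intro h
    rw [h, zero_smul] at hκv
    exact hv0 (Theta_eq_zero σ P hκv)
  have hall : ∀ l : F, σ l * κv = κw * l := by
    intro l
    have hiso : hermForm n F q (l • v + w) (l • v + w) = 0 := by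
      rw [hermForm_add_left, hermForm_smul_left, hermForm_add_right hF, hermForm_add_right hF,
        hermForm_smul_right hF, hermForm_smul_right hF, hvv, hvw, hwv, hww]
      ring
    have hne : l • v + w ≠ 0 := by
      intro h
      have := congrFun h i2
      simp only [Pi.add_apply, Pi.smul_apply, hv_2, hw_2, smul_eq_mul, mul_zero, zero_add,
        Pi.zero_apply] at this
      exact one_ne_zero this
    obtain ⟨κl, hκl⟩ := Theta_isotropic hF hn3 σ hσ hσ2 P hcomm (l • v + w) hne hiso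
    rw [Theta_add, Theta_smul, hκv, hκw] at hκl
    have e2 := congrFun hκl i2
    have e0 := congrFun hκl i0
    simp only [Pi.add_apply, Pi.smul_apply, hv_2, hw_2, hv_0, hw_0, smul_eq_mul, mul_zero, zero_add,
      mul_one, add_zero] at e2 e0
    rw [e0, e2]
  have h1 := hall 1
  rw [map_one, one_mul, mul_one] at h1
  apply ha
  rw [← hσ]
  have h2 := hall a
  rw [← h1, mul_comm κv a] at h2
  exact mul_right_cancel₀ hκv0 h2

end Cfsg.Agent.Lib.Helper37.BHRSU
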