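import Mathlib
import Cfsg.Agent.Lib.Helper34.ThompsonMain

set_option autoImplicit false

/-!
Helper34 library: groups in which a Sylow `p`-subgroup is a maximal subgroup and which have a normal
`p`-complement `Y`: every subgroup of `Y` normalized by the Sylow subgroup is `⊥` or `Y`, and `Y` is abelian.
-/

namespace Cfsg.Agent.Lib.Helper34

open Cfsg

section coatom

variable {G : Type*} [Group G] [Finite G] {p : ℕ} [Fact p.Prime]

/-- (i) a subgroup of the normal `p`-complement normalized by a maximal Sylow `p`-subgroup is trivial or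
everything. -/
theorem eq_bot_or_eq_of_le_normalizer_of_isCoatom (T : Sylow p G) (hT : IsCoatom (T : Subgroup G))
    (Y : Subgroup G) (hY : (Nat.card Y).Coprime p) (R : Subgroup G) (hRY : R ≤ Y)
    (hTR : (T : Subgroup G) ≤ Subgroup.normalizer (R : Set G)) : R = ⊥ ∨ R = Y := by
  have hdisj : (T : Subgroup G) ⊓ Y = ⊥ := by
    apply (Subgroup.disjoint_of_coprime_natCard _).eq_bot
    obtain ⟨k, hk⟩ := T.isPGroup'.exists_card_eq
    rw [hk]
    exact (Nat.Coprime.pow_right k hY).symm
  by_cases hL : (T : Subgroup G) ⊔ R = T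
  · left
    have h1 : R ≤ T := by rw [← hL]; exact le_sup_right
    rw [eq_bot_iff, ← hdisj]
    exact le_inf h1 hRY
  · right
    have hlt : (T : Subgroup G) < (T : Subgroup G) ⊔ R := lt_of_le_of_ne le_sup_left (Ne.symm hL)
    have htop : (T : Subgroup G) ⊔ R = ⊤ := hT.2 _ hlt
    apply le_antisymm hRY
    intro y hy
    have hyL : y ∈ ((T : Subgroup G) ⊔ R : Subgroup G) := by rw [htop]; exact Subgroup.mem_top y
    rw [← SetLike.mem_coe, Subgroup.coe_mul_of_left_le_normalizer_right _ _ hTR] at hyL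
    obtain ⟨t, ht, r, hr, hy'⟩ := hyL
    have hy'' : t * r = y := hy'
    have htY : t ∈ Y := by
      have : t = y * r⁻¹ := by rw [← hy'']; group
      rw [this]
      exact Y.mul_mem hy (Y.inv_mem (hRY hr))
    have ht1 : t ∈ (T : Subgroup G) ⊓ Y := ⟨ht, htY⟩
    rw [hdisj, Subgroup.mem_bot] at ht1
    rw [← hy'', ht1, one_mul]
    exact hr

omit [Finite G] [Fact (Nat.Prime p)] in
/-- (ii) conjugates of maximal Sylow subgroups are maximal. -/
theorem isCoatom_sylow_smul (T : Sylow p G) (hT : IsCoatom (T : Subgroup G)) (x : G) :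
    IsCoatom ((x • T : Sylow p G) : Subgroup G) := by
  rw [sylow_smul_eq_map_conj]
  exact ((MulEquiv.mapSubgroup (MulAut.conj x)).isCoatom_iff (T : Subgroup G)).mpr hT

theorem isCoatom_sylow_all (T : Sylow p G) (hT : IsCoatom (T : Subgroup G)) (T' : Sylow p G) :
    IsCoatom (T' : Subgroup G) := by
  obtain ⟨x, rfl⟩ := MulAction.exists_smul_eq G T T'
  exact isCoatom_sylow_smul T hT x

/-- (iii) the normal `p`-complement is a `q`-group for some prime `q`. -/
theorem exists_isPGroup_of_isCoatom_sylow (T : Sylow p G) (hT : IsCoatom (T : Subgroup G))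
    (Y : Subgroup G) [hYn : Y.Normal] (hY : (Nat.card Y).Coprime p) (hYne : Y ≠ ⊥) :
    ∃ q : ℕ, q.Prime ∧ IsPGroup q Y := by
  have hcard : Nat.card Y ≠ 1 := by
    intro h
    exact hYne (Subgroup.card_eq_one.mp h)
  obtain ⟨q, hq, hqdvd⟩ := Nat.exists_prime_and_dvd hcard
  have : Fact q.Prime := ⟨hq⟩
  refine ⟨q, hq, ?_⟩
  obtain ⟨Pq⟩ : Nonempty (Sylow q ↥Y) := inferInstance
  have hPqne : (Pq : Subgroup ↥Y) ≠ ⊥ := Pq.ne_bot_of_dvd_card hqdvd
  set Qb : Subgroup G := (Pq : Subgroup ↥Y).map Y.subtype with hQb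
  have hQbY : Qb ≤ Y := Subgroup.map_subtype_le _
  have hQbne : Qb ≠ ⊥ := by
    rw [hQb, Ne, Subgroup.map_eq_bot_iff_of_injective _ Y.subtype_injective]
    exact hPqne
  have hfrat : Subgroup.normalizer (Qb : Set G) ⊔ Y = ⊤ := Sylow.normalizer_sup_eq_top Pq
  set N := Subgroup.normalizer (Qb : Set G) with hN
  -- the index of `N` is prime to `p`
  have hidx : ¬ p ∣ N.index := by
    have h1 : Nat.card (N ⊔ Y : Subgroup G) ∣ Nat.card N * Nat.card Y := card_sup_dvd_mul_of_normal N Y
    rw [hfrat, Subgroup.card_top, ← Subgroup.card_mul_index N] at h1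
    have h2 : N.index ∣ Nat.card Y := Nat.dvd_of_mul_dvd_mul_left Nat.card_pos h1
    intro hp
    have := Nat.Coprime.coprime_dvd_left h2 hY
    exact (Nat.Prime.coprime_iff_not_dvd Fact.out).mp this.symm hp
  -- a Sylow `p`-subgroup of `G` inside `N`
  obtain ⟨T₁⟩ : Nonempty (Sylow p ↥N) := inferInstance
  have hcardT : Nat.card ((T₁ : Subgroup ↥N).map N.subtype) = p ^ (Nat.card G).factorization p := by
    rw [Subgroup.card_map_of_injective N.subtype_injective, T₁.card_eq_multiplicity,
      factorization_card_eq_of_index_coprime N hidx]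
  set T' : Sylow p G := Sylow.ofCard _ hcardT with hT'
  have hT'N : (T' : Subgroup G) ≤ N := by
    rw [hT', Sylow.coe_ofCard]
    exact Subgroup.map_subtype_le _
  have hT'co : IsCoatom (T' : Subgroup G) := isCoatom_sylow_all T hT T'
  rcases eq_bot_or_eq_of_le_normalizer_of_isCoatom T' hT'co Y hY Qb hQbY hT'N with h | h
  · exact absurd h hQbne
  · have h1 : IsPGroup q Qb := Pq.isPGroup'.map _
    rwa [h] at h1

/-- (iv) the normal `p`-complement is abelian. -/
theorem commute_of_isCoatom_sylow (T : Sylow p G) (hT : IsCoatom (T : Subgroup G))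
    (Y : Subgroup G) [hYn : Y.Normal] (hY : (Nat.card Y).Coprime p) :
    ∀ a ∈ Y, ∀ b ∈ Y, a * b = b * a := by
  by_cases hYne : Y = ⊥
  · intro a ha b hb
    rw [hYne, Subgroup.mem_bot] at ha hb
    rw [ha, hb]
  obtain ⟨q, hq, hYq⟩ := exists_isPGroup_of_isCoatom_sylow T hT Y hY hYne
  have : Fact q.Prime := ⟨hq⟩
  have : Nontrivial ↥Y := (Subgroup.nontrivial_iff_ne_bot Y).mpr hYne
  have hcen : Nontrivial ↥(Subgroup.center ↥Y) := hYq.center_nontrivial
  set Z : Subgroup G := (Subgroup.center ↥Y).map Y.subtype with hZ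
  have hZn : Z.Normal := ConjAct.normal_of_characteristic_of_normal
  have hZY : Z ≤ Y := Subgroup.map_subtype_le _
  have hZne : Z ≠ ⊥ := by
    rw [hZ, Ne, Subgroup.map_eq_bot_iff_of_injective _ Y.subtype_injective]
    exact (Subgroup.nontrivial_iff_ne_bot _).mp hcen
  have hTZ : (T : Subgroup G) ≤ Subgroup.normalizer (Z : Set G) := by
    rw [Subgroup.normalizer_eq_top_iff.mpr hZn]; exact le_top
  rcases eq_bot_or_eq_of_le_normalizer_of_isCoatom T hT Y hY Z hZY hTZ with h | h
  · exact absurd h hZne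
  · intro a ha b hb
    rw [← h] at ha
    obtain ⟨z, hz, rfl⟩ := ha
    have := Subgroup.mem_center_iff.mp hz ⟨b, hb⟩
    have h2 := congrArg Subtype.val this
    simpa using h2.symm

end coatom

end Cfsg.Agent.Lib.Helper34
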