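import Mathlib
import Cfsg.Prelude.Def_LocalEven
import Cfsg.Prelude.Def_PLocal
import Cfsg.Agent.Lib.Helper9.PGroupLemmas
import Cfsg.Agent.Lib.Helper34.CoatomSylow
import Cfsg.Agent.Lib.Helper34.HallHigmanAbelian

set_option autoImplicit false

/-!
Helper34 library: chief factors inside `O_p`, viewed as minimal normal subgroups of a quotient, and the action
of the group on them.
-/

namespace Cfsg.Agent.Lib.Helper34

open Cfsg

section minimal

variable {Y : Type*} [Group Y]

/-- The image of a chief factor `U / V` in `Y ⧸ V` is a minimal normal subgroup. -/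
theorem minimal_normal_of_isChiefFactor {U V : Subgroup Y} (h : IsChiefFactor U V) :
    haveI := h.2.2.1
    U.map (QuotientGroup.mk' V) ≠ ⊥ ∧ (U.map (QuotientGroup.mk' V)).Normal ∧
      ∀ N : Subgroup (Y ⧸ V), N.Normal → N ≤ U.map (QuotientGroup.mk' V) →
        N = ⊥ ∨ N = U.map (QuotientGroup.mk' V) := by
  obtain ⟨hlt, hUn, hVn, hmin⟩ := h
  have hsurj := QuotientGroup.mk'_surjective V
  have hcomap : (U.map (QuotientGroup.mk' V)).comap (QuotientGroup.mk' V) = U := by
    rw [Subgroup.comap_map_eq, QuotientGroup.ker_mk', sup_eq_left.mpr hlt.le]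
  refine ⟨?_, hUn.map _ hsurj, ?_⟩
  · intro hbot
    have h1 : U ≤ V := by
      intro u hu
      have : (QuotientGroup.mk' V) u ∈ U.map (QuotientGroup.mk' V) := ⟨u, hu, rfl⟩
      rw [hbot, Subgroup.mem_bot, QuotientGroup.mk'_apply, QuotientGroup.eq_one_iff] at this
      exact this
    exact absurd (le_antisymm h1 hlt.le) hlt.ne'
  · intro N hN hNU
    have h1 : V ≤ N.comap (QuotientGroup.mk' V) := by
      have := Subgroup.ker_le_comap (QuotientGroup.mk' V) N
      rwa [QuotientGroup.ker_mk'] at this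
    have h2 : N.comap (QuotientGroup.mk' V) ≤ U := by
      rw [← hcomap]; exact Subgroup.comap_mono hNU
    have h3 : N = (N.comap (QuotientGroup.mk' V)).map (QuotientGroup.mk' V) :=
      (Subgroup.map_comap_eq_self_of_surjective hsurj N).symm
    rcases hmin _ (hN.comap _) h1 h2 with h | h
    · left
      rw [h3, h, eq_bot_iff]
      rintro _ ⟨v, hv, rfl⟩
      rw [Subgroup.mem_bot, QuotientGroup.mk'_apply, QuotientGroup.eq_one_iff]
      exact hv
    · right
      rw [h3, h]

end minimal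

section pgroup

variable {Q : Type*} [Group Q] [Finite Q] {p : ℕ} [Fact p.Prime]

/-- A `p`-subgroup containing a minimal normal subgroup `Ub` centralizes it, provided `C_{Ub}(Tb)` is normal. -/
theorem le_centralizer_of_minimal_normal (Ub : Subgroup Q) [hUn : Ub.Normal] (hUne : Ub ≠ ⊥)
    (hmin : ∀ N : Subgroup Q, N.Normal → N ≤ Ub → N = ⊥ ∨ N = Ub)
    (Tb : Subgroup Q) (hTp : IsPGroup p Tb) (hUT : Ub ≤ Tb)
    (hZn : (Ub ⊓ Subgroup.centralizer (Tb : Set Q)).Normal) :
    Tb ≤ Subgroup.centralizer (Ub : Set Q) := by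
  have hNn : (Ub.subgroupOf Tb).Normal := hUn.subgroupOf Tb
  have hNne : Ub.subgroupOf Tb ≠ ⊥ := by
    intro h
    rw [Subgroup.subgroupOf_eq_bot, disjoint_iff, inf_eq_left.mpr hUT] at h
    exact hUne h
  obtain ⟨z, hzN, hz1, hzc⟩ :=
    Cfsg.Agent.Lib.Helper9.exists_ne_one_mem_center_of_normal hTp (Ub.subgroupOf Tb) hNne
  have hzU : (z : Q) ∈ Ub := Subgroup.mem_subgroupOf.mp hzN
  have hzC : (z : Q) ∈ Subgroup.centralizer (Tb : Set Q) := by
    rw [Subgroup.mem_centralizer_iff]
    intro t ht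
    have := Subgroup.mem_center_iff.mp hzc ⟨t, ht⟩
    exact congrArg Subtype.val this
  have hZne : Ub ⊓ Subgroup.centralizer (Tb : Set Q) ≠ ⊥ := by
    intro h
    have : (z : Q) ∈ Ub ⊓ Subgroup.centralizer (Tb : Set Q) := ⟨hzU, hzC⟩
    rw [h, Subgroup.mem_bot] at this
    exact hz1 (Subtype.ext this)
  rcases hmin _ hZn inf_le_left with h | h
  · exact absurd h hZne
  · have h1 : Ub ≤ Subgroup.centralizer (Tb : Set Q) := by
      rw [← h]; exact inf_le_right
    exact Subgroup.le_centralizer_iff.mp h1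

/-- A minimal normal subgroup that is an abelian `p`-group has exponent `p`. -/
theorem pow_eq_one_of_minimal_normal (Ub : Subgroup Q) [hUn : Ub.Normal] (hUne : Ub ≠ ⊥)
    (hmin : ∀ N : Subgroup Q, N.Normal → N ≤ Ub → N = ⊥ ∨ N = Ub)
    (hUp : IsPGroup p Ub) (hcomm : ∀ a ∈ Ub, ∀ b ∈ Ub, a * b = b * a) :
    ∀ x ∈ Ub, x ^ p = 1 := by
  let Ω : Subgroup Q :=
    { carrier := {x | x ∈ Ub ∧ x ^ p = 1}
      one_mem' := ⟨Ub.one_mem, one_pow p⟩
      mul_mem' := by
        rintro a b ⟨ha, hap⟩ ⟨hb, hbp⟩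
        refine ⟨Ub.mul_mem ha hb, ?_⟩
        have hc : Commute a b := hcomm a ha b hb
        rw [hc.mul_pow, hap, hbp, one_mul]
      inv_mem' := by
        rintro a ⟨ha, hap⟩
        exact ⟨Ub.inv_mem ha, by rw [inv_pow, hap, inv_one]⟩ }
  have hΩn : Ω.Normal := by
    constructor
    rintro x ⟨hx, hxp⟩ q
    refine ⟨hUn.conj_mem x hx q, ?_⟩
    rw [conj_pow, hxp, mul_one, mul_inv_cancel]
  have hΩle : Ω ≤ Ub := fun x hx => hx.1
  have hΩne : Ω ≠ ⊥ := by
    have : Nontrivial ↥Ub := (Subgroup.nontrivial_iff_ne_bot Ub).mpr hUne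
    obtain ⟨n, hn0, hn⟩ := hUp.nontrivial_iff_card.mp this
    have hdvd : p ∣ Nat.card ↥Ub := hn.symm ▸ dvd_pow_self _ (ne_of_gt hn0)
    obtain ⟨x, hx⟩ := exists_prime_orderOf_dvd_card' p hdvd
    intro hbot
    have hxΩ : (x : Q) ∈ Ω := by
      refine ⟨x.2, ?_⟩
      have h1 : x ^ p = 1 := by rw [← hx]; exact pow_orderOf_eq_one x
      have := congrArg Subtype.val h1
      simpa using this
    rw [hbot, Subgroup.mem_bot] at hxΩ
    have hx1 : x = 1 := Subtype.ext hxΩ
    rw [hx1, orderOf_one] at hx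
    exact (Fact.out : p.Prime).one_lt.ne hx
  rcases hmin Ω hΩn hΩle with h | h
  · exact absurd h hΩne
  · intro x hx
    rw [← h] at hx
    exact hx.2

end pgroup

section quotient

variable {Y : Type*} [Group Y]

/-- A maximal subgroup containing the normal subgroup `P` maps to a maximal subgroup of `Y ⧸ P`. -/
theorem isCoatom_map_mk_of_le (P : Subgroup Y) [P.Normal] (T : Subgroup Y) (hT : IsCoatom T)
    (hPT : P ≤ T) : IsCoatom (T.map (QuotientGroup.mk' P)) := by
  have hsurj := QuotientGroup.mk'_surjective P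
  have hcomap : (T.map (QuotientGroup.mk' P)).comap (QuotientGroup.mk' P) = T := by
    rw [Subgroup.comap_map_eq, QuotientGroup.ker_mk', sup_eq_left.mpr hPT]
  refine ⟨?_, ?_⟩
  · intro htop
    apply hT.1
    rw [← hcomap, htop, Subgroup.comap_top]
  · intro L hL
    have h1 : T < L.comap (QuotientGroup.mk' P) := by
      rw [← hcomap]
      refine lt_of_le_of_ne (Subgroup.comap_mono hL.le) ?_
      intro heq
      have := congrArg (Subgroup.map (QuotientGroup.mk' P)) heq
      rw [Subgroup.map_comap_eq_self_of_surjective hsurj, Subgroup.map_comap_eq_self_of_surjective hsurj]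
        at this
      exact hL.ne this
    have h2 := hT.2 _ h1
    rw [← Subgroup.map_comap_eq_self_of_surjective hsurj L, h2]
    exact Subgroup.map_top_of_surjective _ hsurj

end quotient

section action

open scoped IsMulCommutative commutatorElement

variable {Q : Type*} [Group Q] (Ub : Subgroup Q) [hUn : Ub.Normal] [hUc : IsMulCommutative ↥Ub]

/-- The conjugation action of `Q` on the abelian normal subgroup `Ub`, as endomorphisms of `Additive Ub`. -/
noncomputable def conjEnd : Q →* AddMonoid.End (Additive ↥Ub) where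
  toFun q := MonoidHom.toAdditive (MulAut.conjNormal q : ↥Ub ≃* ↥Ub).toMonoidHom
  map_one' := by
    rw [map_one]
    rfl
  map_mul' := by
    intro a b
    rw [map_mul]
    rfl

theorem conjEnd_apply_coe (q : Q) (x : Additive ↥Ub) :
    ((Additive.toMul (conjEnd Ub q x) : ↥Ub) : Q) = q * ((Additive.toMul x : ↥Ub) : Q) * q⁻¹ := by
  show ((MulAut.conjNormal q (Additive.toMul x) : ↥Ub) : Q) = _
  rw [MulAut.conjNormal_apply]

theorem conjEnd_eq_one_iff (q : Q) :
    conjEnd Ub q = 1 ↔ q ∈ Subgroup.centralizer (Ub : Set Q) := by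
  constructor
  · intro h
    rw [Subgroup.mem_centralizer_iff]
    intro u hu
    have h1 := conjEnd_apply_coe Ub q (Additive.ofMul ⟨u, hu⟩)
    rw [h] at h1
    have h2 : u = q * u * q⁻¹ := h1
    calc u * q = (q * u * q⁻¹) * q := by rw [← h2]
      _ = q * u := by group
  · intro h
    ext x
    rw [conjEnd_apply_coe]
    have := Subgroup.mem_centralizer_iff.mp h _ (Additive.toMul x : ↥Ub).2
    show q * ((Additive.toMul x : ↥Ub) : Q) * q⁻¹ = ((Additive.toMul x : ↥Ub) : Q)
    rw [← this]; group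

omit hUn in
theorem natCast_conjEnd_eq_zero {p : ℕ} (hexp : ∀ x ∈ Ub, x ^ p = 1) :
    ((p : ℕ) : AddMonoid.End (Additive ↥Ub)) = 0 := by
  ext x
  rw [AddMonoid.End.natCast_apply]
  show (((Additive.toMul x : ↥Ub) ^ p : ↥Ub) : Q) = 1
  rw [Subgroup.coe_pow]
  exact hexp _ (Additive.toMul x : ↥Ub).2

theorem toMul_sub_one_pow_mem (g : Q) (n : ℕ) (x : Additive ↥Ub) :
    ((Additive.toMul (((conjEnd Ub g - 1) ^ n) x) : ↥Ub) : Q) ∈
      Cfsg.iterCommutator Ub (Subgroup.zpowers g) n := by
  induction n generalizing x with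
  | zero =>
    show ((Additive.toMul x : ↥Ub) : Q) ∈ Ub
    exact (Additive.toMul x : ↥Ub).2
  | succ n ih =>
    rw [pow_succ']
    set y := ((conjEnd Ub g - 1) ^ n) x with hy
    have hy' := ih x
    rw [← hy] at hy'
    have h1 : ((Additive.toMul (((conjEnd Ub g - 1) * (conjEnd Ub g - 1) ^ n) x) : ↥Ub) : Q) =
        ⁅g, ((Additive.toMul y : ↥Ub) : Q)⁆ := by
      have h2 : ((conjEnd Ub g - 1) * (conjEnd Ub g - 1) ^ n) x = conjEnd Ub g y - y := rfl
      rw [h2, toMul_sub, Subgroup.coe_div, div_eq_mul_inv, conjEnd_apply_coe, commutatorElement_def]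
    rw [h1]
    show _ ∈ ⁅Cfsg.iterCommutator Ub (Subgroup.zpowers g) n, Subgroup.zpowers g⁆
    rw [Subgroup.commutator_comm]
    exact Subgroup.commutator_mem_commutator (Subgroup.mem_zpowers g) hy'

end action

end Cfsg.Agent.Lib.Helper34
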