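import Mathlib
import Cfsg.Agent.S0558
import Cfsg.Agent.S0078
import Cfsg.Agent.S0023
import Cfsg.Agent.S0628
import Cfsg.Agent.Lib.Helper1.ThompsonFpf
import Cfsg.Agent.Lib.Helper34.NormalPComplement
import Cfsg.Agent.Lib.Helper34.ChiefFactorAction

/-!
# Nilpotent maximal subgroups of class at most two (Deskins–Janko–Thompson)

A finite group with a maximal subgroup that is nilpotent of class at most `2` is solvable.
-/

set_option autoImplicit false

namespace Cfsg.Agent.Lib.Helper34

open Cfsg
open scoped commutatorElement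

universe u

section basic

variable {G : Type*} [Group G]

/-- In a group with a core-free maximal subgroup `M`, every nontrivial subgroup of `M`
normalized by `M` has normalizer exactly `M`. -/
theorem normalizer_eq_of_isCoatom_of_normalCore_eq_bot {M : Subgroup G} (hM : IsCoatom M)
    (hcore : M.normalCore = ⊥) (Q : Subgroup G) (hQM : Q ≤ M) (hQ : Q ≠ ⊥)
    (hMQ : M ≤ Subgroup.normalizer (Q : Set G)) : Subgroup.normalizer (Q : Set G) = M := by
  rcases hM.le_iff.mp hMQ with h | h
  · exfalso
    have hn : Q.Normal := Subgroup.normalizer_eq_top_iff.mp h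
    have h1 : Q ≤ M.normalCore := (Subgroup.normal_le_normalCore).mpr hQM
    rw [hcore] at h1
    exact hQ (eq_bot_iff.mpr h1)
  · exact h

theorem comm_comm_eq_one_of_nilpotencyClass_le_two {M : Type*} [Group M] [Group.IsNilpotent M]
    (h : Group.nilpotencyClass M ≤ 2) (a b c : M) : ⁅⁅a, b⁆, c⁆ = 1 := by
  have h1 : (⊤ : Subgroup M).lowerCentralSeries 2 = ⊥ :=
    Subgroup.lowerCentralSeries_eq_bot_iff_nilpotencyClass_le.mpr h
  have h3 : ⁅a, b⁆ ∈ (⊤ : Subgroup M).lowerCentralSeries 1 := by
    rw [Subgroup.lowerCentralSeries_succ, Subgroup.lowerCentralSeries_zero]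
    exact Subgroup.commutator_mem_commutator (Subgroup.mem_top a) (Subgroup.mem_top b)
  have h4 : ⁅⁅a, b⁆, c⁆ ∈ (⊤ : Subgroup M).lowerCentralSeries 2 := by
    rw [Subgroup.lowerCentralSeries_succ]
    exact Subgroup.commutator_mem_commutator h3 (Subgroup.mem_top c)
  rw [h1, Subgroup.mem_bot] at h4
  exact h4

theorem le_normalizer_of_forall_conj_mem (P H : Subgroup G)
    (h : ∀ x ∈ P, ∀ y ∈ H, x * y * x⁻¹ ∈ H) : P ≤ Subgroup.normalizer (H : Set G) := by
  intro x hx
  rw [Subgroup.mem_normalizer_iff]
  intro y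
  constructor
  · exact h x hx y
  · intro hy
    have := h x⁻¹ (P.inv_mem hx) _ hy
    simpa [mul_assoc] using this

/-- If `P` has class at most two and `B ≤ P`, then `P` normalizes `Z(P) B`. -/
theorem le_normalizer_center_sup (P B : Subgroup G)
    (hcl : ∀ a ∈ P, ∀ b ∈ P, ∀ c ∈ P, ⁅⁅a, b⁆, c⁆ = 1) (hB : B ≤ P) :
    P ≤ Subgroup.normalizer
      (((P ⊓ Subgroup.centralizer (P : Set G)) ⊔ B : Subgroup G) : Set G) := by
  apply le_normalizer_of_forall_conj_mem
  intro x hx y hy
  have hmap : ((P ⊓ Subgroup.centralizer (P : Set G)) ⊔ B).map (MulAut.conj x).toMonoidHom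
      ≤ (P ⊓ Subgroup.centralizer (P : Set G)) ⊔ B := by
    rw [Subgroup.map_sup]
    apply sup_le
    · apply le_sup_of_le_left
      rintro _ ⟨z, hz, rfl⟩
      have hz2 := Subgroup.mem_centralizer_iff.mp (Subgroup.mem_inf.mp hz).2 x hx
      have : (MulAut.conj x).toMonoidHom z = z := by
        show x * z * x⁻¹ = z
        rw [hz2, mul_inv_cancel_right]
      rw [this]
      exact hz
    · rintro _ ⟨b, hb, rfl⟩
      have hbP : b ∈ P := hB hb
      have h1 : (MulAut.conj x).toMonoidHom b = ⁅x, b⁆ * b := by
        show x * b * x⁻¹ = ⁅x, b⁆ * b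
        rw [commutatorElement_def]
        group
      rw [h1]
      apply Subgroup.mul_mem
      · apply Subgroup.mem_sup_left
        refine Subgroup.mem_inf.mpr ⟨?_, ?_⟩
        · rw [commutatorElement_def]
          exact P.mul_mem (P.mul_mem (P.mul_mem hx hbP) (P.inv_mem hx)) (P.inv_mem hbP)
        · rw [Subgroup.mem_centralizer_iff]
          intro c hc
          have h2 := hcl x hx b hbP c hc
          rw [commutatorElement_eq_one_iff_mul_comm] at h2
          exact h2.symm
      · exact Subgroup.mem_sup_right hb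
  exact hmap ⟨y, hy, rfl⟩

end basic

section two

variable {G : Type*} [Group G] [Finite G]

theorem sylow_inf_centralizer_ne_bot {p : ℕ} [Fact p.Prime] (P : Sylow p G)
    (hP : (P : Subgroup G) ≠ ⊥) :
    (P : Subgroup G) ⊓ Subgroup.centralizer ((P : Subgroup G) : Set G) ≠ ⊥ := by
  have hntS : Nontrivial ↥(P : Subgroup G) := (Subgroup.nontrivial_iff_ne_bot _).mpr hP
  have hlt := IsPGroup.bot_lt_center (P.isPGroup')
  obtain ⟨c, hc, hc1⟩ := SetLike.exists_of_lt hlt
  intro hbot
  have hcZ : (c : G) ∈ (P : Subgroup G) ⊓ Subgroup.centralizer ((P : Subgroup G) : Set G) := by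
    refine Subgroup.mem_inf.mpr ⟨c.2, ?_⟩
    rw [Subgroup.mem_centralizer_iff]
    intro y hy
    have := (Subgroup.mem_center_iff.mp hc) ⟨y, hy⟩
    exact congrArg Subtype.val this
  rw [hbot, Subgroup.mem_bot] at hcZ
  apply hc1
  rw [Subgroup.mem_bot]
  exact Subtype.ext hcZ

omit [Finite G] in
theorem le_normalizer_zpowers_of_commute (H : Subgroup G) (z : G)
    (h : ∀ x ∈ H, Commute z x) : H ≤ Subgroup.normalizer ((Subgroup.zpowers z : Subgroup G) : Set G) := by
  refine le_trans ?_ (Subgroup.centralizer_le_normalizer _)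
  intro x hx
  rw [Subgroup.mem_centralizer_iff]
  intro y hy
  obtain ⟨k, rfl⟩ := Subgroup.mem_zpowers_iff.mp hy
  exact ((h x hx).zpow_left k).eq

open scoped Pointwise in
/-- The normal `2`-complement in the Deskins–Janko situation. -/
theorem hasNPC_two_of_class_two (M : Subgroup G) (hM : IsCoatom M) (hcore : M.normalCore = ⊥)
    (hM1 : M ≠ ⊥) (P : Sylow 2 G) (hPM : (P : Subgroup G) = M)
    (hcl : ∀ a ∈ M, ∀ b ∈ M, ∀ c ∈ M, ⁅⁅a, b⁆, c⁆ = 1) : HasNormalPComplement 2 G := by
  set Z : Subgroup G :=
    (P : Subgroup G) ⊓ Subgroup.centralizer ((P : Subgroup G) : Set G) with hZdef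
  have hP1 : (P : Subgroup G) ≠ ⊥ := by rw [hPM]; exact hM1
  have hZ1 : Z ≠ ⊥ := sylow_inf_centralizer_ne_bot P hP1
  have hZP : Z ≤ (P : Subgroup G) := inf_le_left
  have hclP : ∀ a ∈ (P : Subgroup G), ∀ b ∈ (P : Subgroup G), ∀ c ∈ (P : Subgroup G),
      ⁅⁅a, b⁆, c⁆ = 1 := by
    rw [hPM]; exact hcl
  have hnorm : ∀ Q : Subgroup G, Q ≤ (P : Subgroup G) → Q ≠ ⊥ →
      (P : Subgroup G) ≤ Subgroup.normalizer (Q : Set G) →
      Subgroup.normalizer (Q : Set G) = (P : Subgroup G) := by
    intro Q h1 h2 h3
    rw [hPM] at h1 h3 ⊢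
    exact normalizer_eq_of_isCoatom_of_normalCore_eq_bot hM hcore Q h1 h2 h3
  have hPZ : (P : Subgroup G) ≤ Subgroup.normalizer (Z : Set G) := by
    apply le_normalizer_of_forall_conj_mem
    intro x hx z hz
    have hz2 := Subgroup.mem_centralizer_iff.mp (Subgroup.mem_inf.mp hz).2 x hx
    have : x * z * x⁻¹ = z := by rw [hz2, mul_inv_cancel_right]
    rw [this]; exact hz
  have hNZ : Subgroup.normalizer (Z : Set G) = (P : Subgroup G) := hnorm Z hZP hZ1 hPZ
  -- `2`-normality
  have hn : ∀ Q : Sylow 2 G, Z ≤ (Q : Subgroup G) →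
      (Q : Subgroup G) ⊓ Subgroup.centralizer ((Q : Subgroup G) : Set G) = Z := by
    intro Q hZQ
    have hclQ : ∀ a ∈ (Q : Subgroup G), ∀ b ∈ (Q : Subgroup G), ∀ c ∈ (Q : Subgroup G),
        ⁅⁅a, b⁆, c⁆ = 1 := by
      obtain ⟨g, rfl⟩ := MulAction.exists_smul_eq G P Q
      intro a ha b hb c hc
      rw [Sylow.coe_subgroup_smul, Subgroup.mem_pointwise_smul_iff_inv_smul_mem] at ha hb hc
      have h1 := hclP _ ha _ hb _ hc
      simp only [MulAut.smul_def] at h1
      rw [← map_commutatorElement, ← map_commutatorElement] at h1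
      exact (map_eq_one_iff _ (MulEquiv.injective _)).mp h1
    set Z₁ : Subgroup G :=
      (Q : Subgroup G) ⊓ Subgroup.centralizer ((Q : Subgroup G) : Set G) with hZ₁def
    obtain ⟨⟨z, hzZ⟩, hz1'⟩ := (Subgroup.ne_bot_iff_exists_ne_one).mp hZ1
    have hz1 : z ≠ 1 := fun h => hz1' (Subtype.ext h)
    have hzc : ∀ x ∈ (P : Subgroup G), Commute z x := by
      intro x hx
      exact (Subgroup.mem_centralizer_iff.mp (Subgroup.mem_inf.mp hzZ).2 x hx).symm
    have hCz : Subgroup.normalizer ((Subgroup.zpowers z : Subgroup G) : Set G)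
        = (P : Subgroup G) :=
      hnorm (Subgroup.zpowers z) (Subgroup.zpowers_le.mpr (hZP hzZ))
        (Subgroup.zpowers_ne_bot.mpr hz1) (le_normalizer_zpowers_of_commute _ z hzc)
    have hZ₁P : Z₁ ≤ (P : Subgroup G) := by
      rw [← hCz]
      apply le_normalizer_zpowers_of_commute
      intro w hw
      exact Subgroup.mem_centralizer_iff.mp (Subgroup.mem_inf.mp hw).2 z (hZQ hzZ)
    have hPA : (P : Subgroup G) ≤ Subgroup.normalizer ((Z ⊔ Z₁ : Subgroup G) : Set G) :=
      le_normalizer_center_sup (P : Subgroup G) Z₁ hclP hZ₁P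
    have hQA : (Q : Subgroup G) ≤ Subgroup.normalizer ((Z ⊔ Z₁ : Subgroup G) : Set G) := by
      have := le_normalizer_center_sup (Q : Subgroup G) Z hclQ hZQ
      rwa [sup_comm] at this
    have hA1 : Z ⊔ Z₁ ≠ ⊥ := by
      intro h
      apply hZ1
      rw [eq_bot_iff, ← h]
      exact le_sup_left
    have hAP : Z ⊔ Z₁ ≤ (P : Subgroup G) := sup_le hZP hZ₁P
    have hNA := hnorm (Z ⊔ Z₁) hAP hA1 hPA
    have hQP : (Q : Subgroup G) ≤ (P : Subgroup G) := by rw [← hNA]; exact hQA
    have hPQ : (P : Subgroup G) = (Q : Subgroup G) := Q.is_maximal' P.isPGroup' hQP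
    rw [hZ₁def, ← hPQ]
  have key := Cfsg.Agent.S0078.result P hn (P : Subgroup G) (le_of_eq hNZ)
  have hres : pResidual 2 ↥(P : Subgroup G) = ⊥ := by
    unfold pResidual
    rw [Subgroup.closure_eq_bot_iff]
    intro g hg
    obtain ⟨k, hk⟩ := (IsPGroup.iff_orderOf.mp P.isPGroup') g
    rw [Set.mem_singleton_iff]
    have hg' : (orderOf g).Coprime 2 := hg
    have h1 : orderOf g = 1 := by
      rw [hk] at hg' ⊢
      cases k with
      | zero => simp
      | succ k =>
        exfalso
        have : (2 : ℕ) ∣ Nat.gcd (2 ^ (k + 1)) 2 :=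
          Nat.dvd_gcd (dvd_pow_self 2 (Nat.succ_ne_zero k)) dvd_rfl
        rw [hg'] at this
        omega
    exact orderOf_eq_one_iff.mp h1
  rw [hres, Subgroup.map_bot, inf_bot_eq] at key
  rw [hasNormalPComplement_iff_pResidual_coprime]
  by_contra hcop
  have h2 : 2 ∣ Nat.card (pResidual 2 G) := by
    by_contra h
    exact hcop ((Nat.Prime.coprime_iff_not_dvd Nat.prime_two).mpr h).symm
  obtain ⟨x, hx⟩ := exists_prime_orderOf_dvd_card' (G := pResidual 2 G) 2 h2
  have hxG : orderOf (x : G) = 2 := by rw [Subgroup.orderOf_coe, hx]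
  have hzp : IsPGroup 2 (Subgroup.zpowers (x : G)) := by
    apply IsPGroup.of_card (n := 1)
    rw [Nat.card_zpowers, hxG, pow_one]
  obtain ⟨Q, hQ⟩ := hzp.exists_le_sylow
  obtain ⟨g, rfl⟩ := MulAction.exists_smul_eq G P Q
  have hxQ : (x : G) ∈ ((g • P : Sylow 2 G) : Subgroup G) := hQ (Subgroup.mem_zpowers _)
  rw [Sylow.coe_subgroup_smul, Subgroup.mem_pointwise_smul_iff_inv_smul_mem] at hxQ
  have hn' := pResidual_normal 2 G
  have hxN : (MulAut.conj g)⁻¹ • (x : G) ∈ pResidual 2 G := by
    rw [MulAut.smul_def, ← map_inv, MulAut.conj_apply]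
    exact hn'.conj_mem _ x.2 _
  have hmem : (MulAut.conj g)⁻¹ • (x : G) ∈ (P : Subgroup G) ⊓ pResidual 2 G :=
    Subgroup.mem_inf.mpr ⟨hxQ, hxN⟩
  rw [key, Subgroup.mem_bot] at hmem
  have hx1 : (x : G) = 1 := by
    rw [MulAut.smul_def] at hmem
    exact (map_eq_one_iff _ (MulEquiv.injective _)).mp hmem
  rw [hx1, orderOf_one] at hxG
  omega

end two

section main

open Cfsg.Agent.Lib.Helper1

/-- The normal `p`-complement for odd `p` when the core-free maximal subgroup is a Sylow
`p`-subgroup. -/
theorem hasNPC_odd_of_sylow_eq_coatom {G : Type*} [Group G] [Finite G] {p : ℕ} [Fact p.Prime]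
    (hp2 : p ≠ 2) (M : Subgroup G) (hM : IsCoatom M) (hcore : M.normalCore = ⊥) (hM1 : M ≠ ⊥)
    (P : Sylow p G) (hPM : (P : Subgroup G) = M) : HasNormalPComplement p G := by
  have hP1 : (P : Subgroup G) ≠ ⊥ := by rw [hPM]; exact hM1
  set W : Subgroup G :=
    (stableNormalClosure p ↥(P : Subgroup G)).map (P : Subgroup G).subtype with hW
  have hWne : W ≠ ⊥ := stableNormalClosure_map_ne_bot p P hP1
  have hWM : W ≤ M := by rw [← hPM]; exact Subgroup.map_subtype_le _
  have hchar : (stableNormalClosure p ↥(P : Subgroup G)).Characteristic :=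
    (Cfsg.Agent.S0622.result (P.isPGroup')).1
  have hMW : M ≤ Subgroup.normalizer (W : Set G) := by
    rw [← hPM]
    have h1 := Subgroup.le_normalizer_map (H := stableNormalClosure p ↥(P : Subgroup G))
      (P : Subgroup G).subtype
    rw [Subgroup.normalizer_eq_top, ← MonoidHom.range_eq_map, Subgroup.range_subtype] at h1
    exact h1
  have hNW : Subgroup.normalizer (W : Set G) = M :=
    normalizer_eq_of_isCoatom_of_normalCore_eq_bot hM hcore W hWM hWne hMW
  have hnil : Group.IsNilpotent ↥(Subgroup.normalizer (W : Set G)) := by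
    rw [hNW, ← hPM]
    exact P.isPGroup'.isNilpotent
  have h1 : HasNormalPComplement p ↥(Subgroup.normalizer (W : Set G)) :=
    hasNPC_of_isNilpotent p hnil
  exact Cfsg.Agent.S0628.result hp2 P h1

/-- Final step: a normal subgroup of order prime to `|M|` forces solvability. -/
theorem isSolvable_of_coatom_of_normal_coprime {G : Type*} [Group G] [Finite G]
    (M : Subgroup G) (hM : IsCoatom M) (hMsol : Group.IsSolvable M) (N : Subgroup G) [N.Normal]
    (hcop : (Nat.card M).Coprime (Nat.card N)) (hN1 : N ≠ ⊥) : Group.IsSolvable G := by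
  have hcard : Nat.card N ≠ 1 := fun h => hN1 (Subgroup.card_eq_one.mp h)
  obtain ⟨q, hq, hqdvd⟩ := Nat.exists_prime_and_dvd hcard
  have : Fact q.Prime := ⟨hq⟩
  have hMN : M ≤ Subgroup.normalizer (N : Set G) := by
    rw [Subgroup.normalizer_eq_top]; exact le_top
  obtain ⟨Q, hQ⟩ := Cfsg.Agent.S0023.result M N hMN hcop (Or.inl hMsol) q
  set Q' : Subgroup G := (Q : Subgroup N).map N.subtype with hQ'
  have hQ'N : Q' ≤ N := Subgroup.map_subtype_le _
  have hQ'p : IsPGroup q Q' := Q.isPGroup'.map _
  have hQ'1 : Q' ≠ ⊥ := by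
    intro h
    have h1 : (Q : Subgroup N) = ⊥ :=
      (Subgroup.map_eq_bot_iff_of_injective _ N.subtype_injective).mp h
    exact Q.ne_bot_of_dvd_card hqdvd h1
  have hdisj : M ⊓ N = ⊥ := disjoint_iff.mp (Subgroup.disjoint_of_coprime_natCard hcop)
  have hsup : M ⊔ Q' = ⊤ := by
    rcases hM.le_iff.mp (le_sup_left : M ≤ M ⊔ Q') with h | h
    · exact h
    · exfalso
      have h1 : Q' ≤ M := by rw [← h]; exact le_sup_right
      have h2 : Q' ≤ M ⊓ N := le_inf h1 hQ'N
      rw [hdisj] at h2
      exact hQ'1 (eq_bot_iff.mpr h2)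
  have hQ'n : Q'.Normal := by
    rw [← Subgroup.normalizer_eq_top_iff, eq_top_iff, ← hsup]
    exact sup_le hQ Subgroup.le_normalizer
  have hQ'sol : Group.IsSolvable Q' := by
    have := hQ'p.isNilpotent
    infer_instance
  -- `G ⧸ Q'` is a quotient of `M`
  have hsurj : Function.Surjective ((QuotientGroup.mk' Q').comp M.subtype) := by
    intro y
    obtain ⟨x, rfl⟩ := QuotientGroup.mk'_surjective Q' y
    have hx : x ∈ M ⊔ Q' := by rw [hsup]; exact Subgroup.mem_top x
    rw [← SetLike.mem_coe, Subgroup.mul_normal] at hx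
    obtain ⟨m, hm, u, hu, rfl⟩ := hx
    refine ⟨⟨m, hm⟩, ?_⟩
    simp only [MonoidHom.coe_comp, Function.comp_apply, Subgroup.coe_subtype,
      QuotientGroup.mk'_apply]
    rw [QuotientGroup.eq]
    have : m⁻¹ * (m * u) = u := by group
    rw [this]
    exact hu
  have hquot : Group.IsSolvable (G ⧸ Q') := Group.isSolvable_of_surjective hsurj
  exact Group.isSolvable_of_ker_le_range Q'.subtype (QuotientGroup.mk' Q')
    (by rw [QuotientGroup.ker_mk', Subgroup.range_subtype])

theorem isSolvable_of_nilpotent_class_two_coatom_aux : ∀ (n : ℕ) (G : Type u) [Group G]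
    [Finite G], Nat.card G = n → ∀ M : Subgroup G, IsCoatom M → Group.IsNilpotent M →
    (∀ a ∈ M, ∀ b ∈ M, ∀ c ∈ M, ⁅⁅a, b⁆, c⁆ = 1) → Group.IsSolvable G := by
  intro n
  induction n using Nat.strong_induction_on with
  | _ n ih =>
    intro G _ _ hn M hM hMnil hcl
    subst hn
    have hMsol : Group.IsSolvable M := inferInstance
    by_cases hcore : M.normalCore = ⊥
    · -- the core-free case
      by_cases hM1 : M = ⊥
      · -- `G` has no proper nontrivial subgroups, hence is cyclic
        have hall : ∀ H : Subgroup G, H = ⊥ ∨ H = ⊤ := by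
          intro H
          rcases hM.le_iff.mp (hM1 ▸ bot_le : M ≤ H) with h | h
          · exact Or.inr h
          · exact Or.inl (h.trans hM1)
        by_cases hx : ∃ x : G, x ≠ 1
        · obtain ⟨x, hx⟩ := hx
          have hz : Subgroup.zpowers x = ⊤ := by
            rcases hall (Subgroup.zpowers x) with h | h
            · exact absurd (Subgroup.zpowers_eq_bot.mp h) hx
            · exact h
          have hcyc : IsCyclic G := ⟨⟨x, fun y => by
            have : y ∈ Subgroup.zpowers x := by rw [hz]; exact Subgroup.mem_top y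
            exact this⟩⟩
          have hcomm : ∀ a b : G, a * b = b * a := fun a b => hcyc.isMulCommutative.is_comm.comm a b
          exact Group.isSolvable_of_comm hcomm
        · push Not at hx
          have : Subsingleton G := ⟨fun a b => (hx a).trans (hx b).symm⟩
          exact Group.isSolvable_of_comm (fun a b => Subsingleton.elim _ _)
      · -- produce a nontrivial normal subgroup of order prime to `|M|`
        have key : ∃ N : Subgroup G, N.Normal ∧ (Nat.card M).Coprime (Nat.card N) ∧ N ≠ ⊥ := by
          have hnorm : ∀ p : ℕ, p.Prime → p ∣ Nat.card M → ∀ P : Sylow p M,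
              Subgroup.normalizer (((P : Subgroup M).map M.subtype : Subgroup G) : Set G)
                = M := by
            intro p hp hpdvd P
            have : Fact p.Prime := ⟨hp⟩
            apply normalizer_eq_of_isCoatom_of_normalCore_eq_bot hM hcore _
              (Subgroup.map_subtype_le _)
            · intro h
              have h1 : (P : Subgroup M) = ⊥ :=
                (Subgroup.map_eq_bot_iff_of_injective _ M.subtype_injective).mp h
              exact P.ne_bot_of_dvd_card hpdvd h1
            · have hall : ∀ (r : ℕ) (_ : Fact r.Prime) (P : Sylow r M),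
                  (P : Subgroup M).Normal :=
                ((Group.isNilpotent_of_finite_tfae (G := M)).out 0 3).mp hMnil
              have hPn : (P : Subgroup M).Normal := hall p inferInstance P
              have h1 := Subgroup.le_normalizer_map (H := (P : Subgroup M)) M.subtype
              rw [Subgroup.normalizer_eq_top, ← MonoidHom.range_eq_map,
                Subgroup.range_subtype] at h1
              exact h1
          by_cases hpg : ∃ p : ℕ, p.Prime ∧ IsPGroup p M
          · -- `M` is a `p`-group
            obtain ⟨p, hp, hMp⟩ := hpg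
            have : Fact p.Prime := ⟨hp⟩
            have hpdvd : p ∣ Nat.card M := by
              obtain ⟨k, hk⟩ := IsPGroup.iff_card.mp hMp
              have hk0 : k ≠ 0 := by
                rintro rfl
                rw [pow_zero] at hk
                exact hM1 (Subgroup.card_eq_one.mp hk)
              rw [hk]
              exact dvd_pow_self p hk0
            obtain ⟨PM⟩ : Nonempty (Sylow p M) := inferInstance
            have hPMtop : (PM : Subgroup M) = ⊤ := by
              have h1 : IsPGroup p (⊤ : Subgroup M) := hMp.to_subgroup ⊤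
              exact (PM.is_maximal' h1 le_top).symm
            obtain ⟨S, hS⟩ := Cfsg.Agent.S0558.sylow_of_normalizer_eq M PM
              (hnorm p hp hpdvd PM)
            have hSM : (S : Subgroup G) = M := by
              rw [hS, hPMtop, ← MonoidHom.range_eq_map, Subgroup.range_subtype]
            have hnpc : HasNormalPComplement p G := by
              by_cases hp2 : p = 2
              · subst hp2
                exact hasNPC_two_of_class_two M hM hcore hM1 S hSM hcl
              · exact hasNPC_odd_of_sylow_eq_coatom hp2 M hM hcore hM1 S hSM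
            rw [hasNPC_iff_exists_normal] at hnpc
            obtain ⟨N, hNn, hNcop, k, hk⟩ := hnpc
            refine ⟨N, hNn, ?_, ?_⟩
            · obtain ⟨m, hm⟩ := IsPGroup.iff_card.mp hMp
              rw [hm]
              exact Nat.Coprime.pow_left m hNcop.symm
            · intro hbot
              rw [hbot, Subgroup.index_bot] at hk
              have hGp : IsPGroup p G := IsPGroup.of_card hk
              have h1 : IsPGroup p (⊤ : Subgroup G) := hGp.to_subgroup ⊤
              have h2 := S.is_maximal' h1 le_top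
              exact hM.1 (hSM ▸ h2.symm)
          · -- `M` is not of prime power order: Wielandt's theorem
            push Not at hpg
            have hnot : ∀ p : ℕ, p.Prime → ∀ P : Sylow p G, (P : Subgroup G) ≠ M := by
              intro p hp P hPM
              apply hpg p hp
              rw [← hPM]
              exact P.isPGroup'
            obtain ⟨N, hNn, hNM⟩ := Cfsg.Agent.S0558.result M hnot hnorm
            refine ⟨N, hNn, ?_, ?_⟩
            · have hidx : M.index = Nat.card N := hNM.index_eq_card
              rw [← hidx]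
              apply Nat.Coprime.symm
              apply Nat.coprime_of_dvd
              intro p hp hpidx hpM
              have : Fact p.Prime := ⟨hp⟩
              obtain ⟨PM⟩ : Nonempty (Sylow p M) := inferInstance
              obtain ⟨S, hS⟩ := Cfsg.Agent.S0558.sylow_of_normalizer_eq M PM
                (hnorm p hp hpM PM)
              have hSM : (S : Subgroup G) ≤ M := by
                rw [hS]; exact Subgroup.map_subtype_le _
              exact S.not_dvd_index (hpidx.trans (Subgroup.index_dvd_of_le hSM))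
            · intro hbot
              rw [hbot] at hNM
              exact hM.1 (Subgroup.isComplement'_bot_left.mp hNM)
        obtain ⟨N, hNn, hcop, hN1⟩ := key
        exact isSolvable_of_coatom_of_normal_coprime M hM hMsol N hcop hN1
    · -- pass to the quotient by the core
      set K : Subgroup G := M.normalCore with hK
      have hKn : K.Normal := Subgroup.normalCore_normal M
      have hKM : K ≤ M := Subgroup.normalCore_le M
      have hcoatom : IsCoatom (M.map (QuotientGroup.mk' K)) := isCoatom_map_mk_of_le K M hM hKM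
      have hnil' : Group.IsNilpotent ↥(M.map (QuotientGroup.mk' K)) :=
        Group.nilpotent_of_surjective ((QuotientGroup.mk' K).subgroupMap M)
          ((QuotientGroup.mk' K).subgroupMap_surjective M)
      have hcl' : ∀ a ∈ M.map (QuotientGroup.mk' K), ∀ b ∈ M.map (QuotientGroup.mk' K),
          ∀ c ∈ M.map (QuotientGroup.mk' K), ⁅⁅a, b⁆, c⁆ = 1 := by
        rintro _ ⟨a, ha, rfl⟩ _ ⟨b, hb, rfl⟩ _ ⟨c, hc, rfl⟩
        rw [← map_commutatorElement, ← map_commutatorElement, hcl a ha b hb c hc, map_one]
      have hquot : Group.IsSolvable (G ⧸ K) :=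
        ih (Nat.card (G ⧸ K)) (card_quotient_lt K hcore) (G ⧸ K) rfl _ hcoatom hnil' hcl'
      have hKsol : Group.IsSolvable K :=
        Group.isSolvable_of_isSolvable_injective (Subgroup.inclusion_injective hKM)
      exact Group.isSolvable_of_ker_le_range K.subtype (QuotientGroup.mk' K)
        (by rw [QuotientGroup.ker_mk', Subgroup.range_subtype])

/-- **Deskins–Janko–Thompson**: a finite group with a maximal subgroup that is nilpotent of class
at most two is solvable. -/
theorem isSolvable_of_nilpotent_class_two_coatom {G : Type u} [Group G] [Finite G]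
    (M : Subgroup G) (hmax : IsCoatom M) (hnil : Group.IsNilpotent M)
    (hcl : Group.nilpotencyClass ↥M ≤ 2) : Group.IsSolvable G := by
  apply isSolvable_of_nilpotent_class_two_coatom_aux _ G rfl M hmax hnil
  intro a ha b hb c hc
  have := comm_comm_eq_one_of_nilpotencyClass_le_two hcl ⟨a, ha⟩ ⟨b, hb⟩ ⟨c, hc⟩
  exact congrArg Subtype.val this

end main

end Cfsg.Agent.Lib.Helper34
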