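import Mathlib
import Cfsg.Agent.Lib.Helper1.FpfAction

/-!
# Splitting automorphisms (basic machinery)

An automorphism `φ` of `G` with `φ ^ p = 1` is *splitting* when
`x * φ x * φ² x * ⋯ * φ^(p-1) x = 1` for every `x`.  This file sets up the twisted norm
`twNorm φ n x = x * φ x * ⋯ * φ^(n-1) x` and the stability of the splitting property under
restriction, quotients and composition with inner automorphisms.
-/

set_option autoImplicit false

namespace Cfsg.Agent.Lib.Helper34

open Cfsg.Agent.Lib.Helper1

variable {G : Type*} [Group G]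

/-- The twisted norm `x * φ x * ⋯ * φ^(n-1) x`. -/
def twNorm (φ : MulAut G) (n : ℕ) (x : G) : G :=
  ((List.range n).map (fun i : ℕ => (φ ^ i) x)).prod

@[simp] theorem twNorm_zero (φ : MulAut G) (x : G) : twNorm φ 0 x = 1 := by
  simp [twNorm]

theorem twNorm_succ (φ : MulAut G) (n : ℕ) (x : G) :
    twNorm φ (n + 1) x = twNorm φ n x * (φ ^ n) x := by
  simp [twNorm, List.range_succ]

theorem twNorm_one_arg (φ : MulAut G) (n : ℕ) : twNorm φ n (1 : G) = 1 := by
  induction n with
  | zero => simp
  | succ n ih => rw [twNorm_succ, ih, map_one, mul_one]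

theorem twNorm_succ' (φ : MulAut G) (n : ℕ) (x : G) :
    twNorm φ (n + 1) x = x * φ (twNorm φ n x) := by
  induction n with
  | zero => simp [twNorm_succ]
  | succ n ih =>
    conv_rhs => rw [twNorm_succ φ n]
    rw [twNorm_succ φ (n + 1), ih, map_mul, mul_assoc, pow_succ', MulAut.mul_apply]

theorem twNorm_of_fixed (φ : MulAut G) (n : ℕ) (x : G) (hx : φ x = x) :
    twNorm φ n x = x ^ n := by
  induction n with
  | zero => simp
  | succ n ih => rw [twNorm_succ, ih, fixed_pow φ x hx n, pow_succ]

/-- `(conj h ∘ φ)^n = conj (twNorm φ n h) ∘ φ^n`. -/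
theorem conj_mul_pow (φ : MulAut G) (h : G) (n : ℕ) :
    (MulAut.conj h * φ) ^ n = MulAut.conj (twNorm φ n h) * φ ^ n := by
  induction n with
  | zero => simp
  | succ n ih =>
    rw [pow_succ, ih, twNorm_succ, pow_succ]
    ext x
    simp only [MulAut.mul_apply, MulAut.conj_apply, map_mul, map_inv, mul_inv_rev]

theorem twNorm_conj_mul (φ : MulAut G) (h : G) (n : ℕ) (x : G) :
    twNorm (MulAut.conj h * φ) n x * twNorm φ n h = twNorm φ n (x * h) := by
  induction n with
  | zero => simp
  | succ n ih =>
    rw [twNorm_succ, twNorm_succ, twNorm_succ, ← ih, conj_mul_pow, map_mul]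
    simp only [MulAut.mul_apply, MulAut.conj_apply]
    group

/-- `φ` is a splitting automorphism with `φ ^ p = 1`. -/
structure Spl (p : ℕ) (φ : MulAut G) : Prop where
  pow : φ ^ p = 1
  norm : ∀ x : G, twNorm φ p x = 1

theorem Spl.conj_mul {p : ℕ} {φ : MulAut G} (h : Spl p φ) (g : G) :
    Spl p (MulAut.conj g * φ) := by
  constructor
  · rw [conj_mul_pow, h.pow, h.norm, map_one, one_mul]
  · intro x
    have := twNorm_conj_mul φ g p x
    rwa [h.norm, h.norm, mul_one] at this

theorem twNorm_restrictAut (φ : MulAut G) (H : Subgroup G) (hH : AutInv φ H) (n : ℕ) (x : H) :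
    ((twNorm (restrictAut φ H hH : MulAut H) n x : H) : G) = twNorm φ n (x : G) := by
  induction n with
  | zero => simp
  | succ n ih =>
    rw [twNorm_succ, twNorm_succ, Subgroup.coe_mul, ih, restrictAut_pow_apply]

theorem Spl.restrict {p : ℕ} {φ : MulAut G} (h : Spl p φ) (H : Subgroup G) (hH : AutInv φ H) :
    Spl p (restrictAut φ H hH : MulAut H) := by
  constructor
  · exact restrictAut_pow_eq_one φ H hH p h.pow
  · intro x
    apply Subtype.ext
    rw [twNorm_restrictAut, h.norm]
    rfl

theorem twNorm_quotAut (φ : MulAut G) (N : Subgroup G) [N.Normal] (hN : AutInv φ N) (n : ℕ)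
    (x : G) :
    twNorm (quotAut φ N hN : MulAut (G ⧸ N)) n (x : G ⧸ N) = ((twNorm φ n x : G) : G ⧸ N) := by
  induction n with
  | zero => simp
  | succ n ih =>
    rw [twNorm_succ, twNorm_succ, ih, quotAut_pow_mk, QuotientGroup.mk_mul]

theorem Spl.quot {p : ℕ} {φ : MulAut G} (h : Spl p φ) (N : Subgroup G) [N.Normal]
    (hN : AutInv φ N) : Spl p (quotAut φ N hN : MulAut (G ⧸ N)) := by
  constructor
  · exact quotAut_pow_eq_one φ N hN p h.pow
  · intro x
    induction x using QuotientGroup.induction_on with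
    | H x => rw [twNorm_quotAut, h.norm, QuotientGroup.mk_one]

/-- Fixed points of a splitting automorphism have order dividing `p`. -/
theorem Spl.pow_eq_one_of_fixed {p : ℕ} {φ : MulAut G} (h : Spl p φ) (x : G) (hx : φ x = x) :
    x ^ p = 1 := by
  rw [← twNorm_of_fixed φ p x hx, h.norm]

/-- A splitting automorphism has no nontrivial fixed points of order prime to `p`. -/
theorem Spl.eq_one_of_fixed_of_coprime {p : ℕ} {φ : MulAut G} (h : Spl p φ) (x : G)
    (hx : φ x = x) (hcop : (orderOf x).Coprime p) : x = 1 := by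
  have h1 : orderOf x ∣ p := orderOf_dvd_of_pow_eq_one (h.pow_eq_one_of_fixed x hx)
  have h2 : orderOf x = 1 := Nat.Coprime.eq_one_of_dvd hcop h1
  exact orderOf_eq_one_iff.mp h2

end Cfsg.Agent.Lib.Helper34
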