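import Mathlib
import Cfsg.Agent.Lib.Helper34.Splitting

/-!
# Counting lemmas for splitting automorphisms

* `frobenius_action_lemma'`: a variant of helper1's `frobenius_action_lemma` in which the
  automorphism is only assumed to be splitting on the abelian normal subgroup `M` and
  fixed-point-free on the coprime subgroup `Z`.
* `centralizes_of_fixed`: if `φ` is splitting with `φ ^ p = 1`, `M` is an abelian normal
  `φ`-invariant `p'`-subgroup and `z` is fixed by `φ`, then `z` centralizes `M`.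
-/

set_option autoImplicit false

namespace Cfsg.Agent.Lib.Helper34

open Cfsg.Agent.Lib.Helper1

variable {G : Type*} [Group G]

theorem twNorm_eq_prod {M : Type*} [CommGroup M] (ψ : MulAut M) (n : ℕ) (m : M) :
    twNorm ψ n m = ∏ i ∈ Finset.range n, (ψ ^ i) m := by
  induction n with
  | zero => simp
  | succ n ih => rw [twNorm_succ, ih, Finset.prod_range_succ]

theorem frobenius_action_lemma' [Finite G] (φ : MulAut G) (p : ℕ) (hp : p.Prime)
    (hpow : φ ^ p = 1) (M Z : Subgroup G) [hMn : M.Normal]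
    (hMc : ∀ a ∈ M, ∀ b ∈ M, a * b = b * a) (hM : AutInv φ M) (hZ : AutInv φ Z)
    (hsplM : ∀ m ∈ M, twNorm φ p m = 1)
    (hfpfZ : ∀ z ∈ Z, φ z = z → z = 1)
    (hC : M ⊓ Subgroup.centralizer (Z : Set G) = ⊥)
    (hcop : (Nat.card Z).Coprime (Nat.card M)) : M = ⊥ := by
  classical
  have : Fintype Z := Fintype.ofFinite Z
  let _ : CommGroup M :=
    { (inferInstance : Group M) with
      mul_comm := fun a b => Subtype.ext (hMc a a.2 b b.2) }
  set φM : MulAut M := restrictAut φ M hM with hφM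
  have hφMpow : φM ^ p = 1 := restrictAut_pow_eq_one φ M hM p hpow
  have hφMspl : ∀ m : M, ∏ i ∈ Finset.range p, (φM ^ i) m = 1 := by
    intro m
    rw [← twNorm_eq_prod]
    apply Subtype.ext
    rw [twNorm_restrictAut, hsplM _ m.2]
    rfl
  -- fixed-point-freeness of the powers on `Z`
  have hfpfZ' : ∀ i : ℕ, ¬ p ∣ i → ∀ z ∈ Z, (φ ^ i) z = z → z = 1 := by
    intro i hi z hz hfix
    have h1 : ∀ g : Z, (restrictAut φ Z hZ : MulAut Z) g = g → g = 1 := by
      intro g hg
      apply Subtype.ext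
      exact hfpfZ g g.2 (congrArg Subtype.val hg)
    have h2 := fpf_pow_of_prime hp (restrictAut_pow_eq_one φ Z hZ p hpow) h1 i hi ⟨z, hz⟩
      (by apply Subtype.ext; rw [restrictAut_pow_apply]; exact hfix)
    exact congrArg Subtype.val h2
  -- the conjugated automorphisms
  let Ψ : G → MulAut M := fun y => MulAut.conjNormal y * φM * (MulAut.conjNormal y)⁻¹
  have hΨpowi : ∀ (y : G) (i : ℕ),
      Ψ y ^ i = MulAut.conjNormal y * φM ^ i * (MulAut.conjNormal y)⁻¹ := by
    intro y i
    show (MulAut.conjNormal y * φM * (MulAut.conjNormal y)⁻¹) ^ i = _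
    rw [conj_pow]
  have hstep1 : ∀ (y : G) (m : M), ∏ i ∈ Finset.range p, (Ψ y ^ i) m = 1 := by
    intro y m
    have h1 : ∀ i, (Ψ y ^ i) m
        = MulAut.conjNormal y ((φM ^ i) ((MulAut.conjNormal y)⁻¹ m)) := by
      intro i
      rw [hΨpowi]
      rfl
    simp only [h1]
    rw [← map_prod, hφMspl, map_one]
  -- explicit formula
  have hformula : ∀ (y : G) (i : ℕ) (m : M),
      (Ψ y ^ i) m = MulAut.conjNormal (y * ((φ ^ i) y)⁻¹) ((φM ^ i) m) := by
    intro y i m
    apply Subtype.ext
    rw [hΨpowi, MulAut.mul_apply, MulAut.mul_apply, MulAut.conjNormal_apply,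
      MulAut.conjNormal_apply, restrictAut_pow_apply, restrictAut_pow_apply,
      MulAut.conjNormal_inv_apply]
    rw [map_mul, map_mul, map_inv]
    group
  -- the trace map lands in `C_M(Z)`
  have htrace : ∀ m : M, ∏ w : Z, MulAut.conjNormal (w : G) m = 1 := by
    intro m
    have hmem : ((∏ w : Z, MulAut.conjNormal (w : G) m : M) : G)
        ∈ M ⊓ Subgroup.centralizer (Z : Set G) := by
      refine Subgroup.mem_inf.mpr ⟨Subtype.property _, Subgroup.mem_centralizer_iff.mpr ?_⟩
      intro z hz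
      have hfix : MulAut.conjNormal z (∏ w : Z, MulAut.conjNormal (w : G) m)
          = ∏ w : Z, MulAut.conjNormal (w : G) m := by
        rw [map_prod]
        have : ∀ w : Z, MulAut.conjNormal z (MulAut.conjNormal (w : G) m)
            = MulAut.conjNormal (((⟨z, hz⟩ : Z) * w : Z) : G) m := by
          intro w
          rw [← MulAut.mul_apply, ← map_mul]
          rfl
        simp only [this]
        exact Equiv.prod_comp (Equiv.mulLeft (⟨z, hz⟩ : Z))
          (fun w : Z => MulAut.conjNormal (w : G) m)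
      have h2 := congrArg Subtype.val hfix
      rw [MulAut.conjNormal_apply] at h2
      generalize ((∏ w : Z, MulAut.conjNormal (w : G) m : M) : G) = t at h2 ⊢
      calc z * t = z * t * z⁻¹ * z := by group
        _ = t * z := by rw [h2]
    rw [hC, Subgroup.mem_bot] at hmem
    exact Subtype.ext hmem
  -- the bijections `y ↦ y * (φ^i y)⁻¹` of `Z`
  have hbij : ∀ i : ℕ, ¬ p ∣ i → Function.Bijective
      (fun y : Z => (⟨(y : G) * ((φ ^ i) (y : G))⁻¹,
        Z.mul_mem y.2 (Z.inv_mem (hZ.pow i _ y.2))⟩ : Z)) := by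
    intro i hi
    rw [← Finite.injective_iff_bijective]
    intro y y' hyy'
    have h1 : (y : G) * ((φ ^ i) (y : G))⁻¹ = (y' : G) * ((φ ^ i) (y' : G))⁻¹ :=
      congrArg Subtype.val hyy'
    have h2 : (φ ^ i) ((y' : G)⁻¹ * (y : G)) = (y' : G)⁻¹ * (y : G) := by
      rw [map_mul, map_inv]
      have : (φ ^ i) (y : G) = (φ ^ i) (y' : G) * ((y' : G)⁻¹ * (y : G)) := by
        have h3 : ((φ ^ i) (y : G))⁻¹ = (y : G)⁻¹ * ((y' : G) * ((φ ^ i) (y' : G))⁻¹) := by
          rw [← h1]; group
        rw [← inv_inv ((φ ^ i) (y : G)), h3]; group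
      rw [this]; group
    have h4 := hfpfZ' i hi _ (Z.mul_mem (Z.inv_mem y'.2) y.2) h2
    apply Subtype.ext
    have : (y : G) = (y' : G) * ((y' : G)⁻¹ * (y : G)) := by group
    rw [this, h4, mul_one]
  -- main computation
  rw [eq_bot_iff]
  intro m₀ hm₀
  rw [Subgroup.mem_bot]
  set m : M := ⟨m₀, hm₀⟩ with hm
  have hcol : ∀ i : ℕ, ¬ p ∣ i → ∏ y : Z, (Ψ (y : G) ^ i) m = 1 := by
    intro i hi
    simp only [hformula]
    have := (hbij i hi).prod_comp (fun w : Z => MulAut.conjNormal (w : G) ((φM ^ i) m))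
    simp only at this
    rw [this]
    exact htrace _
  have htotal : ∏ y : Z, ∏ i ∈ Finset.range p, (Ψ (y : G) ^ i) m = 1 := by
    simp only [hstep1, Finset.prod_const_one]
  rw [Finset.prod_comm] at htotal
  obtain ⟨p', rfl⟩ : ∃ p', p = p' + 1 := ⟨p - 1, (Nat.succ_pred_eq_of_pos hp.pos).symm⟩
  rw [Finset.prod_range_succ'] at htotal
  have hrest : ∏ i ∈ Finset.range p', ∏ y : Z, (Ψ (y : G) ^ (i + 1)) m = 1 := by
    apply Finset.prod_eq_one
    intro i hi
    apply hcol
    intro hdvd
    have := Nat.le_of_dvd (Nat.succ_pos i) hdvd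
    rw [Finset.mem_range] at hi
    omega
  rw [hrest, one_mul] at htotal
  simp only [pow_zero, MulAut.one_apply, Finset.prod_const, Finset.card_univ] at htotal
  -- `m ^ |Z| = 1` and `m ^ |M| = 1`
  have h1 : orderOf m ∣ Fintype.card Z := orderOf_dvd_of_pow_eq_one htotal
  have h2 : orderOf m ∣ Nat.card M := orderOf_dvd_natCard m
  rw [← Nat.card_eq_fintype_card] at h1
  have h3 : orderOf m = 1 := Nat.eq_one_of_dvd_coprimes hcop h1 h2
  have h4 : m = 1 := orderOf_eq_one_iff.mp h3
  exact congrArg Subtype.val h4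

theorem autInv_conj_mul [Finite G] (φ : MulAut G) (N : Subgroup G) [hN : N.Normal]
    (h : AutInv φ N) (g : G) : AutInv (MulAut.conj g * φ) N := by
  apply autInv_of_forall_mem
  intro x hx
  rw [MulAut.mul_apply, MulAut.conj_apply]
  exact hN.conj_mem _ ((h.mem_iff x).mpr hx) g

theorem autInv_of_conj_mul [Finite G] (φ : MulAut G) (N : Subgroup G) [hN : N.Normal] (g : G)
    (h : AutInv (MulAut.conj g * φ) N) : AutInv φ N := by
  have h1 := autInv_conj_mul (MulAut.conj g * φ) N h g⁻¹
  have h2 : MulAut.conj g⁻¹ * (MulAut.conj g * φ) = φ := by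
    rw [← mul_assoc, ← map_mul, inv_mul_cancel, map_one, one_mul]
  rwa [h2] at h1

theorem fixed_of_pow_fixed {X : Type*} [Group X] {ψ : MulAut X} {p : ℕ} (hp : p.Prime)
    (hpow : ψ ^ p = 1) (i : ℕ) (hi : ¬ p ∣ i) (w : X) (h : (ψ ^ i) w = w) : ψ w = w := by
  have hcop : i.Coprime p := ((Nat.Prime.coprime_iff_not_dvd hp).mpr hi).symm
  obtain ⟨k, -, hk⟩ := Nat.exists_mul_mod_eq_one_of_coprime hcop hp.one_lt
  have h1 : (ψ ^ i) ^ k = ψ := by
    rw [← pow_mul, ← Nat.mod_add_div (i * k) p, hk, pow_add, pow_one, pow_mul, hpow, one_pow,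
      mul_one]
  have h2 := fixed_pow (ψ ^ i) w h k
  rwa [h1] at h2

/-- If `φ` is splitting with `φ ^ p = 1`, `M` an abelian normal `φ`-invariant subgroup of order
prime to `p` and `z` a fixed point of `φ`, then `z` centralizes `M`. -/
theorem centralizes_of_fixed [Finite G] (φ : MulAut G) (p : ℕ) (hp : p.Prime) (hφ : Spl p φ)
    (M : Subgroup G) [hMn : M.Normal] (hMc : ∀ a ∈ M, ∀ b ∈ M, a * b = b * a)
    (hM : AutInv φ M) (hcop : (Nat.card M).Coprime p) (z : G) (hz : φ z = z) :
    z ∈ Subgroup.centralizer (M : Set G) := by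
  classical
  let _ : CommGroup M :=
    { (inferInstance : Group M) with
      mul_comm := fun a b => Subtype.ext (hMc a a.2 b b.2) }
  have hzp : z ^ p = 1 := hφ.pow_eq_one_of_fixed z hz
  set φM : MulAut M := restrictAut φ M hM with hφM
  set c : MulAut M := MulAut.conjNormal z with hc
  have hcp : c ^ p = 1 := by rw [hc, ← map_pow, hzp, map_one]
  have hzj : ∀ j : ℕ, φ (z ^ j) = z ^ j := fun j => by rw [map_pow, hz]
  -- the automorphisms `conj (z^j) ∘ φ` restricted to `M`
  have hθ : ∀ j : ℕ, AutInv (MulAut.conj (z ^ j) * φ) M := fun j => autInv_conj_mul φ M hM _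
  have hA : ∀ (j : ℕ) (m : M),
      ∏ i ∈ Finset.range p, ((restrictAut (MulAut.conj (z ^ j) * φ) M (hθ j) : MulAut M) ^ i) m
        = 1 := by
    intro j m
    rw [← twNorm_eq_prod]
    exact ((hφ.conj_mul (z ^ j)).restrict M (hθ j)).norm m
  have hformula : ∀ (j i : ℕ) (m : M),
      ((restrictAut (MulAut.conj (z ^ j) * φ) M (hθ j) : MulAut M) ^ i) m
        = (c ^ (j * i)) ((φM ^ i) m) := by
    intro j i m
    apply Subtype.ext
    rw [restrictAut_pow_apply, conj_mul_pow, twNorm_of_fixed φ i _ (hzj j), ← pow_mul,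
      MulAut.mul_apply, MulAut.conj_apply, hc, ← map_pow, MulAut.conjNormal_apply,
      restrictAut_pow_apply]
  -- each column product is fixed by `c`
  have hcol : ∀ (i : ℕ), ¬ p ∣ i → ∀ y : M,
      c (∏ j ∈ Finset.range p, (c ^ (j * i)) y) = ∏ j ∈ Finset.range p, (c ^ (j * i)) y := by
    intro i hi y
    apply fixed_of_pow_fixed hp hcp i hi
    rw [map_prod]
    have h1 : ∀ j, (c ^ i) ((c ^ (j * i)) y) = (c ^ ((j + 1) * i)) y := by
      intro j
      rw [← MulAut.mul_apply, ← pow_add]
      congr 2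
      ring
    simp only [h1]
    have h2 := Finset.prod_range_succ' (fun j => (c ^ (j * i)) y) p
    have h3 := Finset.prod_range_succ (fun j => (c ^ (j * i)) y) p
    rw [h3] at h2
    have h4 : (c ^ (p * i)) y = y := by rw [pow_mul, hcp, one_pow]; rfl
    simp only [zero_mul, pow_zero, MulAut.one_apply] at h2
    rw [h4] at h2
    exact (mul_right_cancel h2).symm
  -- `c` fixes all `p`-th powers
  have hpow_fixed : ∀ m : M, c (m ^ p) = m ^ p := by
    intro m
    have htotal : ∏ j ∈ Finset.range p, ∏ i ∈ Finset.range p, (c ^ (j * i)) ((φM ^ i) m) = 1 := by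
      apply Finset.prod_eq_one
      intro j _
      simp only [← hformula]
      exact hA j m
    rw [Finset.prod_comm] at htotal
    obtain ⟨p', hp'⟩ : ∃ p', p = p' + 1 := ⟨p - 1, (Nat.succ_pred_eq_of_pos hp.pos).symm⟩
    rw [hp', Finset.prod_range_succ'] at htotal
    rw [← hp'] at htotal
    simp only [mul_zero, pow_zero, MulAut.one_apply, Finset.prod_const, Finset.card_range]
      at htotal
    have hW : c (∏ i ∈ Finset.range p', ∏ j ∈ Finset.range p, (c ^ (j * (i + 1))) ((φM ^ (i + 1)) m))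
        = ∏ i ∈ Finset.range p', ∏ j ∈ Finset.range p, (c ^ (j * (i + 1))) ((φM ^ (i + 1)) m) := by
      rw [map_prod]
      apply Finset.prod_congr rfl
      intro i hi
      apply hcol
      intro hdvd
      have := Nat.le_of_dvd (Nat.succ_pos i) hdvd
      rw [Finset.mem_range] at hi
      omega
    have h5 : m ^ p = (∏ i ∈ Finset.range p', ∏ j ∈ Finset.range p,
        (c ^ (j * (i + 1))) ((φM ^ (i + 1)) m))⁻¹ := by
      rw [eq_inv_iff_mul_eq_one, mul_comm]
      exact htotal
    rw [h5, map_inv, hW]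
  -- every element of `M` is a `p`-th power
  have hfix : ∀ m : M, c m = m := by
    intro m
    obtain ⟨m', rfl⟩ := (powCoprime hcop).surjective m
    exact hpow_fixed m'
  rw [Subgroup.mem_centralizer_iff]
  intro m hm
  have h1 := congrArg Subtype.val (hfix ⟨m, hm⟩)
  rw [hc, MulAut.conjNormal_apply] at h1
  simp only at h1
  calc m * z = z * m * z⁻¹ * z := by rw [h1]
    _ = z * m := by group

end Cfsg.Agent.Lib.Helper34
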