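import Mathlib
import Cfsg.Agent.Lib.Helper1.ThompsonFpf
import Cfsg.Agent.Lib.Helper34.SplittingAction

/-!
# Kegel's theorem: a finite group with a splitting automorphism of prime order is nilpotent
-/

set_option autoImplicit false

namespace Cfsg.Agent.Lib.Helper34

open Cfsg Cfsg.Agent.Lib.Helper1

universe u

/-- An automorphism of `p`-power order of a nontrivial invariant `p`-subgroup has a nontrivial
fixed point. -/
theorem exists_fixed_ne_one {G : Type*} [Group G] [Finite G] (ψ : MulAut G) (p : ℕ)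
    [Fact p.Prime] (hpow : ψ ^ p = 1) (Z : Subgroup G) (hZ : AutInv ψ Z) (hZp : IsPGroup p Z)
    (hne : Z ≠ ⊥) : ∃ z ∈ Z, z ≠ 1 ∧ ψ z = z := by
  set ψZ : MulAut Z := restrictAut ψ Z hZ with hψZdef
  have hψZ : ψZ ^ p = 1 := restrictAut_pow_eq_one ψ Z hZ p hpow
  let K : Subgroup (MulAut Z) := Subgroup.zpowers ψZ
  have hK : IsPGroup p K := by
    intro x
    refine ⟨1, ?_⟩
    obtain ⟨x, hx⟩ := x
    obtain ⟨k, rfl⟩ := Subgroup.mem_zpowers_iff.mp hx
    apply Subtype.ext
    rw [pow_one]
    show (ψZ ^ k) ^ p = 1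
    rw [← zpow_natCast, ← zpow_mul, mul_comm, zpow_mul, zpow_natCast, hψZ, one_zpow]
  have hdvd : p ∣ Nat.card Z := by
    obtain ⟨n, hn⟩ := IsPGroup.iff_card.mp hZp
    have hn0 : n ≠ 0 := by
      rintro rfl
      rw [pow_zero] at hn
      exact hne (Subgroup.card_eq_one.mp hn)
    rw [hn]
    exact dvd_pow_self p hn0
  have h1 : (1 : Z) ∈ MulAction.fixedPoints K Z := by
    intro k
    exact map_one (k : MulAut Z)
  obtain ⟨b, hb, hb1⟩ := hK.exists_fixed_point_of_prime_dvd_card_of_fixed_point Z hdvd h1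
  refine ⟨b, b.2, ?_, ?_⟩
  · intro h
    apply hb1
    exact (Subtype.ext h).symm
  · have h2 := hb ⟨ψZ, Subgroup.mem_zpowers ψZ⟩
    exact congrArg Subtype.val h2

open scoped Pointwise in
/-- Some inner twist of `φ` leaves a given Sylow subgroup invariant. -/
theorem exists_conj_mul_autInv_sylow {G : Type*} [Group G] [Finite G] (φ : MulAut G) (q : ℕ)
    [Fact q.Prime] (Q : Sylow q G) : ∃ g : G, AutInv (MulAut.conj g * φ) (Q : Subgroup G) := by
  obtain ⟨g, hg⟩ := MulAction.exists_smul_eq G (φ • Q) Q
  refine ⟨g, ?_⟩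
  apply autInv_of_forall_mem
  intro x hx
  have h1 : φ x ∈ ((φ • Q : Sylow q G) : Subgroup G) := by
    rw [Sylow.pointwise_smul_def]
    exact Subgroup.smul_mem_pointwise_smul x φ _ hx
  have h2 : MulAut.conj g (φ x) ∈ ((g • (φ • Q) : Sylow q G) : Subgroup G) := by
    rw [Sylow.coe_subgroup_smul]
    exact Subgroup.smul_mem_pointwise_smul (φ x) (MulAut.conj g) _ h1
  rw [hg] at h2
  exact h2

theorem isNilpotent_of_forall_comm {G : Type*} [Group G] (h : ∀ a b : G, a * b = b * a) :
    Group.IsNilpotent G := by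
  refine ⟨⟨1, ?_⟩⟩
  rw [Subgroup.upperCentralSeries_one, eq_top_iff]
  intro x _
  rw [Subgroup.mem_center_iff]
  intro g
  exact h g x

theorem isNilpotent_of_spl_two {G : Type*} [Group G] (φ : MulAut G) (hφ : Spl 2 φ) :
    Group.IsNilpotent G := by
  have h1 : ∀ x : G, φ x = x⁻¹ := by
    intro x
    have := hφ.norm x
    rw [twNorm_succ, twNorm_succ, twNorm_zero, one_mul, pow_zero, pow_one, MulAut.one_apply]
      at this
    exact (eq_inv_of_mul_eq_one_right this)
  apply isNilpotent_of_forall_comm
  intro a b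
  have h2 := map_mul φ a⁻¹ b⁻¹
  rw [h1, h1, h1, inv_inv, inv_inv, mul_inv_rev, inv_inv, inv_inv] at h2
  exact h2.symm

theorem autInv_of_characteristic {G : Type*} [Group G] (φ : MulAut G) (H : Subgroup G)
    [hH : H.Characteristic] : AutInv φ H :=
  Subgroup.characteristic_iff_map_eq.mp hH φ

/-- Solvability step in Kegel's theorem, via the Thompson normal `p`-complement theorem for the
prime `p` itself. -/
theorem spl_isSolvable_step {G : Type u} [Group G] [Finite G] (p : ℕ) (hp : p.Prime)
    (hp2 : p ≠ 2) (hpdvd : p ∣ Nat.card G) (φ : MulAut G) (hφ : Spl p φ)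
    (ihSub : ∀ ψ : MulAut G, Spl p ψ → ∀ H : Subgroup G, AutInv ψ H → H ≠ ⊤ →
      Group.IsNilpotent H)
    (ihQuot : ∀ ψ : MulAut G, Spl p ψ → ∀ (N : Subgroup G) [N.Normal], AutInv ψ N → N ≠ ⊥ →
      Group.IsNilpotent (G ⧸ N)) :
    Group.IsSolvable G := by
  have : Fact p.Prime := ⟨hp⟩
  obtain ⟨P⟩ : Nonempty (Sylow p G) := inferInstance
  obtain ⟨g, hg⟩ := exists_conj_mul_autInv_sylow φ p P
  set ψ : MulAut G := MulAut.conj g * φ with hψdef
  have hψ : Spl p ψ := hφ.conj_mul g
  have hPinv : AutInv ψ (P : Subgroup G) := hg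
  have hPne : (P : Subgroup G) ≠ ⊥ := P.ne_bot_of_dvd_card hpdvd
  set W : Subgroup G :=
    (stableNormalClosure p ↥(P : Subgroup G)).map (P : Subgroup G).subtype with hW
  have hWinv : AutInv ψ W := autInv_stableNormalClosure ψ p P hPinv
  have hWne : W ≠ ⊥ := stableNormalClosure_map_ne_bot p P hPne
  by_cases hN : Subgroup.normalizer (W : Set G) = ⊤
  · have hWn : W.Normal := Subgroup.normalizer_eq_top_iff.mp hN
    have hquot := ihQuot ψ hψ W hWinv hWne
    have hWp : IsPGroup p W := P.isPGroup'.to_le (Subgroup.map_subtype_le _)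
    have := hWp.isNilpotent
    exact Group.isSolvable_of_ker_le_range W.subtype (QuotientGroup.mk' W)
      (by rw [QuotientGroup.ker_mk', Subgroup.range_subtype])
  · have hNnil := ihSub ψ hψ _ hWinv.normalizer hN
    have h1 : HasNormalPComplement p ↥(Subgroup.normalizer (W : Set G)) :=
      hasNPC_of_isNilpotent p hNnil
    have h3 := Cfsg.Agent.S0628.result hp2 P h1
    rw [Cfsg.Agent.Lib.Helper34.hasNPC_iff_exists_normal] at h3
    obtain ⟨Y, hYn, hYcop, k, hk⟩ := h3
    have hYinv : AutInv ψ Y := by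
      apply autInv_of_forall_mem
      intro x hx
      have hle : Y.map ψ.toMonoidHom ≤ Y := by
        apply Cfsg.Agent.Lib.Helper34.le_of_card_coprime_of_index_pow Y hk
        rw [Subgroup.card_map_of_injective ψ.injective]
        exact hYcop
      exact hle ⟨x, hx, rfl⟩
    have hYne : Y ≠ ⊤ := by
      intro h
      rw [h, Subgroup.card_top] at hYcop
      exact (Nat.Prime.coprime_iff_not_dvd hp).mp hYcop.symm hpdvd
    have hYnil := ihSub ψ hψ Y hYinv hYne
    have hQuotP : IsPGroup p (G ⧸ Y) :=
      IsPGroup.of_card (n := k) (by rw [← Subgroup.index_eq_card, hk])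
    have := hQuotP.isNilpotent
    exact Group.isSolvable_of_ker_le_range Y.subtype (QuotientGroup.mk' Y)
      (by rw [QuotientGroup.ker_mk', Subgroup.range_subtype])

/-- The solvable step of Kegel's theorem. -/
theorem spl_nilpotent_of_solvable_step {G : Type u} [Group G] [Finite G] [Group.IsSolvable G]
    (p : ℕ) (hp : p.Prime) (φ : MulAut G) (hφ : Spl p φ)
    (ihSub : ∀ ψ : MulAut G, Spl p ψ → ∀ H : Subgroup G, AutInv ψ H → H ≠ ⊤ →
      Group.IsNilpotent H)
    (ihQuot : ∀ ψ : MulAut G, Spl p ψ → ∀ (N : Subgroup G) [N.Normal], AutInv ψ N → N ≠ ⊥ →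
      Group.IsNilpotent (G ⧸ N)) :
    Group.IsNilpotent G := by
  by_contra hnil
  have hnt : Nontrivial G := by
    by_contra h
    rw [not_nontrivial_iff_subsingleton] at h
    exact hnil Group.isNilpotent_of_subsingleton
  -- a minimal invariant normal subgroup
  let 𝒮 : Set (Subgroup G) := {H | H.Normal ∧ H ≠ ⊥ ∧ AutInv φ H}
  have h𝒮 : 𝒮.Nonempty := ⟨⊤, inferInstance, top_ne_bot, autInv_top φ⟩
  obtain ⟨M, ⟨hMn, hM1, hMinv⟩, hmin⟩ := (wellFounded_lt (α := Subgroup G)).has_min 𝒮 h𝒮
  have hmin' : ∀ H : Subgroup G, H.Normal → AutInv φ H → H ≤ M → H = ⊥ ∨ H = M := by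
    intro H hHn hHinv hHM
    by_cases hH1 : H = ⊥
    · exact Or.inl hH1
    · right
      by_contra hne
      exact hmin H ⟨hHn, hH1, hHinv⟩ (lt_of_le_of_ne hHM hne)
  have := hMn
  -- `M` is abelian
  have hMcomm : ⁅M, M⁆ = ⊥ := by
    have hlt : ⁅M, M⁆ < M := commutator_lt_of_isSolvable hM1
    rcases hmin' ⁅M, M⁆ inferInstance (hMinv.commutator hMinv) hlt.le with h | h
    · exact h
    · exact absurd h hlt.ne
  have hMZ : M ≤ Subgroup.centralizer (M : Set G) :=
    Subgroup.commutator_eq_bot_iff_le_centralizer.mp hMcomm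
  have hMc : ∀ a ∈ M, ∀ b ∈ M, a * b = b * a := by
    intro a ha b hb
    exact (Subgroup.mem_centralizer_iff.mp (hMZ hb) a ha)
  -- `M` has prime exponent `q`
  have hMcard : Nat.card M ≠ 1 := by
    intro h
    exact hM1 (Subgroup.card_eq_one.mp h)
  obtain ⟨q, hq, hqdvd⟩ := Nat.exists_prime_and_dvd hMcard
  have : Fact q.Prime := ⟨hq⟩
  have hMq : ∀ x ∈ M, x ^ q = 1 := by
    let Mq : Subgroup G :=
      { carrier := {x | x ∈ M ∧ x ^ q = 1}
        mul_mem' := by
          rintro a b ⟨ha, ha'⟩ ⟨hb, hb'⟩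
          refine ⟨M.mul_mem ha hb, ?_⟩
          have hc : Commute a b := hMc a ha b hb
          rw [hc.mul_pow, ha', hb', one_mul]
        one_mem' := ⟨M.one_mem, one_pow q⟩
        inv_mem' := by
          rintro a ⟨ha, ha'⟩
          exact ⟨M.inv_mem ha, by rw [inv_pow, ha', inv_one]⟩ }
    have hMqn : Mq.Normal := by
      refine ⟨fun n hn g => ⟨hMn.conj_mem n hn.1 g, ?_⟩⟩
      rw [conj_pow, hn.2, mul_one, mul_inv_cancel]
    have hMqinv : AutInv φ Mq := by
      apply autInv_of_forall_mem
      intro x hx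
      exact ⟨(hMinv.mem_iff x).mpr hx.1, by rw [← map_pow, hx.2, map_one]⟩
    have hMqle : Mq ≤ M := fun x hx => hx.1
    have hMqne : Mq ≠ ⊥ := by
      obtain ⟨x, hx⟩ := exists_prime_orderOf_dvd_card' (G := M) q hqdvd
      intro h
      have hmem : (x : G) ∈ Mq := by
        refine ⟨x.2, ?_⟩
        have h1 : x ^ q = 1 := by rw [← hx]; exact pow_orderOf_eq_one x
        exact_mod_cast congrArg Subtype.val h1
      rw [h, Subgroup.mem_bot] at hmem
      have hx1 : x = 1 := Subtype.ext hmem
      rw [hx1, orderOf_one] at hx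
      exact hq.one_lt.ne hx
    rcases hmin' Mq hMqn hMqinv hMqle with h | h
    · exact absurd h hMqne
    · intro x hx
      have : x ∈ Mq := by rw [h]; exact hx
      exact this.2
  have hMp : IsPGroup q M := fun x =>
    ⟨1, by rw [pow_one]; exact Subtype.ext (by simpa using hMq x x.2)⟩
  -- a prime `s ≠ q` dividing `|G|`
  have hs : ∃ s : ℕ, s.Prime ∧ s ∣ Nat.card G ∧ s ≠ q := by
    by_contra h
    push Not at h
    have hcard := Nat.eq_prime_pow_of_unique_prime_dvd (Nat.card_pos (α := G)).ne'
      (fun {d} hd hdvd => h d hd hdvd)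
    have hP : IsPGroup q G := IsPGroup.of_card hcard
    exact hnil hP.isNilpotent
  obtain ⟨s, hsp, hsdvd, hsq⟩ := hs
  have : Fact s.Prime := ⟨hsp⟩
  obtain ⟨S⟩ : Nonempty (Sylow s G) := inferInstance
  obtain ⟨g, hg⟩ := exists_conj_mul_autInv_sylow φ s S
  set ψ : MulAut G := MulAut.conj g * φ with hψdef
  have hψ : Spl p ψ := hφ.conj_mul g
  have hSinv : AutInv ψ (S : Subgroup G) := hg
  have hMinvψ : AutInv ψ M := autInv_conj_mul φ M hMinv g
  have hSne : (S : Subgroup G) ≠ ⊥ := S.ne_bot_of_dvd_card hsdvd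
  have hcop : (Nat.card (S : Subgroup G)).Coprime (Nat.card M) :=
    IsPGroup.coprime_card_of_ne s q hsq (S : Subgroup G) M S.isPGroup' hMp
  have hQuotM : Group.IsNilpotent (G ⧸ M) := ihQuot φ hφ M hMinv hM1
  -- if `S` is normal we are done
  have hSnormal_contra : (S : Subgroup G).Normal → False := by
    intro hSn
    have hQuotS : Group.IsNilpotent (G ⧸ (S : Subgroup G)) :=
      ihQuot ψ hψ (S : Subgroup G) hSinv hSne
    have hdisj : (S : Subgroup G) ⊓ M = ⊥ :=
      disjoint_iff.mp (Subgroup.disjoint_of_coprime_natCard hcop)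
    exact hnil (isNilpotent_of_two_quotients (S : Subgroup G) M hdisj hQuotS hQuotM)
  -- `M ⊔ S` is normal
  have hMSn : (M ⊔ (S : Subgroup G)).Normal := by
    have hSbarP : IsPGroup s ((S : Subgroup G).map (QuotientGroup.mk' M)) := S.isPGroup'.map _
    have hSbarI : ¬ s ∣ ((S : Subgroup G).map (QuotientGroup.mk' M)).index := by
      intro hdvd
      exact S.not_dvd_index (hdvd.trans
        (Subgroup.index_map_dvd (S : Subgroup G) (QuotientGroup.mk'_surjective M)))
    have hall : ∀ (r : ℕ) (_ : Fact r.Prime) (P : Sylow r (G ⧸ M)),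
        (P : Subgroup (G ⧸ M)).Normal :=
      ((Group.isNilpotent_of_finite_tfae (G := G ⧸ M)).out 0 3).mp hQuotM
    have hnorm : ((hSbarP.toSylow hSbarI : Sylow s (G ⧸ M)) : Subgroup (G ⧸ M)).Normal :=
      hall s inferInstance _
    have hcomap : ((S : Subgroup G).map (QuotientGroup.mk' M)).comap (QuotientGroup.mk' M)
        = M ⊔ (S : Subgroup G) := by
      rw [Subgroup.comap_map_eq, QuotientGroup.ker_mk', sup_comm]
    rw [← hcomap]
    exact Subgroup.Normal.comap hnorm _
  by_cases hMS : M ⊔ (S : Subgroup G) = ⊤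
  · -- `G = M S`
    have hCn : (M ⊓ Subgroup.centralizer ((S : Subgroup G) : Set G)).Normal := by
      rw [← Subgroup.normalizer_eq_top_iff, eq_top_iff, ← hMS]
      apply sup_le
      · exact hMZ.trans (centralizer_le_normalizer_inf M _)
      · exact Subgroup.le_normalizer.trans
          (normalizer_le_normalizer_inf_centralizer M (S : Subgroup G))
    have hCinvψ : AutInv ψ (M ⊓ Subgroup.centralizer ((S : Subgroup G) : Set G)) :=
      hMinvψ.inf hSinv.centralizer
    have hCinv : AutInv φ (M ⊓ Subgroup.centralizer ((S : Subgroup G) : Set G)) :=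
      autInv_of_conj_mul φ _ g hCinvψ
    rcases hmin' _ hCn hCinv inf_le_left with h | h
    · by_cases hsp' : s = p
      · -- `S` is a `p`-group and `M` is a `p'`-group
        have hqp : q ≠ p := fun h => hsq (hsp'.trans h.symm)
        have hMcop : (Nat.card M).Coprime p := by
          obtain ⟨k, hk⟩ := IsPGroup.iff_card.mp hMp
          rw [hk]
          exact Nat.Coprime.pow_left k ((Nat.coprime_primes hq hp).mpr hqp)
        -- the centre of `S`, as a subgroup of `G`
        set Z : Subgroup G :=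
          (S : Subgroup G) ⊓ Subgroup.centralizer ((S : Subgroup G) : Set G) with hZdef
        have hZinv : AutInv ψ Z := hSinv.inf hSinv.centralizer
        have hZp : IsPGroup p Z := by
          rw [← hsp']
          exact S.isPGroup'.to_le inf_le_left
        have hZne : Z ≠ ⊥ := by
          have hntS : Nontrivial ↥(S : Subgroup G) :=
            (Subgroup.nontrivial_iff_ne_bot _).mpr hSne
          have hlt := IsPGroup.bot_lt_center (S.isPGroup')
          obtain ⟨c, hc, hc1⟩ := SetLike.exists_of_lt hlt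
          intro hbot
          have hcZ : (c : G) ∈ Z := by
            refine Subgroup.mem_inf.mpr ⟨c.2, ?_⟩
            rw [Subgroup.mem_centralizer_iff]
            intro y hy
            have := (Subgroup.mem_center_iff.mp hc) ⟨y, hy⟩
            exact congrArg Subtype.val this
          rw [hbot, Subgroup.mem_bot] at hcZ
          apply hc1
          rw [Subgroup.mem_bot]
          exact Subtype.ext hcZ
        have : Fact p.Prime := ⟨hp⟩
        obtain ⟨z, hzZ, hz1, hzfix⟩ := exists_fixed_ne_one ψ p hψ.pow Z hZinv hZp hZne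
        have hzM : z ∈ Subgroup.centralizer (M : Set G) :=
          centralizes_of_fixed ψ p hp hψ M hMc hMinvψ hMcop z hzfix
        have hzS : z ∈ Subgroup.centralizer ((S : Subgroup G) : Set G) := hzZ.2
        have hzcenter : z ∈ Subgroup.center G := by
          have hle : M ⊔ (S : Subgroup G) ≤ Subgroup.centralizer ({z} : Set G) := by
            apply sup_le
            · intro m hm
              rw [Subgroup.mem_centralizer_iff]
              intro y hy
              rw [Set.mem_singleton_iff] at hy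
              subst hy
              exact (Subgroup.mem_centralizer_iff.mp hzM m hm).symm
            · intro m hm
              rw [Subgroup.mem_centralizer_iff]
              intro y hy
              rw [Set.mem_singleton_iff] at hy
              subst hy
              exact (Subgroup.mem_centralizer_iff.mp hzS m hm).symm
          rw [hMS] at hle
          rw [Subgroup.mem_center_iff]
          intro x
          have hx := hle (Subgroup.mem_top x)
          rw [Subgroup.mem_centralizer_iff] at hx
          exact (hx z rfl).symm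
        have hcne : Subgroup.center G ≠ ⊥ := by
          intro h
          rw [h, Subgroup.mem_bot] at hzcenter
          exact hz1 hzcenter
        have hcq := ihQuot φ hφ (Subgroup.center G) (autInv_of_characteristic φ _) hcne
        exact hnil (Group.of_quotient_center_nilpotent hcq)
      · -- `ψ` is fixed-point-free on `S`
        have hfpfS : ∀ z ∈ (S : Subgroup G), ψ z = z → z = 1 := by
          intro z hz hfix
          apply hψ.eq_one_of_fixed_of_coprime z hfix
          obtain ⟨k, hk⟩ := (IsPGroup.iff_orderOf.mp S.isPGroup') ⟨z, hz⟩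
          rw [Subgroup.orderOf_mk] at hk
          rw [hk]
          exact Nat.Coprime.pow_left k ((Nat.coprime_primes hsp hp).mpr hsp')
        exact hM1 (frobenius_action_lemma' ψ p hp hψ.pow M (S : Subgroup G) hMc hMinvψ hSinv
          (fun m _ => hψ.norm m) hfpfS h hcop)
    · apply hSnormal_contra
      have hMS' : M ≤ Subgroup.centralizer ((S : Subgroup G) : Set G) := inf_eq_left.mp h
      rw [← Subgroup.normalizer_eq_top_iff, eq_top_iff, ← hMS]
      apply sup_le
      · exact hMS'.trans (Subgroup.centralizer_le_normalizer _)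
      · exact Subgroup.le_normalizer
  · -- `M S < G`
    have hLnil : Group.IsNilpotent ↥(M ⊔ (S : Subgroup G)) :=
      ihSub ψ hψ _ (hMinvψ.sup hSinv) hMS
    apply hSnormal_contra
    have hSL : (S : Subgroup G) ≤ M ⊔ (S : Subgroup G) := le_sup_right
    apply normal_of_normal_subgroupOf_of_sylow s S (M ⊔ (S : Subgroup G)) hSL
    have hP : IsPGroup s ((S : Subgroup G).subgroupOf (M ⊔ (S : Subgroup G))) :=
      S.isPGroup'.comap_subtype
    have hI : ¬ s ∣ ((S : Subgroup G).subgroupOf (M ⊔ (S : Subgroup G))).index := by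
      intro hdvd
      have h1 : ((S : Subgroup G).subgroupOf (M ⊔ (S : Subgroup G))).index ∣
          (S : Subgroup G).index :=
        Subgroup.relIndex_dvd_index_of_le hSL
      exact S.not_dvd_index (hdvd.trans h1)
    have hall : ∀ (r : ℕ) (_ : Fact r.Prime) (P : Sylow r ↥(M ⊔ (S : Subgroup G))),
        (P : Subgroup ↥(M ⊔ (S : Subgroup G))).Normal :=
      ((Group.isNilpotent_of_finite_tfae (G := ↥(M ⊔ (S : Subgroup G)))).out 0 3).mp hLnil
    exact hall s inferInstance (hP.toSylow hI)

theorem spl_nilpotent_aux (p : ℕ) (hp : p.Prime) : ∀ (n : ℕ) (G : Type u) [Group G] [Finite G],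
    Nat.card G = n → ∀ φ : MulAut G, Spl p φ → Group.IsNilpotent G := by
  intro n
  induction n using Nat.strong_induction_on with
  | _ n ih =>
    intro G _ _ hn φ hφ
    subst hn
    by_cases hpdvd : p ∣ Nat.card G
    · by_cases hp2 : p = 2
      · subst hp2
        exact isNilpotent_of_spl_two φ hφ
      · have ihSub : ∀ ψ : MulAut G, Spl p ψ → ∀ H : Subgroup G, AutInv ψ H → H ≠ ⊤ →
            Group.IsNilpotent H := fun ψ hψ H hH hne =>
          ih (Nat.card H) (card_subgroup_lt H hne) H rfl (restrictAut ψ H hH) (hψ.restrict H hH)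
        have ihQuot : ∀ ψ : MulAut G, Spl p ψ → ∀ (N : Subgroup G) [N.Normal], AutInv ψ N →
            N ≠ ⊥ → Group.IsNilpotent (G ⧸ N) := fun ψ hψ N _ hN hne =>
          ih (Nat.card (G ⧸ N)) (card_quotient_lt N hne) (G ⧸ N) rfl (quotAut ψ N hN)
            (hψ.quot N hN)
        have hsolv : Group.IsSolvable G :=
          spl_isSolvable_step p hp hp2 hpdvd φ hφ ihSub ihQuot
        exact spl_nilpotent_of_solvable_step p hp φ hφ ihSub ihQuot
    · -- `φ` is fixed-point-free
      have hfpf : ∀ g : G, φ g = g → g = 1 := by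
        intro g hg
        apply hφ.eq_one_of_fixed_of_coprime g hg
        have h1 : orderOf g ∣ Nat.card G := orderOf_dvd_natCard g
        exact Nat.Coprime.coprime_dvd_left h1
          ((Nat.Prime.coprime_iff_not_dvd hp).mpr hpdvd).symm
      exact fpf_nilpotent_aux p hp _ G rfl φ hφ.pow hfpf

/-- **Kegel's theorem**: a finite group with a splitting automorphism of prime order is
nilpotent. -/
theorem kegel_splitting_nilpotent {G : Type u} [Group G] [Finite G] (α : MulAut G)
    (hp : (orderOf α).Prime)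
    (hsplit : ∀ x : G, ((List.range (orderOf α)).map (fun i : ℕ => (α ^ i) x)).prod = 1) :
    Group.IsNilpotent G :=
  spl_nilpotent_aux (orderOf α) hp _ G rfl α ⟨pow_orderOf_eq_one α, hsplit⟩

end Cfsg.Agent.Lib.Helper34
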