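import Mathlib
import Cfsg.Agent.Lib.Helper34.NilpotentMaximal
import Cfsg.Agent.Lib.Helper34.SplittingMain

/-!
# Groups in which the centralizer of every noncentral element is maximal are solvable

Also: a finite group with a maximal subgroup that is a `p`-group, `p` odd, is solvable
(a special case of Thompson's theorem on nilpotent maximal subgroups of odd order).
-/

set_option autoImplicit false

namespace Cfsg.Agent.Lib.Helper34

open Cfsg Cfsg.Agent.Lib.Helper1
open scoped commutatorElement

universe u

/-- A group in which the trivial subgroup is maximal is solvable. -/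
theorem isSolvable_of_isCoatom_bot {G : Type*} [Group G] (hM : IsCoatom (⊥ : Subgroup G)) :
    Group.IsSolvable G := by
  have hall : ∀ H : Subgroup G, H = ⊥ ∨ H = ⊤ := by
    intro H
    rcases hM.le_iff.mp (bot_le : (⊥ : Subgroup G) ≤ H) with h | h
    · exact Or.inr h
    · exact Or.inl h
  by_cases hx : ∃ x : G, x ≠ 1
  · obtain ⟨x, hx⟩ := hx
    have hz : Subgroup.zpowers x = ⊤ := by
      rcases hall (Subgroup.zpowers x) with h | h
      · exact absurd (Subgroup.zpowers_eq_bot.mp h) hx
      · exact h
    have hcyc : IsCyclic G := ⟨⟨x, fun y => by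
      have : y ∈ Subgroup.zpowers x := by rw [hz]; exact Subgroup.mem_top y
      exact this⟩⟩
    have hcomm : ∀ a b : G, a * b = b * a := fun a b => hcyc.isMulCommutative.is_comm.comm a b
    exact Group.isSolvable_of_comm hcomm
  · push Not at hx
    have : Subsingleton G := ⟨fun a b => (hx a).trans (hx b).symm⟩
    exact Group.isSolvable_of_comm (fun a b => Subsingleton.elim _ _)

/-- A core-free maximal subgroup that is a nontrivial `p`-group is a Sylow `p`-subgroup. -/
theorem exists_sylow_eq_of_isPGroup_coatom {G : Type*} [Group G] [Finite G] {p : ℕ}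
    [Fact p.Prime] (M : Subgroup G) (hM : IsCoatom M) (hcore : M.normalCore = ⊥) (hM1 : M ≠ ⊥)
    (hMp : IsPGroup p M) : ∃ S : Sylow p G, (S : Subgroup G) = M := by
  obtain ⟨PM⟩ : Nonempty (Sylow p M) := inferInstance
  have hPMtop : (PM : Subgroup M) = ⊤ := by
    have h1 : IsPGroup p (⊤ : Subgroup M) := hMp.to_subgroup ⊤
    exact (PM.is_maximal' h1 le_top).symm
  have hmap : (PM : Subgroup M).map M.subtype = M := by
    rw [hPMtop, ← MonoidHom.range_eq_map, Subgroup.range_subtype]
  have hN : Subgroup.normalizer (((PM : Subgroup M).map M.subtype : Subgroup G) : Set G) = M := by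
    rw [hmap]
    exact normalizer_eq_of_isCoatom_of_normalCore_eq_bot hM hcore M le_rfl hM1
      Subgroup.le_normalizer
  obtain ⟨S, hS⟩ := Cfsg.Agent.S0558.sylow_of_normalizer_eq M PM hN
  exact ⟨S, hS.trans hmap⟩

/-- **Thompson** (special case): a finite group with a maximal subgroup that is a `p`-group, `p`
odd, is solvable. -/
theorem isSolvable_of_coatom_isPGroup_odd_aux (p : ℕ) [hp : Fact p.Prime] (hp2 : p ≠ 2) :
    ∀ (n : ℕ) (G : Type u) [Group G] [Finite G], Nat.card G = n → ∀ M : Subgroup G,
    IsCoatom M → IsPGroup p M → Group.IsSolvable G := by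
  intro n
  induction n using Nat.strong_induction_on with
  | _ n ih =>
    intro G _ _ hn M hM hMp
    subst hn
    have hMsol : Group.IsSolvable M := by
      have := hMp.isNilpotent
      infer_instance
    by_cases hcore : M.normalCore = ⊥
    · by_cases hM1 : M = ⊥
      · subst hM1
        exact isSolvable_of_isCoatom_bot hM
      · obtain ⟨S, hSM⟩ := exists_sylow_eq_of_isPGroup_coatom M hM hcore hM1 hMp
        have hnpc : HasNormalPComplement p G :=
          hasNPC_odd_of_sylow_eq_coatom hp2 M hM hcore hM1 S hSM
        rw [hasNPC_iff_exists_normal] at hnpc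
        obtain ⟨N, hNn, hNcop, k, hk⟩ := hnpc
        have hcop : (Nat.card M).Coprime (Nat.card N) := by
          obtain ⟨m, hm⟩ := IsPGroup.iff_card.mp hMp
          rw [hm]
          exact Nat.Coprime.pow_left m hNcop.symm
        have hN1 : N ≠ ⊥ := by
          intro hbot
          rw [hbot, Subgroup.index_bot] at hk
          have hGp : IsPGroup p G := IsPGroup.of_card hk
          have h1 : IsPGroup p (⊤ : Subgroup G) := hGp.to_subgroup ⊤
          have h2 := S.is_maximal' h1 le_top
          exact hM.1 (hSM ▸ h2.symm)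
        exact isSolvable_of_coatom_of_normal_coprime M hM hMsol N hcop hN1
    · set K : Subgroup G := M.normalCore with hK
      have hKn : K.Normal := Subgroup.normalCore_normal M
      have hKM : K ≤ M := Subgroup.normalCore_le M
      have hcoatom : IsCoatom (M.map (QuotientGroup.mk' K)) := isCoatom_map_mk_of_le K M hM hKM
      have hquot : Group.IsSolvable (G ⧸ K) :=
        ih (Nat.card (G ⧸ K)) (card_quotient_lt K hcore) (G ⧸ K) rfl _ hcoatom (hMp.map _)
      have hKsol : Group.IsSolvable K :=
        Group.isSolvable_of_isSolvable_injective (Subgroup.inclusion_injective hKM)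
      exact Group.isSolvable_of_ker_le_range K.subtype (QuotientGroup.mk' K)
        (by rw [QuotientGroup.ker_mk', Subgroup.range_subtype])

/-- A finite group with a maximal subgroup that is a `p`-group of exponent `p` (any prime `p`) is
solvable. -/
theorem isSolvable_of_coatom_exponent_p {G : Type u} [Group G] [Finite G] (p : ℕ)
    [hp : Fact p.Prime] (M : Subgroup G) (hM : IsCoatom M) (hexp : ∀ m ∈ M, m ^ p = 1) :
    Group.IsSolvable G := by
  have hMp : IsPGroup p M := fun m =>
    ⟨1, by rw [pow_one]; exact Subtype.ext (by simpa using hexp m m.2)⟩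
  by_cases hp2 : p = 2
  · subst hp2
    -- exponent two implies commutative
    have hcomm : ∀ a ∈ M, ∀ b ∈ M, a * b = b * a := by
      intro a ha b hb
      have h1 := hexp a ha
      have h2 := hexp b hb
      have h3 := hexp (a * b) (M.mul_mem ha hb)
      have ha' : a⁻¹ = a := by rw [inv_eq_iff_mul_eq_one, ← pow_two, h1]
      have hb' : b⁻¹ = b := by rw [inv_eq_iff_mul_eq_one, ← pow_two, h2]
      have hab' : (a * b)⁻¹ = a * b := by rw [inv_eq_iff_mul_eq_one, ← pow_two, h3]
      rw [mul_inv_rev, ha', hb'] at hab'
      exact hab'.symm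
    apply isSolvable_of_nilpotent_class_two_coatom_aux _ G rfl M hM hMp.isNilpotent
    intro a ha b hb c _
    have : ⁅a, b⁆ = 1 := by
      rw [commutatorElement_eq_one_iff_mul_comm]
      exact hcomm a ha b hb
    rw [this, commutatorElement_one_left]
  · exact isSolvable_of_coatom_isPGroup_odd_aux p hp2 _ G rfl M hM hMp

section centralizers

variable {G : Type*} [Group G]

/-- The double centralizer `C_G(C_G(x)) = Z(C_G(x))`. -/
def dblCent (x : G) : Subgroup G :=
  Subgroup.centralizer ((Subgroup.centralizer ({x} : Set G) : Subgroup G) : Set G)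

theorem mem_dblCent_self (x : G) : x ∈ dblCent x := by
  unfold dblCent
  rw [Subgroup.mem_centralizer_iff]
  intro y hy
  exact Subgroup.mem_centralizer_singleton_iff.mp hy

theorem center_le_dblCent (x : G) : Subgroup.center G ≤ dblCent x :=
  Subgroup.center_le_centralizer _

theorem dblCent_congr {x y : G}
    (h : Subgroup.centralizer ({x} : Set G) = Subgroup.centralizer ({y} : Set G)) :
    dblCent x = dblCent y := by
  unfold dblCent
  rw [h]

/-- Noncentral elements of `Z(C(x))` have the same centralizer as `x`. -/
theorem centralizer_eq_of_mem_dblCent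
    (h : ∀ g : G, g ∉ Subgroup.center G → IsCoatom (Subgroup.centralizer ({g} : Set G)))
    {x y : G} (hx : x ∉ Subgroup.center G) (hy : y ∉ Subgroup.center G) (hyx : y ∈ dblCent x) :
    Subgroup.centralizer ({y} : Set G) = Subgroup.centralizer ({x} : Set G) := by
  have hle : Subgroup.centralizer ({x} : Set G) ≤ Subgroup.centralizer ({y} : Set G) := by
    intro g hg
    rw [Subgroup.mem_centralizer_singleton_iff]
    unfold dblCent at hyx
    exact Subgroup.mem_centralizer_iff.mp hyx g hg
  rcases (h x hx).le_iff.mp hle with h1 | h1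
  · exfalso
    apply hy
    rw [Subgroup.mem_center_iff]
    intro g
    have hg : g ∈ Subgroup.centralizer ({y} : Set G) := by rw [h1]; exact Subgroup.mem_top g
    exact Subgroup.mem_centralizer_singleton_iff.mp hg
  · exact h1

theorem pow_mem_center_of_commute
    (h : ∀ g : G, g ∉ Subgroup.center G → IsCoatom (Subgroup.centralizer ({g} : Set G)))
    {a b : G} (ha : a ∉ Subgroup.center G) (hb : b ∉ Subgroup.center G) (hab : Commute a b)
    (hne : Subgroup.centralizer ({a} : Set G) ≠ Subgroup.centralizer ({b} : Set G)) (n : ℕ)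
    (han : a ^ n ∈ Subgroup.center G) : b ^ n ∈ Subgroup.center G := by
  have key : ∀ c : G, c * b⁻¹ = a → c ∈ dblCent b → False := by
    intro c hc hcb
    have h1 : a ∈ dblCent b := by
      rw [← hc]
      exact (dblCent b).mul_mem hcb ((dblCent b).inv_mem (mem_dblCent_self b))
    exact hne (centralizer_eq_of_mem_dblCent h hb ha h1)
  have hc : a * b ∉ Subgroup.center G := by
    intro hcZ
    exact key (a * b) (by group) (center_le_dblCent b hcZ)
  have hcn : (a * b) ^ n = a ^ n * b ^ n := hab.mul_pow n
  have h1 : b ^ n ∈ dblCent (a * b) := by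
    have : b ^ n = (a ^ n)⁻¹ * (a * b) ^ n := by rw [hcn]; group
    rw [this]
    exact (dblCent (a * b)).mul_mem ((dblCent (a * b)).inv_mem (center_le_dblCent _ han))
      ((dblCent (a * b)).pow_mem (mem_dblCent_self _) n)
  have h2 : b ^ n ∈ dblCent b := (dblCent b).pow_mem (mem_dblCent_self b) n
  by_contra hbn
  have e1 := centralizer_eq_of_mem_dblCent h hc hbn h1
  have e2 := centralizer_eq_of_mem_dblCent h hb hbn h2
  have e3 : dblCent (a * b) = dblCent b := dblCent_congr (e1.symm.trans e2)
  exact key (a * b) (by group) (e3 ▸ mem_dblCent_self (a * b))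

theorem exists_prime_pow_mem_center_of_commute [Finite G]
    (h : ∀ g : G, g ∉ Subgroup.center G → IsCoatom (Subgroup.centralizer ({g} : Set G)))
    {a b : G} (ha : a ∉ Subgroup.center G) (hb : b ∉ Subgroup.center G) (hab : Commute a b)
    (hne : Subgroup.centralizer ({a} : Set G) ≠ Subgroup.centralizer ({b} : Set G)) :
    ∃ p : ℕ, p.Prime ∧ a ^ p ∈ Subgroup.center G ∧ b ^ p ∈ Subgroup.center G := by
  classical
  have hex : ∃ n : ℕ, 0 < n ∧ a ^ n ∈ Subgroup.center G :=
    ⟨orderOf a, orderOf_pos a, by rw [pow_orderOf_eq_one]; exact Subgroup.one_mem _⟩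
  set n := Nat.find hex with hn
  obtain ⟨hn0, hnZ⟩ := Nat.find_spec hex
  have hmin : ∀ k : ℕ, 0 < k → k < n → a ^ k ∉ Subgroup.center G := by
    intro k hk0 hkn hk
    exact Nat.find_min hex hkn ⟨hk0, hk⟩
  have hn1 : n ≠ 1 := by
    intro h1
    rw [← hn, h1, pow_one] at hnZ
    exact ha hnZ
  set p := n.minFac with hp
  have hpp : p.Prime := Nat.minFac_prime hn1
  obtain ⟨k, hk⟩ : p ∣ n := Nat.minFac_dvd n
  have hk0 : 0 < k := by
    rcases Nat.eq_zero_or_pos k with h0 | h0
    · rw [h0, mul_zero] at hk; omega
    · exact h0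
  by_cases hk1 : k = 1
  · rw [hk1, mul_one] at hk
    refine ⟨p, hpp, ?_, ?_⟩
    · rw [← hk]; exact hnZ
    · exact pow_mem_center_of_commute h ha hb hab hne p (by rw [← hk]; exact hnZ)
  · exfalso
    have hk2 : 1 < k := by omega
    have hpn : p < n := by
      rw [hk]
      exact lt_mul_of_one_lt_right hpp.pos hk2
    have hkn : k < n := by
      rw [hk]
      exact lt_mul_of_one_lt_left hk0 hpp.one_lt
    have hap : a ^ p ∉ Subgroup.center G := hmin p hpp.pos hpn
    have hapA : a ^ p ∈ dblCent a := (dblCent a).pow_mem (mem_dblCent_self a) p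
    have e1 := centralizer_eq_of_mem_dblCent h ha hap hapA
    have hne' : Subgroup.centralizer ({a ^ p} : Set G) ≠ Subgroup.centralizer ({b} : Set G) := by
      rw [e1]; exact hne
    have h1 : b ^ k ∈ Subgroup.center G := by
      apply pow_mem_center_of_commute h hap hb (hab.pow_left p) hne' k
      rw [← pow_mul, ← hk]
      exact hnZ
    have h2 : a ^ k ∈ Subgroup.center G :=
      pow_mem_center_of_commute h hb ha hab.symm hne.symm k h1
    exact hmin k hk0 hkn h2

/-- If `C(x)` is nonabelian, then `C(x)/Z(G)` has prime exponent. -/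
theorem exists_prime_exponent_centralizer [Finite G]
    (h : ∀ g : G, g ∉ Subgroup.center G → IsCoatom (Subgroup.centralizer ({g} : Set G)))
    {x : G} (hx : x ∉ Subgroup.center G) (m₀ : G)
    (hm₀ : m₀ ∈ Subgroup.centralizer ({x} : Set G)) (hm₀A : m₀ ∉ dblCent x) :
    ∃ p : ℕ, p.Prime ∧ ∀ m ∈ Subgroup.centralizer ({x} : Set G), m ^ p ∈ Subgroup.center G := by
  have hm₀Z : m₀ ∉ Subgroup.center G := fun hz => hm₀A (center_le_dblCent x hz)
  have hxm₀ : Commute x m₀ := (Subgroup.mem_centralizer_singleton_iff.mp hm₀).symm
  have hne : Subgroup.centralizer ({x} : Set G) ≠ Subgroup.centralizer ({m₀} : Set G) := by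
    intro he
    apply hm₀A
    rw [dblCent_congr he]
    exact mem_dblCent_self m₀
  obtain ⟨p, hp, hxp, hm₀p⟩ := exists_prime_pow_mem_center_of_commute h hx hm₀Z hxm₀ hne
  refine ⟨p, hp, ?_⟩
  intro m hm
  by_cases hmZ : m ∈ Subgroup.center G
  · exact (Subgroup.center G).pow_mem hmZ p
  · by_cases hmx : Subgroup.centralizer ({m} : Set G) = Subgroup.centralizer ({x} : Set G)
    · have hne' : Subgroup.centralizer ({m₀} : Set G) ≠ Subgroup.centralizer ({m} : Set G) := by
        rw [hmx]; exact hne.symm
      have hcomm : Commute m₀ m := by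
        have : m₀ ∈ Subgroup.centralizer ({m} : Set G) := by rw [hmx]; exact hm₀
        exact Subgroup.mem_centralizer_singleton_iff.mp this
      exact pow_mem_center_of_commute h hm₀Z hmZ hcomm hne' p hm₀p
    · have hcomm : Commute x m := (Subgroup.mem_centralizer_singleton_iff.mp hm).symm
      exact pow_mem_center_of_commute h hx hmZ hcomm (fun he => hmx he.symm) p hxp

end centralizers

/-- A finite group in which the centralizer of every noncentral element is a maximal subgroup is
solvable. -/
theorem isSolvable_of_centralizers_coatom {G : Type u} [Group G] [Finite G]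
    (h : ∀ g : G, g ∉ Subgroup.center G → IsCoatom (Subgroup.centralizer ({g} : Set G))) :
    Group.IsSolvable G := by
  by_cases hx : ∃ x : G, x ∉ Subgroup.center G
  · obtain ⟨x, hx⟩ := hx
    set M : Subgroup G := Subgroup.centralizer ({x} : Set G) with hMdef
    have hM : IsCoatom M := h x hx
    by_cases hab : ∀ a ∈ M, ∀ b ∈ M, a * b = b * a
    · -- an abelian maximal subgroup
      have hnil : Group.IsNilpotent M :=
        isNilpotent_of_forall_comm (fun a b => Subtype.ext (hab a a.2 b b.2))
      apply isSolvable_of_nilpotent_class_two_coatom_aux _ G rfl M hM hnil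
      intro a ha b hb c _
      have : ⁅a, b⁆ = 1 := by
        rw [commutatorElement_eq_one_iff_mul_comm]
        exact hab a ha b hb
      rw [this, commutatorElement_one_left]
    · push Not at hab
      obtain ⟨a, ha, b, hb, hne⟩ := hab
      have haA : a ∉ dblCent x := by
        intro haA
        apply hne
        unfold dblCent at haA
        exact (Subgroup.mem_centralizer_iff.mp haA b hb).symm
      obtain ⟨p, hp, hexp⟩ := exists_prime_exponent_centralizer h hx a ha haA
      have : Fact p.Prime := ⟨hp⟩
      have hZM : Subgroup.center G ≤ M := Subgroup.center_le_centralizer _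
      have hcoatom : IsCoatom (M.map (QuotientGroup.mk' (Subgroup.center G))) :=
        isCoatom_map_mk_of_le (Subgroup.center G) M hM hZM
      have hexp' : ∀ m ∈ M.map (QuotientGroup.mk' (Subgroup.center G)), m ^ p = 1 := by
        rintro _ ⟨m, hm, rfl⟩
        rw [← map_pow]
        exact (QuotientGroup.eq_one_iff _).mpr (hexp m hm)
      have hquot : Group.IsSolvable (G ⧸ Subgroup.center G) :=
        isSolvable_of_coatom_exponent_p p _ hcoatom hexp'
      have hZsol : Group.IsSolvable (Subgroup.center G) :=
        Group.isSolvable_of_comm (fun a b => Subtype.ext (Subgroup.mem_center_iff.mp b.2 a))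
      exact Group.isSolvable_of_ker_le_range (Subgroup.center G).subtype
        (QuotientGroup.mk' (Subgroup.center G))
        (by rw [QuotientGroup.ker_mk', Subgroup.range_subtype])
  · push Not at hx
    apply Group.isSolvable_of_comm
    intro a b
    exact (Subgroup.mem_center_iff.mp (hx b) a)

end Cfsg.Agent.Lib.Helper34
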