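import Mathlib
import Cfsg.Agent.Lib.Helper34.CentralizersMaximal
import Cfsg.Agent.Lib.Helper34.ChiefFactorAction
import Cfsg.Agent.Lib.Helper1.MinimalNormal

/-!
# Abstract group-theoretic lemmas for the structure theorem on groups whose
noncentral centralizers are all maximal

* `comm_of_isCoatom_bot`, `prime_card_of_isCoatom_bot`
* `comm_mem_of_normal_coatom`, `index_prime_of_normal_coatom`
* `exists_kernel_of_ti_coatom` : a TI self-normalising maximal subgroup of a solvable group has
  a normal complement which is an elementary abelian minimal normal subgroup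
* `structure_of_abelian_normal_coatom`
* `mem_zpowers_of_two_exponent_coatoms`
-/

set_option autoImplicit false
set_option linter.style.haveILetI false

namespace Cfsg.Agent.Lib.Helper34

open Cfsg Cfsg.Agent.Lib.Helper1
open scoped commutatorElement

universe u

section abstract

variable {H : Type u} [Group H]

theorem eq_one_of_pow_coprime {a : H} {m n : ℕ} (hm : a ^ m = 1) (hn : a ^ n = 1)
    (hmn : Nat.Coprime m n) : a = 1 := by
  have h1 : a ^ (m.gcd n) = 1 := pow_gcd_eq_one.mpr ⟨hm, hn⟩
  rw [Nat.Coprime] at hmn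
  rw [hmn, pow_one] at h1
  exact h1

/-- A group in which the trivial subgroup is maximal is commutative. -/
theorem comm_of_isCoatom_bot (hM : IsCoatom (⊥ : Subgroup H)) : ∀ a b : H, a * b = b * a := by
  have hall : ∀ K : Subgroup H, K = ⊥ ∨ K = ⊤ := by
    intro K
    rcases hM.le_iff.mp (bot_le : (⊥ : Subgroup H) ≤ K) with h | h
    · exact Or.inr h
    · exact Or.inl h
  by_cases hx : ∃ x : H, x ≠ 1
  · obtain ⟨x, hx⟩ := hx
    have hz : Subgroup.zpowers x = ⊤ := by
      rcases hall (Subgroup.zpowers x) with h | h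
      · exact absurd (Subgroup.zpowers_eq_bot.mp h) hx
      · exact h
    have hcyc : IsCyclic H := ⟨⟨x, fun y => by
      have : y ∈ Subgroup.zpowers x := by rw [hz]; exact Subgroup.mem_top y
      exact this⟩⟩
    exact fun a b => hcyc.isMulCommutative.is_comm.comm a b
  · push Not at hx
    intro a b
    rw [hx a, hx b]

/-- A finite group in which the trivial subgroup is maximal has prime order. -/
theorem prime_card_of_isCoatom_bot [Finite H] (hM : IsCoatom (⊥ : Subgroup H)) :
    (Nat.card H).Prime := by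
  have hnt : Nontrivial H := by
    by_contra hnt
    rw [not_nontrivial_iff_subsingleton] at hnt
    exact hM.1 (Subsingleton.elim _ _)
  have hcard : Nat.card H ≠ 1 := by
    intro h1
    have : Subsingleton H := (Nat.card_eq_one_iff_unique.mp h1).1
    exact not_subsingleton H this
  set p := (Nat.card H).minFac with hp
  have hpp : p.Prime := Nat.minFac_prime hcard
  haveI : Fact p.Prime := ⟨hpp⟩
  obtain ⟨x, hx⟩ := exists_prime_orderOf_dvd_card' p (Nat.minFac_dvd _)
  have hx1 : x ≠ 1 := by
    intro h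
    rw [h, orderOf_one] at hx
    exact hpp.one_lt.ne hx
  have hz : Subgroup.zpowers x = ⊤ := by
    rcases hM.le_iff.mp (bot_le : (⊥ : Subgroup H) ≤ Subgroup.zpowers x) with h | h
    · exact h
    · exact absurd (Subgroup.zpowers_eq_bot.mp h) hx1
  have : Nat.card H = p := by
    rw [← hx, ← Nat.card_zpowers, hz, Subgroup.card_top]
  rw [this]
  exact hpp

/-- The quotient by a normal maximal subgroup is commutative: commutators lie in it. -/
theorem comm_mem_of_normal_coatom (N : Subgroup H) [N.Normal] (hN : IsCoatom N) (a b : H) :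
    a * b * a⁻¹ * b⁻¹ ∈ N := by
  have hbot : IsCoatom (⊥ : Subgroup (H ⧸ N)) := by
    have := isCoatom_map_mk_of_le N N hN le_rfl
    rwa [QuotientGroup.map_mk'_self] at this
  have hc := comm_of_isCoatom_bot hbot (QuotientGroup.mk' N a) (QuotientGroup.mk' N b)
  rw [← QuotientGroup.eq_one_iff (N := N)]
  have : ((a * b * a⁻¹ * b⁻¹ : H) : H ⧸ N)
      = QuotientGroup.mk' N a * QuotientGroup.mk' N b * (QuotientGroup.mk' N a)⁻¹
        * (QuotientGroup.mk' N b)⁻¹ := by
    simp
  rw [this, hc]
  group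

/-- A normal maximal subgroup of a finite group has prime index. -/
theorem index_prime_of_normal_coatom [Finite H] (N : Subgroup H) [N.Normal] (hN : IsCoatom N) :
    N.index.Prime := by
  have hbot : IsCoatom (⊥ : Subgroup (H ⧸ N)) := by
    have := isCoatom_map_mk_of_le N N hN le_rfl
    rwa [QuotientGroup.map_mk'_self] at this
  rw [Subgroup.index_eq_card]
  exact prime_card_of_isCoatom_bot hbot

/-- In the quotient by a normal subgroup of prime index `q`, elements killed by a power coprime to
`q` lie in the subgroup. -/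
theorem mem_of_pow_eq_one_of_coprime_index [Finite H] (N : Subgroup H) [N.Normal] {x : H} {n : ℕ}
    (hx : x ^ n = 1) (hn : Nat.Coprime n N.index) : x ∈ N := by
  rw [← QuotientGroup.eq_one_iff (N := N)]
  have h1 : ((x : H) : H ⧸ N) ^ n = 1 := by
    rw [← QuotientGroup.mk_pow, hx]
    rfl
  have h2 : ((x : H) : H ⧸ N) ^ N.index = 1 := by
    rw [Subgroup.index_eq_card]
    exact pow_card_eq_one'
  exact eq_one_of_pow_coprime h1 h2 hn

end abstract

section solvable

variable {H : Type u} [Group H] [Finite H]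

/-- A maximal subgroup `C` of a finite solvable group which is TI and self-normalising
(`g c g⁻¹ ∈ C` with `g ∉ C`, `c ∈ C` forces `c = 1`) has an elementary abelian minimal normal
complement `L`, and centralizers of nontrivial elements of `L` lie in `L`. -/
theorem exists_kernel_of_ti_coatom [Group.IsSolvable H] (C : Subgroup H) (hC : IsCoatom C)
    (hTI : ∀ g : H, g ∉ C → ∀ c ∈ C, g * c * g⁻¹ ∈ C → c = 1) :
    ∃ (r : ℕ) (L : Subgroup H), r.Prime ∧ L.Normal ∧ L ≠ ⊥ ∧
      (∀ a ∈ L, ∀ b ∈ L, a * b = b * a) ∧ (∀ l ∈ L, l ^ r = 1) ∧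
      (∀ N : Subgroup H, N.Normal → N ≤ L → N = ⊥ ∨ N = L) ∧ L ⊓ C = ⊥ ∧ L ⊔ C = ⊤ ∧
      ∀ l ∈ L, l ≠ 1 → ∀ c : H, c * l = l * c → c ∈ L := by
  have hnt : Nontrivial H := by
    by_contra hnt
    rw [not_nontrivial_iff_subsingleton] at hnt
    exact hC.1 (Subsingleton.elim _ _)
  obtain ⟨r, L, hr, hLn, hL1, _, hLc, hLexp, hLmin⟩ :=
    exists_normal_pSubgroup_of_isSolvable (G := H)
  have hLab : ∀ a ∈ L, ∀ b ∈ L, a * b = b * a := by
    intro a ha b hb
    have := hLc.is_comm.comm (⟨a, ha⟩ : L) ⟨b, hb⟩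
    exact congrArg Subtype.val this
  obtain ⟨g₀, hg₀⟩ : ∃ g : H, g ∉ C := by
    by_contra hcon
    push Not at hcon
    exact hC.1 (eq_top_iff.mpr fun g _ => hcon g)
  have hLC : ¬ L ≤ C := by
    intro hle
    obtain ⟨⟨l, hl⟩, hl1⟩ := Subgroup.ne_bot_iff_exists_ne_one.mp hL1
    have h1 : g₀ * l * g₀⁻¹ ∈ C := hle (hLn.conj_mem l hl g₀)
    have := hTI g₀ hg₀ l (hle hl) h1
    exact hl1 (Subtype.ext this)
  have hsup : L ⊔ C = ⊤ := by
    have hlt : C < L ⊔ C := lt_of_le_of_ne le_sup_right (fun h => hLC (h ▸ le_sup_left))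
    exact hC.2 _ hlt
  have hinfn : (L ⊓ C).Normal := by
    rw [← Subgroup.normalizer_eq_top_iff, eq_top_iff, ← hsup]
    apply sup_le
    · intro g hg
      rw [Subgroup.mem_normalizer_iff]
      intro n
      constructor
      · rintro ⟨h1, h2⟩
        have : g * n * g⁻¹ = n := by
          rw [hLab g hg n h1, mul_inv_cancel_right]
        rw [this]
        exact ⟨h1, h2⟩
      · rintro ⟨h1, h2⟩
        have hn : n ∈ L := by
          have := hLn.conj_mem _ h1 g⁻¹
          simpa [mul_assoc] using this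
        have : g * n * g⁻¹ = n := by
          rw [hLab g hg n hn, mul_inv_cancel_right]
        rw [this] at h2
        exact ⟨hn, h2⟩
    · intro g hg
      rw [Subgroup.mem_normalizer_iff]
      intro n
      constructor
      · rintro ⟨h1, h2⟩
        exact ⟨hLn.conj_mem n h1 g, C.mul_mem (C.mul_mem hg h2) (C.inv_mem hg)⟩
      · rintro ⟨h1, h2⟩
        have e : n = g⁻¹ * (g * n * g⁻¹) * g⁻¹⁻¹ := by group
        constructor
        · rw [e]; exact hLn.conj_mem _ h1 g⁻¹
        · rw [e]; exact C.mul_mem (C.mul_mem (C.inv_mem hg) h2) (C.inv_mem (C.inv_mem hg))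
  have hinf : L ⊓ C = ⊥ := by
    rcases hLmin (L ⊓ C) hinfn inf_le_left with h | h
    · exact h
    · exact absurd (h ▸ inf_le_right : L ≤ C) hLC
  refine ⟨r, L, hr, hLn, hL1, hLab, hLexp, hLmin, hinf, hsup, ?_⟩
  intro l hl hl1 c hcl
  have hc : c ∈ ((L ⊔ C : Subgroup H) : Set H) := by rw [hsup]; exact Set.mem_univ c
  haveI := hLn
  rw [Subgroup.normal_mul] at hc
  obtain ⟨l', hl', c', hc', rfl⟩ := Set.mem_mul.mp hc
  have hlC : l ∉ C := by
    intro hlC
    have : l ∈ L ⊓ C := ⟨hl, hlC⟩
    rw [hinf] at this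
    exact hl1 (Subgroup.mem_bot.mp this)
  have hcomm : c' * l = l * c' := by
    have h1 : l' * l = l * l' := hLab l' hl' l hl
    have h2 : l' * (c' * l) = l' * (l * c') := by
      rw [← mul_assoc, hcl, ← mul_assoc, ← mul_assoc, h1]
    exact mul_left_cancel h2
  have hconj : l * c' * l⁻¹ ∈ C := by
    rw [← hcomm, mul_inv_cancel_right]
    exact hc'
  have := hTI l hlC c' hc' hconj
  rw [this, mul_one]
  exact hl'

/-- Structure of a finite group with an abelian minimal normal subgroup `L` of exponent `r`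
which is also a maximal subgroup, and a non-normal maximal subgroup. -/
theorem structure_of_abelian_normal_coatom (L : Subgroup H) [hLn : L.Normal] (hLco : IsCoatom L)
    {r : ℕ} (hr : r.Prime) (hLab : ∀ a ∈ L, ∀ b ∈ L, a * b = b * a) (hLexp : ∀ l ∈ L, l ^ r = 1)
    (hLmin : ∀ N : Subgroup H, N.Normal → N ≤ L → N = ⊥ ∨ N = L)
    (C : Subgroup H) (hC : IsCoatom C) (hCn : ¬ C.Normal) :
    ¬ IsMulCommutative H ∧ (∀ K : Subgroup H, K ≠ ⊤ → IsMulCommutative ↥K) ∧
    ∃ q a : ℕ, q.Prime ∧ r ≠ q ∧ Nat.card H = r ^ a * q ∧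
      ∀ P : Subgroup H, Nat.card ↥P = r ^ a → P.Normal := by
  haveI : Fact r.Prime := ⟨hr⟩
  have hq : L.index.Prime := index_prime_of_normal_coatom L hLco
  have hLp : IsPGroup r L := by
    intro l
    refine ⟨1, ?_⟩
    rw [pow_one]
    exact Subtype.ext (by simpa using hLexp l l.2)
  obtain ⟨a, ha⟩ := IsPGroup.iff_card.mp hLp
  have hcard : Nat.card H = r ^ a * L.index := by
    rw [← ha]
    exact (Subgroup.card_mul_index L).symm
  have hrq : r ≠ L.index := by
    intro hrq
    have h1 : Nat.card H = r ^ (a + 1) := by rw [hcard, ← hrq, pow_succ]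
    have h2 : IsPGroup r H := IsPGroup.of_card h1
    haveI := h2.isNilpotent
    exact hCn (Subgroup.NormalizerCondition.normal_of_coatom C
      Group.normalizerCondition_of_isNilpotent hC)
  refine ⟨?_, ?_, L.index, a, hq, hrq, hcard, ?_⟩
  · intro hcomm
    apply hCn
    refine ⟨fun n hn g => ?_⟩
    have : g * n * g⁻¹ = n := by
      rw [hcomm.is_comm.comm g n, mul_inv_cancel_right]
    rw [this]
    exact hn
  · intro K hK
    by_cases hKL : K ≤ L
    · exact ⟨⟨fun x y => Subtype.ext (hLab x.1 (hKL x.2) y.1 (hKL y.2))⟩⟩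
    · have hsup : L ⊔ K = ⊤ := by
        have hlt : L < L ⊔ K := lt_of_le_of_ne le_sup_left (fun h => hKL (h ▸ le_sup_right))
        exact hLco.2 _ hlt
      have hinfn : (L ⊓ K).Normal := by
        rw [← Subgroup.normalizer_eq_top_iff, eq_top_iff, ← hsup]
        apply sup_le
        · intro g hg
          rw [Subgroup.mem_normalizer_iff]
          intro n
          constructor
          · rintro ⟨h1, h2⟩
            have : g * n * g⁻¹ = n := by
              rw [hLab g hg n h1, mul_inv_cancel_right]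
            rw [this]
            exact ⟨h1, h2⟩
          · rintro ⟨h1, h2⟩
            have hn : n ∈ L := by
              have := hLn.conj_mem _ h1 g⁻¹
              simpa [mul_assoc] using this
            have : g * n * g⁻¹ = n := by
              rw [hLab g hg n hn, mul_inv_cancel_right]
            rw [this] at h2
            exact ⟨hn, h2⟩
        · intro g hg
          rw [Subgroup.mem_normalizer_iff]
          intro n
          constructor
          · rintro ⟨h1, h2⟩
            exact ⟨hLn.conj_mem n h1 g, K.mul_mem (K.mul_mem hg h2) (K.inv_mem hg)⟩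
          · rintro ⟨h1, h2⟩
            have e : n = g⁻¹ * (g * n * g⁻¹) * g⁻¹⁻¹ := by group
            constructor
            · rw [e]; exact hLn.conj_mem _ h1 g⁻¹
            · rw [e]; exact K.mul_mem (K.mul_mem (K.inv_mem hg) h2) (K.inv_mem (K.inv_mem hg))
      have hinf : L ⊓ K = ⊥ := by
        rcases hLmin (L ⊓ K) hinfn inf_le_left with h | h
        · exact h
        · exfalso
          have hLK : L ≤ K := h ▸ inf_le_right
          have hlt : L < K := lt_of_le_of_ne hLK (fun h' => hKL (h' ▸ le_rfl))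
          exact hK (hLco.2 _ hlt)
      refine ⟨⟨fun x y => Subtype.ext ?_⟩⟩
      have h1 : x.1 * y.1 * x.1⁻¹ * y.1⁻¹ ∈ L := comm_mem_of_normal_coatom L hLco x.1 y.1
      have h2 : x.1 * y.1 * x.1⁻¹ * y.1⁻¹ ∈ K :=
        K.mul_mem (K.mul_mem (K.mul_mem x.2 y.2) (K.inv_mem x.2)) (K.inv_mem y.2)
      have h3 : x.1 * y.1 * x.1⁻¹ * y.1⁻¹ ∈ L ⊓ K := ⟨h1, h2⟩
      rw [hinf, Subgroup.mem_bot] at h3
      have : x.1 * y.1 = y.1 * x.1 := by
        have := congrArg (fun t => t * y.1 * x.1) h3
        simpa [mul_assoc] using this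
      exact this
  · intro P hP
    have hPL : P ≤ L := by
      intro x hx
      have hx1 : x ^ (r ^ a) = 1 := by
        have : (⟨x, hx⟩ : P) ^ Nat.card P = 1 := pow_card_eq_one'
        rw [hP] at this
        exact congrArg Subtype.val this
      refine mem_of_pow_eq_one_of_coprime_index L hx1 ?_
      exact Nat.Coprime.pow_left a ((Nat.coprime_primes hr hq).mpr hrq)
    have : P = L := Subgroup.eq_of_le_of_card_ge hPL (by rw [hP, ha])
    rw [this]
    exact hLn

/-- If a finite solvable group has maximal subgroups `P`, `Q` of prime exponents `p ≠ q` and `P` is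
not normal, then `P` is cyclic (generated by any nontrivial element). -/
theorem mem_zpowers_of_two_exponent_coatoms [Group.IsSolvable H] (P Q : Subgroup H)
    (hP : IsCoatom P) (hQ : IsCoatom Q) {p q : ℕ} (hp : p.Prime) (hq : q.Prime) (hpq : p ≠ q)
    (hPexp : ∀ m ∈ P, m ^ p = 1) (hQexp : ∀ c ∈ Q, c ^ q = 1) (hPn : ¬ P.Normal)
    {x : H} (hx : x ∈ P) (hx1 : x ≠ 1) {m : H} (hm : m ∈ P) : m ∈ Subgroup.zpowers x := by
  have hnt : Nontrivial H := by
    by_contra hnt
    rw [not_nontrivial_iff_subsingleton] at hnt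
    exact hP.1 (Subsingleton.elim _ _)
  have hlt : commutator H < ⊤ := Group.IsSolvable.commutator_lt_top_of_nontrivial H
  obtain ⟨K, hK, hcK⟩ : ∃ K : Subgroup H, IsCoatom K ∧ commutator H ≤ K := by
    rcases eq_top_or_exists_le_coatom (commutator H) with h | h
    · exact absurd h hlt.ne
    · exact h
  have hKn : K.Normal := by
    refine ⟨fun n hn g => ?_⟩
    have h1 : ⁅g, n⁆ ∈ commutator H := by
      rw [commutator_def]
      exact Subgroup.commutator_mem_commutator (Subgroup.mem_top g) (Subgroup.mem_top n)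
    have h2 : g * n * g⁻¹ = ⁅g, n⁆ * n := by
      rw [commutatorElement_def]; group
    rw [h2]
    exact K.mul_mem (hcK h1) hn
  haveI := hKn
  have hs : K.index.Prime := index_prime_of_normal_coatom K hK
  have hle_of_ne : ∀ (R : Subgroup H) (t : ℕ), t.Prime → t ≠ K.index → IsCoatom R →
      (∀ c ∈ R, c ^ t = 1) → R = K := by
    intro R t ht hne hR hRexp
    have hRK : R ≤ K := fun c hc =>
      mem_of_pow_eq_one_of_coprime_index K (hRexp c hc) ((Nat.coprime_primes ht hs).mpr hne)
    rcases hR.le_iff.mp hRK with h | h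
    · exact absurd h hK.1
    · exact h.symm
  have hsp : p = K.index := by
    by_contra hne
    have := hle_of_ne P p hp hne hP hPexp
    exact hPn (this ▸ hKn)
  have hQK : Q = K := hle_of_ne Q q hq (fun h => hpq (hsp.trans h.symm)) hQ hQexp
  subst hQK
  have hxQ : x ∉ Q := by
    intro hxQ
    exact hx1 (eq_one_of_pow_coprime (hPexp x hx) (hQexp x hxQ) ((Nat.coprime_primes hp hq).mpr hpq))
  haveI : Fact p.Prime := ⟨hp⟩
  have hcardq : Nat.card (H ⧸ Q) = p := by rw [← Subgroup.index_eq_card, ← hsp]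
  have hmkx : ((x : H) : H ⧸ Q) ≠ 1 := by
    rw [Ne, QuotientGroup.eq_one_iff]
    exact hxQ
  have hz := zpowers_eq_top_of_prime_card hcardq hmkx
  have hmem : ((m : H) : H ⧸ Q) ∈ Subgroup.zpowers ((x : H) : H ⧸ Q) := by
    rw [hz]; exact Subgroup.mem_top _
  obtain ⟨i, hi⟩ := Subgroup.mem_zpowers_iff.mp hmem
  have hi' : ((x ^ i : H) : H ⧸ Q) = ((m : H) : H ⧸ Q) := by
    rw [← hi]; exact QuotientGroup.mk_zpow Q x i
  have ht : (x ^ i)⁻¹ * m ∈ Q := QuotientGroup.eq.mp hi'
  have htP : (x ^ i)⁻¹ * m ∈ P := P.mul_mem (P.inv_mem (P.zpow_mem hx i)) hm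
  have ht1 : (x ^ i)⁻¹ * m = 1 :=
    eq_one_of_pow_coprime (hPexp _ htP) (hQexp _ ht) ((Nat.coprime_primes hp hq).mpr hpq)
  have : m = x ^ i := by
    have := congrArg (fun t => x ^ i * t) ht1
    simpa using this
  rw [this]
  exact Subgroup.zpow_mem_zpowers x i

end solvable

end Cfsg.Agent.Lib.Helper34
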