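import Mathlib

/-!
# Normal subgroups all of whose nonidentity elements have maximal centralizers

`RelCM N` says that for every nonidentity `x ∈ N` the centralizer `C_G(x)` is a maximal subgroup of
`G` not containing `N`.  This file has the elementary consequences.
-/

set_option autoImplicit false

namespace Cfsg.Agent.Lib.Helper34

variable {G : Type*} [Group G]

/-- The centralizer of a single element. -/
abbrev cz (x : G) : Subgroup G := Subgroup.centralizer ({x} : Set G)

theorem mem_cz_iff {x g : G} : g ∈ cz x ↔ g * x = x * g :=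
  Subgroup.mem_centralizer_singleton_iff

theorem self_mem_cz (x : G) : x ∈ cz x := mem_cz_iff.mpr rfl

theorem cz_le_cz_pow (x : G) (n : ℕ) : cz x ≤ cz (x ^ n) := by
  intro g hg
  rw [mem_cz_iff] at hg ⊢
  exact ((show Commute g x from hg).pow_right n).eq

theorem cz_one : cz (1 : G) = ⊤ := by
  rw [eq_top_iff]
  intro g _
  rw [mem_cz_iff, mul_one, one_mul]

/-- Every nonidentity element of `N` has a maximal centralizer that does not contain `N`. -/
structure RelCM (N : Subgroup G) : Prop where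
  coatom : ∀ x ∈ N, x ≠ 1 → IsCoatom (cz x)
  nle : ∀ x ∈ N, x ≠ 1 → ¬ N ≤ cz x

/-- A normal subgroup not contained in a maximal subgroup supplements it. -/
theorem exists_mul_of_normal_of_isCoatom (K : Subgroup G) [K.Normal] {M : Subgroup G}
    (hM : IsCoatom M) (hK : ¬ K ≤ M) (g : G) : ∃ k ∈ K, ∃ m ∈ M, g = k * m := by
  have hsup : K ⊔ M = ⊤ := by
    rcases hM.le_iff.mp (le_sup_right : M ≤ K ⊔ M) with h | h
    · exact h
    · exact absurd (h ▸ le_sup_left : K ≤ M) hK
  have hmem : g ∈ ((K ⊔ M : Subgroup G) : Set G) := by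
    rw [hsup]; exact Set.mem_univ g
  rw [Subgroup.normal_mul] at hmem
  obtain ⟨k, hk, m, hm, rfl⟩ := Set.mem_mul.mp hmem
  exact ⟨k, hk, m, hm, rfl⟩

namespace RelCM

variable {N : Subgroup G}

theorem restrict (h : RelCM N) {K : Subgroup G} (hKN : K ≤ N)
    (hnle : ∀ x ∈ K, x ≠ 1 → ¬ K ≤ cz x) : RelCM K :=
  ⟨fun x hx hx1 => h.coatom x (hKN hx) hx1, hnle⟩

theorem cz_eq_of_le (h : RelCM N) {a b : G} (ha : a ∈ N) (ha1 : a ≠ 1) (hb : b ∈ N) (hb1 : b ≠ 1)
    (hle : cz a ≤ cz b) : cz a = cz b := by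
  rcases (h.coatom a ha ha1).le_iff.mp hle with h1 | h1
  · exact absurd h1 (h.coatom b hb hb1).1
  · exact h1.symm

theorem cz_pow_eq (h : RelCM N) {a : G} (ha : a ∈ N) (n : ℕ) (han : a ^ n ≠ 1) :
    cz (a ^ n) = cz a := by
  have ha1 : a ≠ 1 := by
    rintro rfl
    exact han (one_pow n)
  exact (h.cz_eq_of_le ha ha1 (N.pow_mem ha n) han (cz_le_cz_pow a n)).symm

/-- Commuting elements with different centralizers: orders. -/
theorem pow_eq_one_of_commute (h : RelCM N) {a b : G} (ha : a ∈ N) (ha1 : a ≠ 1) (hb : b ∈ N)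
    (hb1 : b ≠ 1) (hab : Commute a b) (hne : cz a ≠ cz b) (n : ℕ) (han : a ^ n = 1) :
    b ^ n = 1 := by
  -- `C(b) ≤ C(ab)` is impossible
  have key : ¬ cz b ≤ cz (a * b) := by
    intro hle
    apply hne
    have hba : cz b ≤ cz a := by
      intro g hg
      have h1 := mem_cz_iff.mp hg
      have h2 := mem_cz_iff.mp (hle hg)
      rw [mem_cz_iff]
      have h3 : g * a * b = a * g * b := by
        calc g * a * b = g * (a * b) := by group
          _ = a * b * g := h2
          _ = a * (b * g) := by group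
          _ = a * (g * b) := by rw [h1]
          _ = a * g * b := by group
      exact mul_right_cancel h3
    exact (h.cz_eq_of_le hb hb1 ha ha1 hba).symm
  have hc1 : a * b ≠ 1 := by
    intro h1
    apply key
    rw [h1, cz_one]
    exact le_top
  have hcN : a * b ∈ N := N.mul_mem ha hb
  by_contra hbn
  have hcn : (a * b) ^ n = b ^ n := by rw [hab.mul_pow, han, one_mul]
  have e1 : cz (b ^ n) = cz b := h.cz_pow_eq hb n hbn
  have e2 : cz ((a * b) ^ n) = cz (a * b) := h.cz_pow_eq hcN n (by rw [hcn]; exact hbn)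
  rw [hcn] at e2
  apply key
  rw [← e1, e2]

theorem exists_prime_pow_eq_one_of_commute [Finite G] (h : RelCM N) {a b : G} (ha : a ∈ N)
    (ha1 : a ≠ 1) (hb : b ∈ N) (hb1 : b ≠ 1) (hab : Commute a b) (hne : cz a ≠ cz b) :
    ∃ p : ℕ, p.Prime ∧ a ^ p = 1 ∧ b ^ p = 1 := by
  set n := orderOf a with hn
  have hn1 : n ≠ 1 := by
    intro h1
    exact ha1 (orderOf_eq_one_iff.mp h1)
  have hn0 : 0 < n := orderOf_pos a
  set p := n.minFac with hp
  have hpp : p.Prime := Nat.minFac_prime hn1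
  obtain ⟨k, hk⟩ : p ∣ n := Nat.minFac_dvd n
  have hk0 : 0 < k := by
    rcases Nat.eq_zero_or_pos k with h0 | h0
    · rw [h0, mul_zero] at hk; omega
    · exact h0
  by_cases hk1 : k = 1
  · rw [hk1, mul_one] at hk
    have hap : a ^ p = 1 := by rw [← hk]; exact pow_orderOf_eq_one a
    exact ⟨p, hpp, hap, h.pow_eq_one_of_commute ha ha1 hb hb1 hab hne p hap⟩
  · exfalso
    have hk2 : 1 < k := by omega
    have hpn : p < n := by
      rw [hk]
      exact lt_mul_of_one_lt_right hpp.pos hk2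
    have hkn : k < n := by
      rw [hk]
      exact lt_mul_of_one_lt_left hk0 hpp.one_lt
    have hap : a ^ p ≠ 1 := by
      intro h1
      have := Nat.le_of_dvd hpp.pos (orderOf_dvd_of_pow_eq_one h1)
      omega
    have e1 : cz (a ^ p) = cz a := h.cz_pow_eq ha p hap
    have h1 : b ^ k = 1 := by
      apply h.pow_eq_one_of_commute (N.pow_mem ha p) hap hb hb1 (hab.pow_left p)
        (by rw [e1]; exact hne) k
      rw [← pow_mul, ← hk]
      exact pow_orderOf_eq_one a
    have h2 : a ^ k = 1 :=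
      h.pow_eq_one_of_commute hb hb1 ha ha1 hab.symm hne.symm k h1
    have := Nat.le_of_dvd hk0 (orderOf_dvd_of_pow_eq_one h2)
    omega

/-- If `C_N(x)` contains an element with a different centralizer, `C_N(x)` has prime exponent. -/
theorem exists_prime_exponent [Finite G] (h : RelCM N) {x m₀ : G} (hx : x ∈ N) (hx1 : x ≠ 1)
    (hm₀ : m₀ ∈ N) (hm₀1 : m₀ ≠ 1) (hm₀x : m₀ ∈ cz x) (hne : cz m₀ ≠ cz x) :
    ∃ p : ℕ, p.Prime ∧ x ^ p = 1 ∧ ∀ m ∈ N, m ∈ cz x → m ^ p = 1 := by
  have hxm₀ : Commute x m₀ := (mem_cz_iff.mp hm₀x).symm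
  obtain ⟨p, hp, hxp, hm₀p⟩ :=
    h.exists_prime_pow_eq_one_of_commute hx hx1 hm₀ hm₀1 hxm₀ hne.symm
  refine ⟨p, hp, hxp, ?_⟩
  intro m hm hmx
  by_cases hm1 : m = 1
  · rw [hm1, one_pow]
  · by_cases hcz : cz m = cz x
    · have hcomm : Commute m₀ m := by
        have : m₀ ∈ cz m := by rw [hcz]; exact hm₀x
        exact mem_cz_iff.mp this
      exact h.pow_eq_one_of_commute hm₀ hm₀1 hm hm1 hcomm (by rw [hcz]; exact hne) p hm₀p
    · have hcomm : Commute x m := (mem_cz_iff.mp hmx).symm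
      exact h.pow_eq_one_of_commute hx hx1 hm hm1 hcomm (fun he => hcz he.symm) p hxp

theorem exists_mul (h : RelCM N) [N.Normal] {x : G} (hx : x ∈ N) (hx1 : x ≠ 1) (g : G) :
    ∃ n ∈ N, ∃ m ∈ cz x, g = n * m :=
  exists_mul_of_normal_of_isCoatom N (h.coatom x hx hx1) (h.nle x hx hx1) g

end RelCM

end Cfsg.Agent.Lib.Helper34
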