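import Mathlib
import Cfsg.Agent.Lib.Helper34.RelCM
import Cfsg.Agent.Lib.Helper34.NPC
import Cfsg.Agent.Lib.Helper2.Burnside
import Cfsg.Agent.Lib.Helper1.ThompsonFpf
import Cfsg.Agent.S0628
import Cfsg.Agent.S0622

/-!
# Minimal normal subgroups inside a `RelCM` subgroup are abelian
-/

set_option autoImplicit false
set_option linter.style.haveILetI false

namespace Cfsg.Agent.Lib.Helper34

open Cfsg Cfsg.Agent.Lib.Helper1

universe u

variable {G : Type u} [Group G]

/-- A minimal normal subgroup is abelian or has trivial center. -/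
theorem abelian_or_nle_of_minimal_normal (K : Subgroup G) [K.Normal]
    (hmin : ∀ L : Subgroup G, L.Normal → L ≤ K → L = ⊥ ∨ L = K) :
    (∀ a ∈ K, ∀ b ∈ K, a * b = b * a) ∨ (∀ z ∈ K, z ≠ 1 → ¬ K ≤ cz z) := by
  have hZn : (K ⊓ Subgroup.centralizer (K : Set G)).Normal := inferInstance
  rcases hmin _ hZn inf_le_left with h | h
  · right
    intro z hz hz1 hle
    have hmem : z ∈ K ⊓ Subgroup.centralizer (K : Set G) := by
      rw [Subgroup.mem_inf]
      refine ⟨hz, ?_⟩
      rw [Subgroup.mem_centralizer_iff]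
      intro k hk
      exact mem_cz_iff.mp (hle hk)
    rw [h, Subgroup.mem_bot] at hmem
    exact hz1 hmem
  · left
    intro a ha b hb
    have hmem : a ∈ K ⊓ Subgroup.centralizer (K : Set G) := by rw [h]; exact ha
    rw [Subgroup.mem_inf] at hmem
    exact (Subgroup.mem_centralizer_iff.mp hmem.2 b hb).symm

theorem not_isPGroup_of_nle [Finite G] (K : Subgroup G) (hK1 : K ≠ ⊥)
    (hnle : ∀ z ∈ K, z ≠ 1 → ¬ K ≤ cz z) (p : ℕ) [Fact p.Prime] : ¬ IsPGroup p K := by
  intro hp
  haveI : Nontrivial K := (Subgroup.nontrivial_iff_ne_bot K).mpr hK1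
  haveI := hp.center_nontrivial
  obtain ⟨z, hz1⟩ := exists_ne (1 : Subgroup.center K)
  apply hnle ((z : K) : G) (z : K).2
  · intro h1
    apply hz1
    exact Subtype.ext (Subtype.ext h1)
  · intro k hk
    rw [mem_cz_iff]
    have := Subgroup.mem_center_iff.mp z.2 ⟨k, hk⟩
    exact congrArg Subtype.val this

theorem normalizer_eq_of_minimal_normal {K : Subgroup G} [K.Normal]
    (hmin : ∀ L : Subgroup G, L.Normal → L ≤ K → L = ⊥ ∨ L = K) {M : Subgroup G}
    (hM : IsCoatom M) (U : Subgroup G) (hUK : U ≤ K) (hU1 : U ≠ ⊥) (hUK' : U ≠ K)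
    (hMU : M ≤ Subgroup.normalizer (U : Set G)) : Subgroup.normalizer (U : Set G) = M := by
  rcases hM.le_iff.mp hMU with h | h
  · exfalso
    have hUn : U.Normal := Subgroup.normalizer_eq_top_iff.mp h
    rcases hmin U hUn hUK with h1 | h1
    · exact hU1 h1
    · exact hUK' h1
  · exact h

/-- A normal `p`-complement of a minimal normal subgroup that is not a `p`-group or a `p'`-group
is impossible. -/
theorem false_of_hasNPC_of_minimal_normal [Finite G] (K : Subgroup G) [K.Normal]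
    (hmin : ∀ L : Subgroup G, L.Normal → L ≤ K → L = ⊥ ∨ L = K)
    (p : ℕ) [hp : Fact p.Prime] (hpK : p ∣ Nat.card K) (hnp : ¬ IsPGroup p K)
    (hnpc : HasNormalPComplement p ↥K) : False := by
  rw [hasNPC_iff_exists_normal] at hnpc
  obtain ⟨Y, hYn, hYcop, k, hk⟩ := hnpc
  have hinv : ∀ g : G, ∀ y ∈ Y, (MulAut.conjNormal g : MulAut K) y ∈ Y := by
    intro g y hy
    have hle : Y.map (MulAut.conjNormal g : MulAut K).toMonoidHom ≤ Y := by
      apply le_of_card_coprime_of_index_pow Y hk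
      rw [Subgroup.card_map_of_injective (MulEquiv.injective _)]
      exact hYcop
    exact hle ⟨y, hy, rfl⟩
  have hY'n : (Y.map K.subtype).Normal := by
    constructor
    rintro _ ⟨y, hy, rfl⟩ g
    refine ⟨(MulAut.conjNormal g : MulAut K) y, hinv g y hy, ?_⟩
    simp [MulAut.conjNormal_apply]
  rcases hmin _ hY'n (Subgroup.map_subtype_le _) with h | h
  · have hY : Y = ⊥ := (Subgroup.map_eq_bot_iff_of_injective _ K.subtype_injective).mp h
    apply hnp
    rw [hY, Subgroup.index_bot] at hk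
    exact IsPGroup.of_card hk
  · have hY : Y = ⊤ := by
      rw [eq_top_iff]
      intro x _
      have hx : (x : G) ∈ Y.map K.subtype := by rw [h]; exact x.2
      obtain ⟨y, hy, hyx⟩ := hx
      have : y = x := Subtype.ext hyx
      rwa [← this]
    rw [hY, Subgroup.card_top] at hYcop
    exact (Nat.Prime.coprime_iff_not_dvd hp.out).mp hYcop.symm hpK

/-- Conjugation transports centralizers. -/
theorem conj_mem_cz_conj_iff (g u k : G) : g * k * g⁻¹ ∈ cz (g * u * g⁻¹) ↔ k ∈ cz u := by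
  rw [mem_cz_iff, mem_cz_iff]
  have e1 : g * k * g⁻¹ * (g * u * g⁻¹) = g * (k * u) * g⁻¹ := by group
  have e2 : g * u * g⁻¹ * (g * k * g⁻¹) = g * (u * k) * g⁻¹ := by group
  rw [e1, e2]
  constructor
  · intro hk; exact mul_left_cancel (mul_right_cancel hk)
  · intro hk; rw [hk]

variable [Finite G]

/-- The pure case: all nonidentity elements of `C_K(z)` have the same centralizer. -/
theorem hasNPC_of_pure {N : Subgroup G} (h : RelCM N) (K : Subgroup G) [K.Normal] (hKN : K ≤ N)
    (hmin : ∀ L : Subgroup G, L.Normal → L ≤ K → L = ⊥ ∨ L = K)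
    (hnle : ∀ z ∈ K, z ≠ 1 → ¬ K ≤ cz z) {p : ℕ} [Fact p.Prime] (P : Sylow p K) {z : G}
    (hzK : z ∈ K) (hz1 : z ≠ 1) (hPz : ∀ u : K, u ∈ P → (u : G) ∈ cz z)
    (hpure : ∀ m ∈ K, m ∈ cz z → m ≠ 1 → cz m = cz z) : HasNormalPComplement p ↥K := by
  have hM : IsCoatom (cz z) := h.coatom z (hKN hzK) hz1
  have hMn : Subgroup.normalizer ((cz z : Subgroup G) : Set G) = cz z := by
    rcases hM.le_iff.mp (Subgroup.le_normalizer (H := cz z)) with h1 | h1
    · exfalso
      haveI hn : (cz z).Normal := Subgroup.normalizer_eq_top_iff.mp h1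
      have hLn : (K ⊓ cz z).Normal := inferInstance
      rcases hmin _ hLn inf_le_left with h2 | h2
      · have : z ∈ K ⊓ cz z := Subgroup.mem_inf.mpr ⟨hzK, self_mem_cz z⟩
        rw [h2, Subgroup.mem_bot] at this
        exact hz1 this
      · exact hnle z hzK hz1 (inf_eq_left.mp h2)
    · exact h1
  apply Cfsg.Agent.Lib.Helper2.hasNormalPComplement_of_normalizer_le_centralizer P
  intro g hg
  rw [Subgroup.mem_centralizer_iff]
  intro u hu
  by_cases hu1 : u = 1
  · rw [hu1, one_mul, mul_one]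
  · have huG1 : (u : G) ≠ 1 := fun h1 => hu1 (Subtype.ext h1)
    have hcu : cz (u : G) = cz z := hpure u u.2 (hPz u hu) huG1
    have hgu : g * u * g⁻¹ ∈ (P : Subgroup K) := (Subgroup.mem_normalizer_iff.mp hg u).mp hu
    have hguG1 : ((g * u * g⁻¹ : K) : G) ≠ 1 := by
      intro h1
      apply hu1
      have : g * u * g⁻¹ = 1 := Subtype.ext h1
      have h2 : u = g⁻¹ * (g * u * g⁻¹) * g := by group
      rw [h2, this]; group
    have hcgu : cz ((g * u * g⁻¹ : K) : G) = cz z :=
      hpure _ (g * u * g⁻¹ : K).2 (hPz _ hgu) hguG1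
    have hgM : (g : G) ∈ Subgroup.normalizer ((cz z : Subgroup G) : Set G) := by
      rw [Subgroup.mem_normalizer_iff]
      intro k
      have := conj_mem_cz_conj_iff (g : G) (u : G) k
      have e : ((g * u * g⁻¹ : K) : G) = (g : G) * (u : G) * (g : G)⁻¹ := by simp
      rw [← e, hcgu, hcu] at this
      exact this.symm
    rw [hMn, ← hcu, mem_cz_iff] at hgM
    exact (Subtype.ext hgM).symm

/-- The mixed case: `C_K(z)` contains an element with a different centralizer. -/
theorem hasNPC_of_mixed {N : Subgroup G} (h : RelCM N) (K : Subgroup G) [K.Normal] (hKN : K ≤ N)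
    (hmin : ∀ L : Subgroup G, L.Normal → L ≤ K → L = ⊥ ∨ L = K)
    {p : ℕ} [hp : Fact p.Prime] (hp2 : p ≠ 2) (hnp : ¬ IsPGroup p K) (P : Sylow p K)
    (hP1 : (P : Subgroup K) ≠ ⊥) {z : G} (hzK : z ∈ K) (hz1 : z ≠ 1)
    (hzP : (⟨z, hzK⟩ : K) ∈ P) (hPz : ∀ u : K, u ∈ P → (u : G) ∈ cz z)
    {m₀ : G} (hm₀K : m₀ ∈ K) (hm₀z : m₀ ∈ cz z) (hm₀1 : m₀ ≠ 1) (hne : cz m₀ ≠ cz z) :
    HasNormalPComplement p ↥K := by
  have hM : IsCoatom (cz z) := h.coatom z (hKN hzK) hz1
  obtain ⟨q, hq, hzq, hexp⟩ := h.exists_prime_exponent (hKN hzK) hz1 (hKN hm₀K) hm₀1 hm₀z hne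
  have hqp : q = p := by
    obtain ⟨j, hj⟩ := P.isPGroup' ⟨⟨z, hzK⟩, hzP⟩
    have hzj : z ^ p ^ j = 1 := by
      have := congrArg (fun t : (P : Subgroup K) => ((t : K) : G)) hj
      simpa using this
    have ho1 : orderOf z ∣ q := orderOf_dvd_of_pow_eq_one hzq
    have ho2 : orderOf z ∣ p ^ j := orderOf_dvd_of_pow_eq_one hzj
    have ho3 : orderOf z ≠ 1 := fun h1 => hz1 (orderOf_eq_one_iff.mp h1)
    have ho4 : orderOf z = q := by
      rcases (Nat.dvd_prime hq).mp ho1 with h1 | h1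
      · exact absurd h1 ho3
      · exact h1
    rw [ho4] at ho2
    exact (Nat.prime_dvd_prime_iff_eq hq hp.out).mp (hq.dvd_of_dvd_pow ho2)
  subst hqp
  -- `P = C_K(z)`
  have hPC : ∀ u : K, u ∈ P ↔ (u : G) ∈ cz z := by
    have hCp : IsPGroup q ((cz z).subgroupOf K) := by
      intro c
      refine ⟨1, ?_⟩
      rw [pow_one]
      apply Subtype.ext
      apply Subtype.ext
      have := hexp (c : K) (hKN (c : K).2) (Subgroup.mem_subgroupOf.mp c.2)
      simpa using this
    have hPleC : (P : Subgroup K) ≤ (cz z).subgroupOf K := by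
      intro u hu
      rw [Subgroup.mem_subgroupOf]
      exact hPz u hu
    have hCP := P.is_maximal' hCp hPleC
    intro u
    constructor
    · exact hPz u
    · intro hu
      have : u ∈ (cz z).subgroupOf K := Subgroup.mem_subgroupOf.mpr hu
      rw [hCP] at this
      exact this
  have hinv : ∀ m ∈ cz z, AutInv (MulAut.conjNormal m : MulAut K) (P : Subgroup K) := by
    intro m hm
    apply autInv_of_forall_mem
    intro u hu
    have hu' : (MulAut.conjNormal m : MulAut K) u ∈ P := by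
      rw [hPC, MulAut.conjNormal_apply]
      exact (cz z).mul_mem ((cz z).mul_mem hm ((hPC u).mp hu)) ((cz z).inv_mem hm)
    exact hu'
  set W : Subgroup K :=
    (stableNormalClosure q ↥(P : Subgroup K)).map (P : Subgroup K).subtype with hW
  have hWne : W ≠ ⊥ := stableNormalClosure_map_ne_bot q P hP1
  have hWP : W ≤ P := Subgroup.map_subtype_le _
  have hWinv : ∀ m ∈ cz z, AutInv (MulAut.conjNormal m : MulAut K) W :=
    fun m hm => autInv_stableNormalClosure _ q P (hinv m hm)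
  set W' : Subgroup G := W.map K.subtype with hW'
  have hW'K : W' ≤ K := Subgroup.map_subtype_le _
  have hW'1 : W' ≠ ⊥ := by
    intro h1
    exact hWne ((Subgroup.map_eq_bot_iff_of_injective _ K.subtype_injective).mp h1)
  have hW'K' : W' ≠ K := by
    intro h1
    apply hnp
    have hall : ∀ x : K, x ∈ (P : Subgroup K) := by
      intro x
      have hx : (x : G) ∈ W' := by rw [h1]; exact x.2
      obtain ⟨y, hy, hyx⟩ := hx
      have : y = x := Subtype.ext hyx
      rw [← this]; exact hWP hy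
    intro x
    obtain ⟨j, hj⟩ := P.isPGroup' ⟨x, hall x⟩
    exact ⟨j, by simpa using congrArg Subtype.val hj⟩
  have hMW : cz z ≤ Subgroup.normalizer (W' : Set G) := by
    rw [Subgroup.le_normalizer_iff]
    rintro m hm _ ⟨w, hw, rfl⟩
    refine ⟨(MulAut.conjNormal m : MulAut K) w, ((hWinv m hm).mem_iff w).mpr hw, ?_⟩
    simp [MulAut.conjNormal_apply]
  have hNW' : Subgroup.normalizer (W' : Set G) = cz z :=
    normalizer_eq_of_minimal_normal hmin hM W' hW'K hW'1 hW'K' hMW
  have hNW : Subgroup.normalizer (W : Set K) ≤ (P : Subgroup K) := by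
    have e1 : W'.subgroupOf K = W :=
      Subgroup.comap_map_eq_self_of_injective K.subtype_injective W
    have e2 := Subgroup.subgroupOf_normalizer_eq hW'K
    rw [e1, hNW'] at e2
    intro g hg
    rw [← e2, Subgroup.mem_subgroupOf] at hg
    exact (hPC g).mpr hg
  have hNp : IsPGroup q ↥(Subgroup.normalizer (W : Set K)) := P.isPGroup'.to_le hNW
  have h1 : HasNormalPComplement q ↥(Subgroup.normalizer (W : Set K)) := hasNPC_of_isPGroup hNp
  exact Cfsg.Agent.S0628.result hp2 P h1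

/-- **Main step**: a minimal normal subgroup of `G` inside a `RelCM` subgroup is abelian. -/
theorem RelCM.abelian_of_minimal_normal {N : Subgroup G} (h : RelCM N) (K : Subgroup G)
    [K.Normal] (hK1 : K ≠ ⊥) (hKN : K ≤ N)
    (hmin : ∀ L : Subgroup G, L.Normal → L ≤ K → L = ⊥ ∨ L = K) :
    ∀ a ∈ K, ∀ b ∈ K, a * b = b * a := by
  rcases abelian_or_nle_of_minimal_normal K hmin with hab | hnle
  · exact hab
  exfalso
  have hnot2 : ¬ IsPGroup 2 K := by
    haveI : Fact (Nat.Prime 2) := ⟨Nat.prime_two⟩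
    exact not_isPGroup_of_nle K hK1 hnle 2
  obtain ⟨p, hp, hpK, hp2⟩ : ∃ p : ℕ, p.Prime ∧ p ∣ Nat.card K ∧ p ≠ 2 := by
    by_contra hcon
    push Not at hcon
    apply hnot2
    have hcard := Nat.eq_prime_pow_of_unique_prime_dvd (Nat.card_pos (α := K)).ne'
      (fun {d} hd hdvd => hcon d hd hdvd)
    exact IsPGroup.of_card hcard
  haveI : Fact p.Prime := ⟨hp⟩
  have hnp : ¬ IsPGroup p K := not_isPGroup_of_nle K hK1 hnle p
  obtain ⟨P⟩ : Nonempty (Sylow p K) := inferInstance
  have hP1 : (P : Subgroup K) ≠ ⊥ := P.ne_bot_of_dvd_card hpK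
  haveI : Nontrivial (P : Subgroup K) := (Subgroup.nontrivial_iff_ne_bot _).mpr hP1
  haveI := P.isPGroup'.center_nontrivial
  obtain ⟨z', hz'1⟩ := exists_ne (1 : Subgroup.center (P : Subgroup K))
  obtain ⟨z, hzdef⟩ : ∃ z : G, z = (((z' : (P : Subgroup K)) : K) : G) := ⟨_, rfl⟩
  have hzK : z ∈ K := by rw [hzdef]; exact ((z' : (P : Subgroup K)) : K).2
  have hz1 : z ≠ 1 := by
    intro h1
    rw [hzdef] at h1
    exact hz'1 (Subtype.ext (Subtype.ext (Subtype.ext h1)))
  have hzP : (⟨z, hzK⟩ : K) ∈ P := by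
    have : (⟨z, hzK⟩ : K) = ((z' : (P : Subgroup K)) : K) := Subtype.ext hzdef
    rw [this]
    exact (z' : (P : Subgroup K)).2
  have hPz : ∀ u : K, u ∈ P → (u : G) ∈ cz z := by
    intro u hu
    rw [mem_cz_iff, hzdef]
    have := Subgroup.mem_center_iff.mp z'.2 ⟨u, hu⟩
    exact congrArg (fun t : (P : Subgroup K) => ((t : K) : G)) this
  apply false_of_hasNPC_of_minimal_normal K hmin p hpK hnp
  by_cases hpure : ∀ m ∈ K, m ∈ cz z → m ≠ 1 → cz m = cz z
  · exact hasNPC_of_pure h K hKN hmin hnle P hzK hz1 hPz hpure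
  · push Not at hpure
    obtain ⟨m₀, hm₀K, hm₀z, hm₀1, hne⟩ := hpure
    exact hasNPC_of_mixed h K hKN hmin hp2 hnp P hP1 hzK hz1 hzP hPz hm₀K hm₀z hm₀1 hne

end Cfsg.Agent.Lib.Helper34
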