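import Mathlib
import Cfsg.Prelude.Def_Solvable
import Cfsg.Prelude.Def_Transfer
import Cfsg.Agent.Lib.Helper34.RelCM
import Cfsg.Agent.Lib.Helper34.RelCMMinimal
import Cfsg.Agent.Lib.Helper34.CentMaxStructAbstract
import Cfsg.Agent.Lib.Helper1.MinimalNormal

/-!
# Structure of a `RelCM` normal subgroup

A nontrivial normal subgroup `N` with `RelCM N` is a Frobenius group `K ⋊ C` with `K` elementary
abelian and `C` of prime order.
-/

set_option autoImplicit false
set_option linter.style.haveILetI false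

namespace Cfsg.Agent.Lib.Helper34

open Cfsg Cfsg.Agent.Lib.Helper1

universe u

variable {G : Type u} [Group G]

/-- An abelian minimal normal subgroup has prime exponent. -/
theorem exists_prime_exponent_of_abelian_minimal_normal [Finite G] (K : Subgroup G) [hKn : K.Normal]
    (hK1 : K ≠ ⊥) (hab : ∀ a ∈ K, ∀ b ∈ K, a * b = b * a)
    (hmin : ∀ L : Subgroup G, L.Normal → L ≤ K → L = ⊥ ∨ L = K) :
    ∃ r : ℕ, r.Prime ∧ ∀ a ∈ K, a ^ r = 1 := by
  have hcard : Nat.card K ≠ 1 := by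
    intro h
    exact hK1 (Subgroup.card_eq_one.mp h)
  obtain ⟨p, hp, hpd⟩ := Nat.exists_prime_and_dvd hcard
  haveI : Fact p.Prime := ⟨hp⟩
  refine ⟨p, hp, ?_⟩
  let M : Subgroup G :=
    { carrier := {x | x ∈ K ∧ x ^ p = 1}
      one_mem' := ⟨K.one_mem, one_pow p⟩
      mul_mem' := by
        rintro a b ⟨ha, ha'⟩ ⟨hb, hb'⟩
        refine ⟨K.mul_mem ha hb, ?_⟩
        have hc : Commute a b := hab a ha b hb
        rw [hc.mul_pow, ha', hb', one_mul]
      inv_mem' := by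
        rintro a ⟨ha, ha'⟩
        exact ⟨K.inv_mem ha, by rw [inv_pow, ha', inv_one]⟩ }
  have hMn : M.Normal := by
    constructor
    rintro n ⟨hn, hn'⟩ g
    refine ⟨hKn.conj_mem n hn g, ?_⟩
    rw [conj_pow, hn', mul_one, mul_inv_cancel]
  have hMle : M ≤ K := fun x hx => hx.1
  obtain ⟨x, hx⟩ := exists_prime_orderOf_dvd_card' (G := K) p hpd
  have hMne : M ≠ ⊥ := by
    intro h
    have hxM : (x : G) ∈ M := by
      refine ⟨x.2, ?_⟩
      have : x ^ p = 1 := by rw [← hx, pow_orderOf_eq_one]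
      exact_mod_cast congrArg Subtype.val this
    rw [h, Subgroup.mem_bot] at hxM
    have : x = 1 := Subtype.ext hxM
    rw [this, orderOf_one] at hx
    exact hp.one_lt.ne hx
  rcases hmin M hMn hMle with h | h
  · exact absurd h hMne
  · intro y hy
    rw [← h] at hy
    exact hy.2

/-- An element of order dividing `r` centralizes a nonidentity element of a nontrivial normal
`r`-subgroup. -/
theorem exists_ne_one_commute_of_pow_eq_one [Finite G] (K : Subgroup G) [K.Normal] (hK1 : K ≠ ⊥)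
    (r : ℕ) [hr : Fact r.Prime] (hKr : ∀ a ∈ K, a ^ r = 1) (x : G) (hx : x ^ r = 1) :
    ∃ k ∈ K, k ≠ 1 ∧ k * x = x * k := by
  set Pg : Subgroup (ConjAct G) := Subgroup.zpowers (ConjAct.toConjAct x) with hPg
  have hPgp : IsPGroup r Pg := by
    intro g
    refine ⟨1, ?_⟩
    rw [pow_one]
    obtain ⟨i, hi⟩ := Subgroup.mem_zpowers_iff.mp g.2
    apply Subtype.ext
    rw [Subgroup.coe_pow, ← hi, ← zpow_natCast, ← zpow_mul, mul_comm, zpow_mul, zpow_natCast,
      ← map_pow, hx, map_one, one_zpow]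
    rfl
  have hKp : IsPGroup r K := fun a =>
    ⟨1, by rw [pow_one]; exact Subtype.ext (by simpa using hKr a a.2)⟩
  have hdvd : r ∣ Nat.card K := by
    haveI : Nontrivial K := (Subgroup.nontrivial_iff_ne_bot K).mpr hK1
    obtain ⟨n, hn0, hn⟩ := hKp.nontrivial_iff_card.mp inferInstance
    exact hn.symm ▸ dvd_pow_self _ (ne_of_gt hn0)
  have h1 : (1 : K) ∈ MulAction.fixedPoints Pg K := by
    intro g
    show (g : ConjAct G) • (1 : K) = 1
    exact smul_one _
  obtain ⟨b, hb, hne⟩ := hPgp.exists_fixed_point_of_prime_dvd_card_of_fixed_point K hdvd h1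
  refine ⟨b, b.2, ?_, ?_⟩
  · intro h
    apply hne
    exact (Subtype.ext h).symm
  · have h2 := hb ⟨ConjAct.toConjAct x, Subgroup.mem_zpowers _⟩
    have h2' : (ConjAct.toConjAct x) • b = b := h2
    have h3 := congrArg Subtype.val h2'
    rw [ConjAct.Subgroup.val_conj_smul, ConjAct.smul_def, ConjAct.ofConjAct_toConjAct] at h3
    rw [mul_inv_eq_iff_eq_mul] at h3
    exact h3.symm

/-- **Structure theorem**: a nontrivial `RelCM` normal subgroup is `K ⋊ C` with `K` an elementary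
abelian normal subgroup of `G`, `C` of prime order acting fixed-point-freely on `K`. -/
theorem RelCM.exists_structure [Finite G] {N : Subgroup G} [N.Normal] (h : RelCM N)
    (hN1 : N ≠ ⊥) :
    ∃ (K C : Subgroup G) (r : ℕ), r.Prime ∧ K.Normal ∧ K ≤ N ∧ C ≤ N ∧ K ≠ ⊥ ∧
      (∀ a ∈ K, ∀ b ∈ K, a * b = b * a) ∧ (∀ a ∈ K, a ^ r = 1) ∧
      (Nat.card C).Prime ∧ (∀ g ∈ K, g ∈ C → g = 1) ∧
      (∀ n ∈ N, ∃ k ∈ K, ∃ c ∈ C, n = k * c) ∧
      (∀ k ∈ K, ∀ c ∈ C, c ≠ 1 → k * c = c * k → k = 1) := by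
  obtain ⟨K, hKn, hK1, hKN, hmin⟩ := exists_minimal_normal_le N inferInstance hN1
  haveI := hKn
  have hKab := h.abelian_of_minimal_normal K hK1 hKN hmin
  obtain ⟨r, hr, hKr⟩ := exists_prime_exponent_of_abelian_minimal_normal K hK1 hKab hmin
  haveI : Fact r.Prime := ⟨hr⟩
  obtain ⟨k₀, hk₀K, hk₀1⟩ : ∃ k₀ ∈ K, k₀ ≠ 1 := by
    by_contra hcon
    push Not at hcon
    exact hK1 (eq_bot_iff.mpr (fun k hk => Subgroup.mem_bot.mpr (hcon k hk)))
  obtain ⟨x, hxN, hxk₀⟩ : ∃ x ∈ N, x ∉ cz k₀ := by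
    have := h.nle k₀ (hKN hk₀K) hk₀1
    rw [SetLike.not_le_iff_exists] at this
    exact this
  have hx1 : x ≠ 1 := by
    rintro rfl
    exact hxk₀ (Subgroup.one_mem _)
  have hM : IsCoatom (cz x) := h.coatom x hxN hx1
  have hKM : ¬ K ≤ cz x := by
    intro hle
    apply hxk₀
    rw [mem_cz_iff]
    exact (mem_cz_iff.mp (hle hk₀K)).symm
  have hKM0 : ∀ k ∈ K, k ∈ cz x → k = 1 := by
    have hLn : (K ⊓ cz x).Normal := by
      constructor
      intro y hy g
      rw [Subgroup.mem_inf] at hy ⊢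
      obtain ⟨k, hk, m, hm, rfl⟩ := exists_mul_of_normal_of_isCoatom K hM hKM g
      have h1 : m * y * m⁻¹ ∈ K := hKn.conj_mem y hy.1 m
      have h2 : k * m * y * (k * m)⁻¹ = m * y * m⁻¹ := by
        have := hKab k hk (m * y * m⁻¹) h1
        calc k * m * y * (k * m)⁻¹ = k * (m * y * m⁻¹) * k⁻¹ := by group
          _ = (m * y * m⁻¹) * k * k⁻¹ := by rw [this]
          _ = m * y * m⁻¹ := by group
      rw [h2]
      exact ⟨h1, (cz x).mul_mem ((cz x).mul_mem hm hy.2) ((cz x).inv_mem hm)⟩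
    rcases hmin _ hLn inf_le_left with h1 | h1
    · intro k hk hkx
      have : k ∈ K ⊓ cz x := Subgroup.mem_inf.mpr ⟨hk, hkx⟩
      rwa [h1, Subgroup.mem_bot] at this
    · exact absurd (inf_eq_left.mp h1) hKM
  set C : Subgroup G := N ⊓ cz x with hC
  have hCN : C ≤ N := inf_le_left
  have hxC : x ∈ C := Subgroup.mem_inf.mpr ⟨hxN, self_mem_cz x⟩
  have hKC0 : ∀ g ∈ K, g ∈ C → g = 1 := fun g hg hgC => hKM0 g hg (Subgroup.mem_inf.mp hgC).2
  have hprod : ∀ n ∈ N, ∃ k ∈ K, ∃ c ∈ C, n = k * c := by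
    intro n hn
    obtain ⟨k, hk, m, hm, rfl⟩ := exists_mul_of_normal_of_isCoatom K hM hKM n
    refine ⟨k, hk, m, Subgroup.mem_inf.mpr ⟨?_, hm⟩, rfl⟩
    have : m = k⁻¹ * (k * m) := by group
    rw [this]
    exact N.mul_mem (N.inv_mem (hKN hk)) hn
  -- `C` acts fixed-point-freely on `K`
  have hfpf : ∀ k ∈ K, ∀ c ∈ C, c ≠ 1 → k * c = c * k → k = 1 := by
    intro k hk c hc hc1 hkc
    by_contra hk1
    have hcN : c ∈ N := hCN hc
    have hcx : c ∈ cz x := (Subgroup.mem_inf.mp hc).2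
    have hkN : k ∈ N := hKN hk
    by_cases h1 : cz k = cz c
    · have hxc : x ∈ cz c := by
        rw [mem_cz_iff]; exact (mem_cz_iff.mp hcx).symm
      rw [← h1] at hxc
      apply hk1
      apply hKM0 k hk
      rw [mem_cz_iff]; exact (mem_cz_iff.mp hxc).symm
    · obtain ⟨p, hp, hkp, hcp⟩ :=
        h.exists_prime_pow_eq_one_of_commute hkN hk1 hcN hc1 hkc h1
      have hpr : p = r := by
        have ho1 : orderOf k ∣ p := orderOf_dvd_of_pow_eq_one hkp
        have ho2 : orderOf k ∣ r := orderOf_dvd_of_pow_eq_one (hKr k hk)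
        have ho3 : orderOf k ≠ 1 := fun h1 => hk1 (orderOf_eq_one_iff.mp h1)
        rcases (Nat.dvd_prime hp).mp ho1 with h2 | h2
        · exact absurd h2 ho3
        · rcases (Nat.dvd_prime hr).mp ho2 with h3 | h3
          · exact absurd h3 ho3
          · rw [← h2, h3]
      have hcr : c ^ r = 1 := hpr ▸ hcp
      by_cases h2 : cz x = cz c
      · apply hk1
        apply hKM0 k hk
        rw [h2, mem_cz_iff]; exact hkc
      · have hcxcomm : Commute c x := mem_cz_iff.mp hcx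
        have hxr : x ^ r = 1 :=
          h.pow_eq_one_of_commute hcN hc1 hxN hx1 hcxcomm (fun he => h2 he.symm) r hcr
        obtain ⟨k', hk'K, hk'1, hk'x⟩ := exists_ne_one_commute_of_pow_eq_one K hK1 r hKr x hxr
        exact hk'1 (hKM0 k' hk'K (mem_cz_iff.mpr hk'x))
  -- every nonidentity element of `C` generates `C`
  have hgen : ∀ c ∈ C, c ≠ 1 → ∀ c' ∈ C, c' ∈ Subgroup.zpowers c := by
    intro c hc hc1 c' hc'
    have hcN : c ∈ N := hCN hc
    have hKc : ¬ K ≤ cz c := by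
      intro hle
      apply hk₀1
      exact hfpf k₀ hk₀K c hc hc1 (mem_cz_iff.mp (hle hk₀K))
    have hcomm : ∀ g : G, g * c * g⁻¹ * c⁻¹ ∈ K := by
      intro g
      obtain ⟨k, hk, m, hm, rfl⟩ :=
        exists_mul_of_normal_of_isCoatom K (h.coatom c hcN hc1) hKc g
      have hmc : m * c = c * m := mem_cz_iff.mp hm
      have e : k * m * c * (k * m)⁻¹ * c⁻¹ = k * (c * k⁻¹ * c⁻¹) := by
        calc k * m * c * (k * m)⁻¹ * c⁻¹ = k * (m * c) * m⁻¹ * k⁻¹ * c⁻¹ := by group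
          _ = k * (c * m) * m⁻¹ * k⁻¹ * c⁻¹ := by rw [hmc]
          _ = k * (c * k⁻¹ * c⁻¹) := by group
      rw [e]
      exact K.mul_mem hk (hKn.conj_mem _ (K.inv_mem hk) c)
    set L : Subgroup G := K ⊔ Subgroup.zpowers c with hL
    have hcL : c ∈ L := (le_sup_right : Subgroup.zpowers c ≤ L) (Subgroup.mem_zpowers c)
    have hKL : K ≤ L := le_sup_left
    have hLN : L ≤ N := sup_le hKN (by rw [Subgroup.zpowers_le]; exact hcN)
    have hLn : L.Normal := by
      constructor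
      intro l hl g
      have hl' : l ∈ ((K ⊔ Subgroup.zpowers c : Subgroup G) : Set G) := hl
      rw [Subgroup.normal_mul] at hl'
      obtain ⟨k, hk, z, hz, rfl⟩ := Set.mem_mul.mp hl'
      obtain ⟨i, rfl⟩ := Subgroup.mem_zpowers_iff.mp hz
      have e : g * (k * c ^ i) * g⁻¹ = (g * k * g⁻¹) * (g * c * g⁻¹) ^ i := by
        rw [conj_zpow]; group
      rw [e]
      apply L.mul_mem (hKL (hKn.conj_mem k hk g))
      apply L.zpow_mem
      have : g * c * g⁻¹ = (g * c * g⁻¹ * c⁻¹) * c := by group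
      rw [this]
      exact L.mul_mem (hKL (hcomm g)) hcL
    have hLk : ¬ L ≤ cz k₀ := by
      intro hle
      apply hk₀1
      exact hfpf k₀ hk₀K c hc hc1 (mem_cz_iff.mp (hle hcL)).symm
    obtain ⟨l, hl, m, hm, hlm⟩ :=
      exists_mul_of_normal_of_isCoatom L (h.coatom k₀ (hKN hk₀K) hk₀1) hLk c'
    have hmN : m ∈ N := by
      have : m = l⁻¹ * c' := by rw [hlm]; group
      rw [this]
      exact N.mul_mem (N.inv_mem (hLN hl)) (hCN hc')
    obtain ⟨k₂, hk₂, c₂, hc₂, hm2⟩ := hprod m hmN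
    have hc₂1 : c₂ = 1 := by
      by_contra hc₂1
      apply hk₀1
      apply hfpf k₀ hk₀K c₂ hc₂ hc₂1
      have h1 : m * k₀ = k₀ * m := mem_cz_iff.mp hm
      have h2 : k₂ * k₀ = k₀ * k₂ := hKab k₂ hk₂ k₀ hk₀K
      have h3 : c₂ = k₂⁻¹ * m := by rw [hm2]; group
      rw [h3]
      calc k₀ * (k₂⁻¹ * m) = k₂⁻¹ * (k₂ * k₀) * k₂⁻¹ * m := by group
        _ = k₂⁻¹ * (k₀ * k₂) * k₂⁻¹ * m := by rw [h2]
        _ = k₂⁻¹ * (k₀ * m) := by group
        _ = k₂⁻¹ * (m * k₀) := by rw [h1]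
        _ = k₂⁻¹ * m * k₀ := by group
    have hmK : m ∈ K := by rw [hm2, hc₂1, mul_one]; exact hk₂
    have hc'L : c' ∈ L := by rw [hlm]; exact L.mul_mem hl (hKL hmK)
    have hc'L' : c' ∈ ((K ⊔ Subgroup.zpowers c : Subgroup G) : Set G) := hc'L
    rw [Subgroup.normal_mul] at hc'L'
    obtain ⟨k, hk, z, hz, hkz⟩ := Set.mem_mul.mp hc'L'
    have hzC : z ∈ C := (Subgroup.zpowers_le.mpr hc) hz
    have hk1 : k = 1 := by
      apply hKC0 k hk
      have : k = c' * z⁻¹ := by rw [← hkz]; group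
      rw [this]
      exact C.mul_mem hc' (C.inv_mem hzC)
    rw [← hkz, hk1, one_mul]
    exact hz
  have hCprime : (Nat.card C).Prime := by
    apply prime_card_of_isCoatom_bot
    constructor
    · intro hbt
      have : (⟨x, hxC⟩ : C) ∈ (⊥ : Subgroup C) := by rw [hbt]; exact Subgroup.mem_top _
      rw [Subgroup.mem_bot] at this
      exact hx1 (congrArg Subtype.val this)
    · intro H hH
      obtain ⟨c, hcH, hc1⟩ : ∃ c ∈ H, c ≠ 1 := by
        by_contra hcon
        push Not at hcon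
        exact hH.ne' (eq_bot_iff.mpr (fun c hc => Subgroup.mem_bot.mpr (hcon c hc)))
      rw [eq_top_iff]
      intro c' _
      have hc1' : (c : G) ≠ 1 := fun h1 => hc1 (Subtype.ext h1)
      obtain ⟨i, hi⟩ := Subgroup.mem_zpowers_iff.mp (hgen c c.2 hc1' c' c'.2)
      have : c' = c ^ i := Subtype.ext (by simpa using hi.symm)
      rw [this]
      exact H.zpow_mem hcH i
  exact ⟨K, C, r, hr, hKn, hKN, hCN, hK1, hKab, hKr, hCprime, hKC0, hprod, hfpf⟩

end Cfsg.Agent.Lib.Helper34
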