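import Mathlib
import Cfsg.Prelude.Def_OddOrderLocal
import Cfsg.Agent.Lib.Helper34.NonSigma
import Cfsg.Agent.Lib.Helper34.SigmaCompl
import Cfsg.Agent.Lib.Helper34.SylowConj
import Cfsg.Agent.Lib.Helper50.AlphaCore
import Cfsg.Agent.Lib.Helper54.BGElevenA
import Cfsg.Agent.Lib.Helper54.BGElevenB
import Cfsg.Agent.Lib.Helper54.BGFourteenDefs
import Cfsg.Agent.Lib.Helper65.NilpBasic
import Cfsg.Agent.Lib.Helper68.BG108
import Cfsg.Agent.Lib.Helper97.BGTwelveCor
import Cfsg.Agent.Lib.Helper24.PrimeAction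
import Cfsg.Agent.Lib.Helper54.UqNine4

/-!
# Bender–Glauberman Theorem 13.9 (`σ`-partition) from the special case (AS) of Lemma 13.8  (helper34)

`AsymSpecial G` is the special case `Q = Q* = S` of the asymmetry lemma BG 13.8, `CentTau1Uniq G` is the
uniqueness clause of BG 13.6.  `sigmaDisjoint_of` derives `Helper54.SigmaDisjoint G` (BG 13.9, the second
half of S1378) from them, S1411 and S1417(a).
-/

set_option autoImplicit false

namespace Cfsg.Agent.Lib.Helper34.SigmaPartition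

open Cfsg
open scoped Pointwise
open Cfsg.Agent.Lib.Helper34 (UniquenessThm)

variable {G : Type*} [Group G]

/-- The special case `Q = Q* = S` of the asymmetry lemma BG 13.8. -/
def AsymSpecial (G : Type*) [Group G] : Prop :=
  ∀ (M Mstar : Subgroup G), IsCoatom M → IsCoatom Mstar →
    (∀ g : G, Mstar.map (MulAut.conj g).toMonoidHom ≠ M) →
    ∀ (q : ℕ) [Fact q.Prime] (S : Sylow q G),
      Subgroup.normalizer ((S : Subgroup G) : Set G) ≤ M ⊓ Mstar →
      ∀ p : ℕ, p ∈ tau1 M → p ∈ tau1 Mstar →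
      ∀ P : Subgroup G, P ≤ Subgroup.normalizer ((S : Subgroup G) : Set G) → Nat.card P = p →
        Subgroup.centralizer (P : Set G) ⊓ (S : Subgroup G) = ⊥ → False

/-- The uniqueness clause of BG 13.6. -/
def CentTau1Uniq (G : Type*) [Group G] : Prop :=
  ∀ (M : Subgroup G), IsCoatom M → ∀ E : Subgroup G, IsComplIn E (sigmaCore M) M →
    ∀ p ∈ tau1 M, ∀ P : Subgroup G, P ≤ E → Nat.card P = p →
    ∀ X : Subgroup G, X ≤ sigmaCore M ⊓ Subgroup.centralizer (P : Set G) → (Nat.card X).Prime →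
    ∀ L : Subgroup G, IsCoatom L → Subgroup.centralizer (X : Set G) ≤ L → L = M

/-- The conclusion of S1411 (BG 10.7?) for all Sylow subgroups. -/
def H1411 (G : Type*) [Group G] : Prop :=
  ∀ (p : ℕ) [Fact p.Prime] (P : Sylow p G) (V : Subgroup G),
    IsComplIn (P : Subgroup G) V (Subgroup.normalizer ((P : Subgroup G) : Set G)) →
    (P : Subgroup G) = ⁅(P : Subgroup G), V⁆ ∧
      (P : Subgroup G) ≤ ⁅Subgroup.normalizer ((P : Subgroup G) : Set G),
        Subgroup.normalizer ((P : Subgroup G) : Set G)⁆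

/-- S1417(a): `M_σ` is nilpotent when `τ₂(M)` is nonempty. -/
def H1417a (G : Type*) [Group G] : Prop :=
  ∀ (M : Subgroup G), IsCoatom M → ∀ (p : ℕ) [Fact p.Prime], p ∈ tau2 M → ∀ A : Subgroup G,
    (A ≤ M ∧ IsElementaryAbelian p A ∧ Nat.card A = p ^ 2) → Group.IsNilpotent (sigmaCore M)

section

variable [Finite G]

/-- If `S, T ≤ M'` are a `q`-group and a `t`-group, `q ≠ t`, `q ∉ α(M)`, and `T` normalizes `S`, then
`T` centralizes `S` (the derived group of `M/M_α` is nilpotent). -/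
theorem le_centralizer_of_le_commutator (hG : IsMinSimpleOddOrder G) (M : Subgroup G)
    (hM : IsCoatom M) {q t : ℕ} [hq : Fact q.Prime] [ht : Fact t.Prime] (hqt : q ≠ t)
    (hqα : q ∉ alpha M) {S T : Subgroup G} (hS : IsPGroup q S) (hT : IsPGroup t T)
    (hSM' : S ≤ ⁅M, M⁆) (hTM' : T ≤ ⁅M, M⁆) (hTS : T ≤ Subgroup.normalizer (S : Set G)) :
    T ≤ Subgroup.centralizer (S : Set G) := by
  have hM'M : ⁅M, M⁆ ≤ M := Subgroup.commutator_le_self M
  have hnil := Cfsg.Agent.Lib.Helper50.isNilpotent_commutator_quotient hG M hM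
  set N₀ : Subgroup ↥M := piCore (alpha M) ↥M with hN₀
  have hmemc : ∀ y : G, ∀ hy : y ∈ ⁅M, M⁆,
      QuotientGroup.mk' N₀ ⟨y, hM'M hy⟩ ∈ commutator (↥M ⧸ N₀) := by
    intro y hy
    have h1 : (⟨y, hM'M hy⟩ : ↥M) ∈ commutator ↥M := by
      have hy' := hy
      rw [← Subgroup.map_subtype_commutator] at hy'
      obtain ⟨z, hz, hzy⟩ := hy'
      have : z = ⟨y, hM'M hy⟩ := Subtype.ext hzy
      rwa [← this]
    have h2 : (commutator ↥M).map (QuotientGroup.mk' N₀) ≤ commutator (↥M ⧸ N₀) := by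
      rw [commutator_def, Subgroup.map_commutator, commutator_def]
      exact Subgroup.commutator_mono le_top le_top
    exact h2 ⟨_, h1, rfl⟩
  intro x hx
  rw [Subgroup.mem_centralizer_iff]
  intro s hs
  have hsS : s ∈ S := hs
  set x' : ↥M := ⟨x, hM'M (hTM' hx)⟩ with hx'
  set s' : ↥M := ⟨s, hM'M (hSM' hsS)⟩ with hs'
  -- orders
  obtain ⟨i, hi⟩ := (IsPGroup.iff_orderOf.mp hT) ⟨x, hx⟩
  obtain ⟨j, hj⟩ := (IsPGroup.iff_orderOf.mp hS) ⟨s, hsS⟩
  have hox : orderOf x = t ^ i := by rw [← hi, Subgroup.orderOf_mk]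
  have hos : orderOf s = q ^ j := by rw [← hj, Subgroup.orderOf_mk]
  have hox' : orderOf x' = t ^ i := by rw [hx', Subgroup.orderOf_mk, hox]
  have hos' : orderOf s' = q ^ j := by rw [hs', Subgroup.orderOf_mk, hos]
  have hcop : (orderOf (QuotientGroup.mk' N₀ s')).Coprime (orderOf (QuotientGroup.mk' N₀ x')) := by
    have h1 : orderOf (QuotientGroup.mk' N₀ s') ∣ q ^ j := hos' ▸ orderOf_map_dvd _ _
    have h2 : orderOf (QuotientGroup.mk' N₀ x') ∣ t ^ i := hox' ▸ orderOf_map_dvd _ _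
    have h3 : (q ^ j).Coprime (t ^ i) :=
      Nat.Coprime.pow _ _ ((Nat.coprime_primes hq.out ht.out).mpr hqt)
    exact Nat.Coprime.coprime_dvd_left h1 (Nat.Coprime.coprime_dvd_right h2 h3)
  have hcomm : QuotientGroup.mk' N₀ s' * QuotientGroup.mk' N₀ x' =
      QuotientGroup.mk' N₀ x' * QuotientGroup.mk' N₀ s' := by
    have h1 : Commute (⟨QuotientGroup.mk' N₀ s', hmemc s (hSM' hsS)⟩ : ↥(commutator (↥M ⧸ N₀)))
        ⟨QuotientGroup.mk' N₀ x', hmemc x (hTM' hx)⟩ := by
      haveI := hnil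
      apply Cfsg.Agent.Lib.Helper65.commute_of_coprime_orderOf
      rw [Subgroup.orderOf_mk, Subgroup.orderOf_mk]
      exact hcop
    exact congrArg Subtype.val h1.eq
  -- the commutator lies in `N₀`
  have hcN : s' * x' * s'⁻¹ * x'⁻¹ ∈ N₀ := by
    rw [← QuotientGroup.eq_one_iff]
    have : ((s' * x' * s'⁻¹ * x'⁻¹ : ↥M) : ↥M ⧸ N₀) =
        QuotientGroup.mk' N₀ s' * QuotientGroup.mk' N₀ x' * (QuotientGroup.mk' N₀ s')⁻¹ *
          (QuotientGroup.mk' N₀ x')⁻¹ := by
      simp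
    rw [this, hcomm]
    group
  -- and in `S`
  have hcS : s * x * s⁻¹ * x⁻¹ ∈ S := by
    have h1 : x * s⁻¹ * x⁻¹ ∈ S :=
      ((Subgroup.mem_normalizer_iff.mp (hTS hx)) s⁻¹).mp (S.inv_mem hsS)
    have : s * x * s⁻¹ * x⁻¹ = s * (x * s⁻¹ * x⁻¹) := by group
    rw [this]
    exact S.mul_mem hsS h1
  have hc1 : s * x * s⁻¹ * x⁻¹ = 1 := by
    obtain ⟨k, hk⟩ := (IsPGroup.iff_orderOf.mp hS) ⟨_, hcS⟩
    rw [Subgroup.orderOf_mk] at hk
    have h2 : orderOf (s' * x' * s'⁻¹ * x'⁻¹) = orderOf (s * x * s⁻¹ * x⁻¹) := by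
      rw [← Subgroup.orderOf_coe]
      rfl
    have h3 : orderOf (s' * x' * s'⁻¹ * x'⁻¹) ∣ Nat.card N₀ := by
      have := orderOf_dvd_natCard (⟨_, hcN⟩ : ↥N₀)
      rwa [Subgroup.orderOf_mk] at this
    have h4 := Cfsg.Agent.Lib.Helper50.card_piCore_alpha_coprime M q hq.out hqα
    rw [h2, hk] at h3
    have h5 : q ^ k = 1 := Nat.eq_one_of_dvd_coprimes (Nat.Coprime.pow_right k h4) h3 (dvd_refl _)
    rw [← orderOf_eq_one_iff, hk, h5]
  have : s * x = (s * x * s⁻¹ * x⁻¹) * (x * s) := by group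
  rw [this, hc1, one_mul]


/-- `S ≤ M'` for a Sylow subgroup `S` of `G` whose normalizer lies in `M`. -/
theorem sylow_le_commutator_of_normalizer_le (h1411 : H1411 G) {M : Subgroup G} {q : ℕ}
    [Fact q.Prime] (S : Sylow q G)
    (hNM : Subgroup.normalizer ((S : Subgroup G) : Set G) ≤ M) : (S : Subgroup G) ≤ ⁅M, M⁆ := by
  obtain ⟨V, hV⟩ := Cfsg.Agent.Lib.Helper68.exists_isComplIn_sylow_normalizer S
  exact (h1411 q S V hV).2.trans (Subgroup.commutator_mono hNM hNM)

/-- Key step of the reduction: a `t`-subgroup `T ≤ N_G(S)`, `t ≠ q`, which does not centralize the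
Sylow `q`-subgroup `S` of `G`, where `N_G(S) ≤ M` and `q ∈ σ(M) ∩ σ(L)` for a maximal subgroup `L` not
conjugate to `M`, belongs to a prime `t ∈ τ₁(M)`. -/
theorem mem_tau1_of_not_le_centralizer (hG : IsMinSimpleOddOrder G) (hU : UniquenessThm G)
    (h1411 : H1411 G) (h1417 : H1417a G) (M L : Subgroup G) (hM : IsCoatom M) (hL : IsCoatom L)
    (hnc : ∀ g : G, MulAut.conj g • M ≠ L) {q : ℕ} [hq : Fact q.Prime] (hqM : q ∈ sigma M)
    (hqL : q ∈ sigma L) (S : Sylow q G)
    (hNM : Subgroup.normalizer ((S : Subgroup G) : Set G) ≤ M) {t : ℕ} [ht : Fact t.Prime]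
    (hqt : q ≠ t) {T : Subgroup G} (hT : IsPGroup t T)
    (hTN : T ≤ Subgroup.normalizer ((S : Subgroup G) : Set G))
    (hTS : ¬ T ≤ Subgroup.centralizer ((S : Subgroup G) : Set G)) : t ∈ tau1 M := by
  have hodd : Odd (Nat.card G) := hG.1
  have hU3 := Cfsg.Agent.Lib.Helper54.uniqThree_of_uniquenessThm hU
  have hdis := Cfsg.Agent.Lib.Helper54.sigma_disjoint hG hU M L hM hL hnc
  have hqα : q ∉ alpha M := fun h => hdis.1.1 q h hqL
  have hSM' : (S : Subgroup G) ≤ ⁅M, M⁆ := sylow_le_commutator_of_normalizer_le h1411 S hNM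
  have hTM : T ≤ M := hTN.trans hNM
  have hT1 : T ≠ ⊥ := by
    rintro rfl
    exact hTS bot_le
  have htM : t ∣ Nat.card M :=
    (Cfsg.Agent.Lib.Helper34.dvd_card_of_isPGroup_ne_bot hT hT1).trans (Subgroup.card_dvd_of_le hTM)
  have hkey : ¬ T ≤ ⁅M, M⁆ := fun hTM' =>
    hTS (le_centralizer_of_le_commutator hG M hM hqt hqα S.isPGroup' hT hSM' hTM' hTN)
  -- `t ∉ σ(M)`
  have htσ : t ∉ sigma M := by
    intro htσ
    apply hkey
    have h1 : T ≤ sigmaCore M := by
      apply Cfsg.Agent.Lib.Helper54.le_sigmaCore_of_isPi hG hU M hM hTM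
      intro r hr hrd
      obtain ⟨k, hk⟩ := IsPGroup.iff_card.mp hT
      rw [hk] at hrd
      have := (Nat.prime_dvd_prime_iff_eq hr ht.out).mp (hr.dvd_of_dvd_pow hrd)
      rw [this]
      exact htσ
    exact h1.trans (Cfsg.Agent.Lib.Helper68.sigmaCore_le_commutator
      (fun p _ P V hV => (h1411 p P V hV).2))
  have htα : t ∉ alpha M := fun h => htσ (Cfsg.Agent.Lib.Helper50.alpha_subset_sigma hG hU3 M hM h)
  have hr2 : PRankLE t 2 ↥M := by
    by_contra h
    exact htα ⟨ht.out, h⟩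
  -- `t ∉ τ₂(M)`
  have hr1 : PRankLE t 1 ↥M := by
    by_contra h
    obtain ⟨A, hA⟩ := Cfsg.Agent.Lib.Helper97.BGTwelve.exists_elemAb_sq_of_not_pRankLE_one (p := t) M h
    have hnil := h1417 M hM t ⟨ht.out, htσ, hr2, h⟩ A hA
    exact (hdis.2 hnil).1 q hqM hqL
  -- `t ∉ τ₃(M)`
  have htM' : ¬ t ∣ Nat.card ↥⁅M, M⁆ := by
    intro hd
    apply hkey
    have hcardM' : Nat.card ↥(commutator ↥M) = Nat.card ↥⁅M, M⁆ := by
      rw [← Subgroup.map_subtype_commutator,
        Subgroup.card_map_of_injective M.subtype_injective]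
    have h1 : T.subgroupOf M ≤ commutator ↥M := by
      apply Cfsg.Agent.Lib.Helper34.le_commutator_of_forall_cyclic
      intro p hp hpd
      have hpt : p = t := by
        obtain ⟨k, hk⟩ := IsPGroup.iff_card.mp (hT.comap_subtype (K := M))
        have hk' : Nat.card ↥(T.subgroupOf M) = t ^ k := hk
        rw [hk'] at hpd
        exact (Nat.prime_dvd_prime_iff_eq hp.out ht.out).mp (hp.out.dvd_of_dvd_pow hpd)
      subst hpt
      refine ⟨fun P => ?_, ?_⟩
      · exact Cfsg.Agent.Lib.Helper34.isCyclic_sylow_of_pRankLE_one hodd (le_refl M) hr1 P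
      · rw [hcardM']
        exact hd
    intro x hx
    have h2 : (⟨x, hTM hx⟩ : ↥M) ∈ commutator ↥M := h1 (Subgroup.mem_subgroupOf.mpr hx)
    rw [← Subgroup.map_subtype_commutator]
    exact ⟨_, h2, rfl⟩
  exact ⟨ht.out, htσ, htM, htM', hr1⟩


/-- A subgroup `V` not contained in `K` has an element of prime power order outside `K`. -/
theorem exists_prime_pow_orderOf_not_mem {V K : Subgroup G} (hVK : ¬ V ≤ K) :
    ∃ (t : ℕ) (k : ℕ) (v : G), t.Prime ∧ v ∈ V ∧ v ∉ K ∧ orderOf v = t ^ k := by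
  by_contra hcon
  push Not at hcon
  apply hVK
  have key : ∀ n : ℕ, ∀ v ∈ V, orderOf v = n → v ∈ K := by
    intro n
    induction n using Nat.recOnPosPrimePosCoprime with
    | prime_pow t k ht _ =>
      intro v hv ho
      by_contra hvK
      exact hcon t k v ht hv hvK ho
    | zero =>
      intro v _ ho
      exact absurd ho (orderOf_pos v).ne'
    | one =>
      intro v _ ho
      rw [orderOf_eq_one_iff.mp ho]
      exact K.one_mem
    | coprime a b ha hb hab iha ihb =>
      intro v hv ho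
      have h1 : orderOf (v ^ a) = b := by
        rw [orderOf_pow' v (by omega), ho, Nat.gcd_eq_right (dvd_mul_right a b),
          Nat.mul_div_cancel_left b (by omega)]
      have h2 : orderOf (v ^ b) = a := by
        rw [orderOf_pow' v (by omega), ho, Nat.gcd_eq_right (dvd_mul_left b a),
          Nat.mul_div_cancel a (by omega)]
      have hva := ihb (v ^ a) (V.pow_mem hv a) h1
      have hvb := iha (v ^ b) (V.pow_mem hv b) h2
      have hbez : (a : ℤ) * Nat.gcdA a b + (b : ℤ) * Nat.gcdB a b = 1 := by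
        have := Nat.gcd_eq_gcd_ab a b
        rw [hab] at this
        exact_mod_cast this.symm
      have : v = (v ^ a) ^ (Nat.gcdA a b) * (v ^ b) ^ (Nat.gcdB a b) := by
        rw [← zpow_natCast v a, ← zpow_natCast v b, ← zpow_mul, ← zpow_mul, ← zpow_add, hbez,
          zpow_one]
      rw [this]
      exact K.mul_mem (K.zpow_mem hva _) (K.zpow_mem hvb _)
  intro v hv
  exact key _ v hv rfl

/-- **Bender–Glauberman Theorem 13.9** (`σ(M) ∩ σ(L) = ∅` for non-conjugate maximal subgroups), from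
the special case (AS) of Lemma 13.8, the uniqueness clause of Lemma 13.6, S1411 and S1417(a). -/
theorem sigmaDisjoint_of (hG : IsMinSimpleOddOrder G) (hU : UniquenessThm G) (h1411 : H1411 G)
    (h1417 : H1417a G) (h136 : CentTau1Uniq G) (hAS : AsymSpecial G) :
    Cfsg.Agent.Lib.Helper54.SigmaDisjoint G := by
  intro M L₀ hM hL₀ hnc₀ q hqM hqL₀
  have hs : IsSimpleGroup G := hG.2.1
  have hq : Fact q.Prime := ⟨hqM.1⟩
  -- Sylow subgroups of `G` in `M` and `L₀` with normalizers inside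
  obtain ⟨_, _, PM, -⟩ := id hqM
  obtain ⟨hNM, S, hS⟩ := Cfsg.Agent.Lib.Helper68.sylow_of_mem_sigma hqM PM
  rw [← hS] at hNM
  obtain ⟨_, _, PL, -⟩ := id hqL₀
  obtain ⟨hNL₀, S₀, hS₀⟩ := Cfsg.Agent.Lib.Helper68.sylow_of_mem_sigma hqL₀ PL
  rw [← hS₀] at hNL₀
  obtain ⟨g, hg⟩ := MulAction.exists_smul_eq G S₀ S
  -- replace `L₀` by the conjugate `L` containing `N_G(S)`
  set L : Subgroup G := MulAut.conj g • L₀ with hLdef
  have hL : IsCoatom L := Cfsg.Agent.Lib.Helper54.isCoatom_conj_smul hL₀ g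
  have hqL : q ∈ sigma L := Cfsg.Agent.Lib.Helper24.mem_sigma_conj_smul hqL₀ g
  have hNL : Subgroup.normalizer ((S : Subgroup G) : Set G) ≤ L := by
    rw [← hg, Sylow.coe_subgroup_smul, Cfsg.Agent.Lib.Helper54.normalizer_conj_smul]
    exact Cfsg.Agent.Lib.Helper54.conj_smul_le_conj_smul hNL₀
  have hncL : ∀ g' : G, L.map (MulAut.conj g').toMonoidHom ≠ M := by
    intro g' h
    apply hnc₀ (g' * g)
    rw [← h, hLdef]
    show L₀.map (MulAut.conj (g' * g)).toMonoidHom = MulAut.conj g' • (MulAut.conj g • L₀)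
    rw [← mul_smul, ← map_mul]
    rfl
  have hncML : ∀ g' : G, MulAut.conj g' • M ≠ L := by
    intro g' h
    apply hncL g'⁻¹
    rw [← h]
    show MulAut.conj g'⁻¹ • (MulAut.conj g' • M) = M
    rw [← mul_smul, ← map_mul, inv_mul_cancel, map_one, one_smul]
  have hncLM : ∀ g' : G, MulAut.conj g' • L ≠ M := fun g' h => hncL g' h
  have hneML : M ≠ L := by
    intro h
    apply hncML 1
    rw [map_one, one_smul]
    exact h
  have hSM : (S : Subgroup G) ≤ M := Subgroup.le_normalizer.trans hNM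
  have hSL : (S : Subgroup G) ≤ L := Subgroup.le_normalizer.trans hNL
  -- a complement `V` of `S` in `N_G(S)`; `S = [S, V]`
  obtain ⟨V, hV⟩ := Cfsg.Agent.Lib.Helper68.exists_isComplIn_sylow_normalizer S
  have hSV := (h1411 q S V hV).1
  have hS1 : (S : Subgroup G) ≠ ⊥ := by
    intro h
    have h1 : q ∣ Nat.card (S : Subgroup G) := by
      have : q ∣ Nat.card G := hqM.2.1.trans (Subgroup.card_subgroup_dvd_card M)
      exact S.dvd_card_of_dvd_card this
    rw [h, Subgroup.card_bot] at h1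
    exact hq.out.one_lt.ne' (Nat.dvd_one.mp h1)
  have hVC : ¬ V ≤ Subgroup.centralizer ((S : Subgroup G) : Set G) := by
    intro h
    apply hS1
    rw [hSV, Subgroup.commutator_eq_bot_iff_le_centralizer]
    intro s hs
    rw [Subgroup.mem_centralizer_iff]
    intro v hv
    exact ((Subgroup.mem_centralizer_iff.mp (h hv)) s hs).symm
  obtain ⟨t, k, v, htp, hvV, hvC, hov⟩ := exists_prime_pow_orderOf_not_mem hVC
  have ht : Fact t.Prime := ⟨htp⟩
  set T : Subgroup G := Subgroup.zpowers v with hTdef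
  have hT : IsPGroup t T := by
    rw [IsPGroup.iff_card]
    exact ⟨k, by rw [hTdef, Nat.card_zpowers, hov]⟩
  have hvT : v ∈ T := Subgroup.mem_zpowers v
  have hTN : T ≤ Subgroup.normalizer ((S : Subgroup G) : Set G) := by
    rw [hTdef, Subgroup.zpowers_le]
    exact hV.2.1 hvV
  have hTS : ¬ T ≤ Subgroup.centralizer ((S : Subgroup G) : Set G) := fun h => hvC (h hvT)
  have hqt : q ≠ t := by
    rintro rfl
    apply hvC
    have h1 : T ≤ (S : Subgroup G) := by
      rw [← hT.sylow_mem_fixedPoints_iff, Subgroup.sylow_mem_fixedPoints_iff]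
      exact hTN
    have h2 : v ∈ (S : Subgroup G) ⊓ V := ⟨h1 hvT, hvV⟩
    rw [hV.2.2.1, Subgroup.mem_bot] at h2
    rw [h2]
    exact Subgroup.one_mem _
  -- `t ∈ τ₁(M) ∩ τ₁(L)`
  have htM : t ∈ tau1 M :=
    mem_tau1_of_not_le_centralizer hG hU h1411 h1417 M L hM hL hncML hqM hqL S hNM hqt hT hTN hTS
  have htL : t ∈ tau1 L :=
    mem_tau1_of_not_le_centralizer hG hU h1411 h1417 L M hL hM hncLM hqL hqM S hNL hqt hT hTN hTS
  -- a subgroup `P ≤ T` of order `t`
  have hT1 : T ≠ ⊥ := by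
    rintro h
    exact hTS (h ▸ bot_le)
  obtain ⟨x, hx⟩ := exists_prime_orderOf_dvd_card' (G := ↥T) t
    (Cfsg.Agent.Lib.Helper34.dvd_card_of_isPGroup_ne_bot hT hT1)
  set P : Subgroup G := Subgroup.zpowers (x : G) with hPdef
  have hPcard : Nat.card P = t := by rw [hPdef, Nat.card_zpowers, Subgroup.orderOf_coe, hx]
  have hPT : P ≤ T := by
    rw [hPdef, Subgroup.zpowers_le]
    exact x.2
  have hPN : P ≤ Subgroup.normalizer ((S : Subgroup G) : Set G) := hPT.trans hTN
  -- `C_S(P) = 1` by 13.6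
  have hfix : Subgroup.centralizer (P : Set G) ⊓ (S : Subgroup G) = ⊥ := by
    by_contra hne
    have hCq : IsPGroup q ↥(Subgroup.centralizer (P : Set G) ⊓ (S : Subgroup G)) :=
      S.isPGroup'.to_le inf_le_right
    obtain ⟨y, hy⟩ := exists_prime_orderOf_dvd_card'
      (G := ↥(Subgroup.centralizer (P : Set G) ⊓ (S : Subgroup G))) q
      (Cfsg.Agent.Lib.Helper34.dvd_card_of_isPGroup_ne_bot hCq hne)
    set X : Subgroup G := Subgroup.zpowers (y : G) with hXdef
    have hXcard : Nat.card X = q := by rw [hXdef, Nat.card_zpowers, Subgroup.orderOf_coe, hy]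
    have hXCS : X ≤ Subgroup.centralizer (P : Set G) ⊓ (S : Subgroup G) := by
      rw [hXdef, Subgroup.zpowers_le]
      exact y.2
    have hXq : ∀ r : ℕ, r.Prime → r ∣ Nat.card X → r = q := by
      intro r hr hrd
      rw [hXcard] at hrd
      exact (Nat.prime_dvd_prime_iff_eq hr hq.out).mp hrd
    have hy1 : (y : G) ≠ 1 := by
      intro h
      have : orderOf (y : G) = 1 := by rw [h, orderOf_one]
      rw [Subgroup.orderOf_coe, hy] at this
      exact hq.out.one_lt.ne' this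
    -- uniqueness for `M` and for `L`
    have huniq : ∀ (K : Subgroup G), IsCoatom K → q ∈ sigma K → t ∈ tau1 K → (S : Subgroup G) ≤ K →
        Subgroup.normalizer ((S : Subgroup G) : Set G) ≤ K →
        ∀ L' : Subgroup G, IsCoatom L' → Subgroup.centralizer (X : Set G) ≤ L' → L' = K := by
      intro K hK hqK htK hSK hNK
      have hKs : Group.IsSolvable ↥K := hG.2.2.2 K hK.1
      have hHall := (Cfsg.Agent.Lib.Helper54.sigmaCore_hall_of hG hU K hK).1
      have hPK : P ≤ K := hPN.trans hNK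
      obtain ⟨E, hE, hPE⟩ := Cfsg.Agent.Lib.Helper97.BGTwelve.exists_complIn_ge hKs hHall hPK (by
        intro r hr hrd
        rw [hPcard] at hrd
        have := (Nat.prime_dvd_prime_iff_eq hr ht.out).mp hrd
        rw [this]
        exact htK.2.1)
      have hXσ : X ≤ sigmaCore K := by
        apply Cfsg.Agent.Lib.Helper54.le_sigmaCore_of_isPi hG hU K hK
          ((hXCS.trans inf_le_right).trans hSK)
        intro r hr hrd
        rw [hXq r hr hrd]
        exact hqK
      exact h136 K hK E hE t htK P hPE hPcard X (le_inf hXσ (hXCS.trans inf_le_left))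
        (by rw [hXcard]; exact hq.out)
    have hCX : Subgroup.centralizer (X : Set G) ≠ ⊤ := by
      intro h
      apply Cfsg.Agent.Lib.Helper54.centralizer_singleton_ne_top hs hG.2.2.1 hy1
      rw [eq_top_iff]
      intro z _
      rw [Subgroup.mem_centralizer_iff]
      intro w hw
      rw [Set.mem_singleton_iff] at hw
      subst hw
      have hz : z ∈ Subgroup.centralizer (X : Set G) := by rw [h]; exact Subgroup.mem_top z
      exact ((Subgroup.mem_centralizer_iff.mp hz) (y : G) (Subgroup.mem_zpowers _))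
    obtain ⟨L', hL', hCL'⟩ := Cfsg.Agent.Lib.Helper54.exists_isCoatom_ge hCX
    have e1 := huniq M hM hqM htM hSM hNM L' hL' hCL'
    have e2 := huniq L hL hqL htL hSL hNL L' hL' hCL'
    exact hneML (e1.symm.trans e2)
  exact hAS M L hM hL hncL q S (le_inf hNM hNL) t htM htL P hPN hPcard hfix


/-- Every prime divisor of `|G|` lies in `σ(M)` for some maximal subgroup `M` (any `M` over the
normalizer of a Sylow subgroup). -/
theorem exists_mem_sigma (hG : IsMinSimpleOddOrder G) (p : ℕ) (hp : p.Prime)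
    (hpd : p ∣ Nat.card G) : ∃ M : Subgroup G, IsCoatom M ∧ p ∈ sigma M := by
  have hs : IsSimpleGroup G := hG.2.1
  have : Fact p.Prime := ⟨hp⟩
  obtain ⟨P⟩ : Nonempty (Sylow p G) := inferInstance
  have hPd : p ∣ Nat.card (P : Subgroup G) := P.dvd_card_of_dvd_card hpd
  have hP1 : (P : Subgroup G) ≠ ⊥ := by
    intro h
    rw [h, Subgroup.card_bot] at hPd
    exact hp.one_lt.ne' (Nat.dvd_one.mp hPd)
  have hN : Subgroup.normalizer ((P : Subgroup G) : Set G) ≠ ⊤ := by
    intro h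
    have hn : (P : Subgroup G).Normal := Subgroup.normalizer_eq_top_iff.mp h
    rcases hn.eq_bot_or_eq_top with h1 | h1
    · exact hP1 h1
    · -- `G` would be a `p`-group, hence nilpotent, hence (simple) commutative
      have hpg : IsPGroup p G := by
        intro x
        obtain ⟨k, hk⟩ := P.isPGroup' ⟨x, by rw [h1]; exact Subgroup.mem_top x⟩
        exact ⟨k, by simpa using congrArg Subtype.val hk⟩
      haveI hnil : Group.IsNilpotent G := hpg.isNilpotent
      have hsol : Group.IsSolvable G := inferInstance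
      exact hG.2.2.1 ⟨⟨IsSimpleGroup.comm_iff_isSolvable.mpr hsol⟩⟩
  obtain ⟨M, hM, hNM⟩ := Cfsg.Agent.Lib.Helper54.exists_isCoatom_ge hN
  have hPM : (P : Subgroup G) ≤ M := Subgroup.le_normalizer.trans hNM
  refine ⟨M, hM, hp, hPd.trans (Subgroup.card_dvd_of_le hPM), P.subtype hPM, ?_⟩
  rw [Sylow.coe_subtype, Subgroup.map_subgroupOf_eq_of_le hPM]
  exact hNM

/-- The statement of S1378 from `sigmaDisjoint_of`. -/
theorem s1378_of (hG : IsMinSimpleOddOrder G) (hU : UniquenessThm G) (h1411 : H1411 G)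
    (h1417 : H1417a G) (h136 : CentTau1Uniq G) (hAS : AsymSpecial G) :
    (∀ p : ℕ, p.Prime → p ∣ Nat.card G → ∃ M : Subgroup G, IsCoatom M ∧ p ∈ sigma M) ∧
      ∀ M N : Subgroup G, IsCoatom M → IsCoatom N → (sigma M ∩ sigma N).Nonempty →
        ∃ g : G, N = M.map (MulAut.conj g).toMonoidHom := by
  refine ⟨exists_mem_sigma hG, ?_⟩
  intro M N hM hN ⟨q, hqM, hqN⟩
  by_contra hcon
  push Not at hcon
  have hdis := sigmaDisjoint_of hG hU h1411 h1417 h136 hAS
  refine hdis M N hM hN ?_ q hqM hqN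
  intro g h
  apply hcon g⁻¹
  rw [← h]
  exact (Cfsg.Agent.Lib.Helper34.map_conj_inv_map_conj N g).symm

end

end Cfsg.Agent.Lib.Helper34.SigmaPartition
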