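import Cfsg.Agent.S1351
import Cfsg.Agent.S1352
import Cfsg.Agent.S1434
import Cfsg.Agent.Lib.Helper68.BGKappaCyclicInst
import Cfsg.Agent.Lib.Helper21.BGFourteenSevenJ

/-!
# Bender–Glauberman Theorem 14.7(g): every maximal subgroup of type `𝒫` is conjugate to `M` or `M*`
(helper34)

`conj_of_kappa_nonempty` is the second clause of the frozen statement S1369, unconditionally: for a
maximal subgroup `M` with `σ`-decomposition `M = K U M_σ`, `K ≠ 1`, and partner `M*`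
(`K = C_{M*_σ}(K*)`, `K*` a Hall `κ(M*)`-subgroup of `M*`), every maximal subgroup `H` with
`κ(H) ≠ ∅` is conjugate to `M` or to `M*`.

Proof (B&G p. 112): `H` has a cyclic Hall `κ(H)`-subgroup `K_H ≠ 1` (S1351), a `σ`-decomposition
(S1352) and a partner `H*` (helper21, `exists_partner'`).  By S1434 (14.7(e)) the class supports of
`Ẑ = Z - (K ∪ K*)` and of `Ẑ_H` both have more than `|G|/2` elements, so they meet: `z = c w c⁻¹`
with `z ∈ Ẑ`, `w ∈ Ẑ_H`.  By S1434 (14.7(d)) `C_G(z) = Z` and `C_G(w) = Z_H`, so `Z = c Z_H c⁻¹`.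
For `y ∈ K_H*` of prime order, `y' = c y c⁻¹` lies in `K*` or in `K`, and
`C_G(y') ≤ c H c⁻¹`; by B&G 13.6 (`KstarCentUniq`) `c H c⁻¹ = M` resp. `M*`.
-/

set_option autoImplicit false

namespace Cfsg.Agent.Lib.Helper34.CliqueConj

open Cfsg Cfsg.Agent.Lib.Helper54 Cfsg.Agent.Lib.Helper21
open scoped Pointwise

/-- Two subsets of a finite type, each with more than half of the elements, meet. -/
theorem exists_mem_inter_of_card_lt {α : Type*} [Finite α] (S T : Set α)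
    (hS : Nat.card α < 2 * S.ncard) (hT : Nat.card α < 2 * T.ncard) : ∃ t, t ∈ S ∧ t ∈ T := by
  by_contra hcon
  push Not at hcon
  have hdisj : Disjoint S T := Set.disjoint_left.mpr hcon
  have h1 : (S ∪ T).ncard = S.ncard + T.ncard :=
    Set.ncard_union_eq hdisj (Set.toFinite S) (Set.toFinite T)
  have h2 : (S ∪ T).ncard ≤ Nat.card α := by
    rw [← Set.ncard_univ]
    exact Set.ncard_le_ncard (Set.subset_univ _) (Set.toFinite _)
  omega

variable {G : Type*} [Group G]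

/-- `C_G(c w c⁻¹) = c C_G(w) c⁻¹`, elementwise. -/
theorem mem_centralizer_conj_iff (c w u : G) :
    u ∈ Subgroup.centralizer ({c * w * c⁻¹} : Set G) ↔
      c⁻¹ * u * c ∈ Subgroup.centralizer ({w} : Set G) := by
  rw [Subgroup.mem_centralizer_iff, Subgroup.mem_centralizer_iff]
  constructor
  · intro h x hx
    rw [Set.mem_singleton_iff] at hx
    subst hx
    have h1 := h (c * x * c⁻¹) (Set.mem_singleton _)
    calc x * (c⁻¹ * u * c) = c⁻¹ * (c * x * c⁻¹ * u) * c := by group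
      _ = c⁻¹ * (u * (c * x * c⁻¹)) * c := by rw [h1]
      _ = c⁻¹ * u * c * x := by group
  · intro h x hx
    rw [Set.mem_singleton_iff] at hx
    subst hx
    have h1 := h w (Set.mem_singleton _)
    calc c * w * c⁻¹ * u = c * (w * (c⁻¹ * u * c)) * c⁻¹ := by group
      _ = c * ((c⁻¹ * u * c) * w) * c⁻¹ := by rw [h1]
      _ = u * (c * w * c⁻¹) := by group

theorem eq_map_conj_inv_of_conj_smul_eq {H M : Subgroup G} {c : G}
    (h : MulAut.conj c • H = M) : H = M.map (MulAut.conj c⁻¹).toMonoidHom := by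
  ext x
  rw [Subgroup.mem_map]
  constructor
  · intro hx
    refine ⟨c * x * c⁻¹, ?_, ?_⟩
    · rw [← h, mem_conj_smul_iff]
      have : c⁻¹ * (c * x * c⁻¹) * c = x := by group
      rw [this]; exact hx
    · simp [mul_assoc]
  · rintro ⟨y, hy, rfl⟩
    rw [← h, mem_conj_smul_iff] at hy
    simpa [MulAut.conj_apply, mul_assoc] using hy

/-- A decomposition `z = x * y` of an element of `Z - (K ∪ K*)`. -/
theorem exists_mul_of_mem_diff {K A : Subgroup G} (hKA : ∀ k ∈ K, ∀ a ∈ A, k * a = a * k) {z : G}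
    (hz : z ∈ ((↑(K ⊔ A) : Set G) \ ((K : Set G) ∪ ↑A))) :
    ∃ x ∈ K, x ≠ 1 ∧ ∃ y ∈ A, y ≠ 1 ∧ z = x * y := by
  obtain ⟨x, hx, y, hy, rfl⟩ := exists_mul_of_mem_sup_of_commute hKA hz.1
  refine ⟨x, hx, ?_, y, hy, ?_, rfl⟩
  · rintro rfl
    apply hz.2
    right
    rw [one_mul]; exact hy
  · rintro rfl
    apply hz.2
    left
    rw [mul_one]; exact hx

/-- **B&G Theorem 14.7(g)** (second clause of S1369). -/
theorem conj_of_kappa_nonempty [Finite G] (hG : IsMinSimpleOddOrder G)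
    (M : Subgroup G) (hM : IsCoatom M) (K U : Subgroup G) (hKU : IsSigmaDecomposition M K U)
    (hK1 : K ≠ ⊥) (Mstar : Subgroup G) (hMstar : IsCoatom Mstar)
    (hKst : K = sigmaCore Mstar ⊓ Subgroup.centralizer
      ((sigmaCore M ⊓ Subgroup.centralizer (K : Set G) : Subgroup G) : Set G))
    (hKstH : IsPiHallOf (kappa Mstar) (sigmaCore M ⊓ Subgroup.centralizer (K : Set G)) Mstar)
    (H : Subgroup G) (hH : IsCoatom H) (hκ : (kappa H).Nonempty) :
    ∃ g : G, H = M.map (MulAut.conj g).toMonoidHom ∨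
      H = Mstar.map (MulAut.conj g).toMonoidHom := by
  classical
  have h30 := Cfsg.Agent.Lib.Helper68.KappaCyclic.stmt1430_result hG
  have h31 := Cfsg.Agent.Lib.Helper68.KappaCyclic.stmt1431_result hG
  have h136 := Cfsg.Agent.Lib.Helper24.kstarCentUniq hG
  -- the Hall `κ(H)`-subgroup of `H`, its `σ`-decomposition and the partner of `H`
  obtain ⟨⟨KH, hKH⟩, hcycH⟩ := Cfsg.Agent.S1351.result hG H hH
  have hKH1 : KH ≠ ⊥ := by
    obtain ⟨p, hp⟩ := hκ
    intro h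
    have h1 := hKH.2.2 p hp.1 hp
    have h2 := Cfsg.Agent.Lib.Helper62.isPiHallOf_card_mul hKH
    rw [h, Subgroup.card_bot, one_mul] at h2
    rw [h] at h1
    rw [h2] at h1
    exact h1 hp.2.1
  obtain ⟨⟨UH, hKUH⟩, -⟩ := Cfsg.Agent.S1352.result hG H hH KH (hcycH KH hKH) hKH
  obtain ⟨Hs, hHs, hKHst, hKHstH⟩ :=
    exists_partner' hG h30 h31
      (fun M hM x hx hx1 x' hx' hx'1 h =>
        Cfsg.Agent.S1432.result hG M hM x hx hx1 x' hx' hx'1 h)
      h136
      (Cfsg.Agent.Lib.Helper68.BG13D.sigmaDisjoint_result hG)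
      (fun M hM p _ hp X hX hN => Cfsg.Agent.S1409.result hG M hM p hp X hX hN)
      (fun M hM p _ A hA => (Cfsg.Agent.S1416.result hG M hM p A hA).1)
      (fun M hM p _ hp A hA => Cfsg.Agent.S1417.result hG M hM p hp A hA)
      (fun M hM q _ hq X hX hX1 hXM Ms hMs hne hN S hS =>
        Cfsg.Agent.S1424.result hG M hM q hq X hX hX1 hXM Ms hMs hne hN S hS)
      (fun L hL => Cfsg.Agent.S1377.result hG L hL)
      (Cfsg.Agent.Lib.Helper68.KappaCyclic.tilde_disjoint_result hG)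
      (Cfsg.Agent.Lib.Helper68.KappaCyclic.stmt1429_result hG) hH hKH hKH1
  -- 14.7(d),(e) for `M` and for `H`
  obtain ⟨-, -, hdM, -, -, hcM⟩ :=
    Cfsg.Agent.S1434.result hG M hM K U hKU hK1 Mstar hMstar hKst hKstH
  obtain ⟨-, -, hdH, -, -, hcH⟩ :=
    Cfsg.Agent.S1434.result hG H hH KH UH hKUH hKH1 Hs hHs hKHst hKHstH
  set A : Subgroup G := sigmaCore M ⊓ Subgroup.centralizer (K : Set G) with hA_def
  set AH : Subgroup G := sigmaCore H ⊓ Subgroup.centralizer (KH : Set G) with hAH_def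
  have hm : IsMemberWith (K ⊔ A) M K := ⟨hM, hKU.hall, hK1, rfl⟩
  have hA1 : A ≠ ⊥ := kstar_ne_bot hG h30 hM hKU.hall hK1
  have hms : IsMemberWith (K ⊔ A) Mstar A := by
    refine ⟨hMstar, hKstH, hA1, ?_⟩
    rw [← hKst]
    exact sup_comm _ _
  have hmH : IsMemberWith (KH ⊔ AH) H KH := ⟨hH, hKH, hKH1, rfl⟩
  have hAH1 : AH ≠ ⊥ := kstar_ne_bot hG h30 hH hKH hKH1
  -- the class supports meet
  obtain ⟨t, ⟨g, z, hz, htz⟩, ⟨h, w, hw, htw⟩⟩ := exists_mem_inter_of_card_lt _ _ hcM hcH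
  obtain ⟨x, hx, hx1, y, hy, hy1, hzxy⟩ := exists_mul_of_mem_diff hm.commute hz
  obtain ⟨xH, hxH, hxH1, yH, hyH, hyH1, hwxy⟩ := exists_mul_of_mem_diff hmH.commute hw
  have hCz : Subgroup.centralizer ({z} : Set G) = K ⊔ A := by
    rw [hzxy]; exact (hdM x hx hx1 y hy hy1).2.2
  have hCw : Subgroup.centralizer ({w} : Set G) = KH ⊔ AH := by
    rw [hwxy]; exact (hdH xH hxH hxH1 yH hyH hyH1).2.2
  set c : G := g⁻¹ * h with hc_def
  have hzw : z = c * w * c⁻¹ := by
    have h1 : g * z * g⁻¹ = h * w * h⁻¹ := htz.symm.trans htw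
    calc z = g⁻¹ * (g * z * g⁻¹) * g := by group
      _ = g⁻¹ * (h * w * h⁻¹) * g := by rw [h1]
      _ = c * w * c⁻¹ := by rw [hc_def]; group
  -- an element of prime order of `K_H*`
  obtain ⟨q, hq, y₀, hy₀A, hy₀⟩ := exists_prime_orderOf_mem hAH1
  have hy₀1 : y₀ ≠ 1 := ne_one_of_orderOf_prime hq hy₀
  have hy'Z : c * y₀ * c⁻¹ ∈ K ⊔ A := by
    rw [← hCz, hzw, mem_centralizer_conj_iff]
    have e : c⁻¹ * (c * y₀ * c⁻¹) * c = y₀ := by group
    rw [e, hCw]
    exact hmH.kstar_le hy₀A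
  have hy'o : orderOf (c * y₀ * c⁻¹) = q := by rw [orderOf_conj_eq, hy₀]
  have hle : Subgroup.centralizer ({c * y₀ * c⁻¹} : Set G) ≤ MulAut.conj c • H :=
    centralizer_singleton_conj_le (hmH.centralizer_le hG h136 hy₀A hy₀1)
  have hcH' : IsCoatom (MulAut.conj c • H) := isCoatom_conj_smul hH c
  refine ⟨c⁻¹, ?_⟩
  by_cases hqK : q ∣ Nat.card K
  · right
    have hy'K : c * y₀ * c⁻¹ ∈ K := by
      apply hm.mem_k_of_coprime hG hy'Z
      rw [hy'o]
      exact Nat.Coprime.coprime_dvd_left hqK (hm.coprime hG)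
    have hy'K' : c * y₀ * c⁻¹ ∈ sigmaCore Mstar ⊓ Subgroup.centralizer (A : Set G) := by
      rw [← hKst]; exact hy'K
    exact eq_map_conj_inv_of_conj_smul_eq
      (hms.eq_of_centralizer_le h136 hy'K' hq hy'o hcH' hle)
  · left
    have hy'A : c * y₀ * c⁻¹ ∈ A := by
      apply hm.mem_kstar_of_coprime hG hy'Z
      rw [hy'o]
      exact (Nat.Prime.coprime_iff_not_dvd hq).mpr hqK
    exact eq_map_conj_inv_of_conj_smul_eq
      (hm.eq_of_centralizer_le h136 hy'A hq hy'o hcH' hle)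

end Cfsg.Agent.Lib.Helper34.CliqueConj
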