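import Mathlib
import Cfsg.Agent.S1354
import Cfsg.Agent.S1418
import Cfsg.Agent.S1419
import Cfsg.Agent.S1420
import Cfsg.Agent.Lib.Helper22.BGFifteenNineA
import Cfsg.Agent.Lib.Helper22.BGFourteenFourA
import Cfsg.Agent.Lib.Helper50.BGLin
import Cfsg.Agent.Lib.Helper52.NilpSub
import Cfsg.Agent.Lib.Helper54.BGFifteenS2D
import Cfsg.Agent.Lib.Helper68.BGThirteenD8
import Cfsg.Agent.Lib.Helper97.BGTwelveCor

/-!
# B&G Corollary 15.9 (S1376), module [S2] of helper22's plan (helper34)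

`false_of_elemAb_normalized`: in the configuration `Ctx M N Nstar K U x p t`, there is no
elementary abelian `s`-subgroup `B ≤ M ∩ N*` of order `s ^ 2` (`s ∈ τ₂(M)`, `s ≠ t`) normalized by
`K* = N_σ ∩ C(K)`.

The case of nonabelian Sylow `p`-subgroups is reduced to the landed B&G 12.5/12.6 (S1418, S1419)
applied to `N` and its complement `M ∩ N`.
-/

set_option autoImplicit false
set_option linter.unusedVariables false
set_option linter.unusedSectionVars false
set_option linter.style.haveILetI false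

namespace Cfsg.Agent.Lib.Helper34.BGFifteenNineS2

open scoped Pointwise
open Cfsg
open Cfsg.Agent.Lib.Helper22.BGFifteenNine
open Cfsg.Agent.Lib.Helper54

universe u

variable {G : Type u} [Group G] [Finite G]

/-! ### Generic lemmas -/

/-- if `k` normalizes `U` and `u ∈ U` then `(k u)^n ∈ k^n U` -/
theorem exists_mul_pow_eq {U : Subgroup G} {k u : G}
    (hk : k ∈ Subgroup.normalizer (U : Set G)) (hu : u ∈ U) (n : ℕ) :
    ∃ u' ∈ U, (k * u) ^ n = k ^ n * u' := by
  induction n with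
  | zero => exact ⟨1, U.one_mem, by simp⟩
  | succ n ih =>
    obtain ⟨u', hu', h⟩ := ih
    have hk' : k⁻¹ ∈ Subgroup.normalizer (U : Set G) := inv_mem hk
    have h1 : k⁻¹ * u' * k ∈ U := by
      have := (Subgroup.mem_normalizer_iff.mp hk' u').mp hu'
      simpa using this
    refine ⟨k⁻¹ * u' * k * u, U.mul_mem h1 hu, ?_⟩
    rw [pow_succ, h, pow_succ]
    group

/-- an element whose `s`-th and `t`-th powers are trivial (`s ≠ t` primes) is trivial -/
theorem eq_one_of_pow_eq_one_of_pow_eq_one {s t : ℕ} (hs : s.Prime) (ht : t.Prime) (hst : s ≠ t)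
    {k : G} (h1 : k ^ s = 1) (h2 : k ^ t = 1) : k = 1 := by
  have hd1 := orderOf_dvd_of_pow_eq_one h1
  have hd2 := orderOf_dvd_of_pow_eq_one h2
  have hcop : Nat.Coprime s t := (Nat.coprime_primes hs ht).mpr hst
  have : orderOf k = 1 := Nat.eq_one_of_dvd_coprimes hcop hd1 hd2
  exact orderOf_eq_one_iff.mp this

/-- if conjugation by `b` maps `x` into `zpowers x` then `b` normalizes `zpowers x` -/
theorem mem_normalizer_zpowers_of_conj_mem {b x : G}
    (h : b * x * b⁻¹ ∈ Subgroup.zpowers x) :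
    b ∈ Subgroup.normalizer ((Subgroup.zpowers x : Subgroup G) : Set G) := by
  have hle : ∀ y ∈ Subgroup.zpowers x, b * y * b⁻¹ ∈ Subgroup.zpowers x := by
    intro y hy
    obtain ⟨n, rfl⟩ := Subgroup.mem_zpowers_iff.mp hy
    have : b * x ^ n * b⁻¹ = (b * x * b⁻¹) ^ n := by
      rw [conj_zpow]
    rw [this]
    exact Subgroup.zpow_mem _ h n
  -- conjugation by `b` is an injective self-map of the finite set `zpowers x`
  let f : Subgroup.zpowers x → Subgroup.zpowers x := fun y => ⟨b * y * b⁻¹, hle y y.2⟩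
  have hinj : Function.Injective f := by
    intro y z hyz
    have := congrArg Subtype.val hyz
    simp only [f] at this
    apply Subtype.ext
    have h2 : b * (y : G) = b * (z : G) := mul_right_cancel this
    exact mul_left_cancel h2
  have hsurj : Function.Surjective f := Finite.surjective_of_injective hinj
  rw [Subgroup.mem_normalizer_iff]
  intro y
  constructor
  · exact hle y
  · intro hy
    obtain ⟨w, hw⟩ := hsurj ⟨b * y * b⁻¹, hy⟩
    have := congrArg Subtype.val hw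
    simp only [f] at this
    have h2 : b * (w : G) = b * y := mul_right_cancel this
    have h3 : (w : G) = y := mul_left_cancel h2
    rw [← h3]
    exact w.2

/-! ### Consequences of `Ctx` -/

section CtxFacts

open Cfsg.Agent.Lib.Helper22.BGFourteenFour

variable {M N Nstar K U : Subgroup G} {x : G} {p t : ℕ}

/-- step (0): `B ∩ N = 1` -/
theorem inf_N_eq_bot (h : Ctx M N Nstar K U x p t) {s : ℕ} (hs : s.Prime) (hst : s ≠ t)
    {B : Subgroup G} (hBE : B ≤ M ⊓ Nstar) (hBexp : ∀ b ∈ B, b ^ s = 1) : B ⊓ N = ⊥ := by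
  rw [eq_bot_iff]
  rintro b ⟨hbB, hbN⟩
  have hbE := hBE hbB
  have hbNM : b ∈ N ⊓ M := ⟨hbN, hbE.1⟩
  rw [h.hNM, sup_comm] at hbNM
  obtain ⟨k, hk, u, hu, hb⟩ :=
    Cfsg.Agent.Lib.Helper23.exists_mul_of_mem_sup_h23 h.hKU.normal hbNM
  obtain ⟨u', hu', hpow⟩ := exists_mul_pow_eq (h.hKU.normal hk) hu s
  rw [← hb, hBexp _ hbB] at hpow
  have hks : k ^ s ∈ U ⊓ K := by
    refine ⟨?_, K.pow_mem hk s⟩
    have : k ^ s = u'⁻¹ := eq_inv_of_mul_eq_one_left hpow.symm
    rw [this]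
    exact U.inv_mem hu'
  have hUK : U ⊓ K = ⊥ := by
    rw [eq_bot_iff, ← h.hKU.compl.2.2.1]
    exact inf_le_inf_left _ le_sup_left
  rw [hUK, Subgroup.mem_bot] at hks
  have hkt : k ^ t = 1 := by
    have h1 : (⟨k, hk⟩ : K) ^ Nat.card K = 1 := pow_card_eq_one'
    rw [h.hKt] at h1
    simpa using congrArg Subtype.val h1
  have hk1 : k = 1 := eq_one_of_pow_eq_one_of_pow_eq_one hs h.tp hst hks hkt
  rw [hk1, one_mul] at hb
  have h2 : b ∈ (M ⊓ Nstar) ⊓ sigmaCore M := ⟨hbE, by rw [hb]; exact h.hUσ hu⟩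
  rw [h.inf_sigmaCore] at h2
  exact h2

/-- step (α): no non-identity element of `B` normalizes `⟨x⟩` -/
theorem conj_not_mem_zpowers (h : Ctx M N Nstar K U x p t) {B : Subgroup G}
    (hBN : B ⊓ N = ⊥) : ∀ b ∈ B, b ≠ 1 → b * x * b⁻¹ ∉ Subgroup.zpowers x := by
  intro b hb hb1 hmem
  have h1 := h.hNx (mem_normalizer_zpowers_of_conj_mem hmem)
  have h2 : b ∈ B ⊓ N := ⟨hb, h1⟩
  rw [hBN, Subgroup.mem_bot] at h2
  exact hb1 h2

/-- the Sylow `p`-subgroup `P` of the nilpotent group `M_σ` -/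
theorem exists_P (h : Ctx M N Nstar K U x p t) :
    ∃ P : Subgroup G, P ≤ sigmaCore M ∧ IsPGroup p P ∧ x ∈ P ∧
      ∀ m ∈ M, ∀ y ∈ P, m * y * m⁻¹ ∈ P := by
  haveI : Fact p.Prime := ⟨h.pp⟩
  obtain ⟨P, hPle, hPp, hPmem⟩ :=
    Cfsg.Agent.Lib.Helper52.exists_pSubgroup_of_nilpotent (sigmaCore M) h.sigmaCore_nilpotent p
  refine ⟨P, hPle, hPp, hPmem x h.hxσ 1 (by rw [h.hxo, pow_one]), ?_⟩
  intro m hm y hy
  obtain ⟨k, hk⟩ := (IsPGroup.iff_orderOf.mp hPp) ⟨y, hy⟩
  rw [Subgroup.orderOf_mk] at hk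
  refine hPmem _ (Cfsg.Agent.Lib.Helper50.conj_mem_sigmaCore hm (hPle hy)) k ?_
  rw [← hk]
  have := orderOf_injective (MulAut.conj m).toMonoidHom (MulAut.conj m).injective y
  simpa using this

/-- `M ∩ N` is a complement of `N_σ` in `N` -/
theorem isComplIn_inf (h : Ctx M N Nstar K U x p t) : IsComplIn (M ⊓ N) (sigmaCore N) N := by
  refine ⟨inf_le_right, sigmaCore_le N, ?_, h.hfact⟩
  rw [eq_bot_iff, ← h.hNσM]
  rintro g ⟨⟨hgM, _⟩, hgσ⟩
  exact ⟨hgσ, hgM⟩

/-- an elementary abelian subgroup of order `p ^ 2` of `M ∩ N` -/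
theorem exists_elemAb (h : Ctx M N Nstar K U x p t) :
    ∃ A : Subgroup G, A ≤ M ⊓ N ∧ IsElementaryAbelian p A ∧ Nat.card A = p ^ 2 := by
  haveI : Fact p.Prime := ⟨h.pp⟩
  obtain ⟨A1, hA1N, hA1el, hA1c⟩ :=
    Cfsg.Agent.Lib.Helper97.BGTwelve.exists_elemAb_sq_of_not_pRankLE_one N h.hpτ.2.2.2
  let S0 : Sylow p ↥(M ⊓ N) := default
  have hidx := Cfsg.Agent.Lib.Helper68.BG13D.sylow_compl_relIndex (isComplIn_inf h) p h.hpτ.2.1 S0
  have hP1N : (S0 : Subgroup ↥(M ⊓ N)).map (M ⊓ N).subtype ≤ N :=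
    (Subgroup.map_subtype_le _).trans inf_le_right
  have hA1p : IsPGroup p A1 := by
    intro a
    refine ⟨1, ?_⟩
    rw [pow_one]
    exact Subtype.ext (by simpa using hA1el.2 a a.2)
  obtain ⟨n, hn, hle⟩ := exists_conj_le_of_not_dvd_relIndex hP1N (S0.isPGroup'.map _) hidx hA1N hA1p
  refine ⟨MulAut.conj n • A1, hle.trans (Subgroup.map_subtype_le _),
    isElementaryAbelian_conj_smul n hA1el, ?_⟩
  rw [Cfsg.Agent.Lib.Helper54.card_conj_smul, hA1c]

end CtxFacts

/-! ### `Ω₁` of an abelian subgroup -/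

/-- the elements of order dividing `p` of a subgroup `P` with commuting elements -/
def omega (P : Subgroup G) (hP : ∀ a ∈ P, ∀ b ∈ P, a * b = b * a) (p : ℕ) : Subgroup G where
  carrier := {a | a ∈ P ∧ a ^ p = 1}
  one_mem' := ⟨P.one_mem, one_pow _⟩
  mul_mem' := by
    rintro a b ⟨ha, ha'⟩ ⟨hb, hb'⟩
    refine ⟨P.mul_mem ha hb, ?_⟩
    rw [(show Commute a b from hP a ha b hb).mul_pow, ha', hb', one_mul]
  inv_mem' := by
    rintro a ⟨ha, ha'⟩
    exact ⟨P.inv_mem ha, by rw [inv_pow, ha', inv_one]⟩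

theorem mem_omega {P : Subgroup G} {hP : ∀ a ∈ P, ∀ b ∈ P, a * b = b * a} {p : ℕ} {a : G} :
    a ∈ omega P hP p ↔ a ∈ P ∧ a ^ p = 1 := Iff.rfl

section Cases

open Cfsg.Agent.Lib.Helper22.BGFourteenFour

variable {M N Nstar K U : Subgroup G} {x : G} {p t : ℕ}

/-- **Case [S2a]**: `P` abelian. -/
theorem false_of_abelian (h : Ctx M N Nstar K U x p t) {s : ℕ}
    (hs : s ∈ tau2 M) (hst : s ≠ t) (B : Subgroup G) (hBE : B ≤ M ⊓ Nstar)
    (hBel : IsElementaryAbelian s B) (hBc : Nat.card B = s ^ 2)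
    (P : Subgroup G) (hPle : P ≤ sigmaCore M) (hxP : x ∈ P)
    (hPM : ∀ m ∈ M, ∀ y ∈ P, m * y * m⁻¹ ∈ P)
    (hPab : ∀ a ∈ P, ∀ b ∈ P, a * b = b * a) : False := by
  haveI : Fact p.Prime := ⟨h.pp⟩
  haveI : Fact s.Prime := ⟨hs.1⟩
  have hps : p ≠ s := by
    intro hps
    exact hs.2.1 (hps ▸ h.p_mem_sigma)
  have hBN := inf_N_eq_bot h hs.1 hst hBE hBel.2
  have hα := conj_not_mem_zpowers h hBN
  have hPU : P ≤ U := by
    rw [← h.sigmaCore_inf_centralizer_x]
    intro y hy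
    exact ⟨hPle hy, Subgroup.mem_centralizer_singleton_iff.mpr (hPab y hy x hxP)⟩
  set A := omega P hPab p with hA
  have hAP : A ≤ P := fun a ha => ha.1
  have hAN : A ≤ N := hAP.trans (hPU.trans h.U_le_N)
  have hAab : ∀ a ∈ A, ∀ b ∈ A, a * b = b * a := fun a ha b hb => hPab a (hAP ha) b (hAP hb)
  have hAexp : ∀ a ∈ A, a ^ p = 1 := fun a ha => ha.2
  have hAcard : Nat.card A ≤ p ^ 2 := by
    by_contra hlt
    push Not at hlt
    exact Cfsg.Agent.Lib.Helper54.not_pRankLE_of_elemAb hAN hAab hAexp hlt h.hpτ.2.2.1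
  have hxA : x ∈ A := ⟨hxP, by rw [← h.hxo]; exact pow_orderOf_eq_one x⟩
  have hconj : ∀ m ∈ M, ∀ a ∈ A, m * a * m⁻¹ ∈ A := by
    intro m hm a ha
    refine ⟨hPM m hm a ha.1, ?_⟩
    rw [conj_pow, ha.2]
    group
  have hBA : B ≤ Subgroup.normalizer (A : Set G) := by
    intro b hb
    have hbM : b ∈ M := (hBE hb).1
    rw [Subgroup.mem_normalizer_iff]
    intro a
    constructor
    · exact hconj b hbM a
    · intro ha
      have := hconj b⁻¹ (M.inv_mem hbM) _ ha
      have e : b⁻¹ * (b * a * b⁻¹) * b⁻¹⁻¹ = a := by group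
      rwa [e] at this
  have hBab : ∀ a ∈ B, ∀ b ∈ B, a * b = b * a := by
    intro a ha b hb
    have := hBel.1.is_comm.comm ⟨a, ha⟩ ⟨b, hb⟩
    exact congrArg Subtype.val this
  obtain ⟨b, hb, hb1, hbx⟩ := Cfsg.Agent.Lib.Helper50.exists_normalizes_zpowers p s hps A B hBA
    hAab hAexp hAcard hBab hBel.2 hBc x hxA
  exact hα b hb hb1 hbx

/-- **Step (γ)** in the case of nonabelian Sylow `p`-subgroups, from the landed S1419 applied to
`N` and its complement `M ∩ N`: `x` centralizes `N_σ`. -/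
theorem sigmaCore_le_centralizer (hG : IsMinSimpleOddOrder G) (h : Ctx M N Nstar K U x p t)
    (hS : ∀ S : Sylow p G, ¬ IsMulCommutative (S : Subgroup G)) :
    sigmaCore N ≤ Subgroup.centralizer ({x} : Set G) := by
  haveI : Fact p.Prime := ⟨h.pp⟩
  obtain ⟨A, hAE, hAel, hAc⟩ := exists_elemAb h
  have hE := isComplIn_inf h
  have h19 := Cfsg.Agent.S1419.result hG N h.hN (M ⊓ N) hE p h.hpτ hS A ⟨hAE, hAel, hAc⟩
  have hXE : Subgroup.zpowers x ≤ M ⊓ N := by
    rw [Subgroup.zpowers_le]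
    exact ⟨sigmaCore_le M h.hxσ, h.hxN⟩
  have hXc : Nat.card (Subgroup.zpowers x) = p := by rw [Nat.card_zpowers, h.hxo]
  have hX : Subgroup.zpowers x = A ⊓ Subgroup.centralizer (sigmaCore N : Set G) := by
    by_contra hne
    obtain ⟨h1, _⟩ := h19.2.2 _ hXE hXc hne
    obtain ⟨r, hr, hr1⟩ := h.hr
    apply hr1
    have hr2 : r ∈ sigmaCore N ⊓
        Subgroup.centralizer ((Subgroup.zpowers x : Subgroup G) : Set G) := by
      refine ⟨hr.1, mem_centralizer_zpowers_of_commute ?_⟩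
      exact Subgroup.mem_centralizer_singleton_iff.mp hr.2
    rw [h1, Subgroup.mem_bot] at hr2
    exact hr2
  have hx : x ∈ Subgroup.centralizer (sigmaCore N : Set G) := by
    have : x ∈ Subgroup.zpowers x := Subgroup.mem_zpowers x
    rw [hX] at this
    exact this.2
  intro g hg
  rw [Subgroup.mem_centralizer_singleton_iff]
  exact (Subgroup.mem_centralizer_iff.mp hx) g hg

end Cases

/-! ### The module [S2] -/

section Main

open Cfsg.Agent.Lib.Helper22.BGFourteenFour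

/-- **Module [S2]** of B&G Corollary 15.9 (S1376). -/
theorem false_of_elemAb_normalized (hG : IsMinSimpleOddOrder G) {M N Nstar K U : Subgroup G}
    {x : G} {p t : ℕ} (h : Ctx M N Nstar K U x p t) {s : ℕ} (hs : s ∈ tau2 M) (hst : s ≠ t)
    (B : Subgroup G) (hBE : B ≤ M ⊓ Nstar) (hBel : IsElementaryAbelian s B)
    (hBc : Nat.card B = s ^ 2)
    (hKsB : sigmaCore N ⊓ Subgroup.centralizer (K : Set G) ≤ Subgroup.normalizer (B : Set G)) :
    False := by
  haveI : Fact p.Prime := ⟨h.pp⟩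
  obtain ⟨P, hPle, hPp, hxP, hPM⟩ := exists_P h
  by_cases hS : ∀ S : Sylow p G, ¬ IsMulCommutative (S : Subgroup G)
  · -- nonabelian Sylow `p`-subgroups
    have hγ := sigmaCore_le_centralizer hG h hS
    have hBN := inf_N_eq_bot h hs.1 hst hBE hBel.2
    have hα := conj_not_mem_zpowers h hBN
    have hB1 : B ≠ ⊥ := by
      intro hB
      rw [hB, Subgroup.card_bot] at hBc
      have := hs.1.one_lt
      have h2 : 1 < s ^ 2 := Nat.one_lt_pow (by norm_num) this
      omega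
    exact Cfsg.Agent.Lib.Helper54.false_of_sigmaCore_le_centralizer hG h B
      (hBE.trans inf_le_left) hB1 hKsB hα hγ
  · -- some Sylow `p`-subgroup is abelian, hence so is `P`
    push Not at hS
    obtain ⟨S, hSab⟩ := hS
    obtain ⟨Q, hQ⟩ := hPp.exists_le_sylow
    obtain ⟨g, hg⟩ := MulAction.exists_smul_eq G S Q
    have hPab : ∀ a ∈ P, ∀ b ∈ P, a * b = b * a := by
      intro a ha b hb
      have ha' : a ∈ ((g • S : Sylow p G) : Subgroup G) := by rw [hg]; exact hQ ha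
      have hb' : b ∈ ((g • S : Sylow p G) : Subgroup G) := by rw [hg]; exact hQ hb
      rw [Sylow.coe_subgroup_smul, mem_conj_smul_iff] at ha' hb'
      have h1 := hSab.is_comm.comm ⟨_, ha'⟩ ⟨_, hb'⟩
      have h2 : (g⁻¹ * a * g) * (g⁻¹ * b * g) = (g⁻¹ * b * g) * (g⁻¹ * a * g) :=
        congrArg Subtype.val h1
      have e1 : a * b = g * ((g⁻¹ * a * g) * (g⁻¹ * b * g)) * g⁻¹ := by group
      rw [e1, h2]
      group
    exact false_of_abelian h hs hst B hBE hBel hBc P hPle hxP hPM hPab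

end Main

end Cfsg.Agent.Lib.Helper34.BGFifteenNineS2
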