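import Mathlib
import Cfsg.Prelude.Def_Local
import Cfsg.Agent.Lib.Helper34.PComponent
import Cfsg.Agent.Lib.Helper34.NormalPComplement
import Cfsg.Agent.Lib.Helper22.Components

set_option autoImplicit false

/-!
Helper34 library: uniqueness of the `p`-component over a component of `X / O_{p'}(X)`.

* `opp p H`: the subgroup `O^{p'}(H)` generated by the `p`-elements of `H`, inside the ambient group.
* `opp_sup_eq_of_isSubnormal`: `O^{p'}(K O) = O^{p'}(K)` for `K` subnormal and `O` a normal `p'`-subgroup.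
* `eq_of_normal_of_relIndex_coprime_of_isPComponent`: a `p`-component has no proper normal subgroup
  of index prime to `p`.
* `opp_eq_self_of_isPComponent`, `isPComponent_eq_opp_comap`, `isPComponent_unique`.
* `comap_normalizer_map_le_normalizer_of_isPComponent`: whatever normalizes the image of a
  `p`-component `K` in `X / O_{p'}(X)` normalizes `K`.
-/

namespace Cfsg.Agent.Lib.Helper34

open Cfsg

variable {X : Type*} [Group X]

/-- `O^{p'}(H)` inside the ambient group: the subgroup generated by the `p`-elements of `H`. -/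
def opp (p : ℕ) (H : Subgroup X) : Subgroup X :=
  Subgroup.closure {g : X | g ∈ H ∧ ∃ k : ℕ, orderOf g = p ^ k}

theorem opp_le (p : ℕ) (H : Subgroup X) : opp p H ≤ H :=
  (Subgroup.closure_le _).mpr (fun _ hg => hg.1)

theorem opp_mono (p : ℕ) {H H' : Subgroup X} (h : H ≤ H') : opp p H ≤ opp p H' :=
  Subgroup.closure_mono (fun _ hg => ⟨h hg.1, hg.2⟩)

theorem opp_map_of_injective (p : ℕ) {Y : Type*} [Group Y] (f : X →* Y)
    (hf : Function.Injective f) (H : Subgroup X) : (opp p H).map f = opp p (H.map f) := by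
  unfold opp
  rw [MonoidHom.map_closure]
  congr 1
  ext z
  constructor
  · rintro ⟨g, ⟨hg, k, hk⟩, rfl⟩
    exact ⟨⟨g, hg, rfl⟩, k, by rw [orderOf_injective f hf, hk]⟩
  · rintro ⟨⟨g, hg, rfl⟩, k, hk⟩
    exact ⟨g, ⟨hg, k, by rw [← orderOf_injective f hf, hk]⟩, rfl⟩

theorem normalizer_le_normalizer_opp (p : ℕ) (H : Subgroup X) :
    Subgroup.normalizer (H : Set X) ≤ Subgroup.normalizer (opp p H : Set X) := by
  intro g hg
  rw [Subgroup.mem_normalizer_iff_map_conj_eq] at hg ⊢
  rw [opp_map_of_injective p _ (MulAut.conj g).injective, hg]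

theorem relIndex_opp_coprime [Finite X] (p : ℕ) [hp : Fact p.Prime] (H : Subgroup X) :
    ((opp p H).relIndex H).Coprime p := by
  obtain ⟨P⟩ : Nonempty (Sylow p ↥H) := inferInstance
  have h1 : (P : Subgroup ↥H).map H.subtype ≤ opp p H := by
    rintro _ ⟨g, hg, rfl⟩
    apply Subgroup.subset_closure
    refine ⟨g.2, ?_⟩
    obtain ⟨k, hk⟩ := (IsPGroup.iff_orderOf.mp P.isPGroup') ⟨g, hg⟩
    refine ⟨k, ?_⟩
    rw [← hk, Subgroup.orderOf_mk]
    exact (Subgroup.orderOf_coe g)
  have h2 : (opp p H).relIndex H ∣ ((P : Subgroup ↥H).map H.subtype).relIndex H :=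
    Subgroup.relIndex_dvd_of_le_left H h1
  have h3 : ((P : Subgroup ↥H).map H.subtype).relIndex H = (P : Subgroup ↥H).index := by
    unfold Subgroup.relIndex Subgroup.subgroupOf
    rw [Subgroup.comap_map_eq_self_of_injective H.subtype_injective]
  rw [h3] at h2
  exact Nat.Coprime.coprime_dvd_left h2
    ((Nat.Prime.coprime_iff_not_dvd hp.out).mpr P.not_dvd_index).symm

theorem opp_eq_of_normal_of_relIndex_coprime {p : ℕ} {K M : Subgroup X} (hKM : K ≤ M)
    (hn : M ≤ Subgroup.normalizer (K : Set X)) (hc : (K.relIndex M).Coprime p) :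
    opp p M = opp p K := by
  apply le_antisymm _ (opp_mono p hKM)
  apply Subgroup.closure_mono
  rintro g ⟨hgM, k, hk⟩
  refine ⟨?_, k, hk⟩
  have hN : (K.subgroupOf M).Normal := (Subgroup.normal_subgroupOf_iff_le_normalizer hKM).mpr hn
  have h1 : (⟨g, hgM⟩ : ↥M) ^ (K.subgroupOf M).index ∈ K.subgroupOf M :=
    Subgroup.pow_index_mem _ _
  have h1' : g ^ K.relIndex M ∈ K := by
    rw [Subgroup.mem_subgroupOf] at h1
    exact h1
  have h2 : (K.relIndex M).Coprime (orderOf g) := by
    rw [hk]
    exact Nat.Coprime.pow_right k hc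
  obtain ⟨m, hm⟩ := exists_pow_eq_self_of_coprime h2
  rw [← hm]
  exact pow_mem h1' m

theorem opp_eq_opp_top_of_isSubnormal {G : Type*} [Group G] {p : ℕ} {K : Subgroup G}
    (hK : K.IsSubnormal) (hc : K.index.Coprime p) : opp p K = opp p ⊤ := by
  induction hK with
  | top => rfl
  | step H K hle hK hN ih =>
    have h1 : K.index.Coprime p :=
      Nat.Coprime.coprime_dvd_left (Subgroup.index_dvd_of_le hle) hc
    rw [← ih h1]
    symm
    apply opp_eq_of_normal_of_relIndex_coprime hle
      ((Subgroup.normal_subgroupOf_iff_le_normalizer hle).mp hN)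
    exact Nat.Coprime.coprime_dvd_left (Dvd.intro _ (Subgroup.relIndex_mul_index hle)) hc

theorem opp_eq_of_isSubnormal_of_relIndex_coprime {p : ℕ} {K H : Subgroup X} (hKH : K ≤ H)
    (hK : (K.subgroupOf H).IsSubnormal) (hc : (K.relIndex H).Coprime p) :
    opp p H = opp p K := by
  have h1 := opp_eq_opp_top_of_isSubnormal hK hc
  have h2 := congrArg (Subgroup.map H.subtype) h1
  rw [opp_map_of_injective p _ H.subtype_injective, opp_map_of_injective p _ H.subtype_injective,
    Subgroup.map_subgroupOf_eq_of_le hKH, ← MonoidHom.range_eq_map, Subgroup.range_subtype] at h2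
  exact h2.symm

/-- `O^{p'}(K O) = O^{p'}(K)` for `K` subnormal and `O` a normal `p'`-subgroup. -/
theorem opp_sup_eq_of_isSubnormal [Finite X] {p : ℕ} {K O : Subgroup X} (hK : K.IsSubnormal)
    [O.Normal] (hO : (Nat.card ↥O).Coprime p) : opp p (K ⊔ O) = opp p K := by
  apply opp_eq_of_isSubnormal_of_relIndex_coprime le_sup_left hK.subgroupOf
  have h1 : Nat.card ↥K * K.relIndex (K ⊔ O) = Nat.card ↥(K ⊔ O) := by
    have := Subgroup.relIndex_mul_relIndex (H := ⊥) (K := K) (L := K ⊔ O) bot_le le_sup_left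
    rwa [Subgroup.relIndex_bot_left, Subgroup.relIndex_bot_left] at this
  have h2 : Nat.card ↥(K ⊔ O) ∣ Nat.card ↥K * Nat.card ↥O := card_sup_dvd_mul_of_normal K O
  rw [← h1] at h2
  have h3 : K.relIndex (K ⊔ O) ∣ Nat.card ↥O :=
    Nat.dvd_of_mul_dvd_mul_left Nat.card_pos h2
  exact Nat.Coprime.coprime_dvd_left h3 hO

/-- A finite perfect group whose centre has index prime to `p` is a `p'`-group. -/
theorem card_coprime_of_isPerfect_of_index_center_coprime {Q : Type*} [Group Q] [Finite Q] {p : ℕ}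
    [hp : Fact p.Prime] [hQ : Group.IsPerfect Q] (h : (Subgroup.center Q).index.Coprime p) :
    (Nat.card Q).Coprime p := by
  obtain ⟨P⟩ : Nonempty (Sylow p Q) := inferInstance
  have hPc : (P : Subgroup Q) ≤ Subgroup.center Q := by
    intro x hx
    obtain ⟨k, hk⟩ := (IsPGroup.iff_orderOf.mp P.isPGroup') ⟨x, hx⟩
    rw [Subgroup.orderOf_mk] at hk
    have h1 : x ^ (Subgroup.center Q).index ∈ Subgroup.center Q := Subgroup.pow_index_mem _ _
    have h2 : ((Subgroup.center Q).index).Coprime (orderOf x) := by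
      rw [hk]
      exact Nat.Coprime.pow_right k h
    obtain ⟨m, hm⟩ := exists_pow_eq_self_of_coprime h2
    rw [← hm]
    exact pow_mem h1 m
  obtain ⟨K', hK'n, hK'⟩ := exists_normal_complement_of_sylow_le_center P hPc
  have hcop : (Nat.card ↥K').Coprime p := card_coprime_of_isComplement' P K' hK'
  have hidx : K'.index = Nat.card ↥(P : Subgroup Q) := hK'.symm.index_eq_card
  obtain ⟨n, hn⟩ := P.isPGroup'.exists_card_eq
  have hq : IsPGroup p (Q ⧸ K') :=
    IsPGroup.of_card (n := n) (by rw [← Subgroup.index_eq_card, hidx, hn])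
  have hnil : Group.IsNilpotent (Q ⧸ K') := hq.isNilpotent
  have hsub : Subsingleton (Q ⧸ K') := by
    by_contra hns
    rw [not_subsingleton_iff_nontrivial] at hns
    exact Group.IsPerfect.not_isNilpotent (G := Q ⧸ K') hnil
  have htop : K' = ⊤ := by
    rw [← Subgroup.index_eq_one, Subgroup.index_eq_card]
    exact Nat.card_eq_one_iff_unique.mpr ⟨hsub, ⟨1⟩⟩
  rw [htop, Subgroup.card_top] at hcop
  exact hcop

/-- A `p`-component has no proper normal subgroup of index prime to `p` (`K = O^{p'}(K)`). -/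
theorem eq_of_normal_of_relIndex_coprime_of_isPComponent [Finite X] {p : ℕ} [hp : Fact p.Prime]
    {K N : Subgroup X} (hK : IsPComponent p K) (hNK : N ≤ K)
    (hn : K ≤ Subgroup.normalizer (N : Set X)) (hc : (N.relIndex K).Coprime p) : N = K := by
  have hNn : (N.subgroupOf K).Normal := (Subgroup.normal_subgroupOf_iff_le_normalizer hNK).mpr hn
  have hNsub : N.IsSubnormal := Subgroup.IsSubnormal.step N K hNK hK.1 hNn
  apply hK.2.2 N hNsub hNK
  have hQ : IsQuasisimple ↥(K.map (QuotientGroup.mk' (pPrimeCore p X))) := hK.2.1.2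
  have hψ : Function.Surjective ((QuotientGroup.mk' (pPrimeCore p X)).subgroupMap K) :=
    (QuotientGroup.mk' (pPrimeCore p X)).subgroupMap_surjective K
  have hM : ((N.subgroupOf K).map ((QuotientGroup.mk' (pPrimeCore p X)).subgroupMap K)).Normal :=
    hNn.map _ hψ
  have hMidx : ((N.subgroupOf K).map
      ((QuotientGroup.mk' (pPrimeCore p X)).subgroupMap K)).index.Coprime p :=
    Nat.Coprime.coprime_dvd_left (Subgroup.index_map_dvd (N.subgroupOf K) hψ) hc
  rcases Cfsg.Agent.Lib.Helper22.quasisimple_normal_le_center_or_eq_top hQ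
      ((N.subgroupOf K).map ((QuotientGroup.mk' (pPrimeCore p X)).subgroupMap K)) with h | h
  · exfalso
    have h1 : (Subgroup.center ↥(K.map (QuotientGroup.mk' (pPrimeCore p X)))).index.Coprime p :=
      Nat.Coprime.coprime_dvd_left (Subgroup.index_dvd_of_le h) hMidx
    have hperf : Group.IsPerfect ↥(K.map (QuotientGroup.mk' (pPrimeCore p X))) := hQ.1
    have h2 : (Nat.card ↥(K.map (QuotientGroup.mk' (pPrimeCore p X)))).Coprime p :=
      card_coprime_of_isPerfect_of_index_center_coprime h1
    have h3 : K.map (QuotientGroup.mk' (pPrimeCore p X)) = ⊥ :=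
      eq_bot_of_isSubnormal_quotient_pPrimeCore hK.2.1.1 h2
    exact Cfsg.Agent.Lib.Helper22.component_ne_bot hK.2.1 h3
  · apply le_antisymm (Subgroup.map_mono hNK)
    rintro _ ⟨k, hk, rfl⟩
    have hmem : ((QuotientGroup.mk' (pPrimeCore p X)).subgroupMap K) ⟨k, hk⟩ ∈
        (N.subgroupOf K).map ((QuotientGroup.mk' (pPrimeCore p X)).subgroupMap K) := by
      rw [h]; trivial
    obtain ⟨n, hn, hnk⟩ := hmem
    exact ⟨(n : X), Subgroup.mem_subgroupOf.mp hn, congrArg Subtype.val hnk⟩

theorem opp_eq_self_of_isPComponent [Finite X] {p : ℕ} [Fact p.Prime] {K : Subgroup X}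
    (hK : IsPComponent p K) : opp p K = K :=
  eq_of_normal_of_relIndex_coprime_of_isPComponent hK (opp_le p K)
    (Subgroup.le_normalizer.trans (normalizer_le_normalizer_opp p K)) (relIndex_opp_coprime p K)

/-- A `p`-component `K` is recovered from its image `K̄` in `X / O_{p'}(X)`:
`K = O^{p'}(preimage of K̄)`. -/
theorem isPComponent_eq_opp_comap [Finite X] {p : ℕ} [Fact p.Prime] {K : Subgroup X}
    (hK : IsPComponent p K) :
    opp p ((K.map (QuotientGroup.mk' (pPrimeCore p X))).comap
      (QuotientGroup.mk' (pPrimeCore p X))) = K := by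
  have hn : (pPrimeCore p X).Normal := pPrimeCore_isNormal p
  rw [Subgroup.comap_map_eq, QuotientGroup.ker_mk',
    opp_sup_eq_of_isSubnormal hK.1 (pPrimeCore_card_coprime p), opp_eq_self_of_isPComponent hK]

/-- Uniqueness of the `p`-component over a given component of `X / O_{p'}(X)`. -/
theorem isPComponent_unique [Finite X] {p : ℕ} [Fact p.Prime] {K₁ K₂ : Subgroup X}
    (h₁ : IsPComponent p K₁) (h₂ : IsPComponent p K₂)
    (h : K₁.map (QuotientGroup.mk' (pPrimeCore p X)) =
      K₂.map (QuotientGroup.mk' (pPrimeCore p X))) : K₁ = K₂ := by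
  rw [← isPComponent_eq_opp_comap h₁, h, isPComponent_eq_opp_comap h₂]

/-- Whatever normalizes the image of a `p`-component `K` modulo `O_{p'}(X)` normalizes `K`. -/
theorem comap_normalizer_map_le_normalizer_of_isPComponent [Finite X] {p : ℕ} [Fact p.Prime]
    {K : Subgroup X} (hK : IsPComponent p K) :
    (Subgroup.normalizer ((K.map (QuotientGroup.mk' (pPrimeCore p X)) :
      Subgroup (X ⧸ pPrimeCore p X)) : Set (X ⧸ pPrimeCore p X))).comap
        (QuotientGroup.mk' (pPrimeCore p X)) ≤ Subgroup.normalizer (K : Set X) := by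
  have h1 := Subgroup.le_normalizer_comap (H := K.map (QuotientGroup.mk' (pPrimeCore p X)))
    (QuotientGroup.mk' (pPrimeCore p X))
  have h2 := normalizer_le_normalizer_opp p ((K.map (QuotientGroup.mk' (pPrimeCore p X))).comap
      (QuotientGroup.mk' (pPrimeCore p X)))
  rw [isPComponent_eq_opp_comap hK] at h2
  exact h1.trans h2

/-- Two `p`-components, one inside the other, are equal. -/
theorem isPComponent_eq_of_le [Finite X] {p : ℕ} {K J : Subgroup X}
    (hK : IsPComponent p K) (hJ : IsPComponent p J) (hKJ : K ≤ J) : K = J := by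
  apply hJ.2.2 K hK.1 hKJ
  have hle : K.map (QuotientGroup.mk' (pPrimeCore p X)) ≤
      J.map (QuotientGroup.mk' (pPrimeCore p X)) := Subgroup.map_mono hKJ
  have hsub : ((K.map (QuotientGroup.mk' (pPrimeCore p X))).subgroupOf
      (J.map (QuotientGroup.mk' (pPrimeCore p X)))).IsSubnormal := hK.2.1.1.subgroupOf
  rcases Cfsg.Agent.Lib.Helper22.quasisimple_subnormal_le_center_or_eq_top hJ.2.1.2 hsub with h | h
  · exfalso
    -- the image of `K` is abelian
    have hcomm : ⁅K.map (QuotientGroup.mk' (pPrimeCore p X)),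
        K.map (QuotientGroup.mk' (pPrimeCore p X))⁆ = ⊥ := by
      rw [Subgroup.commutator_eq_bot_iff_le_centralizer]
      intro a ha
      rw [Subgroup.mem_centralizer_iff]
      intro b hb
      have h1 : (⟨a, hle ha⟩ : ↥(J.map (QuotientGroup.mk' (pPrimeCore p X)))) ∈
          Subgroup.center ↥(J.map (QuotientGroup.mk' (pPrimeCore p X))) :=
        h (Subgroup.mem_subgroupOf.mpr ha)
      have h2 := Subgroup.mem_center_iff.mp h1 ⟨b, hle hb⟩
      exact congrArg Subtype.val h2
    rw [Cfsg.Agent.Lib.Helper22.component_commutator_self hK.2.1] at hcomm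
    exact Cfsg.Agent.Lib.Helper22.component_ne_bot hK.2.1 hcomm
  · apply le_antisymm hle
    intro a ha
    have h1 : (⟨a, ha⟩ : ↥(J.map (QuotientGroup.mk' (pPrimeCore p X)))) ∈
        (K.map (QuotientGroup.mk' (pPrimeCore p X))).subgroupOf
          (J.map (QuotientGroup.mk' (pPrimeCore p X))) := by
      rw [h]; trivial
    exact Subgroup.mem_subgroupOf.mp h1

end Cfsg.Agent.Lib.Helper34
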