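import Mathlib
import Cfsg.Prelude.Def_Local
import Cfsg.Prelude.Def_ClassificationStages
import Cfsg.Agent.Lib.Helper34.PComponentUnique

set_option autoImplicit false

/-!
Helper34 library: invariance of `O_{p'}` and of `p`-components under isomorphisms, and the fact
that a `p`-component `K` is its own (unique) `p`-component: `L_{p'}(K) = K`.
-/

namespace Cfsg.Agent.Lib.Helper34

open Cfsg

theorem pPrimeCore_map_mulEquiv_le {A B : Type*} [Group A] [Group B] [Finite A] (p : ℕ)
    (e : A ≃* B) : (pPrimeCore p A).map e.toMonoidHom ≤ pPrimeCore p B := by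
  apply le_pPrimeCore_of_normal
  · exact (pPrimeCore_isNormal (G := A) p).map e.toMonoidHom e.surjective
  · rw [Subgroup.card_map_of_injective e.injective]
    exact pPrimeCore_card_coprime p

theorem pPrimeCore_map_mulEquiv {A B : Type*} [Group A] [Group B] [Finite A] (p : ℕ)
    (e : A ≃* B) : (pPrimeCore p A).map e.toMonoidHom = pPrimeCore p B := by
  apply le_antisymm (pPrimeCore_map_mulEquiv_le p e)
  have hB : Finite B := Finite.of_equiv A e.toEquiv
  have h1 := Subgroup.map_mono (f := e.toMonoidHom) (pPrimeCore_map_mulEquiv_le p e.symm)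
  rw [Subgroup.map_map] at h1
  have h2 : e.toMonoidHom.comp e.symm.toMonoidHom = MonoidHom.id B := by
    ext b
    simp
  rw [h2, Subgroup.map_id] at h1
  exact h1

/-- Isomorphisms carry `p`-components to `p`-components. -/
theorem isPComponent_map_mulEquiv {X Y : Type*} [Group X] [Group Y] [Finite X] {p : ℕ}
    (e : X ≃* Y) {K : Subgroup X} (hK : IsPComponent p K) :
    IsPComponent p (K.map e.toMonoidHom) := by
  have hnX : (pPrimeCore p X).Normal := pPrimeCore_isNormal p
  have hnY : (pPrimeCore p Y).Normal := pPrimeCore_isNormal p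
  have hO : (pPrimeCore p X).map e.toMonoidHom = pPrimeCore p Y := pPrimeCore_map_mulEquiv p e
  set ebar : X ⧸ pPrimeCore p X ≃* Y ⧸ pPrimeCore p Y :=
    QuotientGroup.congr (pPrimeCore p X) (pPrimeCore p Y) e hO with hebar
  have hcomp : (QuotientGroup.mk' (pPrimeCore p Y)).comp e.toMonoidHom =
      ebar.toMonoidHom.comp (QuotientGroup.mk' (pPrimeCore p X)) := by
    ext x
    rfl
  have key : ∀ H : Subgroup X, (H.map e.toMonoidHom).map (QuotientGroup.mk' (pPrimeCore p Y)) =
      (H.map (QuotientGroup.mk' (pPrimeCore p X))).map ebar.toMonoidHom := by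
    intro H
    rw [Subgroup.map_map, Subgroup.map_map, hcomp]
  refine ⟨hK.1.map e.surjective, ?_, ?_⟩
  · rw [key]
    exact Cfsg.Agent.Lib.Helper29.isComponent_map_mulEquiv ebar hK.2.1
  · intro H hH hle heq
    have h1 : (H.comap e.toMonoidHom).map e.toMonoidHom = H :=
      Subgroup.map_comap_eq_self_of_surjective e.surjective H
    have h2 : H.comap e.toMonoidHom ≤ K := by
      have := Subgroup.comap_mono (f := e.toMonoidHom) hle
      rwa [Subgroup.comap_map_eq_self_of_injective e.injective] at this
    have h3 : (H.comap e.toMonoidHom).map (QuotientGroup.mk' (pPrimeCore p X)) =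
        K.map (QuotientGroup.mk' (pPrimeCore p X)) := by
      apply Subgroup.map_injective ebar.injective
      change ((H.comap e.toMonoidHom).map (QuotientGroup.mk' (pPrimeCore p X))).map
        ebar.toMonoidHom = (K.map (QuotientGroup.mk' (pPrimeCore p X))).map ebar.toMonoidHom
      rw [← key, ← key, h1, heq]
    have h4 := hK.2.2 _ (hH.comap e.toMonoidHom) h2 h3
    rw [← h1, h4]

/-- A `p`-component `K` of `X` is a `p`-component of itself. -/
theorem isPComponent_top_of_isPComponent {X : Type*} [Group X] [Finite X] {p : ℕ}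
    {K : Subgroup X} (hK : IsPComponent p K) : IsPComponent p (⊤ : Subgroup ↥K) := by
  have hnK : (pPrimeCore p ↥K).Normal := pPrimeCore_isNormal p
  have hnX : (pPrimeCore p X).Normal := pPrimeCore_isNormal p
  refine ⟨Subgroup.IsSubnormal.top, ?_, ?_⟩
  · rw [Subgroup.map_top_of_surjective _ (QuotientGroup.mk'_surjective _)]
    exact ⟨Subgroup.IsSubnormal.top,
      Cfsg.Agent.Lib.Helper29.isQuasisimple_of_mulEquiv Subgroup.topEquiv.symm
        (isQuasisimple_quotient_of_isPComponent hK)⟩
  · intro H hH _ heq
    have hsup : H ⊔ pPrimeCore p ↥K = ⊤ := by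
      have := congrArg (Subgroup.comap (QuotientGroup.mk' (pPrimeCore p ↥K))) heq
      rw [Subgroup.comap_map_eq, Subgroup.comap_map_eq, QuotientGroup.ker_mk'] at this
      rw [this]
      exact top_sup_eq _
    have hH' : (H.map K.subtype).IsSubnormal := hH.trans' hK.1
    have hle : H.map K.subtype ≤ K := Subgroup.map_subtype_le H
    have hKeq : K = H.map K.subtype ⊔ coreOf p K := by
      have := congrArg (Subgroup.map K.subtype) hsup
      rw [Subgroup.map_sup, ← MonoidHom.range_eq_map, Subgroup.range_subtype] at this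
      exact this.symm
    have hmap : (H.map K.subtype).map (QuotientGroup.mk' (pPrimeCore p X)) =
        K.map (QuotientGroup.mk' (pPrimeCore p X)) := by
      conv_rhs => rw [hKeq]
      rw [Subgroup.map_sup]
      have : (coreOf p K).map (QuotientGroup.mk' (pPrimeCore p X)) = ⊥ := by
        rw [Subgroup.map_eq_bot_iff, QuotientGroup.ker_mk']
        exact coreOf_le_pPrimeCore_of_isSubnormal p hK.1
      rw [this, sup_bot_eq]
    have h5 := hK.2.2 _ hH' hle hmap
    apply Subgroup.map_injective K.subtype_injective
    rw [h5, ← MonoidHom.range_eq_map, Subgroup.range_subtype]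

/-- A `p`-component `K` of a subgroup `C` is a `p`-component of itself. -/
theorem isPComponent_top_of_isPComponentOf {G : Type*} [Group G] [Finite G] {p : ℕ}
    {K C : Subgroup G} (hK : IsPComponentOf p K C) : IsPComponent p (⊤ : Subgroup ↥K) := by
  have h1 := isPComponent_top_of_isPComponent hK.2
  have h2 := isPComponent_map_mulEquiv (Subgroup.subgroupOfEquivOfLe hK.1) h1
  rwa [Subgroup.map_top_of_surjective _ (Subgroup.subgroupOfEquivOfLe hK.1).surjective] at h2

/-- The `p`-layer of a `p`-component `K` (of some subgroup `C`) is `K` itself. -/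
theorem pLayerOf_eq_self_of_isPComponentOf {G : Type*} [Group G] [Finite G] {p : ℕ}
    {K C : Subgroup G} (hK : IsPComponentOf p K C) : pLayerOf p K = K := by
  unfold pLayerOf
  have h1 : pLayer p ↥K = ⊤ := by
    apply le_antisymm le_top
    unfold pLayer
    exact le_sSup (isPComponent_top_of_isPComponentOf hK)
  rw [h1, ← MonoidHom.range_eq_map, Subgroup.range_subtype]

end Cfsg.Agent.Lib.Helper34
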