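import Cfsg.Agent.Lib.Helper34.PF14EndPair

/-!
# PF sec. 14, case (b): the pseudo-class `(V W₂, V)` for `T` of Type III (module PF14-[END])

* `FrobClass.no_fusion_of_relIndex_ne` : two Frobenius classes with different `|L : H|` have no
  fusion (fusion would make them conjugate).
* `frobClass_pseudo` : for `T` of Type III with data `(W₂, V, W₁)`, `A₀(T)` T.I. with normaliser `T`
  (S1543 for `(T,S)`), `V` abelian and semiregular on `T_F`: `FrobClass (V ⊔ W₂) V`
  (`C_G(v) = V` for `v ∈ V#`, `N_G(V) = V W₂`).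
* `exists_y_of_b'` : `exists_y_of_b` without the hypothesis `hIII`.
-/

set_option autoImplicit false
set_option linter.unusedSectionVars false
set_option linter.unusedVariables false
set_option linter.style.haveILetI false

namespace Cfsg.Agent.Lib.Helper34.PF14End

open Cfsg Cfsg.Agent.Lib.Helper4.PF Cfsg.Agent.Lib.Helper4 Cfsg.Agent.Lib.Helper33.PF13

universe u

variable {G : Type u} [Group G] [Finite G]

/-- Frobenius classes with different indices have no fusion -/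
theorem FrobClass.no_fusion_of_relIndex_ne {L H L' H' : Subgroup G} (c : FrobClass L H)
    (c' : FrobClass L' H') (hne : H.relIndex L ≠ H'.relIndex L') :
    ∀ g : G, ∀ k ∈ H, g * k * g⁻¹ ∈ H' → k = 1 := by
  rcases c.fusion_dichotomy c' with h | ⟨g, hg⟩
  · exact h
  · exfalso
    apply hne
    have hL := c.map_conj_eq c' hg
    rw [← hg, ← hL]
    exact (Cfsg.Agent.Lib.Helper54.TypePTransport.relIndex_map (MulAut.conj g) H L).symm

/-- **The pseudo-class of a maximal subgroup of Type III.** -/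
theorem frobClass_pseudo {T W₂ V W₁ : Subgroup G} (hTP : IsTypePWith T W₂ V W₁)
    (hTIII : IsOfTypeIII T) (hTI : IsTISubset (typeA0 T))
    (hN : Subgroup.normalizer (typeA0 T) = T)
    (hVab : ∀ a ∈ V, ∀ b ∈ V, a * b = b * a) (hV1 : V ≠ ⊥)
    (hVreg : ∀ v ∈ V, v ≠ 1 → ∀ x ∈ fittingHallOf T, v * x = x * v → x = 1) :
    FrobClass (V ⊔ W₂) V := by
  have hVT' : V ≤ ⁅T, T⁆ := hTP.U_compl.2.1
  have hT'T : ⁅T, T⁆ ≤ T := hTP.W₁_compl.1
  have hQT' : fittingHallOf T ≤ ⁅T, T⁆ := hTP.U_compl.1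
  have hQV : fittingHallOf T ⊓ V = ⊥ := hTP.U_compl.2.2.1
  have hT'W : ⁅T, T⁆ ⊓ W₂ = ⊥ := hTP.W₁_compl.2.2.1
  have hW₂T : W₂ ≤ T := hTP.W₁_compl.2.1
  have hWN : W₂ ≤ Subgroup.normalizer (V : Set G) := hTP.U_normal
  have hnotI : ¬ IsOfTypeI T := fun hI =>
    Cfsg.Agent.Lib.Helper26.PFBook.not_isOfTypeP_of_typeF hI.1 ⟨W₂, V, W₁, hTP⟩
  -- `V# ⊆ A₀(T)`
  have hVA : ∀ v ∈ V, v ≠ 1 → v ∈ typeA0 T := by
    intro v hv hv1
    apply Cfsg.Agent.Lib.Helper26.PFEight.typeA_subset_typeA0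
    unfold typeA
    rw [if_neg hnotI]
    refine ⟨hVT' hv, hv1, v, ?_, hv1, rfl⟩
    unfold typeCore
    rw [if_pos (Or.inl hTIII)]
    exact hVT' hv
  -- elements moving a `v ∈ V#` into `V` lie in `T`
  have hinT : ∀ g : G, ∀ v ∈ V, v ≠ 1 → g * v * g⁻¹ ∈ V → g ∈ T := by
    intro g v hv hv1 hgv
    by_contra hgT
    have hgN : g ∉ Subgroup.normalizer (typeA0 T) := by rw [hN]; exact hgT
    have hgv1 : g * v * g⁻¹ ≠ 1 := by
      intro h
      apply hv1
      have : v = g⁻¹ * (g * v * g⁻¹) * g := by group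
      rw [this, h]; group
    exact hv1 (hTI g hgN v (hVA v hv hv1) (hVA _ hgv hgv1))
  have hQn : ∀ m ∈ T, ∀ x ∈ fittingHallOf T, m * x * m⁻¹ ∈ fittingHallOf T :=
    fun m hm x hx => Cfsg.Agent.Lib.Helper26.PFEight.conj_mem_fittingHallOf T hm hx
  have hWV : ∀ w ∈ W₂, ∀ v ∈ V, w * v * w⁻¹ ∈ V := by
    intro w hw v hv
    have := (Subgroup.mem_normalizer_iff.mp (hWN hw)) v
    exact this.mp hv
  -- the key computation: `g = a v' w` with `g v g⁻¹ ∈ V` forces `a = 1`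
  have key : ∀ g ∈ T, ∀ v ∈ V, v ≠ 1 → g * v * g⁻¹ ∈ V →
      ∃ v' ∈ V, ∃ w ∈ W₂, g = v' * w ∧ g * v * g⁻¹ = w * v * w⁻¹ := by
    intro g hgT v hv hv1 hgv
    obtain ⟨t, ht, w, hw, rfl⟩ := hTP.W₁_compl.2.2.2 g hgT
    obtain ⟨a, ha, v', hv', rfl⟩ := hTP.U_compl.2.2.2 t ht
    set v₂ := w * v * w⁻¹ with hv₂
    have hv₂V : v₂ ∈ V := hWV w hw v hv
    have hv₂1 : v₂ ≠ 1 := by
      intro h
      apply hv1
      have : v = w⁻¹ * v₂ * w := by rw [hv₂]; group
      rw [this, h]; group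
    have e1 : a * v' * w * v * (a * v' * w)⁻¹ = a * (v' * v₂ * v'⁻¹) * a⁻¹ := by
      rw [hv₂]; group
    have e2 : v' * v₂ * v'⁻¹ = v₂ := by
      rw [hVab v' hv' v₂ hv₂V]; group
    rw [e1, e2] at hgv
    -- `a v₂ a⁻¹ v₂⁻¹ ∈ Q ⊓ V`
    have hmem : a * v₂ * a⁻¹ * v₂⁻¹ ∈ fittingHallOf T ⊓ V := by
      refine ⟨?_, V.mul_mem hgv (V.inv_mem hv₂V)⟩
      have h1 : v₂ * a⁻¹ * v₂⁻¹ ∈ fittingHallOf T :=
        hQn v₂ (hT'T (hVT' hv₂V)) a⁻¹ ((fittingHallOf T).inv_mem ha)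
      have : a * v₂ * a⁻¹ * v₂⁻¹ = a * (v₂ * a⁻¹ * v₂⁻¹) := by group
      rw [this]
      exact (fittingHallOf T).mul_mem ha h1
    rw [hQV, Subgroup.mem_bot] at hmem
    have hcomm : v₂ * a = a * v₂ := by
      have : a * v₂ = (a * v₂ * a⁻¹ * v₂⁻¹) * (v₂ * a) := by group
      rw [this, hmem, one_mul]
    have ha1 : a = 1 := hVreg v₂ hv₂V hv₂1 a ha hcomm
    refine ⟨v', hv', w, hw, by rw [ha1, one_mul], ?_⟩
    rw [e1, e2, ha1, one_mul, inv_one, mul_one]
  -- centralisers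
  have hcent : ∀ v ∈ V, v ≠ 1 → Subgroup.centralizer ({v} : Set G) ≤ V := by
    intro v hv hv1 g hg
    have hgc : g * v = v * g := Subgroup.mem_centralizer_singleton_iff.mp hg
    have hgv : g * v * g⁻¹ = v := by rw [hgc]; group
    have hgT : g ∈ T := hinT g v hv hv1 (by rw [hgv]; exact hv)
    obtain ⟨v', hv', w, hw, hg', hconj⟩ := key g hgT v hv hv1 (by rw [hgv]; exact hv)
    rw [hgv] at hconj
    by_cases hw1 : w = 1
    · rw [hg', hw1, mul_one]; exact hv'
    · exfalso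
      -- `v ∈ T' ⊓ C(w) = W₁ ≤ Q`
      have hvc : v ∈ ⁅T, T⁆ ⊓ Subgroup.centralizer ({w} : Set G) := by
        refine Subgroup.mem_inf.mpr ⟨hVT' hv, ?_⟩
        rw [Subgroup.mem_centralizer_singleton_iff]
        have : w * v = (w * v * w⁻¹) * w := by group
        rw [this, ← hconj]
      rw [hTP.W₂_centralizer w hw hw1] at hvc
      have hvQ : v ∈ fittingHallOf T := (hTP.W₂_le hvc).1
      have : v ∈ fittingHallOf T ⊓ V := ⟨hvQ, hv⟩
      rw [hQV, Subgroup.mem_bot] at this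
      exact hv1 this
  -- normaliser
  have hnor : Subgroup.normalizer (V : Set G) = V ⊔ W₂ := by
    apply le_antisymm
    · intro g hg
      obtain ⟨v, hv, hv1⟩ : ∃ v ∈ V, v ≠ 1 := by
        obtain ⟨a, ha⟩ := (Subgroup.ne_bot_iff_exists_ne_one).mp hV1
        exact ⟨(a : G), a.2, fun h => ha (Subtype.ext h)⟩
      have hgv : g * v * g⁻¹ ∈ V := (Subgroup.mem_normalizer_iff.mp hg v).mp hv
      have hgT : g ∈ T := hinT g v hv hv1 hgv
      obtain ⟨v', hv', w, hw, hg', -⟩ := key g hgT v hv hv1 hgv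
      rw [hg']
      exact Subgroup.mul_mem _ (Subgroup.mem_sup_left hv') (Subgroup.mem_sup_right hw)
    · exact sup_le Subgroup.le_normalizer hWN
  have hW₂1 : W₂ ≠ ⊥ := hTP.W₁_ne
  have hlt : V < V ⊔ W₂ := by
    refine lt_of_le_of_ne le_sup_left ?_
    intro h
    apply hW₂1
    have hle : W₂ ≤ V := by rw [h]; exact le_sup_right
    rw [eq_bot_iff]
    intro w hw
    have : w ∈ ⁅T, T⁆ ⊓ W₂ := ⟨hVT' (hle hw), hw⟩
    rwa [hT'W] at this
  refine FrobClass.of_cent hlt hV1 ?_ hcent hnor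
  intro x hx v hv
  have hxN : x ∈ Subgroup.normalizer (V : Set G) := by rw [hnor]; exact hx
  exact (Subgroup.mem_normalizer_iff.mp hxN v).mp hv

/-- **The last clause of `Stmt1544Core`**: `exists_y_of_b` with the Type III pseudo-class proved. -/
theorem exists_y_of_b' (hG : IsMinSimpleOddOrder G) (bg : BookBGData G)
    (h1543 : Stmt1543 G) (h1549 : Stmt1549 G)
    (h127 : ∀ L : Subgroup G, IsCoatom L → LitTypeI L → IsFrobWithFittingHall L)
    {S T W₁ W₂ U V : Subgroup G} (hPair : PairHyp S T W₁ W₂ U V)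
    (hqp : Nat.card W₁ < Nat.card W₂)
    (hUc : IsCyclic U)
    (hUn : Nat.card U * (Nat.card W₂ - 1) = Nat.card W₂ ^ Nat.card W₁ - 1)
    (hUreg : ∀ u ∈ U, u ≠ 1 → ∀ x ∈ fittingHallOf S, u * x = x * u → x = 1)
    (hUq : Nat.card U ≡ 1 [MOD Nat.card W₁])
    (hVc : IsCyclic V)
    (hVn : Nat.card V * (Nat.card W₁ - 1) = Nat.card W₁ ^ Nat.card W₂ - 1)
    (hVreg : ∀ v ∈ V, v ≠ 1 → ∀ x ∈ fittingHallOf T, v * x = x * v → x = 1)
    (hna : ∀ L : Subgroup G, IsCoatom L → Subgroup.normalizer (U : Set G) ≤ L →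
      ¬ (fittingHallOf L ⊓ W₁ = ⊥ ∧ fittingHallOf L ⊔ W₁ = L))
    (hchar : IsOfTypeII T → ∀ L : Subgroup G, IsCoatom L → Subgroup.normalizer (U : Set G) ≤ L →
      ∃ x y : ℤ, ((x = 1 ∧ y = 0) ∨ (x = 0 ∧ y = 1) ∨ (x = 0 ∧ y = 0)) ∧
        (Even x → Nat.card (fittingHallOf L) - 1 ≤ Nat.card W₂ * (Nat.card U - 1)) ∧
        (Even y → Nat.card (fittingHallOf L) - 1 ≤ Nat.card W₁ * (Nat.card V - 1))) :
    ∃ y ∈ fittingHallOf T,
      W₂.map (MulAut.conj y).toMonoidHom ≤ Subgroup.normalizer (U : Set G) := by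
  obtain ⟨hS, hT, hSP, hTP, hST, hII, hS25, hT25⟩ := id hPair
  have hsolv : ∀ M : Subgroup G, IsCoatom M → Group.IsSolvable M := fun M hM => hG.2.2.2 M hM.1
  have hsimple : IsSimpleGroup G := hG.2.1
  have hST' : T ⊓ S = W₂ ⊔ W₁ := by rw [inf_comm, hST, sup_comm]
  obtain ⟨-, hSII', hEAS, -, -, -⟩ := h1543 S T W₁ W₂ U V hS hT hSP hTP hST hII hS25 hT25
  have hSII : IsOfTypeII S := hSII' hqp
  obtain ⟨hT23, -, hEAT, -, hTIT, hNT⟩ :=
    h1543 T S W₂ W₁ V U hT hS hTP hSP hST' hII.symm hT25 hS25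
  obtain ⟨hU1, hq, -⟩ := typeII_data (hsolv S hS) hSP hSII
  have hp := card_W₂_prime hTP hT23
  have hq3 : 3 ≤ Nat.card W₁ := by
    have hodd : Odd (Nat.card W₁) := Odd.of_dvd_nat hG.1 (Subgroup.card_subgroup_dvd_card W₁)
    have h2 := hq.two_le
    rcases Nat.lt_or_ge (Nat.card W₁) 3 with h | h
    · exfalso
      have : Nat.card W₁ = 2 := by omega
      rw [this] at hodd
      exact absurd hodd (by decide)
    · exact h
  have hUS : U ≤ S := hSP.U_compl.2.1.trans hSP.W₁_compl.1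
  have hVT : V ≤ T := hTP.U_compl.2.1.trans hTP.W₁_compl.1
  obtain ⟨L, hL, hNU⟩ := exists_coatom_normalizer_le hsimple hS hUS hU1
  obtain ⟨hfrobL, hUH, halt⟩ :=
    h1549 S T W₁ W₂ U V hS hT hSP hTP hST hII hS25 hT25 hSII L hL hNU
  rcases halt with ha | ⟨y, hy, hinf, hsup⟩
  · exact absurd ha (hna L hL hNU)
  have hLI := litTypeI_of_NU_le hG bg h1543 hPair hSII hL hNU
  have hpq_ne : Nat.card W₁ ≠ Nat.card W₂ := ne_of_lt hqp
  have habS := comm_of_elementaryAbelian hEAS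
  have habT := comm_of_elementaryAbelian hEAT
  have hIIall := hII_of_pair hG hSP hTP
    (fun M hM h => conj_of_typeII bg hPair hpq_ne hM h) (fun _ => habS) (fun _ => hUreg)
    (fun _ => habT) (fun _ => hVreg)
  have c := frobClass_of_litTypeI hG bg h127 hIIall hL hLI
  have hyW₁ : ∀ w ∈ W₁, y * w * y⁻¹ = w := by
    intro w hw
    have hwT : w ∈ fittingHallOf T := (hTP.W₂_le hw).1
    rw [habT y hy w hwT]; group
  have hWL : W₁ ⊔ W₂.map (MulAut.conj y).toMonoidHom ≤ L := by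
    rw [← hsup]; exact le_sup_right
  have he : (fittingHallOf L).relIndex L = Nat.card W₂ * Nat.card W₁ := by
    rw [c.relIndex_eq_card hWL hinf hsup, card_sup_map_conj hSP.selfNormalizing hyW₁, mul_comm]
  have hcyc : IsCyclic (fittingHallOf L) := by
    rcases hT23 with hTII | hTIII
    · obtain ⟨hV1, -, -⟩ := typeII_data (hsolv T hT) hTP hTII
      obtain ⟨L', hL', hNV⟩ := exists_coatom_normalizer_le hsimple hT hVT hV1
      obtain ⟨hfrobL', hVH', halt'⟩ :=
        h1549 T S W₂ W₁ V U hT hS hTP hSP hST' hII.symm hT25 hS25 hTII L' hL' hNV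
      have hLI' := litTypeI_of_NU_le hG bg h1543 hPair.symm hTII hL' hNV
      have c' := frobClass_of_litTypeI hG bg h127 hIIall hL' hLI'
      have he' : (fittingHallOf L').relIndex L' = Nat.card W₂ ∨
          (fittingHallOf L').relIndex L' = Nat.card W₂ * Nat.card W₁ := by
        rcases halt' with ⟨hinf', hsup'⟩ | ⟨y', hy', hinf', hsup'⟩
        · left
          have hW₂L' : W₂ ≤ L' := by rw [← hsup']; exact le_sup_right
          exact c'.relIndex_eq_card hW₂L' hinf' hsup'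
        · right
          have hW' : W₂ ⊔ W₁.map (MulAut.conj y').toMonoidHom ≤ L' := by
            rw [← hsup']; exact le_sup_right
          have hy'W₂ : ∀ w ∈ W₂, y' * w * y'⁻¹ = w := by
            intro w hw
            have hwS : w ∈ fittingHallOf S := (hSP.W₂_le hw).1
            rw [habS y' hy' w hwS]; group
          rw [c'.relIndex_eq_card hW' hinf' hsup', card_sup_map_conj hTP.selfNormalizing hy'W₂]
      obtain ⟨x, y₁, hxy, hpx, hpy⟩ := hchar hTII L hL hNU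
      exact isCyclic_of_typeII hG.1 c c' hp hq hq3 hqp hUH hVH' hUc hVc hUn hVn hUq he he'
        x y₁ hxy hpx hpy
    · have hVab : ∀ a ∈ V, ∀ b ∈ V, a * b = b * a := by
        intro a ha b hb
        haveI := hVc
        letI : CommGroup V := IsCyclic.commGroup
        have := mul_comm (⟨a, ha⟩ : V) ⟨b, hb⟩
        exact congrArg Subtype.val this
      have hV1 : V ≠ ⊥ := by
        intro h
        have h1 : Nat.card V = 1 := by rw [h]; exact Subgroup.card_bot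
        rw [h1, one_mul] at hVn
        have h2 : Nat.card W₁ < Nat.card W₁ ^ Nat.card W₂ := by
          have := Nat.pow_lt_pow_right (by omega : 1 < Nat.card W₁) hp.one_lt
          rwa [pow_one] at this
        omega
      have c' := frobClass_pseudo hTP hTIII hTIT hNT hVab hV1 hVreg
      have hVW : V ⊓ W₂ = ⊥ := by
        have h1 : ⁅T, T⁆ ⊓ W₂ = ⊥ := hTP.W₁_compl.2.2.1
        rw [eq_bot_iff, ← h1]
        exact inf_le_inf_right _ hTP.U_compl.2.1
      have he' : V.relIndex (V ⊔ W₂) = Nat.card W₂ := c'.relIndex_eq_card le_sup_right hVW rfl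
      have hnf := c.no_fusion_of_relIndex_ne c' (by
        rw [he, he']
        intro h
        have h3 : Nat.card W₂ * Nat.card W₁ = Nat.card W₂ * 1 := by rw [mul_one]; exact h
        have := Nat.eq_of_mul_eq_mul_left hp.pos h3
        omega)
      exact isCyclic_of_small hG.1 c c' hnf hp hq hq3 hqp hUH le_rfl hUc hUn hVn hUq he he'
  exact exists_conj_le_normalizer c hcyc hUH ⟨y, hy, hinf, hsup⟩

end Cfsg.Agent.Lib.Helper34.PF14End
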