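import Cfsg.Agent.Lib.Helper34.PF14EndTypeIII

/-!
# PF sec. 14, case (b): final form of the assembly (module PF14-[END])

`exists_y_of_b_final` = `exists_y_of_b'` where the character-theoretic input `hchar` receives the
Frobenius class `FrobClass L (fittingHallOf L)`, `U ≤ L_F` and `|L : L_F| = pq` as hypotheses
(so that `parity_card_frobClass` / `xy_of_pieces` apply directly).
-/

set_option autoImplicit false
set_option linter.unusedSectionVars false
set_option linter.unusedVariables false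
set_option linter.style.haveILetI false

namespace Cfsg.Agent.Lib.Helper34.PF14End

open Cfsg Cfsg.Agent.Lib.Helper4.PF Cfsg.Agent.Lib.Helper4 Cfsg.Agent.Lib.Helper33.PF13

universe u

variable {G : Type u} [Group G] [Finite G]

/-- **The last clause of `Stmt1544Core`**, final form: `hchar` is handed the Frobenius class of `L`,
`U ≤ L_F` and `|L : L_F| = pq`. -/
theorem exists_y_of_b_final (hG : IsMinSimpleOddOrder G) (bg : BookBGData G)
    (h1543 : Stmt1543 G) (h1549 : Stmt1549 G)
    (h127 : ∀ L : Subgroup G, IsCoatom L → LitTypeI L → IsFrobWithFittingHall L)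
    {S T W₁ W₂ U V : Subgroup G} (hPair : PairHyp S T W₁ W₂ U V)
    (hqp : Nat.card W₁ < Nat.card W₂)
    (hUc : IsCyclic U)
    (hUn : Nat.card U * (Nat.card W₂ - 1) = Nat.card W₂ ^ Nat.card W₁ - 1)
    (hUreg : ∀ u ∈ U, u ≠ 1 → ∀ x ∈ fittingHallOf S, u * x = x * u → x = 1)
    (hUq : Nat.card U ≡ 1 [MOD Nat.card W₁])
    (hVc : IsCyclic V)
    (hVn : Nat.card V * (Nat.card W₁ - 1) = Nat.card W₁ ^ Nat.card W₂ - 1)
    (hVreg : ∀ v ∈ V, v ≠ 1 → ∀ x ∈ fittingHallOf T, v * x = x * v → x = 1)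
    (hna : ∀ L : Subgroup G, IsCoatom L → Subgroup.normalizer (U : Set G) ≤ L →
      ¬ (fittingHallOf L ⊓ W₁ = ⊥ ∧ fittingHallOf L ⊔ W₁ = L))
    (hchar : IsOfTypeII T → ∀ L : Subgroup G, IsCoatom L → Subgroup.normalizer (U : Set G) ≤ L →
      FrobClass L (fittingHallOf L) → U ≤ fittingHallOf L →
      (fittingHallOf L).relIndex L = Nat.card W₂ * Nat.card W₁ →
      ∃ x y : ℤ, ((x = 1 ∧ y = 0) ∨ (x = 0 ∧ y = 1) ∨ (x = 0 ∧ y = 0)) ∧
        (Even x → Nat.card (fittingHallOf L) - 1 ≤ Nat.card W₂ * (Nat.card U - 1)) ∧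
        (Even y → Nat.card (fittingHallOf L) - 1 ≤ Nat.card W₁ * (Nat.card V - 1))) :
    ∃ y ∈ fittingHallOf T,
      W₂.map (MulAut.conj y).toMonoidHom ≤ Subgroup.normalizer (U : Set G) := by
  obtain ⟨hS, hT, hSP, hTP, hST, hII, hS25, hT25⟩ := id hPair
  have hsolv : ∀ M : Subgroup G, IsCoatom M → Group.IsSolvable M := fun M hM => hG.2.2.2 M hM.1
  have hsimple : IsSimpleGroup G := hG.2.1
  have hST' : T ⊓ S = W₂ ⊔ W₁ := by rw [inf_comm, hST, sup_comm]
  obtain ⟨-, hSII', hEAS, -, -, -⟩ := h1543 S T W₁ W₂ U V hS hT hSP hTP hST hII hS25 hT25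
  have hSII : IsOfTypeII S := hSII' hqp
  obtain ⟨hT23, -, hEAT, -, hTIT, hNT⟩ :=
    h1543 T S W₂ W₁ V U hT hS hTP hSP hST' hII.symm hT25 hS25
  obtain ⟨hU1, hq, -⟩ := typeII_data (hsolv S hS) hSP hSII
  have hp := card_W₂_prime hTP hT23
  have hq3 : 3 ≤ Nat.card W₁ := by
    have hodd : Odd (Nat.card W₁) := Odd.of_dvd_nat hG.1 (Subgroup.card_subgroup_dvd_card W₁)
    have h2 := hq.two_le
    rcases Nat.lt_or_ge (Nat.card W₁) 3 with h | h
    · exfalso
      have : Nat.card W₁ = 2 := by omega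
      rw [this] at hodd
      exact absurd hodd (by decide)
    · exact h
  have hUS : U ≤ S := hSP.U_compl.2.1.trans hSP.W₁_compl.1
  have hVT : V ≤ T := hTP.U_compl.2.1.trans hTP.W₁_compl.1
  obtain ⟨L, hL, hNU⟩ := exists_coatom_normalizer_le hsimple hS hUS hU1
  obtain ⟨hfrobL, hUH, halt⟩ :=
    h1549 S T W₁ W₂ U V hS hT hSP hTP hST hII hS25 hT25 hSII L hL hNU
  rcases halt with ha | ⟨y, hy, hinf, hsup⟩
  · exact absurd ha (hna L hL hNU)
  have hLI := litTypeI_of_NU_le hG bg h1543 hPair hSII hL hNU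
  have hpq_ne : Nat.card W₁ ≠ Nat.card W₂ := ne_of_lt hqp
  have habS := comm_of_elementaryAbelian hEAS
  have habT := comm_of_elementaryAbelian hEAT
  have hIIall := hII_of_pair hG hSP hTP
    (fun M hM h => conj_of_typeII bg hPair hpq_ne hM h) (fun _ => habS) (fun _ => hUreg)
    (fun _ => habT) (fun _ => hVreg)
  have c := frobClass_of_litTypeI hG bg h127 hIIall hL hLI
  have hyW₁ : ∀ w ∈ W₁, y * w * y⁻¹ = w := by
    intro w hw
    have hwT : w ∈ fittingHallOf T := (hTP.W₂_le hw).1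
    rw [habT y hy w hwT]; group
  have hWL : W₁ ⊔ W₂.map (MulAut.conj y).toMonoidHom ≤ L := by
    rw [← hsup]; exact le_sup_right
  have he : (fittingHallOf L).relIndex L = Nat.card W₂ * Nat.card W₁ := by
    rw [c.relIndex_eq_card hWL hinf hsup, card_sup_map_conj hSP.selfNormalizing hyW₁, mul_comm]
  have hcyc : IsCyclic (fittingHallOf L) := by
    rcases hT23 with hTII | hTIII
    · obtain ⟨hV1, -, -⟩ := typeII_data (hsolv T hT) hTP hTII
      obtain ⟨L', hL', hNV⟩ := exists_coatom_normalizer_le hsimple hT hVT hV1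
      obtain ⟨hfrobL', hVH', halt'⟩ :=
        h1549 T S W₂ W₁ V U hT hS hTP hSP hST' hII.symm hT25 hS25 hTII L' hL' hNV
      have hLI' := litTypeI_of_NU_le hG bg h1543 hPair.symm hTII hL' hNV
      have c' := frobClass_of_litTypeI hG bg h127 hIIall hL' hLI'
      have he' : (fittingHallOf L').relIndex L' = Nat.card W₂ ∨
          (fittingHallOf L').relIndex L' = Nat.card W₂ * Nat.card W₁ := by
        rcases halt' with ⟨hinf', hsup'⟩ | ⟨y', hy', hinf', hsup'⟩
        · left
          have hW₂L' : W₂ ≤ L' := by rw [← hsup']; exact le_sup_right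
          exact c'.relIndex_eq_card hW₂L' hinf' hsup'
        · right
          have hW' : W₂ ⊔ W₁.map (MulAut.conj y').toMonoidHom ≤ L' := by
            rw [← hsup']; exact le_sup_right
          have hy'W₂ : ∀ w ∈ W₂, y' * w * y'⁻¹ = w := by
            intro w hw
            have hwS : w ∈ fittingHallOf S := (hSP.W₂_le hw).1
            rw [habS y' hy' w hwS]; group
          rw [c'.relIndex_eq_card hW' hinf' hsup', card_sup_map_conj hTP.selfNormalizing hy'W₂]
      obtain ⟨x, y₁, hxy, hpx, hpy⟩ := hchar hTII L hL hNU c hUH he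
      exact isCyclic_of_typeII hG.1 c c' hp hq hq3 hqp hUH hVH' hUc hVc hUn hVn hUq he he'
        x y₁ hxy hpx hpy
    · have hVab : ∀ a ∈ V, ∀ b ∈ V, a * b = b * a := by
        intro a ha b hb
        haveI := hVc
        letI : CommGroup V := IsCyclic.commGroup
        have := mul_comm (⟨a, ha⟩ : V) ⟨b, hb⟩
        exact congrArg Subtype.val this
      have hV1 : V ≠ ⊥ := by
        intro h
        have h1 : Nat.card V = 1 := by rw [h]; exact Subgroup.card_bot
        rw [h1, one_mul] at hVn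
        have h2 : Nat.card W₁ < Nat.card W₁ ^ Nat.card W₂ := by
          have := Nat.pow_lt_pow_right (by omega : 1 < Nat.card W₁) hp.one_lt
          rwa [pow_one] at this
        omega
      have c' := frobClass_pseudo hTP hTIII hTIT hNT hVab hV1 hVreg
      have hVW : V ⊓ W₂ = ⊥ := by
        have h1 : ⁅T, T⁆ ⊓ W₂ = ⊥ := hTP.W₁_compl.2.2.1
        rw [eq_bot_iff, ← h1]
        exact inf_le_inf_right _ hTP.U_compl.2.1
      have he' : V.relIndex (V ⊔ W₂) = Nat.card W₂ := c'.relIndex_eq_card le_sup_right hVW rfl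
      have hnf := c.no_fusion_of_relIndex_ne c' (by
        rw [he, he']
        intro h
        have h3 : Nat.card W₂ * Nat.card W₁ = Nat.card W₂ * 1 := by rw [mul_one]; exact h
        have := Nat.eq_of_mul_eq_mul_left hp.pos h3
        omega)
      exact isCyclic_of_small hG.1 c c' hnf hp hq hq3 hqp hUH le_rfl hUc hUn hVn hUq he he'
  exact exists_conj_le_normalizer c hcyc hUH ⟨y, hy, hinf, hsup⟩

end Cfsg.Agent.Lib.Helper34.PF14End
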