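import Mathlib
import Cfsg.Prelude.Def_Amalgam
import Cfsg.Agent.Lib.Helper12.AmalDefs
import Cfsg.Agent.Lib.Helper12.AmalCrit
import Cfsg.Agent.Lib.Helper12.AmalTreeDefs
import Cfsg.Agent.Lib.Helper68.AmalDDefs
import Cfsg.Agent.Lib.Helper68.AmalDDefs2
import Cfsg.Agent.Lib.Helper68.AmalDOrb
import Cfsg.Agent.Lib.Helper34.AmalDB2b
import Cfsg.Agent.Lib.Helper34.AmalDLAB
import Cfsg.Agent.Lib.Helper34.AmalDFIX
import Cfsg.Agent.Lib.Helper34.AmalDL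
import Cfsg.Agent.Lib.Helper34.AmalDB6b

/-!
# S2858 core, case (D), batch 2 (helper68's sheet `AmalDSHEET2.md`): module [D-B6c] (helper34, hedge)

`b_six_false`: `b = 6` is impossible - statement exactly as in `Lib/Helper68/AmalDStubs2.lean.txt`.
No lemma of [D-NLEM] is needed: `G_{p 2} = ⟨Q_{p 1}, Q_{p 2}, Q_{p 3}⟩` (`gen_two`, `edge_eq`), and the element
`n = x₁ x₃ x₁` (`x₁ ∈ Q_{p 1} ∖ Q_{p 2}`, `x₃ ∈ Q_{p 3} ∖ Q_{p 2}`) swaps `p 1, p 3` and centralizes `F_{p 2}`.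
-/

set_option autoImplicit false

namespace Cfsg.Agent.Lib.Helper34.AmalDB6c

open Cfsg Cfsg.Agent.Lib.Helper68.AmalD Cfsg.Agent.Lib.Helper7.AmalC
open Cfsg.Agent.Lib.Helper12.Amal hiding Flat
open Cfsg.Agent.Lib.Helper34.AmalDLAB Cfsg.Agent.Lib.Helper34.AmalDFIX Cfsg.Agent.Lib.Helper34.AmalDL
open Cfsg.Agent.Lib.Helper34.AmalDB6b

universe u

variable {G : Type u} [Group G] {P₁ P₂ : Subgroup G}

/-- a subgroup all of whose elements conjugate `K` into itself normalizes `K` -/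
theorem le_normalizer_of_conj {X : Type*} [Group X] {H K : Subgroup X}
    (h : ∀ g ∈ H, ∀ d ∈ K, g * d * g⁻¹ ∈ K) : H ≤ Subgroup.normalizer (K : Set X) := by
  intro g hg
  rw [Subgroup.mem_normalizer_iff]
  intro d
  constructor
  · exact h g hg d
  · intro hd
    have := h g⁻¹ (H.inv_mem hg) _ hd
    simpa [mul_assoc] using this

/-- conjugation by an element of the normalizer -/
theorem conj_mem_of_mem_normalizer {X : Type*} [Group X] {K : Subgroup X} {g d : X}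
    (hg : g ∈ Subgroup.normalizer (K : Set X)) (hd : d ∈ K) : g * d * g⁻¹ ∈ K :=
  (Subgroup.mem_normalizer_iff.1 hg d).1 hd

/-- `Sq(X) ≤ X` -/
theorem SqOf_le (X : Subgroup G) : SqOf X ≤ X := by
  unfold SqOf
  rw [Subgroup.closure_le]
  rintro g ⟨d, hd, rfl⟩
  exact X.mul_mem hd hd

/-- `E` is symmetric -/
theorem Ev_symm (x y z : CosetVertex P₁ P₂) : Ev z y x = Ev x y z := by
  unfold Ev
  rw [inf_comm (Dv z) (Dv y), inf_assoc, inf_comm (Dv z) (Dv x), ← inf_assoc, inf_comm (Dv y) (Dv x)]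

/-- for an edge there is an element of `Q_x` outside `Q_y` -/
theorem exists_mem_Q_not_mem (hB : Base P₁ P₂) {x y : CosetVertex P₁ P₂}
    (h : (cosetGraph P₁ P₂).Adj x y) : ∃ g ∈ Qv x, g ∉ Qv y := by
  by_contra hcon
  have hle : Qv x ≤ Qv y := fun g hg => by
    by_contra hgy
    exact hcon ⟨g, hg, hgy⟩
  have h1 : Gv y ⊓ Gv x = Qv y := by
    rw [hB.edge_eq y x h.symm]
    exact sup_eq_left.2 hle
  have h2 := hB.card_T y x h.symm
  rw [h1] at h2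
  have hfinG := hB.fin y
  have hfin : Finite ↥(Qv y) :=
    Finite.of_injective (Subgroup.inclusion (hB.Q_le_G y)) (Subgroup.inclusion_injective _)
  have hpos : 0 < Nat.card ↥(Qv y) := Nat.card_pos
  omega

/-- `dist x l ≤ k + 1` if `dist x y ≤ k` and `y ~ l` -/
theorem dist_le_succ (hB : Base P₁ P₂) {x y l : CosetVertex P₁ P₂} {k : ℕ}
    (h : (cosetGraph P₁ P₂).dist x y ≤ k) (hyl : (cosetGraph P₁ P₂).Adj y l) :
    (cosetGraph P₁ P₂).dist x l ≤ k + 1 := by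
  have h1 := hB.conn.dist_triangle (u := x) (v := y) (w := l)
  have h2 : (cosetGraph P₁ P₂).dist y l = 1 := SimpleGraph.dist_eq_one_iff_adj.mpr hyl
  omega

/-- `Z_x ≤ D_y` if `dist x y + 1 < b` -/
theorem Zv_le_Dv' (hB : Base P₁ P₂) {b : ℕ} (hmin : MinB P₁ P₂ b) {x y : CosetVertex P₁ P₂} {k : ℕ}
    (h : (cosetGraph P₁ P₂).dist x y ≤ k) (hk : k + 1 < b) : Zv x ≤ Dv y := by
  intro z hz
  rw [mem_Dv]
  refine ⟨hmin.le (by omega) hz, fun l hl => ?_⟩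
  have := dist_le_succ hB h hl
  exact hmin.le (by omega) hz

/-- flat vertex: `Q_y ∩ Q_l ≤ D_y` -/
theorem Q_inf_le_Dv (hB : Base P₁ P₂) {y l : CosetVertex P₁ P₂} (hf : Flat y)
    (hl : (cosetGraph P₁ P₂).Adj y l) : Qv y ⊓ Qv l ≤ Dv y := by
  intro g hg
  rw [mem_Dv]
  exact ⟨hg.1, fun m hm => flat_Q_inf_le hB hf hl hm hg⟩

/-- the other two neighbours are interchanged by an element of `G_x` fixing `l` but not in `Q_x` -/
theorem swap_of_not_mem_Q (hB : Base P₁ P₂) {x l r : CosetVertex P₁ P₂} {g : G}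
    (hl : (cosetGraph P₁ P₂).Adj x l) (hr : (cosetGraph P₁ P₂).Adj x r) (hlr : l ≠ r)
    (gx : g • x = x) (gl : g • l = l) (hg : g ∉ Qv x) :
    (cosetGraph P₁ P₂).Adj x (g • r) ∧ g • r ≠ l ∧ g • r ≠ r ∧ g • (g • r) = r := by
  have hadj : (cosetGraph P₁ P₂).Adj x (g • r) := by
    have := hB.smul_adj g _ _ hr
    rwa [gx] at this
  have hne_l : g • r ≠ l := by
    intro h
    rw [← gl] at h
    exact hlr (MulAction.injective g h).symm
  have hne_r : g • r ≠ r := by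
    intro h
    exact hg (Q_ker_of_base hB x l r hl hr hlr g gx gl h)
  refine ⟨hadj, hne_l, hne_r, ?_⟩
  have hadj2 : (cosetGraph P₁ P₂).Adj x (g • (g • r)) := by
    have := hB.smul_adj g _ _ hadj
    rwa [gx] at this
  have hne2_l : g • (g • r) ≠ l := by
    intro h
    rw [← gl] at h
    exact hne_l (MulAction.injective g h)
  have hne2_m : g • (g • r) ≠ g • r := by
    intro h
    exact hne_r (MulAction.injective g h)
  exact nbr_eq_of_base hB x l (g • r) (g • (g • r)) r hl hadj (Ne.symm hne_l) hadj2 hne2_l hne2_m hr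
    (Ne.symm hlr) (Ne.symm hne_r)

section main

variable (hB : Base P₁ P₂) (S : FS P₁ P₂) (K : CB P₁ P₂ 6)
  (N1 : N1Prop P₁ P₂ 6) (SH : ShiftProp P₁ P₂ 6)
  (NM : ∀ p : ℕ → CosetVertex P₁ P₂, Crit P₁ P₂ 6 p → Flat (p 0) →
      ∀ g ∈ Qv (p 1), ∀ d ∈ SqOf (Ev (p 0) (p 2) (p 4)),
        g * d * g⁻¹ ∈ SqOf (Ev (p 0) (p 2) (p 4)))

include hB K SH NM in
/-- `Q_{p 3}` normalizes `Sq(E(p 0, p 2, p 4))` -/
theorem Q3_norm {p : ℕ → CosetVertex P₁ P₂} (hp : Crit P₁ P₂ 6 p) (hf : Flat (p 0)) :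
    ∀ g ∈ Qv (p 3), ∀ d ∈ SqOf (Ev (p 0) (p 2) (p 4)),
      g * d * g⁻¹ ∈ SqOf (Ev (p 0) (p 2) (p 4)) := by
  have a01 : (cosetGraph P₁ P₂).Adj (p 0) (p 1) := hp.1 0 (by omega)
  have a12 : (cosetGraph P₁ P₂).Adj (p 1) (p 2) := hp.1 1 (by omega)
  have a23 : (cosetGraph P₁ P₂).Adj (p 2) (p 3) := hp.1 2 (by omega)
  have a34 : (cosetGraph P₁ P₂).Adj (p 3) (p 4) := hp.1 3 (by omega)
  have hf2 : Flat (p 2) := flat_two hB a01 a12 hf
  have hf4 : Flat (p 4) := flat_two hB a23 a34 hf2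
  obtain ⟨l', hl', hl'1, -⟩ := cubic_of_base hB (p 0) (p 1) (p 1)
  obtain ⟨w, hw, hw0, hp'⟩ := SH p hp hf l' hl' hl'1
  have hr := crit_rev' hB K hp'
  have r0 : rev 6 (slideBack w (slideBack l' p)) 0 = p 4 := by simp [rev, slideBack]
  have r1 : rev 6 (slideBack w (slideBack l' p)) 1 = p 3 := by simp [rev, slideBack]
  have r2 : rev 6 (slideBack w (slideBack l' p)) 2 = p 2 := by simp [rev, slideBack]
  have r4 : rev 6 (slideBack w (slideBack l' p)) 4 = p 0 := by simp [rev, slideBack]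
  have := NM _ hr (by rw [r0]; exact hf4)
  rw [r0, r1, r2, r4, Ev_symm] at this
  exact this

include hB S K N1 SH NM in
/-- `G_{p 2}` normalizes `Sq(E(p 0, p 2, p 4))` -/
theorem Gv_le_normalizer {p : ℕ → CosetVertex P₁ P₂} (hp : Crit P₁ P₂ 6 p) (hf : Flat (p 0)) :
    Gv (p 2) ≤ Subgroup.normalizer ((SqOf (Ev (p 0) (p 2) (p 4)) : Subgroup G) : Set G) := by
  have hmin := K.minB
  have a01 : (cosetGraph P₁ P₂).Adj (p 0) (p 1) := hp.1 0 (by omega)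
  have a12 : (cosetGraph P₁ P₂).Adj (p 1) (p 2) := hp.1 1 (by omega)
  have a23 : (cosetGraph P₁ P₂).Adj (p 2) (p 3) := hp.1 2 (by omega)
  have a34 : (cosetGraph P₁ P₂).Adj (p 3) (p 4) := hp.1 3 (by omega)
  have hf2 : Flat (p 2) := flat_two hB a01 a12 hf
  have n02 : p 0 ≠ p 2 := crit_ne hB hmin hp (i := 0) (j := 2) (by omega) (by omega)
  have n24 : p 2 ≠ p 4 := crit_ne hB hmin hp (i := 2) (j := 4) (by omega) (by omega)
  have n13 : p 1 ≠ p 3 := crit_ne hB hmin hp (i := 1) (j := 3) (by omega) (by omega)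
  have hQ1 : Qv (p 1) ≤ Subgroup.normalizer ((SqOf (Ev (p 0) (p 2) (p 4)) : Subgroup G) : Set G) :=
    le_normalizer_of_conj (NM p hp hf)
  have hQ3 : Qv (p 3) ≤ Subgroup.normalizer ((SqOf (Ev (p 0) (p 2) (p 4)) : Subgroup G) : Set G) :=
    le_normalizer_of_conj (Q3_norm hB K SH NM hp hf)
  -- the letter at `p 2` is `T`
  have hT : cv (p 1) * cv (p 0) = cv (p 3) * cv (p 4) * cv (p 2) := by
    rcases lab_dich hB S hf2 a12.symm a23 a01.symm a34 n02 n24.symm with h | h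
    · exact absurd h.symm (N1 p hp hf).2
    · exact h
  -- the element `n`
  obtain ⟨x₁, hx₁, hx₁n⟩ := exists_mem_Q_not_mem hB a12
  obtain ⟨x₃, hx₃, hx₃n⟩ := exists_mem_Q_not_mem hB a23.symm
  have x₁1 : x₁ • p 1 = p 1 := (Q_fix_of_base hB _ _ a12 x₁ hx₁).1
  have x₁2 : x₁ • p 2 = p 2 := (Q_fix_of_base hB _ _ a12 x₁ hx₁).2
  have x₃3 : x₃ • p 3 = p 3 := (Q_fix_of_base hB _ _ a23.symm x₃ hx₃).1
  have x₃2 : x₃ • p 2 = p 2 := (Q_fix_of_base hB _ _ a23.symm x₃ hx₃).2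
  obtain ⟨am, hm1, hm3, hmm⟩ := swap_of_not_mem_Q hB a12.symm a23 n13 x₁2 x₁1 hx₁n
  obtain ⟨am', hm'3, hm'1, hmm'⟩ := swap_of_not_mem_Q hB a23 a12.symm n13.symm x₃2 x₃3 hx₃n
  -- `x₃ • p 1 = x₁ • p 3` (the third neighbour of `p 2`)
  have hmeq : x₃ • p 1 = x₁ • p 3 :=
    nbr_eq_of_base hB (p 2) (p 1) (p 3) _ _ a12.symm a23 n13 am' hm'1 hm'3 am hm1 hm3
  have hn1 : (x₁ * x₃ * x₁) • p 1 = p 3 := by
    rw [mul_smul, mul_smul, x₁1, hmeq, hmm]
  have hn3 : (x₁ * x₃ * x₁) • p 3 = p 1 := by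
    rw [mul_smul, mul_smul, ← hmeq, hmm', x₁1]
  have hn2 : (x₁ * x₃ * x₁) • p 2 = p 2 := by
    rw [mul_smul, mul_smul, x₁2, x₃2, x₁2]
  have hnN : x₁ * x₃ * x₁ ∈
      Subgroup.normalizer ((SqOf (Ev (p 0) (p 2) (p 4)) : Subgroup G) : Set G) :=
    Subgroup.mul_mem _ (Subgroup.mul_mem _ (hQ1 hx₁) (hQ3 hx₃)) (hQ1 hx₁)
  have hcent : ∀ l, (cosetGraph P₁ P₂).Adj (p 2) l →
      Qv l ≤ Subgroup.centralizer ((Fv (p 2) : Subgroup G) : Set G) := by
    intro l hl q hq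
    rw [Subgroup.mem_centralizer_iff]
    intro e he
    exact (Subgroup.mem_centralizer_iff.1 (hB.Z_cent_Q l (Fv_le_Zv hl he))) q hq |>.symm
  have hnC : x₁ * x₃ * x₁ ∈ Subgroup.centralizer ((Fv (p 2) : Subgroup G) : Set G) :=
    Subgroup.mul_mem _ (Subgroup.mul_mem _ (hcent _ a12.symm hx₁) (hcent _ a23 hx₃))
      (hcent _ a12.symm hx₁)
  have hnconj : ∀ e ∈ Fv (p 2), (x₁ * x₃ * x₁) * e * (x₁ * x₃ * x₁)⁻¹ = e := by
    intro e he
    have := (Subgroup.mem_centralizer_iff.1 hnC) e he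
    rw [← this, mul_inv_cancel_right]
  -- `Q_{p 2}` normalizes
  have hQ2 : Qv (p 2) ≤ Subgroup.normalizer ((SqOf (Ev (p 0) (p 2) (p 4)) : Subgroup G) : Set G) := by
    apply le_normalizer_of_conj
    intro u hu d hd
    by_cases hu1 : u ∈ Qv (p 1)
    · exact NM p hp hf u hu1 d hd
    · have u2 : u • p 2 = p 2 := (Q_fix_of_base hB _ _ a23 u hu).1
      have u1 : u • p 1 = p 1 := (Q_fix_of_base hB _ _ a12.symm u hu).2
      have u3 : u • p 3 = p 3 := (Q_fix_of_base hB _ _ a23 u hu).2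
      have hu3 : u ∉ Qv (p 3) := fun h => hu1 (flat_Q_inf_le hB hf2 a23 a12.symm ⟨hu, h⟩)
      obtain ⟨b0, b0n2, b0n0, -⟩ := swap_of_not_mem_Q hB a12 a01.symm n02.symm u1 u2 hu1
      obtain ⟨b4, b4n2, b4n4, -⟩ := swap_of_not_mem_Q hB a23.symm a34 n24 u3 u2 hu3
      have c0 : cv (u • p 0) = cv (p 0) * cv (p 2) :=
        lab_sib hB S hf2 a12.symm a01.symm b0 n02 b0n2 (Ne.symm b0n0)
      have c4 : cv (u • p 4) = cv (p 4) * cv (p 2) :=
        lab_sib hB S hf2 a23 a34 b4 n24.symm b4n2 (Ne.symm b4n4)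
      -- the images under `n`
      have an0 : (cosetGraph P₁ P₂).Adj (p 3) ((x₁ * x₃ * x₁) • p 0) := by
        have := hB.smul_adj (x₁ * x₃ * x₁) _ _ a01.symm
        rwa [hn1] at this
      have an4 : (cosetGraph P₁ P₂).Adj (p 1) ((x₁ * x₃ * x₁) • p 4) := by
        have := hB.smul_adj (x₁ * x₃ * x₁) _ _ a34
        rwa [hn3] at this
      have nn0 : (x₁ * x₃ * x₁) • p 0 ≠ p 2 := by
        intro h
        rw [← hn2] at h
        exact n02 (MulAction.injective _ h)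
      have nn4 : (x₁ * x₃ * x₁) • p 4 ≠ p 2 := by
        intro h
        rw [← hn2] at h
        exact n24 (MulAction.injective _ h).symm
      have e10 : cv (p 3) * cv ((x₁ * x₃ * x₁) • p 0) = cv (p 1) * cv (p 0) := by
        have h1 := hnconj _ (S.F_mem (p 2) (p 1) (p 0) hf2 a12.symm a01.symm n02)
        have h2 : (x₁ * x₃ * x₁) * (cv (p 1) * cv (p 0)) * (x₁ * x₃ * x₁)⁻¹ =
            ((x₁ * x₃ * x₁) * cv (p 1) * (x₁ * x₃ * x₁)⁻¹) *
              ((x₁ * x₃ * x₁) * cv (p 0) * (x₁ * x₃ * x₁)⁻¹) := by group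
        rw [h2, ← cv_smul hB S, ← cv_smul hB S, hn1] at h1
        exact h1
      have e34 : cv (p 1) * cv ((x₁ * x₃ * x₁) • p 4) = cv (p 3) * cv (p 4) := by
        have h1 := hnconj _ (S.F_mem (p 2) (p 3) (p 4) hf2 a23 a34 n24.symm)
        have h2 : (x₁ * x₃ * x₁) * (cv (p 3) * cv (p 4)) * (x₁ * x₃ * x₁)⁻¹ =
            ((x₁ * x₃ * x₁) * cv (p 3) * (x₁ * x₃ * x₁)⁻¹) *
              ((x₁ * x₃ * x₁) * cv (p 4) * (x₁ * x₃ * x₁)⁻¹) := by group
        rw [h2, ← cv_smul hB S, ← cv_smul hB S, hn3] at h1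
        exact h1
      have hn0u4 : (x₁ * x₃ * x₁) • p 0 = u • p 4 := by
        apply sib_eq_of_cv_eq hB S hf2 a23 an0 b4 nn0 b4n2
        have : cv (p 3) * cv ((x₁ * x₃ * x₁) • p 0) = cv (p 3) * cv (u • p 4) := by
          rw [e10, hT, c4, mul_assoc]
        exact mul_left_cancel this
      have hn4u0 : (x₁ * x₃ * x₁) • p 4 = u • p 0 := by
        apply sib_eq_of_cv_eq hB S hf2 a12.symm an4 b0 nn4 b0n2
        have : cv (p 1) * cv ((x₁ * x₃ * x₁) • p 4) = cv (p 1) * cv (u • p 0) := by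
          rw [e34, c0, ← mul_assoc, hT, mul_assoc, mul_assoc, cv_sq hB S, mul_one]
        exact mul_left_cancel this
      -- conjugate
      have h1 := conj_mem_SqOf_Ev hB u (p 0) (p 2) (p 4) hd
      rw [u2, ← hn4u0, ← hn0u4, ← Ev_symm] at h1
      have h2 := conj_mem_SqOf_Ev hB (x₁ * x₃ * x₁)⁻¹ _ _ _ h1
      rw [inv_smul_smul, inv_smul_smul, ← hn2, inv_smul_smul] at h2
      have h3 := conj_mem_of_mem_normalizer hnN h2
      have e : (x₁ * x₃ * x₁) * ((x₁ * x₃ * x₁)⁻¹ * (u * d * u⁻¹) * (x₁ * x₃ * x₁)⁻¹⁻¹) *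
          (x₁ * x₃ * x₁)⁻¹ = u * d * u⁻¹ := by group
      rw [e] at h3
      exact h3
  -- assemble
  rw [hB.gen_two (p 2) (p 1) (p 3) a12.symm a23 n13, hB.edge_eq _ _ a12.symm, hB.edge_eq _ _ a23]
  exact sup_le (sup_le hQ2 hQ1) (sup_le hQ2 hQ3)

end main

/-- [D-B6c] `b = 6` is impossible -/
theorem b_six_false (hB : Base P₁ P₂) (S : FS P₁ P₂) (K : CB P₁ P₂ 6) (S1 : FS1 P₁ P₂ 6)
    (N1 : N1Prop P₁ P₂ 6) (SH : ShiftProp P₁ P₂ 6)
    (SQ : ∀ p : ℕ → CosetVertex P₁ P₂, Crit P₁ P₂ 6 p → Flat (p 0) →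
      SqOf (Ev (p 0) (p 2) (p 4)) = SqOf (Ev (p 2) (p 4) (p 6)))
    (NM : ∀ p : ℕ → CosetVertex P₁ P₂, Crit P₁ P₂ 6 p → Flat (p 0) →
      ∀ g ∈ Qv (p 1), ∀ d ∈ SqOf (Ev (p 0) (p 2) (p 4)),
        g * d * g⁻¹ ∈ SqOf (Ev (p 0) (p 2) (p 4)))
    {p : ℕ → CosetVertex P₁ P₂} (hp : Crit P₁ P₂ 6 p) (hf : Flat (p 0)) : False := by
  have hmin := K.minB
  have a01 : (cosetGraph P₁ P₂).Adj (p 0) (p 1) := hp.1 0 (by omega)
  have a12 : (cosetGraph P₁ P₂).Adj (p 1) (p 2) := hp.1 1 (by omega)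
  have a23 : (cosetGraph P₁ P₂).Adj (p 2) (p 3) := hp.1 2 (by omega)
  have a34 : (cosetGraph P₁ P₂).Adj (p 3) (p 4) := hp.1 3 (by omega)
  have hf2 : Flat (p 2) := flat_two hB a01 a12 hf
  have hf6 : Flat (p 6) := crit_flat_last hB K S1 hp
  have n02 : p 0 ≠ p 2 := crit_ne hB hmin hp (i := 0) (j := 2) (by omega) (by omega)
  have n24 : p 2 ≠ p 4 := crit_ne hB hmin hp (i := 2) (j := 4) (by omega) (by omega)
  have d06 : (cosetGraph P₁ P₂).dist (p 0) (p 6) = 6 :=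
    crit_dist_eq hB hmin hp (i := 0) (j := 6) (by omega) (by omega)
  have hsym : ¬ Zv (p 6) ≤ Qv (p 0) := K.sym (p 0) (p 6) d06 hp.2
  -- `S₀ = 1`
  have hG2 := Gv_le_normalizer hB S K N1 SH NM hp hf
  have hrev := crit_rev' hB K hp
  have hG4 := Gv_le_normalizer hB S K N1 SH NM hrev (by simpa [rev] using hf6)
  have r0 : rev 6 p 0 = p 6 := by simp [rev]
  have r2 : rev 6 p 2 = p 4 := by simp [rev]
  have r4 : rev 6 p 4 = p 2 := by simp [rev]
  rw [r0, r2, r4, Ev_symm, ← SQ p hp hf] at hG4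
  have hG3 : Gv (p 3) ≤
      Subgroup.normalizer ((SqOf (Ev (p 0) (p 2) (p 4)) : Subgroup G) : Set G) := by
    rw [hB.gen_two (p 3) (p 2) (p 4) a23.symm a34 n24]
    exact sup_le (inf_le_right.trans hG2) (inf_le_right.trans hG4)
  have hle : SqOf (Ev (p 0) (p 2) (p 4)) ≤ Gv (p 2) ⊓ Gv (p 3) := by
    refine (SqOf_le _).trans ?_
    intro g hg
    have hD : g ∈ Dv (p 2) := hg.1.2
    rw [mem_Dv] at hD
    exact ⟨hB.Q_le_G _ hD.1, hB.Q_le_G _ (hD.2 _ a23)⟩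
  have hbot := hB.core (p 2) (p 3) a23 _ hle hG2 hG3
  have hsq : ∀ d ∈ Ev (p 0) (p 2) (p 4), d * d = 1 := by
    intro d hd
    have : d * d ∈ SqOf (Ev (p 0) (p 2) (p 4)) := Subgroup.subset_closure ⟨d, hd, rfl⟩
    rw [hbot, Subgroup.mem_bot] at this
    exact this
  -- the element `u`
  obtain ⟨v, hv, hv1⟩ := exists_mem_Q_not_mem hB a12.symm
  have v2 : v • p 2 = p 2 := (Q_fix_of_base hB _ _ a23 v hv).1
  have v1 : v • p 1 = p 1 := (Q_fix_of_base hB _ _ a12.symm v hv).2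
  have v3 : v • p 3 = p 3 := (Q_fix_of_base hB _ _ a23 v hv).2
  have hv3 : v ∉ Qv (p 3) := fun h => hv1 (flat_Q_inf_le hB hf2 a23 a12.symm ⟨hv, h⟩)
  obtain ⟨b0, b0n2, b0n0, -⟩ := swap_of_not_mem_Q hB a12 a01.symm n02.symm v1 v2 hv1
  obtain ⟨b4, b4n2, b4n4, -⟩ := swap_of_not_mem_Q hB a23.symm a34 n24 v3 v2 hv3
  have c0 : cv (v • p 0) = cv (p 0) * cv (p 2) :=
    lab_sib hB S hf2 a12.symm a01.symm b0 n02 b0n2 (Ne.symm b0n0)
  have hT : cv (p 1) * cv (p 0) = cv (p 3) * cv (p 4) * cv (p 2) := by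
    rcases lab_dich hB S hf2 a12.symm a23 a01.symm a34 n02 n24.symm with h | h
    · exact absurd h.symm (N1 p hp hf).2
    · exact h
  -- `E' = E(v p 0, p 2, v p 4)` has exponent 2
  have hsq' : ∀ d ∈ Ev (v • p 0) (p 2) (v • p 4), d * d = 1 := by
    intro d hd
    have h1 : v * (v⁻¹ * d * v) * v⁻¹ ∈ Ev (v • p 0) (v • p 2) (v • p 4) := by
      have e : v * (v⁻¹ * d * v) * v⁻¹ = d := by group
      rw [e, v2]
      exact hd
    have h2 := hsq _ ((conj_mem_Ev hB v _ _ _ _).1 h1)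
    calc d * d = v * ((v⁻¹ * d * v) * (v⁻¹ * d * v)) * v⁻¹ := by group
      _ = 1 := by rw [h2]; group
  have hcomm' : ∀ x ∈ Ev (v • p 0) (p 2) (v • p 4), ∀ y ∈ Ev (v • p 0) (p 2) (v • p 4),
      x * y = y * x := fun x hx y hy =>
    Cfsg.Agent.Lib.Helper34.AmalDB2b.comm_of_sq (hsq' x hx) (hsq' y hy)
      (hsq' _ (Subgroup.mul_mem _ hx hy))
  -- distances
  have d01 : (cosetGraph P₁ P₂).dist (p 0) (p 1) ≤ 1 :=
    (crit_dist_eq hB hmin hp (i := 0) (j := 1) (by omega) (by omega)).le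
  have d02 : (cosetGraph P₁ P₂).dist (p 0) (p 2) ≤ 2 :=
    (crit_dist_eq hB hmin hp (i := 0) (j := 2) (by omega) (by omega)).le
  have d03 : (cosetGraph P₁ P₂).dist (p 0) (p 3) ≤ 3 :=
    (crit_dist_eq hB hmin hp (i := 0) (j := 3) (by omega) (by omega)).le
  have d61 : (cosetGraph P₁ P₂).dist (p 6) (p 1) ≤ 5 := by
    rw [SimpleGraph.dist_comm]
    exact (crit_dist_eq hB hmin hp (i := 1) (j := 6) (by omega) (by omega)).le
  have d62 : (cosetGraph P₁ P₂).dist (p 6) (p 2) ≤ 4 := by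
    rw [SimpleGraph.dist_comm]
    exact (crit_dist_eq hB hmin hp (i := 2) (j := 6) (by omega) (by omega)).le
  have d63 : (cosetGraph P₁ P₂).dist (p 6) (p 3) ≤ 3 := by
    rw [SimpleGraph.dist_comm]
    exact (crit_dist_eq hB hmin hp (i := 3) (j := 6) (by omega) (by omega)).le
  -- `Z_{p 0} ≤ E'`
  have hZ0 : Zv (p 0) ≤ Ev (v • p 0) (p 2) (v • p 4) := by
    intro z hz
    refine ⟨⟨?_, ?_⟩, ?_⟩
    · exact Zv_le_Dv' hB hmin (dist_le_succ hB d01 b0) (by norm_num) hz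
    · exact Zv_le_Dv' hB hmin d02 (by norm_num) hz
    · exact Zv_le_Dv' hB hmin (dist_le_succ hB d03 b4) (by norm_num) hz
  -- `(p 6, v p 0)` is not critical
  have hfv0 : Flat (v • p 0) := hf.smul hB v
  have hnc : Zv (p 6) ≤ Qv (v • p 0) := by
    by_contra hcon
    have hd6 : (cosetGraph P₁ P₂).dist (p 6) (v • p 0) = 6 := by
      apply le_antisymm (dist_le_succ hB d61 b0)
      exact hmin _ _ hcon
    have hcon' : ¬ Zv (v • p 0) ≤ Qv (p 6) := K.sym _ _ hd6 hcon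
    have hq : Crit P₁ P₂ 6 (fun i => if i = 0 then v • p 0 else p i) := by
      refine ⟨?_, ?_⟩
      · intro i hi
        rcases Nat.eq_zero_or_pos i with rfl | hpos
        · simpa using b0.symm
        · have h1 : i ≠ 0 := by omega
          simp only [h1, if_false, Nat.add_eq_zero_iff, one_ne_zero, and_false]
          exact hp.1 i hi
      · simpa using hcon'
    have hN := (N1 _ hq (by simpa using hfv0)).2
    apply hN
    unfold FirstS
    simp only [OfNat.ofNat_ne_zero, if_false, one_ne_zero, if_true]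
    rw [c0, ← mul_assoc, hT, mul_assoc, mul_assoc, cv_sq hB S, mul_one]
  -- `Z_{p 6} ≤ E'`
  have hZ6 : Zv (p 6) ≤ Ev (v • p 0) (p 2) (v • p 4) := by
    intro z hz
    refine ⟨⟨?_, ?_⟩, ?_⟩
    · exact Q_inf_le_Dv hB hfv0 b0.symm ⟨hnc hz, hmin.le (by omega) hz⟩
    · exact Zv_le_Dv' hB hmin d62 (by norm_num) hz
    · exact Zv_le_Dv' hB hmin (dist_le_succ hB d63 b4) (by norm_num) hz
  -- the contradiction
  apply hsym
  intro t ht
  apply hB.cent_Z (p 0)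
  refine ⟨?_, ?_⟩
  · have h1 : t ∈ Qv (p 1) := hmin.le (by omega) ht
    exact hB.Q_le_G_adj a01.symm h1
  · show t ∈ Subgroup.centralizer ((Zv (p 0) : Subgroup G) : Set G)
    rw [Subgroup.mem_centralizer_iff]
    intro z hz
    exact hcomm' z (hZ0 hz) t (hZ6 ht)

end Cfsg.Agent.Lib.Helper34.AmalDB6c
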