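import Mathlib
import Cfsg.Prelude.Def_GeometricClasses
import Cfsg.Agent.Lib.Helper94.BHRSP.Kit
import Cfsg.Agent.Lib.Helper94.BHRSP.Kit2

/-!
# BHRSP-[P3] (helper34): `spGL m F` (m ≥ 2) normalises no field subalgebra of degree ≥ 2.
-/

set_option autoImplicit false

namespace Cfsg.Agent.Lib.Helper94.BHRSP

open Cfsg Cfsg.Geo
open scoped MatrixGroups Matrix Kronecker

namespace P3

variable {F : Type*} [Field F] {ι : Type} [Fintype ι] [DecidableEq ι]

/-- a nonzero element of a field subalgebra kills no nonzero vector -/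
theorem eq_zero_of_mulVec_eq_zero {r : ℕ} {K : Subalgebra F (Matrix ι ι F)}
    (hK : IsFieldSubalgebra r K) {E : Matrix ι ι F} (hE : E ∈ K)
    {x : ι → F} (hx : x ≠ 0) (hEx : E *ᵥ x = 0) : E = 0 := by
  by_contra hE0
  obtain ⟨y, hyK, hy⟩ := hK.inv E hE hE0
  have hy' : y * E = 1 := by rw [← hK.comm E hE y hyK, hy]
  apply hx
  calc x = (1 : Matrix ι ι F) *ᵥ x := (Matrix.one_mulVec x).symm
    _ = y *ᵥ (E *ᵥ x) := by rw [← hy', Matrix.mulVec_mulVec]
    _ = 0 := by rw [hEx, Matrix.mulVec_zero]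

end P3

variable {F : Type*} [Field F] [Fintype F] {m : ℕ}

namespace P3

/-- every nonzero vector is an eigenvector of every element of a field subalgebra normalised by `spGL` -/
theorem eigen_of_normalized (hm : 2 ≤ m) (r : ℕ)
    (K : Subalgebra F (Matrix (Fin m ⊕ Fin m) (Fin m ⊕ Fin m) F)) (hK : IsFieldSubalgebra r K)
    (hle : spGL m F ≤ subalgebraNormalizer K)
    (k : Matrix (Fin m ⊕ Fin m) (Fin m ⊕ Fin m) F) (hk : k ∈ K)
    (v : Fin m ⊕ Fin m → F) (hv : v ≠ 0) : ∃ c : F, k *ᵥ v = c • v := by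
  obtain ⟨τ, hτ, hτx⟩ := exists_transvection (m := m) v (1 : F)
  simp only [one_mul] at hτx
  set T : Matrix (Fin m ⊕ Fin m) (Fin m ⊕ Fin m) F :=
    (τ : Matrix (Fin m ⊕ Fin m) (Fin m ⊕ Fin m) F) with hT
  set T' : Matrix (Fin m ⊕ Fin m) (Fin m ⊕ Fin m) F :=
    ((τ⁻¹ : GL (Fin m ⊕ Fin m) F) : Matrix (Fin m ⊕ Fin m) (Fin m ⊕ Fin m) F) with hT'
  have hT'T : T' * T = 1 := by rw [hT', hT, ← Units.val_mul, inv_mul_cancel, Units.val_one]
  have hconj : T * k * T' ∈ K := ((hle hτ) k).mp hk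
  have hEK : T * k * T' - k ∈ K := K.sub_mem hconj hk
  -- a nonzero vector in the kernel of x ↦ (f(x,v), f(kx,v))
  let B := Cfsg.Agent.Lib.Helper94.sympBilin m F
  let L : (Fin m ⊕ Fin m → F) →ₗ[F] F × F :=
    LinearMap.prod (B.flip v) ((B.flip v).comp (Matrix.mulVecLin k))
  have hker : LinearMap.ker L ≠ ⊥ := by
    apply LinearMap.ker_ne_bot_of_finrank_lt
    rw [Module.finrank_prod, Module.finrank_self, Module.finrank_fintype_fun_eq_card,
      Fintype.card_sum, Fintype.card_fin]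
    omega
  obtain ⟨x, hxL, hx0⟩ := Submodule.exists_mem_ne_zero_of_ne_bot hker
  rw [LinearMap.mem_ker] at hxL
  have hx1 : sympForm m F x v = 0 := by
    have := congrArg Prod.fst hxL
    change B x v = 0 at this
    rwa [Cfsg.Agent.Lib.Helper94.sympBilin_apply] at this
  have hx2 : sympForm m F (k *ᵥ x) v = 0 := by
    have := congrArg Prod.snd hxL
    change B (k *ᵥ x) v = 0 at this
    rwa [Cfsg.Agent.Lib.Helper94.sympBilin_apply] at this
  have hTx : T *ᵥ x = x := by rw [hτx, hx1, zero_smul, add_zero]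
  have hT'x : T' *ᵥ x = x := by
    calc T' *ᵥ x = T' *ᵥ (T *ᵥ x) := by rw [hTx]
      _ = x := by rw [Matrix.mulVec_mulVec, hT'T, Matrix.one_mulVec]
  have hEx : (T * k * T' - k) *ᵥ x = 0 := by
    rw [Matrix.sub_mulVec, ← Matrix.mulVec_mulVec, ← Matrix.mulVec_mulVec, hT'x, hτx, hx2,
      zero_smul, add_zero, sub_self]
  have hE0 := eq_zero_of_mulVec_eq_zero hK hEK hx0 hEx
  have hcomm : T * k = k * T := by
    have h1 : T * k * T' = k := sub_eq_zero.mp hE0
    calc T * k = T * k * (T' * T) := by rw [hT'T, mul_one]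
      _ = (T * k * T') * T := by rw [mul_assoc, mul_assoc, mul_assoc]
      _ = k * T := by rw [h1]
  -- evaluate at y with f(y,v) ≠ 0
  obtain ⟨y, hy⟩ := exists_sympForm_ne_zero v hv
  have hy' : sympForm m F y v ≠ 0 := by rw [sympForm_skew]; exact neg_ne_zero.mpr hy
  have h3 := congrArg (fun M : Matrix (Fin m ⊕ Fin m) (Fin m ⊕ Fin m) F => M *ᵥ y) hcomm
  simp only [← Matrix.mulVec_mulVec] at h3
  rw [hτx, hτx, Matrix.mulVec_add, Matrix.mulVec_smul] at h3
  have h4 : sympForm m F (k *ᵥ y) v • v = sympForm m F y v • (k *ᵥ v) := add_left_cancel h3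
  refine ⟨(sympForm m F y v)⁻¹ * sympForm m F (k *ᵥ y) v, ?_⟩
  rw [mul_smul, h4, smul_smul, inv_mul_cancel₀ hy', one_smul]

end P3

/-- **[P3]** -/
theorem not_spGL_le_subalgebraNormalizer (hm : 2 ≤ m) (r : ℕ) (hr : 2 ≤ r)
    (K : Subalgebra F (Matrix (Fin m ⊕ Fin m) (Fin m ⊕ Fin m) F)) (hK : IsFieldSubalgebra r K) :
    ¬ spGL m F ≤ subalgebraNormalizer K := by
  intro hle
  have hKbot : K ≤ ⊥ := by
    intro k hk
    by_cases hk0 : k = 0
    · rw [hk0]; exact zero_mem _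
    obtain ⟨y, hyK, hy⟩ := hK.inv k hk hk0
    have hy' : y * k = 1 := by rw [← hK.comm k hk y hyK, hy]
    let g : GL (Fin m ⊕ Fin m) F := ⟨k, y, hy, hy'⟩
    have hg := mem_scalars_of_forall_eigen g (P3.eigen_of_normalized hm r K hK hle k hk)
    rw [mem_scalars_iff] at hg
    obtain ⟨c, hc⟩ := hg
    rw [Algebra.mem_bot]
    refine ⟨(c : F), ?_⟩
    rw [Algebra.algebraMap_eq_smul_one]
    exact hc.symm
  have h1 : Module.finrank F K ≤ 1 := by
    have hmono := Submodule.finrank_mono (show Subalgebra.toSubmodule K ≤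
      Subalgebra.toSubmodule (⊥ : Subalgebra F (Matrix (Fin m ⊕ Fin m) (Fin m ⊕ Fin m) F)) from hKbot)
    have hb : Module.finrank F (⊥ : Subalgebra F (Matrix (Fin m ⊕ Fin m) (Fin m ⊕ Fin m) F)) = 1 := by
      haveI : Nonempty (Fin m ⊕ Fin m) := ⟨Sum.inl ⟨0, by omega⟩⟩
      exact Subalgebra.finrank_bot
    exact hmono.trans hb.le
  rw [hK.finrank_eq] at h1
  omega

end Cfsg.Agent.Lib.Helper94.BHRSP
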