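import Mathlib
import Cfsg.Prelude.Def_GeometricClasses
import Cfsg.Agent.Lib.Helper94.BHRSP.Max

/-!
# BHRSP-[ROW-5805] (helper34): the Sp6 row from the refined main theorem `AschR 3 F`
-/

set_option autoImplicit false
set_option maxHeartbeats 1000000

namespace Cfsg.Agent.Lib.Helper34.BhrspRow

open Cfsg Cfsg.Geo Cfsg.Agent.Lib.Helper94.BHRSP
open scoped MatrixGroups Matrix Kronecker

/-- arithmetic of a non-degenerate decomposition -/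
theorem decomp_arith6 {F : Type*} [Field F] [Fintype F] {m t k : ℕ} (D : Fin t → Submodule F (Fin m ⊕ Fin m → F))
    (hD : IsNondegenerateMDecomposition (sympForm m F) k D) :
    t * k = 2 * m ∧ Even k ∧ 0 < k ∧ 2 ≤ t := by
  refine ⟨mul_eq_of_isMDecomposition D hD.decomp, ?_, hD.decomp.pos, hD.decomp.two_le⟩
  have h0 : 0 < t := by have := hD.decomp.two_le; omega
  have := even_finrank_of_nondegenerateOn (D ⟨0, h0⟩) (hD.nondegenerate ⟨0, h0⟩)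
  rwa [hD.decomp.finrank_eq] at this

theorem card_index6 {m : ℕ} : Fintype.card (Fin m ⊕ Fin m) = 2 * m := by
  rw [Fintype.card_sum, Fintype.card_fin]; ring

/-- arithmetic of a tensor decomposition -/
theorem tensor_arith6 {F : Type*} [Field F] [Fintype F] {m n₁ n₂ : ℕ} (e : (Fin m ⊕ Fin m) ≃ Fin n₁ × Fin n₂)
    (f₁ : (Fin n₁ → F) → (Fin n₁ → F) → F) (hf₁ : IsSymplecticForm f₁) :
    n₁ * n₂ = 2 * m ∧ Even n₁ := by
  refine ⟨?_, even_of_isSymplecticForm f₁ hf₁⟩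
  have := Fintype.card_congr e
  rw [card_index6, Fintype.card_prod, Fintype.card_fin, Fintype.card_fin] at this
  exact this.symm

/-- arithmetic of a tensor power decomposition -/
theorem power_arith6 {m k t : ℕ} (e : (Fin m ⊕ Fin m) ≃ (Fin t → Fin k)) : k ^ t = 2 * m := by
  have := Fintype.card_congr e
  rw [card_index6, Fintype.card_fun, Fintype.card_fin, Fintype.card_fin] at this
  exact this.symm

/-- `2 ^ k ≠ 6` -/
theorem two_pow_ne_six {k : ℕ} : 2 ^ k ≠ 6 := by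
  rcases lt_or_ge k 3 with h | h
  · interval_cases k <;> norm_num
  · have := Nat.pow_le_pow_right (by norm_num : 0 < 2) h
    omega

/-- `k ^ t ≠ 6` for `t ≥ 3` -/
theorem pow_ne_six {k t : ℕ} (ht : 3 ≤ t) : k ^ t ≠ 6 := by
  rcases lt_or_ge k 2 with h | h
  · interval_cases k
    · rw [zero_pow (by omega)]; norm_num
    · rw [one_pow]; norm_num
  · have h1 : 2 ^ 3 ≤ k ^ 3 := Nat.pow_le_pow_left h 3
    have h2 : k ^ 3 ≤ k ^ t := Nat.pow_le_pow_right (by omega) ht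
    omega

end Cfsg.Agent.Lib.Helper34.BhrspRow

namespace Cfsg.Agent.Lib.Helper94.BHRSP

open Cfsg Cfsg.Geo Cfsg.Agent.Lib.Helper34.BhrspRow
open scoped MatrixGroups Matrix Kronecker

/-- **[ROW-5805]** Sp6. -/
theorem row5805_of {F : Type*} [Field F] [Fintype F] (hA : AschR 3 F) (H : Subgroup (Matrix.GeneralLinearGroup (Fin 3 ⊕ Fin 3) F)) (hH : Cfsg.Geo.IsMaximalIn (Cfsg.spGL 3 F) H) :
    (∃ W : Submodule F (Fin 3 ⊕ Fin 3 → F), W ≠ ⊥ ∧ Cfsg.Geo.IsTotallySingularFor (Cfsg.sympForm 3 F) W ∧ H = Cfsg.Geo.subspaceStabilizer W ⊓ Cfsg.spGL 3 F) ∨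
    (∃ W : Submodule F (Fin 3 ⊕ Fin 3 → F), W ≠ ⊥ ∧ Cfsg.Geo.IsNondegenerateOn (Cfsg.sympForm 3 F) W ∧ Module.finrank F W < 3 ∧ H = Cfsg.Geo.subspaceStabilizer W ⊓ Cfsg.spGL 3 F) ∨
    (3 ≤ Fintype.card F ∧ ∃ D : Fin 3 → Submodule F (Fin 3 ⊕ Fin 3 → F), Cfsg.Geo.IsNondegenerateMDecomposition (Cfsg.sympForm 3 F) 2 D ∧ H = Cfsg.Geo.decompositionStabilizer D ⊓ Cfsg.spGL 3 F) ∨
    (Odd (Fintype.card F) ∧ ∃ D : Fin 2 → Submodule F (Fin 3 ⊕ Fin 3 → F), Cfsg.Geo.IsMDecomposition 3 D ∧ (∀ i, Cfsg.Geo.IsTotallySingularFor (Cfsg.sympForm 3 F) (D i)) ∧ H = Cfsg.Geo.decompositionStabilizer D ⊓ Cfsg.spGL 3 F) ∨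
    (∃ K : Subalgebra F (Matrix (Fin 3 ⊕ Fin 3) (Fin 3 ⊕ Fin 3) F), Cfsg.Geo.IsFieldSubalgebra 3 K ∧ Cfsg.Geo.IsSelfAdjointFor (Cfsg.sympForm 3 F) K ∧ (∀ k ∈ K, ∀ v : (Fin 3 ⊕ Fin 3 → F), (Cfsg.sympForm 3 F) (Matrix.mulVec k v) v = 0) ∧ H = Cfsg.Geo.subalgebraNormalizer K ⊓ Cfsg.spGL 3 F) ∨
    (Odd (Fintype.card F) ∧ ∃ K : Subalgebra F (Matrix (Fin 3 ⊕ Fin 3) (Fin 3 ⊕ Fin 3) F), Cfsg.Geo.IsFieldSubalgebra 2 K ∧ Cfsg.Geo.IsAdjointClosedFor (Cfsg.sympForm 3 F) K ∧ ¬ Cfsg.Geo.IsSelfAdjointFor (Cfsg.sympForm 3 F) K ∧ H = Cfsg.Geo.subalgebraNormalizer K ⊓ Cfsg.spGL 3 F) ∨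
    (Odd (Fintype.card F) ∧ 5 ≤ Fintype.card F ∧ ∃ (e : (Fin 3 ⊕ Fin 3) ≃ Fin 2 × Fin 3) (P : Matrix.GeneralLinearGroup (Fin 3 ⊕ Fin 3) F) (f₁ : (Fin 2 → F) → (Fin 2 → F) → F) (f₂ : (Fin 3 → F) → (Fin 3 → F) → F), Cfsg.Geo.IsSymplecticForm f₁ ∧ Cfsg.Geo.IsSymmetricForm f₂ ∧ Cfsg.Geo.IsTensorFormStructure id (Cfsg.sympForm 3 F) f₁ f₂ e P ∧ H = Cfsg.Geo.tensorProductSubgroup 2 3 e P ⊓ Cfsg.spGL 3 F) ∨
    (∃ (F₀ : Subfield F) (r : ℕ) (P : Matrix.GeneralLinearGroup (Fin 3 ⊕ Fin 3) F) (ζ : F), r.Prime ∧ Fintype.card F = Nat.card F₀ ^ r ∧ ζ ≠ 0 ∧ Cfsg.Geo.IsFormRationalStructure (Cfsg.sympForm 3 F) F₀ ζ P ∧ H = Cfsg.Geo.subfieldSubgroup F₀ P ⊓ Cfsg.spGL 3 F) ∨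
    (¬ Odd (Fintype.card F) ∧ ∃ Q : (Fin 3 ⊕ Fin 3 → F) → F, Cfsg.Geo.IsNondegenerateQuadraticForm Q ∧ (∀ u v : (Fin 3 ⊕ Fin 3 → F), QuadraticMap.polar Q u v = (Cfsg.sympForm 3 F) u v) ∧ H = Cfsg.Geo.quadSimilarityGroup Q ⊓ Cfsg.spGL 3 F) ∨
    Cfsg.Geo.InSymplecticResidualClass H := by
  have hm : (2 : ℕ) ≤ 3 := by norm_num
  have hex : ¬ ((3 : ℕ) = 2 ∧ Fintype.card F = 2) := fun h => absurd h.1 (by norm_num)
  rcases maximal_eq_member' hA hm hex H hH with ⟨M, hM, rfl⟩ | hres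
  · rcases hM with (h | h | h | h | h | h | h) | h | h | h | h
    · exact Or.inl h
    · exact Or.inr (Or.inl h)
    · -- non-degenerate decompositions: `t * k = 6`, `k` even
      obtain ⟨t, k, D, hD, hMeq⟩ := h
      obtain ⟨h1, h2, h3, h4⟩ := decomp_arith6 D hD
      have htk : t = 3 ∧ k = 2 := by
        obtain ⟨c, hc⟩ := h2
        have hk2 : 2 ≤ k := by omega
        have ht3 : t ≤ 3 := by nlinarith
        interval_cases t <;> omega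
      obtain ⟨rfl, rfl⟩ := htk
      by_cases hq : 3 ≤ Fintype.card F
      · exact Or.inr (Or.inr (Or.inl ⟨hq, D, hD, hMeq⟩))
      · have hq2 : Fintype.card F = 2 := by
          have := Fintype.one_lt_card (α := F)
          omega
        obtain ⟨Q, hQ, hpol, hle⟩ := decomp_planes_card_two hq2 D hD
        have heven : ¬ Odd (Fintype.card F) := by rw [hq2]; decide
        have hM' : InSymplecticClassR 3 F (quadSimilarityGroup Q ⊓ spGL 3 F) :=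
          Or.inl (Or.inr (Or.inr (Or.inr (Or.inr (Or.inr (Or.inr ⟨Q, heven, hQ, hpol, rfl⟩))))))
        have hEq := eq_of_le_member' hm H hH _ hM' (by rw [hMeq]; exact hle)
        exact Or.inr (Or.inr (Or.inr (Or.inr (Or.inr (Or.inr (Or.inr (Or.inr (Or.inl
          ⟨heven, Q, hQ, hpol, hEq⟩))))))))
    · obtain ⟨D, hodd, hD, hts, hMeq⟩ := h
      exact Or.inr (Or.inr (Or.inr (Or.inl ⟨hodd, D, hD, hts, hMeq⟩)))
    · exact Or.inr (Or.inr (Or.inr (Or.inr (Or.inr (Or.inr (Or.inr (Or.inl h)))))))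
    · -- class 6: `2 ^ k = 6` is impossible
      obtain ⟨R, p, k, -, -, -, -, -, -, -, -, -, hk, -⟩ := h
      exact absurd hk two_pow_ne_six
    · obtain ⟨Q, heven, hQ, hpol, hMeq⟩ := h
      exact Or.inr (Or.inr (Or.inr (Or.inr (Or.inr (Or.inr (Or.inr (Or.inr (Or.inl
        ⟨heven, Q, hQ, hpol, hMeq⟩))))))))
    · -- self-adjoint fields: `r ∣ 3`
      obtain ⟨r, K, hr, hK, hsa, halt, hMeq⟩ := h
      have hdvd := dvd_of_selfAdjoint_field r hr K hK hsa halt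
      have hr3 : r = 3 := (Nat.prime_dvd_prime_iff_eq hr (by norm_num)).mp hdvd
      subst hr3
      exact Or.inr (Or.inr (Or.inr (Or.inr (Or.inl ⟨K, hK, hsa, halt, hMeq⟩))))
    · obtain ⟨K, hodd, hK, hac, hnsa, hMeq⟩ := h
      exact Or.inr (Or.inr (Or.inr (Or.inr (Or.inr (Or.inl ⟨hodd, K, hK, hac, hnsa, hMeq⟩)))))
    · -- tensor products: `n₁ * n₂ = 6`, `n₁` even, `3 ≤ n₂`
      obtain ⟨n₁, n₂, e, P, f₁, f₂, hodd, hn₂, hf₁, hf₂, hT, hMeq⟩ := h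
      obtain ⟨h1, h2⟩ := tensor_arith6 e f₁ hf₁
      have hn : n₁ = 2 ∧ n₂ = 3 := by
        obtain ⟨c, hc⟩ := h2
        have hn₁ : n₁ ≤ 2 := by nlinarith
        interval_cases n₁ <;> omega
      obtain ⟨rfl, rfl⟩ := hn
      by_cases hq : 5 ≤ Fintype.card F
      · exact Or.inr (Or.inr (Or.inr (Or.inr (Or.inr (Or.inr (Or.inl
          ⟨hodd, hq, e, P, f₁, f₂, hf₁, hf₂, hT, hMeq⟩))))))
      · have hq3 : Fintype.card F = 3 := by
          have h1 := Fintype.one_lt_card (α := F)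
          obtain ⟨c, hc⟩ := hodd
          omega
        obtain ⟨D, hD, hle⟩ := tensor_three_card_three hq3 2 (by norm_num) e P f₁ f₂ hf₁ hf₂ hT
        have hM' : InSymplecticClassR 3 F (decompositionStabilizer D ⊓ spGL 3 F) :=
          Or.inl (Or.inr (Or.inr (Or.inl ⟨3, 2, D, hD, rfl⟩)))
        have hEq := eq_of_le_member' hm H hH _ hM' (by rw [hMeq]; exact hle)
        exact Or.inr (Or.inr (Or.inl ⟨by omega, D, hD, hEq⟩))
    · -- tensor powers: `k ^ t = 6` is impossible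
      obtain ⟨k, t, e, P, f₁, -, -, ht, -, -, -, -⟩ := h
      exact absurd (power_arith6 e) (pow_ne_six ht)
  · exact Or.inr (Or.inr (Or.inr (Or.inr (Or.inr (Or.inr (Or.inr (Or.inr (Or.inr hres))))))))

end Cfsg.Agent.Lib.Helper94.BHRSP
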