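import Mathlib
import Cfsg.Prelude.Def_GeometricClasses
import Cfsg.Prelude.Def_ClassicalGeometry
import Cfsg.Agent.Lib.Helper13.SubfieldBasic

/-!
# BHRSU4-[E-SU4-TI], kit (helper34): the fixed field of an involution, and a semilinear criterion for membership in a
subfield group.
-/

set_option autoImplicit false
set_option linter.unusedSectionVars false

namespace Cfsg.Agent.Lib.Helper34.Bhrsu4TI

open Cfsg Cfsg.Geo
open scoped MatrixGroups Matrix Kronecker

variable {F : Type*} [Field F]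

/-- the fixed field of `σ` -/
def fixedField (σ : F →+* F) : Subfield F := RingHom.eqLocusField σ (RingHom.id F)

theorem mem_fixedField (σ : F →+* F) (x : F) : x ∈ fixedField σ ↔ σ x = x := Iff.rfl

/-- `F = F₀ ⊕ F₀ λ` -/
theorem exists_decomp (σ : F →+* F) (hσ2 : ∀ x, σ (σ x) = x) (lam : F) (hlam : σ lam ≠ lam) (x : F) :
    ∃ a b : F, σ a = a ∧ σ b = b ∧ x = a + b * lam := by
  have hne : lam - σ lam ≠ 0 := fun h => hlam (sub_eq_zero.1 h).symm
  have hne' : σ lam - lam ≠ 0 := fun h => hlam (sub_eq_zero.1 h)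
  have hb : σ ((x - σ x) / (lam - σ lam)) = (x - σ x) / (lam - σ lam) := by
    rw [map_div₀, map_sub, map_sub, hσ2, hσ2]
    field_simp
    ring
  refine ⟨x - (x - σ x) / (lam - σ lam) * lam, (x - σ x) / (lam - σ lam), ?_, hb, by ring⟩
  rw [map_sub, map_mul, hb]
  field_simp
  ring

theorem decomp_unique (σ : F →+* F) (lam : F) (hlam : σ lam ≠ lam) {a b a' b' : F}
    (ha : σ a = a) (hb : σ b = b) (ha' : σ a' = a') (hb' : σ b' = b') (h : a + b * lam = a' + b' * lam) :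
    a = a' ∧ b = b' := by
  have hne : lam - σ lam ≠ 0 := fun h => hlam (sub_eq_zero.1 h).symm
  have h2 := congrArg σ h
  simp only [map_add, map_mul, ha, hb, ha', hb'] at h2
  have h3 : (b - b') * (lam - σ lam) = 0 := by linear_combination h - h2
  have hbb : b = b' := by
    rcases mul_eq_zero.1 h3 with h4 | h4
    · exact sub_eq_zero.1 h4
    · exact absurd h4 hne
  refine ⟨?_, hbb⟩
  subst hbb
  exact add_right_cancel h

theorem card_fixedField [Fintype F] (σ : F →+* F) (hσ2 : ∀ x, σ (σ x) = x) (lam : F) (hlam : σ lam ≠ lam) :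
    Fintype.card F = Nat.card (fixedField σ) ^ 2 := by
  let e : fixedField σ × fixedField σ → F := fun p => (p.1 : F) + (p.2 : F) * lam
  have he : Function.Bijective e := by
    constructor
    · rintro ⟨a, b⟩ ⟨a', b'⟩ h
      obtain ⟨h1, h2⟩ := decomp_unique σ lam hlam a.2 b.2 a'.2 b'.2 h
      exact Prod.ext (Subtype.ext h1) (Subtype.ext h2)
    · intro x
      obtain ⟨a, b, ha, hb, hx⟩ := exists_decomp σ hσ2 lam hlam x
      exact ⟨(⟨a, ha⟩, ⟨b, hb⟩), hx.symm⟩
  rw [← Nat.card_eq_fintype_card, ← Nat.card_eq_of_bijective e he, Nat.card_prod, sq]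

section crit

variable {n : ℕ}

/-- a semilinear map fixing the columns of `P` is `P ∘ σ ∘ P⁻¹` -/
theorem semilinear_eq (σ : F →+* F) (P : Matrix (Fin n) (Fin n) F) (Θ : (Fin n → F) → (Fin n → F))
    (hadd : ∀ x y, Θ (x + y) = Θ x + Θ y) (hsmul : ∀ (c : F) x, Θ (c • x) = σ c • Θ x)
    (hfix : ∀ k, Θ (P *ᵥ Pi.single k 1) = P *ᵥ Pi.single k 1) (y : Fin n → F) :
    Θ (P *ᵥ y) = P *ᵥ (σ ∘ y) := by
  have h0 : Θ 0 = 0 := by
    have := hsmul 0 0
    rwa [zero_smul, map_zero, zero_smul] at this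
  let Θ' : (Fin n → F) →+ (Fin n → F) := { toFun := Θ, map_zero' := h0, map_add' := hadd }
  have hy : y = ∑ k, y k • (Pi.single k 1 : Fin n → F) := by
    funext i
    simp [Finset.sum_apply, Pi.single_apply]
  have hy' : (σ ∘ y) = ∑ k, σ (y k) • (Pi.single k 1 : Fin n → F) := by
    funext i
    simp [Finset.sum_apply, Pi.single_apply]
  have h1 : P *ᵥ y = ∑ k, y k • (P *ᵥ Pi.single k 1) := by
    conv_lhs => rw [hy]
    rw [Matrix.mulVec_sum]
    exact Finset.sum_congr rfl fun k _ => Matrix.mulVec_smul _ _ _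
  have h2 : P *ᵥ (σ ∘ y) = ∑ k, σ (y k) • (P *ᵥ Pi.single k 1) := by
    conv_lhs => rw [hy']
    rw [Matrix.mulVec_sum]
    exact Finset.sum_congr rfl fun k _ => Matrix.mulVec_smul _ _ _
  rw [h1, h2]
  show Θ' _ = _
  rw [map_sum]
  refine Finset.sum_congr rfl fun k _ => ?_
  show Θ _ = _
  rw [hsmul, hfix]

/-- the semilinear criterion -/
theorem mem_subfieldSubgroup_of_semilinear (σ : F →+* F) (F₀ : Subfield F) (hF₀ : ∀ x : F, σ x = x → x ∈ F₀)
    (P g : GL (Fin n) F) (Θ : (Fin n → F) → (Fin n → F))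
    (hadd : ∀ x y, Θ (x + y) = Θ x + Θ y) (hsmul : ∀ (c : F) x, Θ (c • x) = σ c • Θ x)
    (hfix : ∀ k, Θ ((P : Matrix (Fin n) (Fin n) F) *ᵥ Pi.single k 1) = (P : Matrix (Fin n) (Fin n) F) *ᵥ Pi.single k 1)
    (μ : F) (hμ : μ ≠ 0)
    (hcomm : ∀ x, Θ ((g : Matrix (Fin n) (Fin n) F) *ᵥ x) = (σ μ * μ⁻¹) • ((g : Matrix (Fin n) (Fin n) F) *ᵥ Θ x)) :
    g ∈ subfieldSubgroup F₀ P := by
  classical
  set PM : Matrix (Fin n) (Fin n) F := (P : Matrix (Fin n) (Fin n) F) with hPM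
  set PI : Matrix (Fin n) (Fin n) F := ((P⁻¹ : GL (Fin n) F) : Matrix (Fin n) (Fin n) F) with hPI
  set gM : Matrix (Fin n) (Fin n) F := (g : Matrix (Fin n) (Fin n) F) with hgM
  have hPIP : PI * PM = 1 := by rw [hPI, hPM, ← Units.val_mul, inv_mul_cancel, Units.val_one]
  have hPPI : PM * PI = 1 := by rw [hPI, hPM, ← Units.val_mul, mul_inv_cancel, Units.val_one]
  have hΘP := semilinear_eq σ PM Θ hadd hsmul hfix
  set M : Matrix (Fin n) (Fin n) F := PI * gM * PM with hM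
  have hgP : gM * PM = PM * M := by
    rw [hM, ← Matrix.mul_assoc, ← Matrix.mul_assoc, hPPI, Matrix.one_mul]
  have hσμ : σ μ ≠ 0 := (map_ne_zero σ).2 hμ
  -- σ(M) = κ M
  have hMσ : ∀ i k, σ (M i k) = σ μ * μ⁻¹ * M i k := by
    intro i k
    have hs : (σ ∘ (Pi.single k (1 : F) : Fin n → F)) = Pi.single k 1 := by
      funext j
      by_cases hj : j = k
      · subst hj; simp
      · simp [Pi.single_eq_of_ne hj]
    have hgx : gM *ᵥ (PM *ᵥ Pi.single k 1) = PM *ᵥ (M *ᵥ Pi.single k 1) := by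
      rw [Matrix.mulVec_mulVec, hgP, ← Matrix.mulVec_mulVec]
    have h1 := hcomm (PM *ᵥ Pi.single k 1)
    rw [hgx, hΘP, hΘP, hs, hgx, ← Matrix.mulVec_smul] at h1
    have h2 := congrArg (fun w => PI *ᵥ w) h1
    simp only [Matrix.mulVec_mulVec, hPIP, Matrix.one_mulVec] at h2
    have h3 := congrFun h2 i
    simp only [Function.comp_apply, Matrix.mulVec_single_one, Matrix.col_apply, Pi.smul_apply,
      smul_eq_mul] at h3
    exact h3
  -- the rational matrix
  have hA : ∀ i k, μ⁻¹ * M i k ∈ F₀ := by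
    intro i k
    apply hF₀
    rw [map_mul, map_inv₀, hMσ]
    field_simp
  let A₀ : Matrix (Fin n) (Fin n) F₀ := fun i k => ⟨μ⁻¹ * M i k, hA i k⟩
  have hA₀ : A₀.map F₀.subtype = μ⁻¹ • M := by
    ext i k
    rfl
  have hMunit : IsUnit M.det := by
    rw [hM, Matrix.det_mul, Matrix.det_mul]
    have h1 : IsUnit PI.det := (Matrix.isUnit_iff_isUnit_det _).1 (P⁻¹).isUnit
    have h2 : IsUnit PM.det := (Matrix.isUnit_iff_isUnit_det _).1 P.isUnit
    have h3 : IsUnit gM.det := (Matrix.isUnit_iff_isUnit_det _).1 g.isUnit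
    exact (h1.mul h3).mul h2
  have hdet : A₀.det ≠ 0 := by
    intro h0
    have h1 : (A₀.map F₀.subtype).det = 0 := by
      have := congrArg F₀.subtype h0
      rw [RingHom.map_det, map_zero] at this
      exact this
    rw [hA₀, Matrix.det_smul] at h1
    rcases mul_eq_zero.1 h1 with h2 | h2
    · exact (pow_ne_zero _ (inv_ne_zero hμ)) h2
    · exact hMunit.ne_zero h2
  rw [Cfsg.Agent.Lib.Helper13.mem_subfieldSubgroup_iff]
  refine ⟨Matrix.GeneralLinearGroup.mkOfDetNeZero A₀ hdet, Units.mk0 μ hμ, ?_⟩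
  show gM * PM = μ • (PM * A₀.map F₀.subtype)
  rw [hA₀, hgP, Matrix.mul_smul, smul_smul, mul_inv_cancel₀ hμ, one_smul]

end crit

end Cfsg.Agent.Lib.Helper34.Bhrsu4TI
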