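import Mathlib
import Cfsg.Prelude.Def_GeometricClasses
import Cfsg.Prelude.Def_ClassicalGeometry
import Cfsg.Agent.Lib.Helper37.BHRSU.Defs
import Cfsg.Agent.Lib.Helper13.Herm
import Cfsg.Agent.Lib.Helper83.DecompKit
import Cfsg.Agent.Lib.Helper34.BhrsuP5Two
import Cfsg.Agent.Lib.Helper34.Bhrsu4TIKit

/-!
# BHRSU4-[E-SU4-TI] (helper34): for `q ≤ 3` the stabiliser in `SU_4(q)` of a pair of complementary totally isotropic planes
lies in a subfield group of index 2 and symplectic type.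
-/

set_option autoImplicit false
set_option linter.unusedSectionVars false
set_option linter.unusedVariables false

namespace Cfsg.Agent.Lib.Helper34.Bhrsu4TI

open Cfsg Cfsg.Geo Cfsg.Agent.Lib.Helper37.BHRSU Cfsg.Agent.Lib.Helper13
open scoped MatrixGroups Matrix Kronecker

theorem det_fin_four' {R : Type*} [CommRing R] (M : Matrix (Fin 4) (Fin 4) R) :
    M.det = M 0 0 * (M 1 1 * (M 2 2 * M 3 3 - M 2 3 * M 3 2) - M 1 2 * (M 2 1 * M 3 3 - M 2 3 * M 3 1) + M 1 3 * (M 2 1 * M 3 2 - M 2 2 * M 3 1))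
      - M 0 1 * (M 1 0 * (M 2 2 * M 3 3 - M 2 3 * M 3 2) - M 1 2 * (M 2 0 * M 3 3 - M 2 3 * M 3 0) + M 1 3 * (M 2 0 * M 3 2 - M 2 2 * M 3 0))
      + M 0 2 * (M 1 0 * (M 2 1 * M 3 3 - M 2 3 * M 3 1) - M 1 1 * (M 2 0 * M 3 3 - M 2 3 * M 3 0) + M 1 3 * (M 2 0 * M 3 1 - M 2 1 * M 3 0))
      - M 0 3 * (M 1 0 * (M 2 1 * M 3 2 - M 2 2 * M 3 1) - M 1 1 * (M 2 0 * M 3 2 - M 2 2 * M 3 0) + M 1 2 * (M 2 0 * M 3 1 - M 2 1 * M 3 0)) := by
  rw [Matrix.det_succ_row_zero]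
  simp only [Fin.sum_univ_four, Matrix.det_fin_three, Matrix.submatrix_apply]
  simp [Fin.succAbove, Fin.succ]
  ring

variable {F : Type*} [Field F]

/-- the 2 × 2 core: `aᵀ σ(b) = 1`, `det a * det b = 1`, `q ≤ 3`. -/
theorem core22 (σ : F →+* F) {q : ℕ} (hσ : ∀ x, σ x = x ^ q) (hq : q = 2 ∨ q = 3)
    (a00 a01 a10 a11 b00 b01 b10 b11 : F)
    (E00 : a00 * σ b00 + a10 * σ b10 = 1) (E01 : a00 * σ b01 + a10 * σ b11 = 0)
    (E10 : a01 * σ b00 + a11 * σ b10 = 0) (E11 : a01 * σ b01 + a11 * σ b11 = 1)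
    (hdet : (a00 * a11 - a01 * a10) * (b00 * b11 - b01 * b10) = 1) :
    (a00 * a11 - a01 * a10) ^ 2 = 1 ∧ σ (a00 * a11 - a01 * a10) = a00 * a11 - a01 * a10 ∧
      σ b00 = (a00 * a11 - a01 * a10) * a11 ∧ σ b10 = -(a00 * a11 - a01 * a10) * a01 ∧
      σ b01 = -(a00 * a11 - a01 * a10) * a10 ∧ σ b11 = (a00 * a11 - a01 * a10) * a00 := by
  obtain ⟨δ, hδ⟩ : ∃ δ : F, δ = a00 * a11 - a01 * a10 := ⟨_, rfl⟩
  rw [← hδ] at hdet ⊢
  have h00 : δ * σ b00 = a11 := by rw [hδ]; linear_combination a11 * E00 - a10 * E10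
  have h10 : δ * σ b10 = -a01 := by rw [hδ]; linear_combination a00 * E10 - a01 * E00
  have h01 : δ * σ b01 = -a10 := by rw [hδ]; linear_combination a11 * E01 - a10 * E11
  have h11 : δ * σ b11 = a00 := by rw [hδ]; linear_combination a00 * E11 - a01 * E01
  have hdσ : δ * (σ b00 * σ b11 - σ b01 * σ b10) = 1 := by
    rw [hδ]
    linear_combination (a01 * σ b01 + a11 * σ b11) * E00 + E11 - (a01 * σ b00 + a11 * σ b10) * E01
  have hδ0 : δ ≠ 0 := by
    intro h0; rw [h0, zero_mul] at hdet; exact zero_ne_one hdet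
  have hdb : σ (b00 * b11 - b01 * b10) = b00 * b11 - b01 * b10 := by
    have h1 : δ * σ (b00 * b11 - b01 * b10) = δ * (b00 * b11 - b01 * b10) := by
      rw [map_sub, map_mul, map_mul, hdσ, hdet]
    exact mul_left_cancel₀ hδ0 h1
  have hσδ : σ δ = δ := by
    have h1 := congrArg σ hdet
    rw [map_mul, hdb, map_one] at h1
    have h2 : (σ δ - δ) * (b00 * b11 - b01 * b10) = 0 := by linear_combination h1 - hdet
    rcases mul_eq_zero.1 h2 with h3 | h3
    · exact sub_eq_zero.1 h3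
    · rw [h3, mul_zero] at hdet; exact absurd hdet zero_ne_one
  have hδ2 : δ ^ 2 = 1 := by
    rw [hσ] at hσδ
    rcases hq with rfl | rfl
    · have : δ * (δ - 1) = 0 := by linear_combination hσδ
      rcases mul_eq_zero.1 this with h | h
      · exact absurd h hδ0
      · rw [sub_eq_zero.1 h]; ring
    · have : δ * (δ ^ 2 - 1) = 0 := by linear_combination hσδ
      rcases mul_eq_zero.1 this with h | h
      · exact absurd h hδ0
      · exact sub_eq_zero.1 h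
  refine ⟨hδ2, hσδ, ?_, ?_, ?_, ?_⟩
  · linear_combination (-σ b00) * hδ2 + δ * h00
  · linear_combination (-σ b10) * hδ2 + δ * h10
  · linear_combination (-σ b01) * hδ2 + δ * h01
  · linear_combination (-σ b11) * hδ2 + δ * h11

variable [Fintype F] {q : ℕ}

theorem hermForm_neg_smul_right (hF : Fintype.card F = q ^ 2) (σ : F →+* F) (hσ : ∀ x, σ x = x ^ q)
    (u v w : Fin 4 → F) (c : F) :
    hermForm 4 F q u (v + (-c) • w) = hermForm 4 F q u v - σ c * hermForm 4 F q u w := by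
  rw [hermForm_add_right hF, hermForm_smul_right hF, ← hσ, map_neg]
  ring

theorem hermForm_add_neg_smul_left (u v w : Fin 4 → F) (c : F) :
    hermForm 4 F q (u + (-c) • v) w = hermForm 4 F q u w - c * hermForm 4 F q v w := by
  rw [hermForm_add_left, hermForm_smul_left]
  ring

/-- a hyperbolic basis adapted to a pair of complementary totally isotropic planes -/
theorem exists_hyp_basis (hF : Fintype.card F = q ^ 2) (σ : F →+* F) (hσ : ∀ x, σ x = x ^ q)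
    (hσ2 : ∀ x, σ (σ x) = x) (U U' : Submodule F (Fin 4 → F)) (hU : Module.finrank F U = 2)
    (hts : IsTotallySingularFor (hermForm 4 F q) U) (hts' : IsTotallySingularFor (hermForm 4 F q) U')
    (hsum : ∀ v : Fin 4 → F, ∃ x ∈ U, ∃ x' ∈ U', v = x + x') :
    ∃ b : Fin 4 → (Fin 4 → F), b 0 ∈ U ∧ b 1 ∈ U ∧ b 2 ∈ U' ∧ b 3 ∈ U' ∧
      ∀ j k : Fin 4, hermForm 4 F q (b j) (b k) = if k = j + 2 then 1 else 0 := by
  classical
  have hq0 : q ≠ 0 := by have := two_le_of_card_eq_sq hF; omega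
  -- the pairing is non-degenerate
  have hpair : ∀ x ∈ U, x ≠ 0 → ∃ x' ∈ U', hermForm 4 F q x x' ≠ 0 := by
    intro x hx hx0
    obtain ⟨i, hi⟩ : ∃ i, x i ≠ 0 := by
      by_contra hcon
      push Not at hcon
      exact hx0 (funext hcon)
    obtain ⟨y, hy, y', hy', hyy⟩ := hsum (Pi.single i 1)
    refine ⟨y', hy', ?_⟩
    have h1 : hermForm 4 F q x (Pi.single i 1) = x i := hermForm_single_right hq0 i x
    rw [hyy, hermForm_add_right hF, hts x hx y hy, zero_add] at h1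
    rw [h1]; exact hi
  -- normalisation
  have hnorm : ∀ x x' : Fin 4 → F, x' ∈ U' → hermForm 4 F q x x' ≠ 0 →
      ∃ u' ∈ U', hermForm 4 F q x u' = 1 ∧ ∃ c : F, u' = c • x' := by
    intro x x' hx' hne
    refine ⟨σ ((hermForm 4 F q x x')⁻¹) • x', U'.smul_mem _ hx', ?_, _, rfl⟩
    rw [hermForm_smul_right hF, ← hσ, hσ2, inv_mul_cancel₀ hne]
  -- a basis of `U`
  let bU := Module.finBasisOfFinrankEq F U hU
  have hy0 : ((bU 0 : U) : Fin 4 → F) ≠ 0 := fun h => bU.ne_zero 0 (Subtype.ext h)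
  have hindep : ∀ c : F, ((bU 1 : U) : Fin 4 → F) ≠ c • ((bU 0 : U) : Fin 4 → F) := by
    intro c h
    have h1 : bU 1 = c • bU 0 := Subtype.ext h
    have h2 := congrArg (fun z => bU.repr z 1) h1
    simp at h2
  obtain ⟨x1', hx1', hx1ne⟩ := hpair _ (bU 0).2 hy0
  obtain ⟨u1', hu1', hu11, -⟩ := hnorm _ _ hx1' hx1ne
  -- `u₂`
  obtain ⟨c1, hc1⟩ : ∃ c1 : F, c1 = hermForm 4 F q ((bU 1 : U) : Fin 4 → F) u1' := ⟨_, rfl⟩
  obtain ⟨u2, hu2def⟩ : ∃ u2 : Fin 4 → F, u2 = ((bU 1 : U) : Fin 4 → F) +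
      (-c1) • ((bU 0 : U) : Fin 4 → F) := ⟨_, rfl⟩
  have hu2U : u2 ∈ U := by
    rw [hu2def]; exact U.add_mem (bU 1).2 (U.smul_mem _ (bU 0).2)
  have hu21 : hermForm 4 F q u2 u1' = 0 := by
    rw [hu2def, hermForm_add_neg_smul_left, hu11, ← hc1]; ring
  have hu20 : u2 ≠ 0 := by
    intro h0
    apply hindep c1
    rw [hu2def] at h0
    have := eq_neg_of_add_eq_zero_left h0
    rw [this, neg_smul, neg_neg]
  obtain ⟨x2', hx2', hx2ne⟩ := hpair u2 hu2U hu20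
  obtain ⟨x2'', hx2def⟩ : ∃ x2'' : Fin 4 → F, x2'' = x2' +
      (-(σ (hermForm 4 F q ((bU 0 : U) : Fin 4 → F) x2'))) • u1' := ⟨_, rfl⟩
  have hx2''U : x2'' ∈ U' := by
    rw [hx2def]; exact U'.add_mem hx2' (U'.smul_mem _ hu1')
  have h12'' : hermForm 4 F q ((bU 0 : U) : Fin 4 → F) x2'' = 0 := by
    rw [hx2def, hermForm_neg_smul_right hF σ hσ, hσ2, hu11]; ring
  have h22'' : hermForm 4 F q u2 x2'' ≠ 0 := by
    rw [hx2def, hermForm_neg_smul_right hF σ hσ, hu21, mul_zero, sub_zero]; exact hx2ne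
  obtain ⟨u2', hu2', hu22, c2, hc2⟩ := hnorm _ _ hx2''U h22''
  have hu12 : hermForm 4 F q ((bU 0 : U) : Fin 4 → F) u2' = 0 := by
    rw [hc2, hermForm_smul_right hF, h12'', mul_zero]
  have hconj : ∀ u v : Fin 4 → F, hermForm 4 F q v u = σ (hermForm 4 F q u v) := by
    intro u v; rw [hσ, hermForm_conj hF]
  refine ⟨![((bU 0 : U) : Fin 4 → F), u2, u1', u2'], (bU 0).2, hu2U, hu1', hu2', ?_⟩
  intro j k
  fin_cases j <;> fin_cases k
  · simpa using hts _ (bU 0).2 _ (bU 0).2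
  · simpa using hts _ (bU 0).2 _ hu2U
  · simpa using hu11
  · simpa using hu12
  · simpa using hts _ hu2U _ (bU 0).2
  · simpa using hts _ hu2U _ hu2U
  · simpa using hu21
  · simpa using hu22
  · simpa [hconj _ u1', hu11]
  · simpa [hconj u2 u1', hu21]
  · simpa using hts' _ hu1' _ hu1'
  · simpa using hts' _ hu1' _ hu2'
  · simpa [hconj _ u2', hu12]
  · simpa [hconj u2 u2', hu22]
  · simpa using hts' _ hu2' _ hu1'
  · simpa using hts' _ hu2' _ hu2'

/-- the matrix whose columns are the `b j` -/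
def colMat (b : Fin 4 → (Fin 4 → F)) : Matrix (Fin 4) (Fin 4) F := fun i j => b j i

theorem colMat_mulVec (b : Fin 4 → (Fin 4 → F)) (c : Fin 4 → F) :
    colMat b *ᵥ c = c 0 • b 0 + c 1 • b 1 + c 2 • b 2 + c 3 • b 3 := by
  funext i
  simp [colMat, Matrix.mulVec, dotProduct, Fin.sum_univ_four, mul_comm]

theorem colMat_mulVec_single (b : Fin 4 → (Fin 4 → F)) (j : Fin 4) :
    colMat b *ᵥ Pi.single j 1 = b j := by
  funext i
  simp [colMat, Matrix.mulVec_single_one]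

/-- the form in hyperbolic coordinates -/
theorem herm_colMat_colMat (hF : Fintype.card F = q ^ 2) (σ : F →+* F) (hσ : ∀ x, σ x = x ^ q)
    (b : Fin 4 → (Fin 4 → F))
    (hG : ∀ j k : Fin 4, hermForm 4 F q (b j) (b k) = if k = j + 2 then 1 else 0) (c c' : Fin 4 → F) :
    hermForm 4 F q (colMat b *ᵥ c) (colMat b *ᵥ c') =
      c 0 * σ (c' 2) + c 1 * σ (c' 3) + c 2 * σ (c' 0) + c 3 * σ (c' 1) := by
  rw [colMat_mulVec, colMat_mulVec]
  simp only [hermForm_add_left, hermForm_smul_left, hermForm_add_right hF, hermForm_smul_right hF, hG,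
    ← hσ]
  simp (config := {decide := true}) only [if_true, if_false, mul_one, mul_zero, add_zero, zero_add]
  ring

theorem herm_colMat (hF : Fintype.card F = q ^ 2) (σ : F →+* F) (hσ : ∀ x, σ x = x ^ q)
    (b : Fin 4 → (Fin 4 → F))
    (hG : ∀ j k : Fin 4, hermForm 4 F q (b j) (b k) = if k = j + 2 then 1 else 0) (c : Fin 4 → F)
    (j : Fin 4) : hermForm 4 F q (colMat b *ᵥ c) (b (j + 2)) = c j := by
  rw [← colMat_mulVec_single b (j + 2), herm_colMat_colMat hF σ hσ b hG]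
  fin_cases j <;> simp (config := {decide := true}) [Pi.single_apply]

theorem colMat_isUnit (hF : Fintype.card F = q ^ 2) (σ : F →+* F) (hσ : ∀ x, σ x = x ^ q)
    (b : Fin 4 → (Fin 4 → F))
    (hG : ∀ j k : Fin 4, hermForm 4 F q (b j) (b k) = if k = j + 2 then 1 else 0) :
    IsUnit (colMat b) := by
  rw [← Matrix.mulVec_injective_iff_isUnit]
  intro c c' h
  funext j
  rw [← herm_colMat hF σ hσ b hG c j, ← herm_colMat hF σ hσ b hG c' j]
  exact congrArg (fun w => hermForm 4 F q w (b (j + 2))) h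

/-- the matrix of the conjugation in hyperbolic coordinates -/
def Tm : Matrix (Fin 4) (Fin 4) F := !![0, 0, 0, -1; 0, 0, 1, 0; 0, 1, 0, 0; -1, 0, 0, 0]

/-- the coordinates of an `F₀`-basis of `V₀` -/
def Cm (σ : F →+* F) (lam : F) : Matrix (Fin 4) (Fin 4) F :=
  !![1, lam, 0, 0; 0, 0, 1, lam; 0, 0, 1, σ lam; -1, -(σ lam), 0, 0]

theorem Tm_mul_Cm (σ : F →+* F) (hσ2 : ∀ x, σ (σ x) = x) (lam : F) :
    (Tm : Matrix (Fin 4) (Fin 4) F) * (Cm σ lam).map σ = Cm σ lam := by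
  ext i j
  fin_cases i <;> fin_cases j <;> simp [Tm, Cm, Matrix.mul_apply, Fin.sum_univ_four, hσ2]

theorem Cm_isUnit (σ : F →+* F) (lam : F) (hlam : σ lam ≠ lam) : IsUnit (Cm σ lam) := by
  have hdet : (Cm σ lam).det = -(lam - σ lam) ^ 2 := by
    rw [det_fin_four']
    simp [Cm]
    ring
  rw [Matrix.isUnit_iff_isUnit_det, hdet, isUnit_iff_ne_zero]
  have hne : lam - σ lam ≠ 0 := fun h => hlam (sub_eq_zero.1 h).symm
  exact neg_ne_zero.2 (pow_ne_zero _ hne)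

/-- the semilinear conjugation, in hyperbolic coordinates `B` -/
def Th (σ : F →+* F) (B BI : Matrix (Fin 4) (Fin 4) F) (x : Fin 4 → F) : Fin 4 → F :=
  B *ᵥ ((Tm : Matrix (Fin 4) (Fin 4) F) *ᵥ (σ ∘ (BI *ᵥ x)))

open Cfsg.Agent.Lib.Helper34.BhrsuP5Two in
theorem Th_add (σ : F →+* F) (B BI : Matrix (Fin 4) (Fin 4) F) (x y : Fin 4 → F) :
    Th σ B BI (x + y) = Th σ B BI x + Th σ B BI y := by
  unfold Th
  rw [Matrix.mulVec_add, comp_add', Matrix.mulVec_add, Matrix.mulVec_add]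

open Cfsg.Agent.Lib.Helper34.BhrsuP5Two in
theorem Th_smul (σ : F →+* F) (B BI : Matrix (Fin 4) (Fin 4) F) (c : F) (x : Fin 4 → F) :
    Th σ B BI (c • x) = σ c • Th σ B BI x := by
  unfold Th
  rw [Matrix.mulVec_smul, comp_smul', Matrix.mulVec_smul, Matrix.mulVec_smul]

open Cfsg.Agent.Lib.Helper34.BhrsuP5Two in
theorem Th_fix (σ : F →+* F) (hσ2 : ∀ x, σ (σ x) = x) (B BI : Matrix (Fin 4) (Fin 4) F) (hBI : BI * B = 1)
    (lam : F) (k : Fin 4) :
    Th σ B BI ((B * Cm σ lam) *ᵥ Pi.single k 1) = (B * Cm σ lam) *ᵥ Pi.single k 1 := by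
  have hs : (σ ∘ (Pi.single k (1 : F) : Fin 4 → F)) = Pi.single k 1 := by
    funext j
    by_cases hj : j = k
    · subst hj; simp
    · simp [Pi.single_eq_of_ne hj]
  unfold Th
  rw [← Matrix.mulVec_mulVec, Matrix.mulVec_mulVec _ BI, hBI, Matrix.one_mulVec, comp_mulVec', hs,
    Matrix.mulVec_mulVec _ Tm, Tm_mul_Cm σ hσ2]

open Cfsg.Agent.Lib.Helper34.BhrsuP5Two in
theorem Th_comm (σ : F →+* F) (B BI : Matrix (Fin 4) (Fin 4) F) (hBI : BI * B = 1) (hB' : B * BI = 1)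
    (g G : Matrix (Fin 4) (Fin 4) F) (hgB : g * B = B * G) (κ : F)
    (hTG : (Tm : Matrix (Fin 4) (Fin 4) F) * G.map σ = κ • (G * Tm)) (x : Fin 4 → F) :
    Th σ B BI (g *ᵥ x) = κ • (g *ᵥ Th σ B BI x) := by
  obtain ⟨y, hy⟩ : ∃ y, y = BI *ᵥ x := ⟨_, rfl⟩
  have hx : x = B *ᵥ y := by rw [hy, Matrix.mulVec_mulVec, hB', Matrix.one_mulVec]
  have h1 : BI *ᵥ (g *ᵥ x) = G *ᵥ y := by
    rw [hx, Matrix.mulVec_mulVec _ g, hgB, ← Matrix.mulVec_mulVec, Matrix.mulVec_mulVec _ BI, hBI,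
      Matrix.one_mulVec]
  have h2 : Th σ B BI (g *ᵥ x) = B *ᵥ ((Tm * G.map σ) *ᵥ (σ ∘ y)) := by
    unfold Th
    rw [h1, comp_mulVec', Matrix.mulVec_mulVec _ Tm]
  have h3 : g *ᵥ Th σ B BI x = B *ᵥ ((G * Tm) *ᵥ (σ ∘ y)) := by
    unfold Th
    rw [← hy, Matrix.mulVec_mulVec _ g, hgB, ← Matrix.mulVec_mulVec, Matrix.mulVec_mulVec _ G]
  rw [h2, h3, hTG, Matrix.smul_mulVec, Matrix.mulVec_smul]

/-- the block-diagonal case -/
theorem TG_diag (σ : F →+* F) (hσ : ∀ x, σ x = x ^ q) (hσ2 : ∀ x, σ (σ x) = x) (hq : q = 2 ∨ q = 3)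
    (G : Matrix (Fin 4) (Fin 4) F)
    (hiso : ∀ j k : Fin 4, G 0 j * σ (G 2 k) + G 1 j * σ (G 3 k) + G 2 j * σ (G 0 k) + G 3 j * σ (G 1 k) =
      if k = j + 2 then 1 else 0)
    (hdet : G.det = 1)
    (z20 : G 2 0 = 0) (z30 : G 3 0 = 0) (z21 : G 2 1 = 0) (z31 : G 3 1 = 0)
    (z02 : G 0 2 = 0) (z12 : G 1 2 = 0) (z03 : G 0 3 = 0) (z13 : G 1 3 = 0) :
    ∃ κ : F, κ ^ 2 = 1 ∧ (Tm : Matrix (Fin 4) (Fin 4) F) * G.map σ = κ • (G * Tm) := by
  have E00 := hiso 0 2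
  have E01 := hiso 0 3
  have E10 := hiso 1 2
  have E11 := hiso 1 3
  simp (config := {decide := true}) only [z20, z30, z21, z31, zero_mul, add_zero, if_true, if_false] at E00 E01 E10 E11
  have hdet' : (G 0 0 * G 1 1 - G 0 1 * G 1 0) * (G 2 2 * G 3 3 - G 2 3 * G 3 2) = 1 := by
    rw [← hdet, det_fin_four', z20, z30, z21, z31, z02, z12, z03, z13]
    ring
  obtain ⟨hδ2, hσδ, h22, h32, h23, h33⟩ := core22 σ hσ hq (G 0 0) (G 0 1) (G 1 0) (G 1 1) (G 2 2) (G 2 3)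
    (G 3 2) (G 3 3) E00 E01 E10 E11 hdet'
  obtain ⟨δ, hδ⟩ : ∃ δ : F, δ = G 0 0 * G 1 1 - G 0 1 * G 1 0 := ⟨_, rfl⟩
  rw [← hδ] at hδ2 hσδ h22 h32 h23 h33
  -- the conjugate relations
  have c11 : σ (G 1 1) = δ * G 2 2 := by
    have := congrArg σ h22
    rw [hσ2, map_mul, hσδ] at this
    linear_combination (-σ (G 1 1)) * hδ2 - δ * this
  have c01 : σ (G 0 1) = -δ * G 3 2 := by
    have := congrArg σ h32
    rw [hσ2, map_mul, map_neg, hσδ] at this
    linear_combination (-σ (G 0 1)) * hδ2 + δ * this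
  have c10 : σ (G 1 0) = -δ * G 2 3 := by
    have := congrArg σ h23
    rw [hσ2, map_mul, map_neg, hσδ] at this
    linear_combination (-σ (G 1 0)) * hδ2 + δ * this
  have c00 : σ (G 0 0) = δ * G 3 3 := by
    have := congrArg σ h33
    rw [hσ2, map_mul, hσδ] at this
    linear_combination (-σ (G 0 0)) * hδ2 - δ * this
  refine ⟨δ, hδ2, ?_⟩
  ext i j
  fin_cases i <;> fin_cases j <;>
    simp [Tm, Matrix.mul_apply, Fin.sum_univ_four, z20, z30, z21, z31, z02, z12, z03, z13]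
  · linear_combination (-1 : F) * h32
  · linear_combination h33
  · linear_combination h22
  · linear_combination h23
  · linear_combination c10
  · linear_combination c11
  · linear_combination c00
  · linear_combination (-1 : F) * c01

/-- the block-antidiagonal case -/
theorem TG_swap (σ : F →+* F) (hσ : ∀ x, σ x = x ^ q) (hσ2 : ∀ x, σ (σ x) = x) (hq : q = 2 ∨ q = 3)
    (G : Matrix (Fin 4) (Fin 4) F)
    (hiso : ∀ j k : Fin 4, G 0 j * σ (G 2 k) + G 1 j * σ (G 3 k) + G 2 j * σ (G 0 k) + G 3 j * σ (G 1 k) =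
      if k = j + 2 then 1 else 0)
    (hdet : G.det = 1)
    (z00 : G 0 0 = 0) (z10 : G 1 0 = 0) (z01 : G 0 1 = 0) (z11 : G 1 1 = 0)
    (z22 : G 2 2 = 0) (z32 : G 3 2 = 0) (z23 : G 2 3 = 0) (z33 : G 3 3 = 0) :
    ∃ κ : F, κ ^ 2 = 1 ∧ (Tm : Matrix (Fin 4) (Fin 4) F) * G.map σ = κ • (G * Tm) := by
  have E00 := hiso 0 2
  have E01 := hiso 0 3
  have E10 := hiso 1 2
  have E11 := hiso 1 3
  simp (config := {decide := true}) only [z00, z10, z01, z11, zero_mul, zero_add, if_true, if_false] at E00 E01 E10 E11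
  have hdet' : (G 2 0 * G 3 1 - G 2 1 * G 3 0) * (G 0 2 * G 1 3 - G 0 3 * G 1 2) = 1 := by
    rw [← hdet, det_fin_four', z00, z10, z01, z11, z22, z32, z23, z33]
    ring
  obtain ⟨hδ2, hσδ, h02, h12, h03, h13⟩ := core22 σ hσ hq (G 2 0) (G 2 1) (G 3 0) (G 3 1) (G 0 2) (G 0 3)
    (G 1 2) (G 1 3) E00 E01 E10 E11 hdet'
  obtain ⟨δ, hδ⟩ : ∃ δ : F, δ = G 2 0 * G 3 1 - G 2 1 * G 3 0 := ⟨_, rfl⟩
  rw [← hδ] at hδ2 hσδ h02 h12 h03 h13
  have c31 : σ (G 3 1) = δ * G 0 2 := by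
    have := congrArg σ h02
    rw [hσ2, map_mul, hσδ] at this
    linear_combination (-σ (G 3 1)) * hδ2 - δ * this
  have c21 : σ (G 2 1) = -δ * G 1 2 := by
    have := congrArg σ h12
    rw [hσ2, map_mul, map_neg, hσδ] at this
    linear_combination (-σ (G 2 1)) * hδ2 + δ * this
  have c30 : σ (G 3 0) = -δ * G 0 3 := by
    have := congrArg σ h03
    rw [hσ2, map_mul, map_neg, hσδ] at this
    linear_combination (-σ (G 3 0)) * hδ2 + δ * this
  have c20 : σ (G 2 0) = δ * G 1 3 := by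
    have := congrArg σ h13
    rw [hσ2, map_mul, hσδ] at this
    linear_combination (-σ (G 2 0)) * hδ2 - δ * this
  refine ⟨-δ, by rw [neg_sq]; exact hδ2, ?_⟩
  ext i j
  fin_cases i <;> fin_cases j <;>
    simp [Tm, Matrix.mul_apply, Fin.sum_univ_four, z00, z10, z01, z11, z22, z32, z23, z33]
  · linear_combination (-1 : F) * c30
  · linear_combination c31
  · linear_combination c20
  · linear_combination c21
  · linear_combination h12
  · linear_combination h13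
  · linear_combination h02
  · linear_combination (-1 : F) * h03

theorem Cm_mulVec (σ : F →+* F) (lam : F) (u : Fin 4 → F) :
    Cm σ lam *ᵥ u = ![u 0 + lam * u 1, u 2 + lam * u 3, u 2 + σ lam * u 3, -u 0 - σ lam * u 1] := by
  funext i
  fin_cases i <;> simp [Cm, Matrix.mulVec, dotProduct, Fin.sum_univ_four] <;> ring

/-- the form on the `F₀`-structure -/
theorem herm_P (hF : Fintype.card F = q ^ 2) (σ : F →+* F) (hσ : ∀ x, σ x = x ^ q) (hσ2 : ∀ x, σ (σ x) = x)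
    (b : Fin 4 → (Fin 4 → F))
    (hG : ∀ j k : Fin 4, hermForm 4 F q (b j) (b k) = if k = j + 2 then 1 else 0) (lam : F)
    (u v : Fin 4 → F) (hu : ∀ i, σ (u i) = u i) (hv : ∀ i, σ (v i) = v i) :
    hermForm 4 F q ((colMat b * Cm σ lam) *ᵥ u) ((colMat b * Cm σ lam) *ᵥ v) =
      ((u 0 + lam * u 1) * (v 2 + lam * v 3) - (u 2 + lam * u 3) * (v 0 + lam * v 1))
      - σ ((u 0 + lam * u 1) * (v 2 + lam * v 3) - (u 2 + lam * u 3) * (v 0 + lam * v 1)) := by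
  rw [← Matrix.mulVec_mulVec, ← Matrix.mulVec_mulVec, herm_colMat_colMat hF σ hσ b hG, Cm_mulVec, Cm_mulVec]
  simp [map_add, map_mul, map_sub, map_neg, hσ2, hu, hv]
  ring

end Cfsg.Agent.Lib.Helper34.Bhrsu4TI

namespace Cfsg.Agent.Lib.Helper34.BHRSU4

open Cfsg Cfsg.Geo Cfsg.Agent.Lib.Helper70.AschU Cfsg.Agent.Lib.Helper37.BHRSU Cfsg.Agent.Lib.Helper13
  Cfsg.Agent.Lib.Helper34.Bhrsu4TI
open scoped MatrixGroups Matrix Kronecker

variable {F : Type*} [Field F] [Fintype F] {q : ℕ}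

/-- BHRSU4-[E-SU4-TI] -/
theorem ti_pair_le_subfield (hF : Fintype.card F = q ^ 2) (hq : q ≤ 3)
    (D : Fin 2 → Submodule F (Fin 4 → F)) (hD : IsMDecomposition 2 D)
    (hts : ∀ i, IsTotallySingularFor (hermForm 4 F q) (D i)) :
    ∃ (F₀ : Subfield F) (P : GL (Fin 4) F) (ζ : F), Fintype.card F = Nat.card F₀ ^ 2 ∧ ζ ≠ 0 ∧ ζ + ζ ^ q = 0 ∧
      IsFormRationalStructure (hermForm 4 F q) F₀ ζ P ∧
      (∀ u : Fin 4 → F, (∀ i, u i ∈ F₀) →
        hermForm 4 F q ((P : Matrix (Fin 4) (Fin 4) F) *ᵥ u) ((P : Matrix (Fin 4) (Fin 4) F) *ᵥ u) = 0) ∧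
      decompositionStabilizer D ⊓ SUg 4 F q ≤ subfieldSubgroup F₀ P := by
  classical
  obtain ⟨σ, hσ, hσ2⟩ := exists_frob hF
  have hq2 := two_le_of_card_eq_sq hF
  have hq' : q = 2 ∨ q = 3 := by omega
  obtain ⟨lam, hlam⟩ := Cfsg.Agent.Lib.Helper34.BhrsuP5Two.exists_not_fixed hF
  have hlam' : σ lam ≠ lam := by rw [hσ]; exact hlam
  have hsum : ∀ v : Fin 4 → F, ∃ x ∈ D 0, ∃ x' ∈ D 1, v = x + x' := by
    intro v
    obtain ⟨w, hw, hv⟩ := Cfsg.Agent.Lib.Helper83.Decomp.exists_decomp hD.iSup_eq_top v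
    rw [Fin.sum_univ_two] at hv
    exact ⟨w 0, hw 0, w 1, hw 1, hv.symm⟩
  obtain ⟨b, hb0, hb1, hb2, hb3, hG⟩ :=
    exists_hyp_basis hF σ hσ hσ2 (D 0) (D 1) (hD.finrank_eq 0) (hts 0) (hts 1) hsum
  have hBu := colMat_isUnit hF σ hσ b hG
  have hCu := Cm_isUnit σ lam hlam'
  obtain ⟨BG, hBG⟩ : ∃ BG : GL (Fin 4) F, (BG : Matrix (Fin 4) (Fin 4) F) = colMat b := ⟨hBu.unit, rfl⟩
  obtain ⟨CG, hCG⟩ : ∃ CG : GL (Fin 4) F, (CG : Matrix (Fin 4) (Fin 4) F) = Cm σ lam := ⟨hCu.unit, rfl⟩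
  have hP : ((BG * CG : GL (Fin 4) F) : Matrix (Fin 4) (Fin 4) F) = colMat b * Cm σ lam := by
    rw [Units.val_mul, hBG, hCG]
  obtain ⟨ζ, hζdef⟩ : ∃ ζ : F, ζ = lam - σ lam := ⟨_, rfl⟩
  have hζ0 : ζ ≠ 0 := by rw [hζdef]; exact fun h => hlam' (sub_eq_zero.1 h).symm
  have hσζ : σ ζ = -ζ := by rw [hζdef, map_sub, hσ2]; ring
  have hrat : ∀ u : Fin 4 → F, (∀ i, u i ∈ fixedField σ) → ∀ i, σ (u i) = u i := fun u hu i => hu i
  refine ⟨fixedField σ, BG * CG, ζ, card_fixedField σ hσ2 lam hlam', hζ0, ?_, ?_, ?_, ?_⟩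
  · rw [← hσ, hσζ]; ring
  · intro u v hu hv
    rw [hP, herm_P hF σ hσ hσ2 b hG lam u v (hrat u hu) (hrat v hv)]
    obtain ⟨β, hβ⟩ : ∃ β : F, β = (u 0 + lam * u 1) * (v 2 + lam * v 3) - (u 2 + lam * u 3) * (v 0 + lam * v 1) :=
      ⟨_, rfl⟩
    rw [← hβ]
    show σ (ζ * (β - σ β)) = ζ * (β - σ β)
    rw [map_mul, map_sub, hσ2, hσζ]
    ring
  · intro u hu
    rw [hP, herm_P hF σ hσ hσ2 b hG lam u u (hrat u hu) (hrat u hu)]
    have : (u 0 + lam * u 1) * (u 2 + lam * u 3) - (u 2 + lam * u 3) * (u 0 + lam * u 1) = 0 := by ring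
    rw [this, map_zero, sub_zero]
  · intro g hg
    obtain ⟨hgD, hgGU, hgSL⟩ : g ∈ decompositionStabilizer D ∧ g ∈ GU 4 F q ∧ g ∈ specialLinear (Fin 4) F :=
      ⟨hg.1, hg.2.1, hg.2.2⟩
    set B : Matrix (Fin 4) (Fin 4) F := colMat b with hB
    set BI : Matrix (Fin 4) (Fin 4) F := ((BG⁻¹ : GL (Fin 4) F) : Matrix (Fin 4) (Fin 4) F) with hBIdef
    set gM : Matrix (Fin 4) (Fin 4) F := (g : Matrix (Fin 4) (Fin 4) F) with hgM
    have hBI : BI * B = 1 := by rw [hBIdef, ← hBG, ← Units.val_mul, inv_mul_cancel, Units.val_one]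
    have hB' : B * BI = 1 := by rw [hBIdef, ← hBG, ← Units.val_mul, mul_inv_cancel, Units.val_one]
    set G : Matrix (Fin 4) (Fin 4) F := BI * gM * B with hGdef
    have hgB : gM * B = B * G := by
      rw [hGdef, ← Matrix.mul_assoc, ← Matrix.mul_assoc, hB', Matrix.one_mul]
    have hgb : ∀ j, gM *ᵥ b j = B *ᵥ (G *ᵥ Pi.single j 1) := by
      intro j
      rw [← colMat_mulVec_single b j, Matrix.mulVec_mulVec, hgB, ← Matrix.mulVec_mulVec]
    have hGe : ∀ i j, (G *ᵥ Pi.single j 1) i = G i j := by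
      intro i j; rw [Matrix.mulVec_single_one]; rfl
    have hGij : ∀ i j, G i j = hermForm 4 F q (gM *ᵥ b j) (b (i + 2)) := by
      intro i j
      rw [hgb, herm_colMat hF σ hσ b hG, hGe]
    have hiso : ∀ j k : Fin 4, G 0 j * σ (G 2 k) + G 1 j * σ (G 3 k) + G 2 j * σ (G 0 k) + G 3 j * σ (G 1 k) =
        if k = j + 2 then 1 else 0 := by
      intro j k
      have h1 : hermForm 4 F q (gM *ᵥ b j) (gM *ᵥ b k) = hermForm 4 F q (b j) (b k) := hgGU (b j) (b k)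
      rw [hgb, hgb, herm_colMat_colMat hF σ hσ b hG, hG] at h1
      simp only [hGe] at h1
      exact h1
    have hdet : G.det = 1 := by
      have h1 : gM.det = 1 := by
        have := hgSL
        unfold specialLinear at this
        rw [MonoidHom.mem_ker, Units.ext_iff] at this
        exact this
      have h2 := congrArg Matrix.det hgB
      rw [Matrix.det_mul, Matrix.det_mul, h1, one_mul] at h2
      have hBdet : B.det ≠ 0 := ((Matrix.isUnit_iff_isUnit_det _).1 hBu).ne_zero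
      have h3 : B.det * G.det = B.det * 1 := by rw [← h2, mul_one]
      exact mul_left_cancel₀ hBdet h3
    -- the permutation of the two planes
    obtain ⟨π, hπ⟩ := hgD
    have hmap : ∀ i, ∀ x ∈ D i, gM *ᵥ x ∈ D (π i) := by
      intro i x hx
      rw [← hπ i]
      exact ⟨x, hx, by rw [Matrix.toLin'_apply]⟩
    have hTG : ∃ κ : F, κ ^ 2 = 1 ∧ (Tm : Matrix (Fin 4) (Fin 4) F) * G.map σ = κ • (G * Tm) := by
      by_cases h0 : π 0 = 0
      · have h1 : π 1 = 1 := by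
          have hne : π 1 ≠ π 0 := fun h => by simpa using π.injective h
          rw [h0] at hne
          have : ∀ x : Fin 2, x ≠ 0 → x = 1 := by decide
          exact this _ hne
        have m0 := hmap 0 _ hb0; have m1 := hmap 0 _ hb1; have m2 := hmap 1 _ hb2; have m3 := hmap 1 _ hb3
        rw [h0] at m0 m1; rw [h1] at m2 m3
        apply TG_diag σ hσ hσ2 hq' G hiso hdet
        · rw [hGij]; exact hts 0 _ m0 _ hb0
        · rw [hGij]; exact hts 0 _ m0 _ hb1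
        · rw [hGij]; exact hts 0 _ m1 _ hb0
        · rw [hGij]; exact hts 0 _ m1 _ hb1
        · rw [hGij]; exact hts 1 _ m2 _ hb2
        · rw [hGij]; exact hts 1 _ m2 _ hb3
        · rw [hGij]; exact hts 1 _ m3 _ hb2
        · rw [hGij]; exact hts 1 _ m3 _ hb3
      · have h0' : π 0 = 1 := by
          have : ∀ x : Fin 2, x ≠ 0 → x = 1 := by decide
          exact this _ h0
        have h1 : π 1 = 0 := by
          have hne : π 1 ≠ π 0 := fun h => by simpa using π.injective h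
          rw [h0'] at hne
          have : ∀ x : Fin 2, x ≠ 1 → x = 0 := by decide
          exact this _ hne
        have m0 := hmap 0 _ hb0; have m1 := hmap 0 _ hb1; have m2 := hmap 1 _ hb2; have m3 := hmap 1 _ hb3
        rw [h0'] at m0 m1; rw [h1] at m2 m3
        apply TG_swap σ hσ hσ2 hq' G hiso hdet
        · rw [hGij]; exact hts 1 _ m0 _ hb2
        · rw [hGij]; exact hts 1 _ m0 _ hb3
        · rw [hGij]; exact hts 1 _ m1 _ hb2
        · rw [hGij]; exact hts 1 _ m1 _ hb3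
        · rw [hGij]; exact hts 0 _ m2 _ hb0
        · rw [hGij]; exact hts 0 _ m2 _ hb1
        · rw [hGij]; exact hts 0 _ m3 _ hb0
        · rw [hGij]; exact hts 0 _ m3 _ hb1
    obtain ⟨κ, hκ2, hTGκ⟩ := hTG
    have hcomm := Th_comm σ B BI hBI hB' gM G hgB κ hTGκ
    -- the scalar `μ`
    obtain ⟨μ, hμ0, hμ⟩ : ∃ μ : F, μ ≠ 0 ∧ σ μ * μ⁻¹ = κ := by
      have hκ : (κ - 1) * (κ + 1) = 0 := by linear_combination hκ2
      rcases mul_eq_zero.1 hκ with h | h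
      · exact ⟨1, one_ne_zero, by rw [map_one, inv_one, mul_one]; exact (sub_eq_zero.1 h).symm⟩
      · refine ⟨ζ, hζ0, ?_⟩
        rw [hσζ, neg_mul, mul_inv_cancel₀ hζ0]
        linear_combination -h
    apply mem_subfieldSubgroup_of_semilinear σ (fixedField σ) (fun x hx => hx) (BG * CG) g (Th σ B BI)
      (Th_add σ B BI) (Th_smul σ B BI) ?_ μ hμ0 ?_
    · intro k
      rw [hP]
      exact Th_fix σ hσ2 B BI hBI lam k
    · intro x
      rw [hμ]
      exact hcomm x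

end Cfsg.Agent.Lib.Helper34.BHRSU4
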