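import Mathlib
import Cfsg.Prelude.Def_GeometricClasses
import Cfsg.Agent.Lib.Helper37.BHRSU5.Defs
import Cfsg.Agent.Lib.Helper24.BhrC3Div
import Cfsg.Agent.Lib.Helper61.Bhrsu5B1

/-!
# BHRSU5-[A2A] (helper37's sheet for S5796; helper34's hedge of the end of helper61's queue)

For a field `K ≤ M_5(F_4)` of degree 5 and `ζ ∈ K` with `ζ¹¹ = 1`, `g₁ ζ = 0`:
`F_4[ζ] = K` and `1, ζ, …, ζ⁴` are linearly independent.

Route: `L = F_4[ζ]` is a field subalgebra (inverses are powers, `M_5(F_4)` is finite), so `dim L ∣ 5`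
(helper24's `dvd_of_isFieldSubalgebra`); `dim L = 1` would make `ζ` a scalar, `ζ = 1`, but `g₁ 1 ≠ 0`.
All statements are in the namespace `Cfsg.Agent.Lib.Helper34.Bhrsu5A2` (no clash with helper61's official copies).
-/

set_option autoImplicit false

namespace Cfsg.Agent.Lib.Helper34.Bhrsu5A2

open Cfsg Cfsg.Geo Cfsg.Agent.Lib.Helper37.BHRSU5 Cfsg.Agent.Lib.Helper61.Bhrsu5
open Cfsg.Agent.Lib.Helper56.F4 (w v)
open scoped Matrix

/-- every element of `F4c[ζ]` is `Σ_{i<5} cᵢ ζⁱ` when `g₁ ζ = 0` -/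
theorem exists_coeffs_of_mem_adjoin (ζ : M5) (h : g1 ζ = 0) (M : M5) (hM : M ∈ Algebra.adjoin F4c {ζ}) :
    ∃ c : Fin 5 → F4c, M = ∑ i : Fin 5, c i • ζ ^ (i : ℕ) := by
  rw [Algebra.adjoin_singleton_eq_range_aeval] at hM
  obtain ⟨p, rfl⟩ := hM
  set r := p %ₘ G1 with hr
  have h1 : Polynomial.aeval ζ p = Polynomial.aeval ζ r := by
    have h2 := Polynomial.modByMonic_add_div p G1
    conv_lhs => rw [← h2]
    rw [map_add, map_mul, aeval_G1, h, zero_mul, add_zero]
  have hdeg : r.natDegree < 5 := by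
    have h3 := Polynomial.natDegree_modByMonic_lt p G1_monic (by
      intro h
      have := G1_natDegree
      rw [h] at this
      simp at this)
    rw [G1_natDegree] at h3
    exact h3
  refine ⟨fun i => r.coeff (i : ℕ), ?_⟩
  change Polynomial.aeval ζ p = _
  rw [h1]
  conv_lhs => rw [Polynomial.as_sum_range' r 5 hdeg]
  rw [map_sum, Fin.sum_univ_eq_sum_range (fun i => r.coeff i • ζ ^ i) 5]
  refine Finset.sum_congr rfl fun i _ => ?_
  rw [← Polynomial.C_mul_X_pow_eq_monomial, map_mul, Polynomial.aeval_C, map_pow, Polynomial.aeval_X,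
    Algebra.smul_def]

theorem adjoin_le_span (ζ : M5) (h : g1 ζ = 0) :
    Subalgebra.toSubmodule (Algebra.adjoin F4c {ζ}) ≤
      Submodule.span F4c (Set.range (fun i : Fin 5 => ζ ^ (i : ℕ))) := by
  intro M hM
  obtain ⟨c, rfl⟩ := exists_coeffs_of_mem_adjoin ζ h M hM
  exact Submodule.sum_mem _ fun i _ => Submodule.smul_mem _ _ (Submodule.subset_span ⟨i, rfl⟩)

set_option maxRecDepth 100000 in
theorem g1_one_ne : g1 (1 : M5) ≠ 0 := by
  unfold g1
  decide

theorem eq_one_of_pow_eleven : ∀ x : F4c, x ^ 11 = 1 → x = 1 := by decide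

/-- `F4c[ζ]` is a field subalgebra -/
theorem isFieldSubalgebra_adjoin (K : Subalgebra F4c M5) (hK : IsFieldSubalgebra 5 K) (ζ : M5) (hζ : ζ ∈ K) :
    IsFieldSubalgebra (Module.finrank F4c (Algebra.adjoin F4c {ζ})) (Algebra.adjoin F4c {ζ}) := by
  have hLK : Algebra.adjoin F4c {ζ} ≤ K := Algebra.adjoin_le (by simpa using hζ)
  refine ⟨fun x hx y hy => hK.comm x (hLK hx) y (hLK hy), ?_, rfl⟩
  intro x hx hx0
  obtain ⟨y, -, hxy⟩ := hK.inv x (hLK hx) hx0
  have hyx : y * x = 1 := mul_eq_one_comm.mp hxy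
  let u : M5ˣ := ⟨x, y, hxy, hyx⟩
  obtain ⟨n, hn0, hn⟩ := (isOfFinOrder_iff_pow_eq_one).mp (isOfFinOrder_of_finite u)
  have hxn : x ^ n = 1 := by
    have := congrArg Units.val hn
    simpa [u] using this
  refine ⟨x ^ (n - 1), Subalgebra.pow_mem _ hx _, ?_⟩
  rw [← pow_succ', Nat.sub_add_cancel hn0, hxn]

theorem finrank_adjoin (K : Subalgebra F4c M5) (hK : IsFieldSubalgebra 5 K) (ζ : M5) (hζ : ζ ∈ K)
    (h11 : ζ ^ 11 = 1) (h : g1 ζ = 0) : Module.finrank F4c (Algebra.adjoin F4c {ζ}) = 5 := by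
  have hL := isFieldSubalgebra_adjoin K hK ζ hζ
  have hdvd : Module.finrank F4c (Algebra.adjoin F4c {ζ}) ∣ 5 :=
    Cfsg.Agent.Lib.Helper99.Asch.dvd_of_isFieldSubalgebra _ _ hL
  rcases (Nat.dvd_prime Nat.prime_five).mp hdvd with h1 | h5
  · exfalso
    rw [Subalgebra.finrank_eq_one_iff] at h1
    have hmem : ζ ∈ (⊥ : Subalgebra F4c M5) := by
      rw [← h1]
      exact Algebra.subset_adjoin (Set.mem_singleton _)
    rw [Algebra.mem_bot] at hmem
    obtain ⟨c, rfl⟩ := hmem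
    have hc : c ^ 11 = 1 := by
      have hinj : Function.Injective (algebraMap F4c M5) := (algebraMap F4c M5).injective
      apply hinj
      rw [map_pow, map_one]
      exact h11
    have hc1 := eq_one_of_pow_eleven c hc
    rw [hc1, map_one] at h
    exact g1_one_ne h
  · exact h5

/-- BHRSU5-[A2A], first statement (helper34's copy). -/
theorem adjoin_eq_of_root (K : Subalgebra F4c M5) (hK : IsFieldSubalgebra 5 K) (ζ : M5) (hζ : ζ ∈ K)
    (h11 : ζ ^ 11 = 1) (h : g1 ζ = 0) : Algebra.adjoin F4c {ζ} = K := by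
  have hLK : Algebra.adjoin F4c {ζ} ≤ K := Algebra.adjoin_le (by simpa using hζ)
  have hfin := finrank_adjoin K hK ζ hζ h11 h
  apply Subalgebra.toSubmodule_injective
  apply Submodule.eq_of_le_of_finrank_eq
  · exact hLK
  · show Module.finrank F4c (Algebra.adjoin F4c {ζ}) = Module.finrank F4c K
    rw [hfin, hK.finrank_eq]

/-- BHRSU5-[A2A], second statement (helper34's copy). -/
theorem linearIndependent_pow_of_root (K : Subalgebra F4c M5) (hK : IsFieldSubalgebra 5 K) (ζ : M5) (hζ : ζ ∈ K)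
    (h11 : ζ ^ 11 = 1) (h : g1 ζ = 0) : LinearIndependent F4c (fun i : Fin 5 => ζ ^ (i : ℕ)) := by
  rw [linearIndependent_iff_card_eq_finrank_span]
  have hfin := finrank_adjoin K hK ζ hζ h11 h
  have h1 : Module.finrank F4c (Algebra.adjoin F4c {ζ}) ≤
      Module.finrank F4c (Submodule.span F4c (Set.range (fun i : Fin 5 => ζ ^ (i : ℕ)))) :=
    Submodule.finrank_mono (adjoin_le_span ζ h)
  have h2 := finrank_range_le_card (R := F4c) (fun i : Fin 5 => ζ ^ (i : ℕ))
  rw [Fintype.card_fin] at h2 ⊢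
  rw [hfin] at h1
  exact le_antisymm h1 h2

end Cfsg.Agent.Lib.Helper34.Bhrsu5A2
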