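import Mathlib
import Cfsg.Prelude.Def_GeometricClasses
import Cfsg.Agent.Lib.Helper37.BHRSU5.Defs
import Cfsg.Agent.Lib.Helper61.Bhrsu5B1
import Cfsg.Agent.Lib.Helper34.Bhrsu5A2A

/-!
# BHRSU5-[A2B] (helper37's sheet for S5796; helper34's hedge of the end of helper61's queue)

A root `ζ` of `g₁` of order 11 in a degree-5 field `K ≤ M_5(F_4)` is `GL_5(4)`-conjugate to `Zc`:
`P = Bζ * Cc⁻¹`, `Bζ` = the matrix with columns `ζʲ e₀`; both `Zc` (w.r.t. the columns of `Cc`) and `ζ`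
(w.r.t. the columns of `Bζ`) act as the companion matrix of `g₁`.
-/

set_option autoImplicit false

namespace Cfsg.Agent.Lib.Helper34.Bhrsu5A2

open Cfsg Cfsg.Geo Cfsg.Agent.Lib.Helper37.BHRSU5 Cfsg.Agent.Lib.Helper61.Bhrsu5
open Cfsg.Agent.Lib.Helper56.F4 (w v)
open scoped Matrix

/-- the companion matrix of `g₁` -/
def Comp : M5 := !![0, 0, 0, 0, 1; 1, 0, 0, 0, w; 0, 1, 0, 0, 1; 0, 0, 1, 0, 1; 0, 0, 0, 1, v]

set_option maxRecDepth 100000 in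
theorem Zc_mul_Cc : Zc * Cc = Cc * Comp := by decide

/-- the matrix with columns `ζʲ e₀` -/
def Bz (ζ : M5) : M5 := Matrix.of fun i j => ((ζ ^ (j : ℕ)) *ᵥ (Pi.single 0 1 : Fin 5 → F4c)) i

theorem Bz_mulVec (ζ : M5) (c : Fin 5 → F4c) :
    Bz ζ *ᵥ c = (∑ j : Fin 5, c j • ζ ^ (j : ℕ)) *ᵥ (Pi.single 0 1 : Fin 5 → F4c) := by
  rw [Matrix.sum_mulVec]
  ext i
  rw [Finset.sum_apply, Matrix.mulVec, dotProduct]
  refine Finset.sum_congr rfl fun j _ => ?_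
  rw [Matrix.smul_mulVec, Pi.smul_apply, smul_eq_mul, mul_comm]
  rfl

theorem add_self_M5 (x : M5) : x + x = 0 := by
  ext i j
  simp only [Matrix.add_apply, Matrix.zero_apply]
  exact (by decide : ∀ a : F4c, a + a = 0) _

theorem pow_five_of_root (ζ : M5) (h : g1 ζ = 0) :
    ζ ^ 5 = (1 : M5) + (w : F4c) • ζ + ζ ^ 2 + ζ ^ 3 + (v : F4c) • ζ ^ 4 := by
  unfold g1 at h
  have h2 := add_self_M5 ((1 : M5) + (w : F4c) • ζ + ζ ^ 2 + ζ ^ 3 + (v : F4c) • ζ ^ 4)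
  calc ζ ^ 5 = ζ ^ 5 + 0 := by rw [add_zero]
    _ = ζ ^ 5 + (((1 : M5) + (w : F4c) • ζ + ζ ^ 2 + ζ ^ 3 + (v : F4c) • ζ ^ 4) +
          ((1 : M5) + (w : F4c) • ζ + ζ ^ 2 + ζ ^ 3 + (v : F4c) • ζ ^ 4)) := by rw [h2]
    _ = (ζ ^ 5 + (v : F4c) • ζ ^ 4 + ζ ^ 3 + ζ ^ 2 + (w : F4c) • ζ + 1) +
          ((1 : M5) + (w : F4c) • ζ + ζ ^ 2 + ζ ^ 3 + (v : F4c) • ζ ^ 4) := by abel
    _ = (1 : M5) + (w : F4c) • ζ + ζ ^ 2 + ζ ^ 3 + (v : F4c) • ζ ^ 4 := by rw [h, zero_add]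

/-- `ζ` acts on the columns of `Bz ζ` as the companion matrix -/
theorem mul_Bz (ζ : M5) (h : g1 ζ = 0) : ζ * Bz ζ = Bz ζ * Comp := by
  ext i j
  have hL : (ζ * Bz ζ) i j = ((ζ ^ ((j : ℕ) + 1)) *ᵥ (Pi.single 0 1 : Fin 5 → F4c)) i := by
    rw [pow_succ', ← Matrix.mulVec_mulVec]
    rw [Matrix.mul_apply, Matrix.mulVec, dotProduct]
    rfl
  have hR : (Bz ζ * Comp) i j = (Bz ζ *ᵥ (fun k => Comp k j)) i := by
    rw [Matrix.mul_apply, Matrix.mulVec, dotProduct]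
  rw [hL, hR, Bz_mulVec]
  congr 2
  fin_cases j
  · simp [Comp, Fin.sum_univ_five]
  · simp [Comp, Fin.sum_univ_five]
  · simp [Comp, Fin.sum_univ_five]
  · simp [Comp, Fin.sum_univ_five]
  · simp only [Comp, Fin.sum_univ_five]
    simp
    rw [pow_five_of_root ζ h]

/-- `Bz ζ` is invertible -/
theorem isUnit_Bz (K : Subalgebra F4c M5) (hK : IsFieldSubalgebra 5 K) (ζ : M5) (hζ : ζ ∈ K)
    (h11 : ζ ^ 11 = 1) (h : g1 ζ = 0) : IsUnit (Bz ζ) := by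
  rw [← Matrix.mulVec_injective_iff_isUnit]
  have hli := linearIndependent_pow_of_root K hK ζ hζ h11 h
  rw [Fintype.linearIndependent_iff] at hli
  have hker : ∀ c : Fin 5 → F4c, Bz ζ *ᵥ c = 0 → c = 0 := by
    intro c hc
    rw [Bz_mulVec] at hc
    set k : M5 := ∑ j : Fin 5, c j • ζ ^ (j : ℕ) with hk
    have hkK : k ∈ K := Subalgebra.sum_mem _ fun j _ => Subalgebra.smul_mem _ (Subalgebra.pow_mem _ hζ _) _
    have hk0 : k = 0 := by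
      by_contra hne
      obtain ⟨y, -, hky⟩ := hK.inv k hkK hne
      have hyk : y * k = 1 := mul_eq_one_comm.mp hky
      have h1 : y *ᵥ (k *ᵥ (Pi.single 0 1 : Fin 5 → F4c)) = (Pi.single 0 1 : Fin 5 → F4c) := by
        rw [Matrix.mulVec_mulVec, hyk, Matrix.one_mulVec]
      rw [hc, Matrix.mulVec_zero] at h1
      have h2 := congrFun h1 0
      simp at h2
    funext i
    exact hli c hk0 i
  intro a b hab
  have h0 : Bz ζ *ᵥ (a - b) = 0 := by rw [Matrix.mulVec_sub, hab, sub_self]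
  exact sub_eq_zero.mp (hker _ h0)

/-- BHRSU5-[A2B] (helper34's copy). -/
theorem exists_gl_conj (K : Subalgebra F4c M5) (hK : IsFieldSubalgebra 5 K) (ζ : M5) (hζ : ζ ∈ K)
    (h11 : ζ ^ 11 = 1) (h : g1 ζ = 0) : ∃ P : GL (Fin 5) F4c, (P : M5) * Zc = ζ * (P : M5) := by
  have hB := isUnit_Bz K hK ζ hζ h11 h
  let CU : GL (Fin 5) F4c := ⟨Cci, Cc, Cci_mul_Cc', Cc_mul_Cci'⟩
  refine ⟨hB.unit * CU, ?_⟩
  have hP : ((hB.unit * CU : GL (Fin 5) F4c) : M5) = Bz ζ * Cci := rfl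
  rw [hP]
  have h1 : Cci * Zc = Comp * Cci := by
    have : Cci * (Zc * Cc) * Cci = Cci * (Cc * Comp) * Cci := by rw [Zc_mul_Cc]
    rw [Matrix.mul_assoc, Matrix.mul_assoc, Cc_mul_Cci', Matrix.mul_one, ← Matrix.mul_assoc Cci Cc,
      Cci_mul_Cc', Matrix.one_mul] at this
    exact this
  rw [Matrix.mul_assoc, h1, ← Matrix.mul_assoc, ← mul_Bz ζ h, Matrix.mul_assoc]

end Cfsg.Agent.Lib.Helper34.Bhrsu5A2
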