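import Mathlib
import Cfsg.Prelude.Def_GeometricClasses
import Cfsg.Agent.Lib.Helper37.BHRSU5.Defs
import Cfsg.Agent.Lib.Helper34.Bhrsu5A2B

/-!
# BHRSU5-[A2A] + BHRSU5-[A2B] under the official skeleton names (helper37's sheet for S5796)

Thin wrappers of `Cfsg.Agent.Lib.Helper34.Bhrsu5A2.*` in the sheet namespace `Cfsg.Agent.Lib.Helper37.BHRSU5`.
Import EITHER this file OR another seat's copy of [A2A]/[A2B] (same names), not both.
-/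

set_option autoImplicit false

namespace Cfsg.Agent.Lib.Helper37.BHRSU5

open Cfsg Cfsg.Geo
open scoped MatrixGroups Matrix

/-- BHRSU5-[A2A]. -/
theorem adjoin_eq_of_root (K : Subalgebra F4c M5) (hK : IsFieldSubalgebra 5 K) (ζ : M5) (hζ : ζ ∈ K)
    (h11 : ζ ^ 11 = 1) (h : g1 ζ = 0) : Algebra.adjoin F4c {ζ} = K :=
  Cfsg.Agent.Lib.Helper34.Bhrsu5A2.adjoin_eq_of_root K hK ζ hζ h11 h

/-- BHRSU5-[A2A]. -/
theorem linearIndependent_pow_of_root (K : Subalgebra F4c M5) (hK : IsFieldSubalgebra 5 K) (ζ : M5) (hζ : ζ ∈ K)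
    (h11 : ζ ^ 11 = 1) (h : g1 ζ = 0) : LinearIndependent F4c (fun i : Fin 5 => ζ ^ (i : ℕ)) :=
  Cfsg.Agent.Lib.Helper34.Bhrsu5A2.linearIndependent_pow_of_root K hK ζ hζ h11 h

/-- BHRSU5-[A2B]. -/
theorem exists_gl_conj (K : Subalgebra F4c M5) (hK : IsFieldSubalgebra 5 K) (ζ : M5) (hζ : ζ ∈ K)
    (h11 : ζ ^ 11 = 1) (h : g1 ζ = 0) : ∃ P : GL (Fin 5) F4c, (P : M5) * Zc = ζ * (P : M5) :=
  Cfsg.Agent.Lib.Helper34.Bhrsu5A2.exists_gl_conj K hK ζ hζ h11 h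

end Cfsg.Agent.Lib.Helper37.BHRSU5
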