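import Mathlib
import Cfsg.Agent.Lib.Helper34.CentMaxStructAbstract

/-!
# Structure of finite groups in which every noncentral centralizer is maximal

Let `Z = Z(G)`.  If all noncentral centralizers are normal then `G/Z` is elementary abelian
(`elementaryAbelian_quot_of_all_normal`).  Otherwise some noncentral centralizer `C(x)` is not normal;
it is then abelian (`abelian_of_nonnormal_centralizer`) and `G/Z` has a normal elementary abelian
maximal subgroup which is minimal normal and complements `C(x)/Z`
(`exists_kernel_quot_of_abelian_nonnormal_centralizer`).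
-/

set_option autoImplicit false
set_option linter.style.haveILetI false

namespace Cfsg.Agent.Lib.Helper34

open Cfsg Cfsg.Agent.Lib.Helper1

universe u

section general

variable {G : Type u} [Group G]

/-- An abelian non-normal maximal centralizer is TI modulo the center. -/
theorem ti_of_abelian_nonnormal_centralizer
    (h : ∀ g : G, g ∉ Subgroup.center G → IsCoatom (Subgroup.centralizer ({g} : Set G)))
    {y : G} (hy : y ∉ Subgroup.center G)
    (hab : ∀ a ∈ Subgroup.centralizer ({y} : Set G), ∀ b ∈ Subgroup.centralizer ({y} : Set G),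
      a * b = b * a)
    (hn : ¬ (Subgroup.centralizer ({y} : Set G)).Normal) :
    ∀ g : G, g ∉ Subgroup.centralizer ({y} : Set G) → ∀ c ∈ Subgroup.centralizer ({y} : Set G),
      g * c * g⁻¹ ∈ Subgroup.centralizer ({y} : Set G) → c ∈ Subgroup.center G := by
  intro g hg c hc hgc
  by_contra hcZ
  have hcent : ∀ d ∈ Subgroup.centralizer ({y} : Set G), d ∉ Subgroup.center G →
      Subgroup.centralizer ({d} : Set G) = Subgroup.centralizer ({y} : Set G) := by
    intro d hd hdZ
    have hle : Subgroup.centralizer ({y} : Set G) ≤ Subgroup.centralizer ({d} : Set G) := by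
      intro a ha
      rw [Subgroup.mem_centralizer_singleton_iff]
      exact hab a ha d hd
    rcases (h y hy).le_iff.mp hle with h1 | h1
    · exact absurd h1 (h d hdZ).1
    · exact h1
  have hc'Z : g * c * g⁻¹ ∉ Subgroup.center G := by
    intro hz
    apply hcZ
    have := (inferInstance : (Subgroup.center G).Normal).conj_mem _ hz g⁻¹
    simpa [mul_assoc] using this
  have h1 := hcent c hc hcZ
  have h2 := hcent _ hgc hc'Z
  have hgN : g ∈ Subgroup.normalizer ((Subgroup.centralizer ({y} : Set G) : Subgroup G) : Set G) := by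
    rw [Subgroup.mem_normalizer_iff]
    intro k
    have hiff : k ∈ Subgroup.centralizer ({c} : Set G) ↔
        g * k * g⁻¹ ∈ Subgroup.centralizer ({g * c * g⁻¹} : Set G) := by
      rw [Subgroup.mem_centralizer_singleton_iff, Subgroup.mem_centralizer_singleton_iff]
      have e1 : g * k * g⁻¹ * (g * c * g⁻¹) = g * (k * c) * g⁻¹ := by group
      have e2 : g * c * g⁻¹ * (g * k * g⁻¹) = g * (c * k) * g⁻¹ := by group
      rw [e1, e2]
      constructor
      · intro hk; rw [hk]
      · intro hk; exact mul_left_cancel (mul_right_cancel hk)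
    rw [h1, h2] at hiff
    exact hiff
  rcases (h y hy).le_iff.mp (Subgroup.le_normalizer
      (H := Subgroup.centralizer ({y} : Set G))) with h3 | h3
  · exact hn (Subgroup.normalizer_eq_top_iff.mp h3)
  · rw [h3] at hgN
    exact hg hgN

/-- If `C(y)` is an abelian normal maximal subgroup and `x ∉ C(y)` then `C(x)` is abelian. -/
theorem abelian_of_abelian_normal_centralizer {x y : G}
    (hco : IsCoatom (Subgroup.centralizer ({y} : Set G)))
    (hnorm : (Subgroup.centralizer ({y} : Set G)).Normal)
    (hab : ∀ a ∈ Subgroup.centralizer ({y} : Set G), ∀ b ∈ Subgroup.centralizer ({y} : Set G),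
      a * b = b * a)
    (hx : x ∉ Subgroup.centralizer ({y} : Set G)) :
    ∀ a ∈ Subgroup.centralizer ({x} : Set G), ∀ b ∈ Subgroup.centralizer ({x} : Set G),
      a * b = b * a := by
  haveI := hnorm
  have hsup : Subgroup.centralizer ({y} : Set G) ⊔ Subgroup.zpowers x = ⊤ := by
    have hlt : Subgroup.centralizer ({y} : Set G) <
        Subgroup.centralizer ({y} : Set G) ⊔ Subgroup.zpowers x :=
      lt_of_le_of_ne le_sup_left
        (fun h => hx ((h ▸ le_sup_right : Subgroup.zpowers x ≤ _) (Subgroup.mem_zpowers x)))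
    exact hco.2 _ hlt
  have key : ∀ a ∈ Subgroup.centralizer ({x} : Set G),
      ∃ c ∈ Subgroup.centralizer ({y} : Set G), ∃ i : ℤ, c * x = x * c ∧ a = c * x ^ i := by
    intro a ha
    have hmem : a ∈ ((Subgroup.centralizer ({y} : Set G) ⊔ Subgroup.zpowers x : Subgroup G) :
        Set G) := by
      rw [hsup]; exact Set.mem_univ a
    rw [Subgroup.normal_mul] at hmem
    obtain ⟨c, hc, z, hz, rfl⟩ := Set.mem_mul.mp hmem
    obtain ⟨i, rfl⟩ := Subgroup.mem_zpowers_iff.mp hz
    refine ⟨c, hc, i, ?_, rfl⟩
    have hxi : x ^ i ∈ Subgroup.centralizer ({x} : Set G) := by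
      rw [Subgroup.mem_centralizer_singleton_iff]
      exact ((Commute.refl x).zpow_left i).eq
    have hcx : c ∈ Subgroup.centralizer ({x} : Set G) := by
      have := (Subgroup.centralizer ({x} : Set G)).mul_mem ha
        ((Subgroup.centralizer ({x} : Set G)).inv_mem hxi)
      simpa using this
    exact Subgroup.mem_centralizer_singleton_iff.mp hcx
  intro a ha b hb
  obtain ⟨c, hc, i, hcx, rfl⟩ := key a ha
  obtain ⟨d, hd, j, hdx, rfl⟩ := key b hb
  have h1 : Commute c d := hab c hc d hd
  have h2 : Commute c x := hcx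
  have h3 : Commute d x := hdx
  have : Commute (c * x ^ i) (d * x ^ j) := by
    apply Commute.mul_left
    · exact Commute.mul_right h1 (h2.zpow_right j)
    · exact Commute.mul_right (h3.symm.zpow_left i) ((Commute.refl x).zpow_zpow i j)
  exact this.eq

/-- If `C(x)` is generated modulo the center by `x` then it is abelian. -/
theorem abelian_of_cyclic_mod_center {x : G}
    (hcyc : ∀ m ∈ Subgroup.centralizer ({x} : Set G), ∃ i : ℤ, ∃ z ∈ Subgroup.center G,
      m = x ^ i * z) :
    ∀ a ∈ Subgroup.centralizer ({x} : Set G), ∀ b ∈ Subgroup.centralizer ({x} : Set G),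
      a * b = b * a := by
  intro a ha b hb
  obtain ⟨i, z, hz, rfl⟩ := hcyc a ha
  obtain ⟨j, w, hw, rfl⟩ := hcyc b hb
  have hzc : ∀ g : G, Commute z g := fun g => (Subgroup.mem_center_iff.mp hz g).symm
  have hwc : ∀ g : G, Commute w g := fun g => (Subgroup.mem_center_iff.mp hw g).symm
  have : Commute (x ^ i * z) (x ^ j * w) := by
    apply Commute.mul_left
    · exact Commute.mul_right ((Commute.refl x).zpow_zpow i j) (hwc _).symm
    · exact hzc _
  exact this.eq

/-- If all noncentral centralizers are normal (and maximal), commutators are central. -/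
theorem comm_mem_center_of_all_normal
    (h : ∀ g : G, g ∉ Subgroup.center G → IsCoatom (Subgroup.centralizer ({g} : Set G)))
    (hall : ∀ g : G, g ∉ Subgroup.center G → (Subgroup.centralizer ({g} : Set G)).Normal)
    (a b : G) : a * b * a⁻¹ * b⁻¹ ∈ Subgroup.center G := by
  rw [Subgroup.mem_center_iff]
  intro g
  by_cases hg : g ∈ Subgroup.center G
  · exact (Subgroup.mem_center_iff.mp hg _).symm
  · haveI := hall g hg
    have := comm_mem_of_normal_coatom (Subgroup.centralizer ({g} : Set G)) (h g hg) a b
    exact (Subgroup.mem_centralizer_singleton_iff.mp this).symm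

end general

section finite

/-- A finite commutative group in which every element has order dividing a prime has prime
exponent (or is trivial). -/
theorem exists_prime_exponent_of_comm {A : Type u} [Group A] [Finite A]
    (hcomm : ∀ a b : A, a * b = b * a) (hpr : ∀ a : A, ∃ q : ℕ, q.Prime ∧ a ^ q = 1) :
    ∃ p : ℕ, p.Prime ∧ ∀ a : A, a ^ p = 1 := by
  rcases subsingleton_or_nontrivial A with hs | hnt
  · exact ⟨2, Nat.prime_two, fun a => Subsingleton.elim _ _⟩
  have hcard : Nat.card A ≠ 1 := by
    intro h1
    have : Subsingleton A := (Nat.card_eq_one_iff_unique.mp h1).1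
    exact not_subsingleton A this
  set p := (Nat.card A).minFac with hp
  have hpp : p.Prime := Nat.minFac_prime hcard
  haveI : Fact p.Prime := ⟨hpp⟩
  obtain ⟨b, hb⟩ := exists_prime_orderOf_dvd_card' p (Nat.minFac_dvd _)
  have hord : ∀ a : A, orderOf a = 1 ∨ (orderOf a).Prime := by
    intro a
    obtain ⟨q, hq, haq⟩ := hpr a
    rcases (Nat.dvd_prime hq).mp (orderOf_dvd_of_pow_eq_one haq) with h | h
    · exact Or.inl h
    · exact Or.inr (h ▸ hq)
  refine ⟨p, hpp, fun a => ?_⟩
  rcases hord a with h1 | h1
  · rw [orderOf_eq_one_iff.mp h1, one_pow]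
  · by_cases hqp : orderOf a = p
    · rw [← hqp]; exact pow_orderOf_eq_one a
    · exfalso
      have hcop : (orderOf a).Coprime (orderOf b) := by
        rw [hb]; exact (Nat.coprime_primes h1 hpp).mpr hqp
      have hmul := Commute.orderOf_mul_eq_mul_orderOf_of_coprime (hcomm a b : Commute a b) hcop
      rcases hord (a * b) with h2 | h2
      · rw [hmul, hb] at h2
        exact h1.one_lt.ne' (Nat.eq_one_of_mul_eq_one_right h2)
      · rw [hmul, hb] at h2
        exact Nat.not_prime_mul h1.one_lt.ne' hpp.one_lt.ne' h2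

variable {G : Type u} [Group G] [Finite G]

/-- If all noncentral centralizers are normal maximal subgroups, every element has a prime power
in the center. -/
theorem exists_prime_pow_mem_center_of_all_normal
    (h : ∀ g : G, g ∉ Subgroup.center G → IsCoatom (Subgroup.centralizer ({g} : Set G)))
    (hall : ∀ g : G, g ∉ Subgroup.center G → (Subgroup.centralizer ({g} : Set G)).Normal)
    (x : G) : ∃ q : ℕ, q.Prime ∧ x ^ q ∈ Subgroup.center G := by
  by_cases hx : x ∈ Subgroup.center G
  · exact ⟨2, Nat.prime_two, (Subgroup.center G).pow_mem hx 2⟩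
  haveI := hall x hx
  set q := (Subgroup.centralizer ({x} : Set G)).index with hq
  have hqp : q.Prime := index_prime_of_normal_coatom _ (h x hx)
  refine ⟨q, hqp, ?_⟩
  rw [Subgroup.mem_center_iff]
  intro g
  set c := x * g * x⁻¹ * g⁻¹ with hc
  have hcZ : c ∈ Subgroup.center G := comm_mem_center_of_all_normal h hall x g
  have hcc : ∀ t : G, Commute c t := fun t => (Subgroup.mem_center_iff.mp hcZ t).symm
  have hgq : g ^ q ∈ Subgroup.centralizer ({x} : Set G) := Subgroup.pow_index_mem _ g
  have h1 : x * g * x⁻¹ = c * g := by rw [hc]; group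
  have h2 : x * g ^ q * x⁻¹ = c ^ q * g ^ q := by
    rw [← conj_pow, h1, (hcc g).mul_pow]
  have h3 : x * g ^ q * x⁻¹ = g ^ q := by
    rw [← Subgroup.mem_centralizer_singleton_iff.mp hgq, mul_inv_cancel_right]
  have h4 : c ^ q = 1 := by
    have : c ^ q * g ^ q = g ^ q := h2.symm.trans h3
    exact mul_eq_right.mp this
  have h5 : g * x * g⁻¹ = c⁻¹ * x := by rw [hc]; group
  have h6 : g * x ^ q * g⁻¹ = x ^ q := by
    rw [← conj_pow, h5, ((hcc x).inv_left).mul_pow, inv_pow, h4, inv_one, one_mul]
  calc g * x ^ q = g * x ^ q * g⁻¹ * g := by group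
    _ = x ^ q * g := by rw [h6]

/-- **Case A.** If all noncentral centralizers are normal maximal subgroups then `G/Z(G)` is an
elementary abelian `p`-group. -/
theorem elementaryAbelian_quot_of_all_normal
    (h : ∀ g : G, g ∉ Subgroup.center G → IsCoatom (Subgroup.centralizer ({g} : Set G)))
    (hall : ∀ g : G, g ∉ Subgroup.center G → (Subgroup.centralizer ({g} : Set G)).Normal) :
    ∃ p : ℕ, p.Prime ∧ Cfsg.IsElementaryAbelian p (⊤ : Subgroup (G ⧸ Subgroup.center G)) := by
  have hcomm : ∀ a b : G ⧸ Subgroup.center G, a * b = b * a := by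
    intro a b
    induction a using QuotientGroup.induction_on with
    | H a =>
      induction b using QuotientGroup.induction_on with
      | H b =>
        rw [← QuotientGroup.mk_mul, ← QuotientGroup.mk_mul, QuotientGroup.eq]
        have := comm_mem_center_of_all_normal h hall b⁻¹ a⁻¹
        have e : (a * b)⁻¹ * (b * a) = b⁻¹ * a⁻¹ * b⁻¹⁻¹ * a⁻¹⁻¹ := by group
        rw [e]
        exact this
  have hpr : ∀ a : G ⧸ Subgroup.center G, ∃ q : ℕ, q.Prime ∧ a ^ q = 1 := by
    intro a
    induction a using QuotientGroup.induction_on with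
    | H a =>
      obtain ⟨q, hq, haq⟩ := exists_prime_pow_mem_center_of_all_normal h hall a
      refine ⟨q, hq, ?_⟩
      rw [← QuotientGroup.mk_pow, QuotientGroup.eq_one_iff]
      exact haq
  obtain ⟨p, hp, hexp⟩ := exists_prime_exponent_of_comm hcomm hpr
  exact ⟨p, hp, ⟨⟨fun a b => Subtype.ext (hcomm a.1 b.1)⟩⟩, fun a _ => hexp a⟩

/-- **Case B1.** If `C(y)` is an abelian non-normal centralizer, then `G/Z(G)` has a normal maximal
subgroup `L` which is elementary abelian, minimal normal and meets `C(y)/Z(G)` trivially. -/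
theorem exists_kernel_quot_of_abelian_nonnormal_centralizer
    (h : ∀ g : G, g ∉ Subgroup.center G → IsCoatom (Subgroup.centralizer ({g} : Set G)))
    {y : G} (hy : y ∉ Subgroup.center G)
    (hab : ∀ a ∈ Subgroup.centralizer ({y} : Set G), ∀ b ∈ Subgroup.centralizer ({y} : Set G),
      a * b = b * a)
    (hn : ¬ (Subgroup.centralizer ({y} : Set G)).Normal) :
    ∃ (r : ℕ) (L : Subgroup (G ⧸ Subgroup.center G)), r.Prime ∧ L.Normal ∧ IsCoatom L ∧
      (∀ a ∈ L, ∀ b ∈ L, a * b = b * a) ∧ (∀ l ∈ L, l ^ r = 1) ∧
      (∀ N : Subgroup (G ⧸ Subgroup.center G), N.Normal → N ≤ L → N = ⊥ ∨ N = L) ∧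
      L ⊓ (Subgroup.centralizer ({y} : Set G)).map (QuotientGroup.mk' (Subgroup.center G)) = ⊥ := by
  haveI : Group.IsSolvable G := isSolvable_of_centralizers_coatom h
  have hZle : Subgroup.center G ≤ Subgroup.centralizer ({y} : Set G) :=
    Subgroup.center_le_centralizer _
  set Cb := (Subgroup.centralizer ({y} : Set G)).map (QuotientGroup.mk' (Subgroup.center G))
    with hCb
  have hCbco : IsCoatom Cb := isCoatom_map_mk_of_le _ _ (h y hy) hZle
  have hmemCb : ∀ a : G, (a : G ⧸ Subgroup.center G) ∈ Cb →
      a ∈ Subgroup.centralizer ({y} : Set G) := by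
    intro a ha
    obtain ⟨a', ha', hEq⟩ := Subgroup.mem_map.mp ha
    have h1 : a'⁻¹ * a ∈ Subgroup.center G := QuotientGroup.eq.mp hEq
    have h2 := (Subgroup.centralizer ({y} : Set G)).mul_mem ha' (hZle h1)
    simpa using h2
  have hTI : ∀ g : G ⧸ Subgroup.center G, g ∉ Cb → ∀ c ∈ Cb, g * c * g⁻¹ ∈ Cb → c = 1 := by
    intro g hg c hc hgc
    induction g using QuotientGroup.induction_on with
    | H g =>
      obtain ⟨c', hc', rfl⟩ := Subgroup.mem_map.mp hc
      have hg' : g ∉ Subgroup.centralizer ({y} : Set G) :=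
        fun hg' => hg (Subgroup.mem_map_of_mem _ hg')
      have hgc' : g * c' * g⁻¹ ∈ Subgroup.centralizer ({y} : Set G) := by
        apply hmemCb
        simpa using hgc
      have := ti_of_abelian_nonnormal_centralizer h hy hab hn g hg' c' hc' hgc'
      exact (QuotientGroup.eq_one_iff c').mpr this
  obtain ⟨r, L, hr, hLn, hL1, hLab, hLexp, hLmin, hinf, hsup, hcentL⟩ :=
    exists_kernel_of_ti_coatom Cb hCbco hTI
  refine ⟨r, L, hr, hLn, ?_, hLab, hLexp, hLmin, hinf⟩
  -- `L` is a maximal subgroup
  have hyCb : (y : G ⧸ Subgroup.center G) ∈ Cb :=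
    Subgroup.mem_map_of_mem _ (Subgroup.mem_centralizer_singleton_iff.mpr rfl)
  have hLtop : L ≠ ⊤ := by
    intro htop
    have : (y : G ⧸ Subgroup.center G) ∈ L ⊓ Cb := ⟨htop ▸ Subgroup.mem_top _, hyCb⟩
    rw [hinf, Subgroup.mem_bot, QuotientGroup.eq_one_iff] at this
    exact hy this
  obtain ⟨⟨l, hl⟩, hl1⟩ := Subgroup.ne_bot_iff_exists_ne_one.mp hL1
  have hl1' : l ≠ 1 := fun h' => hl1 (Subtype.ext h')
  induction l using QuotientGroup.induction_on with
  | H l =>
    have hlZ : l ∉ Subgroup.center G := fun hz => hl1' ((QuotientGroup.eq_one_iff l).mpr hz)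
    have hle : Subgroup.centralizer ({l} : Set G) ≤
        L.comap (QuotientGroup.mk' (Subgroup.center G)) := by
      intro c hc
      rw [Subgroup.mem_comap]
      apply hcentL _ hl hl1'
      have := Subgroup.mem_centralizer_singleton_iff.mp hc
      have h2 := congrArg (QuotientGroup.mk' (Subgroup.center G)) this
      simpa using h2
    have hcomap_ne : L.comap (QuotientGroup.mk' (Subgroup.center G)) ≠ ⊤ := by
      intro htop
      apply hLtop
      rw [← Subgroup.map_comap_eq_self_of_surjective (QuotientGroup.mk'_surjective _) L, htop]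
      exact Subgroup.map_top_of_surjective _ (QuotientGroup.mk'_surjective _)
    have heq : L.comap (QuotientGroup.mk' (Subgroup.center G)) =
        Subgroup.centralizer ({l} : Set G) := by
      rcases (h l hlZ).le_iff.mp hle with h1 | h1
      · exact absurd h1 hcomap_ne
      · exact h1
    have := isCoatom_map_mk_of_le (Subgroup.center G) _ (h l hlZ)
      (Subgroup.center_le_centralizer _)
    rw [← heq, Subgroup.map_comap_eq_self_of_surjective (QuotientGroup.mk'_surjective _)] at this
    exact this

/-- **Case B2 is impossible.** A non-normal noncentral centralizer is abelian. -/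
theorem abelian_of_nonnormal_centralizer
    (h : ∀ g : G, g ∉ Subgroup.center G → IsCoatom (Subgroup.centralizer ({g} : Set G)))
    {x : G} (hx : x ∉ Subgroup.center G)
    (hn : ¬ (Subgroup.centralizer ({x} : Set G)).Normal) :
    ∀ a ∈ Subgroup.centralizer ({x} : Set G), ∀ b ∈ Subgroup.centralizer ({x} : Set G),
      a * b = b * a := by
  by_contra hnab
  push Not at hnab
  obtain ⟨a, ha, b, hb, hne⟩ := hnab
  have hnab' : ¬ ∀ a ∈ Subgroup.centralizer ({x} : Set G),
      ∀ b ∈ Subgroup.centralizer ({x} : Set G), a * b = b * a :=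
    fun hh => hne (hh a ha b hb)
  have haA : a ∉ dblCent x := by
    intro haA
    unfold dblCent at haA
    rw [Subgroup.mem_centralizer_iff] at haA
    exact hne (haA b hb).symm
  obtain ⟨p, hp, hpexp⟩ := exists_prime_exponent_centralizer h hx a ha haA
  haveI : Group.IsSolvable G := isSolvable_of_centralizers_coatom h
  have hZle : ∀ g : G, Subgroup.center G ≤ Subgroup.centralizer ({g} : Set G) :=
    fun g => Subgroup.center_le_centralizer _
  set Mb := (Subgroup.centralizer ({x} : Set G)).map (QuotientGroup.mk' (Subgroup.center G))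
    with hMb
  have hMbco : IsCoatom Mb := isCoatom_map_mk_of_le _ _ (h x hx) (hZle x)
  have hMbn : ¬ Mb.Normal := by
    intro hnorm
    apply hn
    have := hnorm.comap (QuotientGroup.mk' (Subgroup.center G))
    rwa [hMb, Subgroup.comap_map_eq, QuotientGroup.ker_mk', sup_eq_left.mpr (hZle x)] at this
  have hMbexp : ∀ m ∈ Mb, m ^ p = 1 := by
    intro m hm
    obtain ⟨m', hm', rfl⟩ := Subgroup.mem_map.mp hm
    have := hpexp m' hm'
    rw [QuotientGroup.mk'_apply, ← QuotientGroup.mk_pow, QuotientGroup.eq_one_iff]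
    exact this
  -- `G/Z` is not a `p`-group
  obtain ⟨q, hq, hqp, y, hy, hyq⟩ : ∃ q : ℕ, q.Prime ∧ q ≠ p ∧ ∃ y : G,
      y ∉ Subgroup.center G ∧ y ^ q ∈ Subgroup.center G := by
    by_contra hcon
    push Not at hcon
    haveI : Fact p.Prime := ⟨hp⟩
    have hcard : Nat.card (G ⧸ Subgroup.center G) =
        p ^ (Nat.card (G ⧸ Subgroup.center G)).primeFactorsList.length := by
      apply Nat.eq_prime_pow_of_unique_prime_dvd Nat.card_pos.ne'
      intro d hd hdvd
      by_contra hdp
      haveI : Fact d.Prime := ⟨hd⟩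
      obtain ⟨yb, hyb⟩ := exists_prime_orderOf_dvd_card' d hdvd
      induction yb using QuotientGroup.induction_on with
      | H y =>
        have hyZ : y ∉ Subgroup.center G := by
          intro hz
          have : ((y : G) : G ⧸ Subgroup.center G) = 1 := (QuotientGroup.eq_one_iff y).mpr hz
          rw [this, orderOf_one] at hyb
          exact hd.one_lt.ne hyb
        have hyd : y ^ d ∈ Subgroup.center G := by
          rw [← QuotientGroup.eq_one_iff, QuotientGroup.mk_pow, ← hyb]
          exact pow_orderOf_eq_one _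
        exact hcon d hd hdp y hyZ hyd
    have hpg : IsPGroup p (G ⧸ Subgroup.center G) := IsPGroup.of_card hcard
    haveI := hpg.isNilpotent
    exact hMbn (Subgroup.NormalizerCondition.normal_of_coatom Mb
      Group.normalizerCondition_of_isNilpotent hMbco)
  have hcop : Nat.Coprime p q := (Nat.coprime_primes hp hq).mpr (Ne.symm hqp)
  have hmky : ((y : G) : G ⧸ Subgroup.center G) ≠ 1 := fun h1 =>
    hy ((QuotientGroup.eq_one_iff y).mp h1)
  have hmkyq : ((y : G) : G ⧸ Subgroup.center G) ^ q = 1 := by
    rw [← QuotientGroup.mk_pow, QuotientGroup.eq_one_iff]; exact hyq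
  have hyM : y ∉ Subgroup.centralizer ({x} : Set G) := by
    intro hyM
    have h1 := hMbexp _ (Subgroup.mem_map_of_mem (QuotientGroup.mk' (Subgroup.center G)) hyM)
    exact hmky (eq_one_of_pow_coprime h1 hmkyq hcop)
  have hxC : x ∉ Subgroup.centralizer ({y} : Set G) := by
    intro hxC
    apply hyM
    rw [Subgroup.mem_centralizer_singleton_iff] at hxC ⊢
    exact hxC.symm
  by_cases hyab : ∀ a ∈ Subgroup.centralizer ({y} : Set G),
      ∀ b ∈ Subgroup.centralizer ({y} : Set G), a * b = b * a
  · by_cases hyn : (Subgroup.centralizer ({y} : Set G)).Normal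
    · exact hnab' (abelian_of_abelian_normal_centralizer (h y hy) hyn hyab hxC)
    · obtain ⟨r, L, hr, hLn, hLco, _, _, _, hinf⟩ :=
        exists_kernel_quot_of_abelian_nonnormal_centralizer h hy hyab hyn
      haveI := hLn
      have hq' : L.index.Prime := index_prime_of_normal_coatom L hLco
      have hqq : L.index = q := by
        by_contra hne'
        have hyL : ((y : G) : G ⧸ Subgroup.center G) ∈ L :=
          mem_of_pow_eq_one_of_coprime_index L hmkyq
            ((Nat.coprime_primes hq hq').mpr (Ne.symm hne'))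
        have hyC : ((y : G) : G ⧸ Subgroup.center G) ∈
            (Subgroup.centralizer ({y} : Set G)).map (QuotientGroup.mk' (Subgroup.center G)) :=
          Subgroup.mem_map_of_mem _ (Subgroup.mem_centralizer_singleton_iff.mpr rfl)
        have : ((y : G) : G ⧸ Subgroup.center G) ∈ L ⊓
            (Subgroup.centralizer ({y} : Set G)).map (QuotientGroup.mk' (Subgroup.center G)) :=
          ⟨hyL, hyC⟩
        rw [hinf, Subgroup.mem_bot] at this
        exact hmky this
      have hML : Mb ≤ L := fun m hm =>
        mem_of_pow_eq_one_of_coprime_index L (hMbexp m hm) (hqq ▸ hcop)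
      rcases hMbco.le_iff.mp hML with h1 | h1
      · exact hLco.1 h1
      · exact hMbn (h1 ▸ hLn)
  · push Not at hyab
    obtain ⟨c, hc, d, hd, hcd⟩ := hyab
    have hcA : c ∉ dblCent y := by
      intro hcA
      unfold dblCent at hcA
      rw [Subgroup.mem_centralizer_iff] at hcA
      exact hcd (hcA d hd).symm
    obtain ⟨q', hq', hq'exp⟩ := exists_prime_exponent_centralizer h hy c hc hcA
    have hqq : q' = q := by
      by_contra hne'
      have h1 : ((y : G) : G ⧸ Subgroup.center G) ^ q' = 1 := by
        rw [← QuotientGroup.mk_pow, QuotientGroup.eq_one_iff]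
        exact hq'exp y (Subgroup.mem_centralizer_singleton_iff.mpr rfl)
      exact hmky (eq_one_of_pow_coprime h1 hmkyq ((Nat.coprime_primes hq' hq).mpr hne'))
    subst hqq
    set Qb := (Subgroup.centralizer ({y} : Set G)).map (QuotientGroup.mk' (Subgroup.center G))
      with hQb
    have hQbco : IsCoatom Qb := isCoatom_map_mk_of_le _ _ (h y hy) (hZle y)
    have hQbexp : ∀ m ∈ Qb, m ^ q' = 1 := by
      intro m hm
      obtain ⟨m', hm', rfl⟩ := Subgroup.mem_map.mp hm
      have := hq'exp m' hm'
      rw [QuotientGroup.mk'_apply, ← QuotientGroup.mk_pow, QuotientGroup.eq_one_iff]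
      exact this
    have hmkx : ((x : G) : G ⧸ Subgroup.center G) ≠ 1 := fun h1 =>
      hx ((QuotientGroup.eq_one_iff x).mp h1)
    have hxMb : ((x : G) : G ⧸ Subgroup.center G) ∈ Mb :=
      Subgroup.mem_map_of_mem _ (Subgroup.mem_centralizer_singleton_iff.mpr rfl)
    apply hnab'
    apply abelian_of_cyclic_mod_center
    intro m hm
    have hmMb : ((m : G) : G ⧸ Subgroup.center G) ∈ Mb := Subgroup.mem_map_of_mem _ hm
    have hz := mem_zpowers_of_two_exponent_coatoms Mb Qb hMbco hQbco hp hq (Ne.symm hqp)
      hMbexp hQbexp hMbn hxMb hmkx hmMb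
    obtain ⟨i, hi⟩ := Subgroup.mem_zpowers_iff.mp hz
    have hi' : ((x ^ i : G) : G ⧸ Subgroup.center G) = ((m : G) : G ⧸ Subgroup.center G) := by
      rw [← hi]; exact QuotientGroup.mk_zpow _ x i
    refine ⟨i, (x ^ i)⁻¹ * m, QuotientGroup.eq.mp hi', ?_⟩
    group

end finite

end Cfsg.Agent.Lib.Helper34
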