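import Mathlib
import Cfsg.Prelude.Def_OddOrderLocal
import Cfsg.Prelude.Def_OddOrder
import Cfsg.Agent.Lib.Helper54.BGFourteenDefs
import Cfsg.Agent.Lib.Helper22.BGFourteenFourA
import Cfsg.Agent.Lib.Helper24.PrimeAction
import Cfsg.Agent.Lib.Helper62.PiHall
import Cfsg.Agent.Lib.Helper21.BGFourteenSevenA
import Cfsg.Agent.Lib.Helper21.BGFourteenSevenD
import Cfsg.Agent.Lib.Helper21.BGFourteenSevenE
import Cfsg.Agent.Lib.Helper21.BGFourteenSevenF

/-!
# Bender–Glauberman Theorem 14.7: the step `M ⟶ M_X` WITHOUT cyclicity of the Hall `κ`-subgroups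
(helper34; copy-adaptation of helper21's `BGFourteenSevenE.step_member`)

`KappaHallCyclic G` (second half of S1351) is only available at the very end of the proof of
B&G Theorem 14.7, so the clique of `Z = K × K*` has to be built without it.  The three uses of
commutativity of `K_L`, `K_L'`, `K₁` in `step_member` are replaced by B&G 14.2(c)
(`Stmt1430`, third clause): `L ∩ N_G(X) = K_L K_L*` for `X ≤ K_L` of prime order, which contains
`K_L ≤ N_G(X)`.

* `step_member'` : the statement of `Helper21.step_member` without `hcyc`;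
* `exists_member_not_mem_k'` : the statement of `Helper21.IsMemberWith.exists_member_not_mem_k`
  without `hcyc`.
-/

set_option autoImplicit false

namespace Cfsg.Agent.Lib.Helper34.CliqueStep

open Cfsg Cfsg.Agent.Lib.Helper54 Cfsg.Agent.Lib.Helper21
open Cfsg.Agent.Lib.Helper22.BGFourteenFour (Stmt1432)
open scoped Pointwise

universe u

variable {G : Type u} [Group G]

/-- **The step**, without cyclicity of the Hall `κ`-subgroups. -/
theorem step_member' [Finite G] (hG : IsMinSimpleOddOrder G)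
    (h30 : Stmt1430 G) (h32 : Stmt1432 G) (h136 : KstarCentUniq G) (hσ : SigmaDisjoint G)
    {L KL : Subgroup G} (hL : IsCoatom L) (hKL : IsPiHallOf (kappa L) KL L) (hKL1 : KL ≠ ⊥)
    {X : Subgroup G} (hXK : X ≤ KL) (hXp : (Nat.card X).Prime)
    {L' : Subgroup G} (hL' : IsCoatom L') (hNX : Subgroup.normalizer (X : Set G) ≤ L') :
    L' ≠ L ∧ sigmaCore L ⊓ sigmaCore L' = ⊥ ∧
      ∃ KL' : Subgroup G, IsPiHallOf (kappa L') KL' L' ∧ KL' ≠ ⊥ ∧
      sigmaCore L ⊓ Subgroup.centralizer (KL : Set G) ≤ KL' ∧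
      X ≤ sigmaCore L' ⊓ Subgroup.centralizer (KL' : Set G) ∧
      KL ⊔ (sigmaCore L ⊓ Subgroup.centralizer (KL : Set G)) =
        KL' ⊔ (sigmaCore L' ⊓ Subgroup.centralizer (KL' : Set G)) := by
  classical
  set A : Subgroup G := sigmaCore L ⊓ Subgroup.centralizer (KL : Set G) with hA_def
  have hA1 : A ≠ ⊥ := kstar_ne_bot hG h30 hL hKL hKL1
  have hX1 : X ≠ ⊥ := ne_bot_of_card_prime hXp
  obtain ⟨-, -, h30c⟩ := h30 L hL KL hKL hKL1
  obtain ⟨hNXZ, -, hXσ⟩ := h30c X hXK hXp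
  have hXs : X ≤ sigmaCore L' := hXσ L' hL' hNX
  have hXκ : ∀ p : ℕ, p.Prime → p ∣ Nat.card X → p ∈ kappa L := fun p hp hpd =>
    hKL.2.1 p hp (hpd.trans (Subgroup.card_dvd_of_le hXK))
  have hdisj : sigmaCore L ⊓ sigmaCore L' = ⊥ :=
    sigmaCore_inf_eq_bot_of_kappa_le hσ hL hL' hX1 hXκ hXs
  have hne : L' ≠ L := by
    intro h
    have h1 : (Nat.card X) ∈ sigma L' :=
      sigmaCore_isPi L' _ hXp (Subgroup.card_dvd_of_le hXs)
    rw [h] at h1
    exact (hXκ _ hXp dvd_rfl).2.2.1 h1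
  obtain ⟨x, hxX, hx1⟩ := exists_mem_ne_one_of_ne_bot hX1
  obtain ⟨q₀, hq₀, y₀, hy₀A, hy₀⟩ := exists_prime_orderOf_mem hA1
  have hy₀1 : y₀ ≠ 1 := ne_one_of_orderOf_prime hq₀ hy₀
  have hKA : ∀ k ∈ KL, ∀ a ∈ A, k * a = a * k := fun k hk a ha =>
    (Subgroup.mem_centralizer_iff.mp ha.2) k hk
  -- `Z ≤ N_G(X) ≤ L'`  (no commutativity: `Z = L ∩ N_G(X)`)
  have hZNX : KL ⊔ A ≤ Subgroup.normalizer (X : Set G) := by
    rw [← hNXZ]; exact inf_le_right
  have hZL' : KL ⊔ A ≤ L' := hZNX.trans hNX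
  -- `X` centralizes `A`
  have hXA : ∀ z ∈ X, ∀ a ∈ A, z * a = a * z := fun z hz a ha => hKA z (hXK hz) a ha
  -- `A` is a `κ(L')`-group
  have hAκ : Cfsg.Agent.Lib.Helper62.IsPiNum (kappa L') (Nat.card A) := by
    intro q hq hqA
    obtain ⟨y, hyA, hy⟩ := exists_mem_orderOf_eq hq hqA
    exact mem_kappa_of_commute hG h32 h136 hL' hL hne.symm (by rw [inf_comm]; exact hdisj) hKL hKL1
      (hXs hxX) hx1 hyA (hZL' (Subgroup.mem_sup_right hyA)) (hKA x (hXK hxX) y hyA) hq hy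
  obtain ⟨KL', hKL'H, hAKL'⟩ :=
    Cfsg.Agent.Lib.Helper62.isPiHallOf_dom (π := kappa L') (hG.2.2.2 L' hL'.1)
      (le_sup_right.trans hZL') hAκ
  have hKL'1 : KL' ≠ ⊥ := ne_bot_of_le_ne_bot hA1 hAKL'
  obtain ⟨h30a', -, h30c'⟩ := h30 L' hL' KL' hKL'H hKL'1
  -- `X ≤ B`
  have hXB : X ≤ sigmaCore L' ⊓ Subgroup.centralizer (KL' : Set G) := by
    intro k hk
    rw [← h30a' y₀ (hAKL' hy₀A) hy₀1]
    refine Subgroup.mem_inf.mpr ⟨hXs hk, ?_⟩
    rw [Subgroup.mem_centralizer_iff]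
    intro z hz
    rw [Set.mem_singleton_iff] at hz
    subst hz
    exact (hKA k (hXK hk) z hy₀A).symm
  -- `K' B ≤ L`
  have hYA : Subgroup.zpowers y₀ ≤ A := by
    rw [Subgroup.zpowers_le]; exact hy₀A
  have hYp : (Nat.card (Subgroup.zpowers y₀)).Prime := card_zpowers_prime hq₀ hy₀
  have hNL : Subgroup.normalizer ((Subgroup.zpowers y₀ : Subgroup G) : Set G) ≤ L := by
    have : Fact q₀.Prime := ⟨hq₀⟩
    have hpg : IsPGroup q₀ (Subgroup.zpowers y₀) :=
      IsPGroup.of_card (n := 1) (by rw [pow_one, Nat.card_zpowers, hy₀])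
    have hntop := Cfsg.Agent.Lib.Helper24.normalizer_ne_top_of_isPGroup hG hpg
      (ne_bot_of_card_prime hYp)
    obtain ⟨N, hN, hNN⟩ := exists_isCoatom_ge hntop
    have hNLeq : N = L := h136 L hL KL hKL hKL1 _ hYA hYp N hN
      ((Subgroup.centralizer_le_normalizer _).trans hNN)
    rw [← hNLeq]; exact hNN
  have hZ'eq := (h30c' _ (hYA.trans hAKL') hYp).1
  have hZ'L : KL' ⊔ (sigmaCore L' ⊓ Subgroup.centralizer (KL' : Set G)) ≤ L := by
    rw [← hZ'eq]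
    exact inf_le_right.trans hNL
  -- `B` is a `κ(L)`-group
  have hBL : sigmaCore L' ⊓ Subgroup.centralizer (KL' : Set G) ≤ L := le_sup_right.trans hZ'L
  have hBκ : Cfsg.Agent.Lib.Helper62.IsPiNum (kappa L)
      (Nat.card ↥(sigmaCore L' ⊓ Subgroup.centralizer (KL' : Set G))) := by
    intro q hq hqB
    obtain ⟨b, hbB, hb⟩ := exists_mem_orderOf_eq hq hqB
    exact mem_kappa_of_commute hG h32 h136 hL hL' hne hdisj hKL'H hKL'1
      hy₀A.1 hy₀1 hbB (hBL hbB)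
      ((Subgroup.mem_centralizer_iff.mp hbB.2) y₀ (hAKL' hy₀A)) hq hb
  obtain ⟨K₁, hK₁, hBK₁⟩ :=
    Cfsg.Agent.Lib.Helper62.isPiHallOf_dom (π := kappa L) (hG.2.2.2 L hL.1) hBL hBκ
  have hXK₁ : X ≤ K₁ := hXB.trans hBK₁
  have hK₁1 : K₁ ≠ ⊥ := ne_bot_of_le_ne_bot hX1 hXK₁
  -- `K₁ ≤ N_G(X)` by 14.2(c) for `(L, K₁, X)`
  have hK₁NX : K₁ ≤ Subgroup.normalizer (X : Set G) := by
    have h := ((h30 L hL K₁ hK₁ hK₁1).2.2 X hXK₁ hXp).1
    have h2 : K₁ ≤ L ⊓ Subgroup.normalizer (X : Set G) := by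
      rw [h]; exact le_sup_left
    exact h2.trans inf_le_right
  -- `Z' ≤ Z`
  have hZ'Z : KL' ⊔ (sigmaCore L' ⊓ Subgroup.centralizer (KL' : Set G)) ≤ KL ⊔ A := by
    rw [← hNXZ]
    refine le_inf hZ'L ?_
    apply sup_le
    · refine le_trans ?_ (Subgroup.centralizer_le_normalizer _)
      intro k hk
      rw [Subgroup.mem_centralizer_iff]
      intro z hz
      exact ((Subgroup.mem_centralizer_iff.mp (hXB hz).2) k hk).symm
    · exact hBK₁.trans hK₁NX
  -- `Z ≤ Z'`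
  have hZZ' : KL ⊔ A ≤ KL' ⊔ (sigmaCore L' ⊓ Subgroup.centralizer (KL' : Set G)) := by
    rw [← hZ'eq]
    refine le_inf hZL' ?_
    apply sup_le
    · refine le_trans ?_ (Subgroup.centralizer_le_normalizer _)
      intro k hk
      rw [Subgroup.mem_centralizer_iff]
      intro z hz
      exact (hKA k hk z (hYA hz)).symm
    · -- `A ≤ K_L' ≤ L' ∩ N_G(Y₀)`
      have h2 : KL' ≤ L' ⊓ Subgroup.normalizer ((Subgroup.zpowers y₀ : Subgroup G) : Set G) := by
        rw [hZ'eq]; exact le_sup_left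
      exact hAKL'.trans (h2.trans inf_le_right)
  exact ⟨hne, hdisj, KL', hKL'H, hKL'1, hAKL', hXB, le_antisymm hZZ' hZ'Z⟩

/-- Every non-identity element of `Z` lies outside `K_L'` for some member `L'`
(without cyclicity of the Hall `κ`-subgroups). -/
theorem exists_member_not_mem_k' [Finite G] (hG : IsMinSimpleOddOrder G)
    (h30 : Stmt1430 G) (h32 : Stmt1432 G) (h136 : KstarCentUniq G) (hσ : SigmaDisjoint G)
    {Z L KL : Subgroup G} (hm : IsMemberWith Z L KL) {z : G} (hz : z ∈ Z) (hz1 : z ≠ 1) :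
    ∃ L' KL' : Subgroup G, IsMemberWith Z L' KL' ∧ z ∉ KL' := by
  obtain ⟨p, k, hp, hk⟩ := exists_pow_orderOf_eq_prime hz1
  have hu1 : z ^ k ≠ 1 := ne_one_of_orderOf_prime hp hk
  have huZ : z ^ k ∈ Z := Subgroup.pow_mem _ hz k
  by_cases hpK : p ∣ Nat.card KL
  · have huK : z ^ k ∈ KL := by
      apply hm.mem_k_of_coprime hG huZ
      rw [hk]
      exact Nat.Coprime.coprime_dvd_left hpK (hm.coprime hG)
    have hUK : Subgroup.zpowers (z ^ k) ≤ KL := by
      rw [Subgroup.zpowers_le]; exact huK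
    have hUp := card_zpowers_prime hp hk
    obtain ⟨L', hL', hNU⟩ := exists_isCoatom_normalizer_le hG hUp
    obtain ⟨-, -, KL', hKL'H, hKL'1, -, hUB, hZeq⟩ :=
      step_member' hG h30 h32 h136 hσ hm.1 hm.2.1 hm.2.2.1 hUK hUp hL' hNU
    refine ⟨L', KL', ⟨hL', hKL'H, hKL'1, hm.2.2.2.trans hZeq⟩, ?_⟩
    intro hzK'
    have : z ^ k ∈ KL' ⊓ (sigmaCore L' ⊓ Subgroup.centralizer (KL' : Set G)) :=
      Subgroup.mem_inf.mpr ⟨Subgroup.pow_mem _ hzK' k, hUB (Subgroup.mem_zpowers _)⟩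
    rw [inf_kstar_eq_bot hG hL' hKL'H, Subgroup.mem_bot] at this
    exact hu1 this
  · refine ⟨L, KL, hm, ?_⟩
    intro hzK
    have huA : z ^ k ∈ sigmaCore L ⊓ Subgroup.centralizer (KL : Set G) := by
      apply hm.mem_kstar_of_coprime hG huZ
      rw [hk]
      exact (Nat.Prime.coprime_iff_not_dvd hp).mpr hpK
    have : z ^ k ∈ KL ⊓ (sigmaCore L ⊓ Subgroup.centralizer (KL : Set G)) :=
      Subgroup.mem_inf.mpr ⟨Subgroup.pow_mem _ hzK k, huA⟩
    rw [inf_kstar_eq_bot hG hm.1 hm.2.1, Subgroup.mem_bot] at this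
    exact hu1 this

/-- The member obtained from one step: for a member `(L, KL)` of `Z` and `X ≤ KL` of prime order,
every maximal subgroup `L'` over `N_G(X)` is a member of `Z` (with some `KL' ⊇ KL*`, `X ≤ KL'*`),
different from and not conjugate to `L`. -/
theorem exists_member_of_step [Finite G] (hG : IsMinSimpleOddOrder G)
    (h30 : Stmt1430 G) (h32 : Stmt1432 G) (h136 : KstarCentUniq G) (hσ : SigmaDisjoint G)
    {Z L KL : Subgroup G} (hm : IsMemberWith Z L KL)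
    {X : Subgroup G} (hXK : X ≤ KL) (hXp : (Nat.card X).Prime)
    {L' : Subgroup G} (hL' : IsCoatom L') (hNX : Subgroup.normalizer (X : Set G) ≤ L') :
    L' ≠ L ∧ sigmaCore L ⊓ sigmaCore L' = ⊥ ∧ ∃ KL' : Subgroup G, IsMemberWith Z L' KL' ∧
      sigmaCore L ⊓ Subgroup.centralizer (KL : Set G) ≤ KL' ∧
      X ≤ sigmaCore L' ⊓ Subgroup.centralizer (KL' : Set G) := by
  obtain ⟨hne, hdisj, KL', hKL'H, hKL'1, hAKL', hXB, hZeq⟩ :=
    step_member' hG h30 h32 h136 hσ hm.1 hm.2.1 hm.2.2.1 hXK hXp hL' hNX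
  exact ⟨hne, hdisj, KL', ⟨hL', hKL'H, hKL'1, hm.2.2.2.trans hZeq⟩, hAKL', hXB⟩

end Cfsg.Agent.Lib.Helper34.CliqueStep
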