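import Mathlib
import Cfsg.Agent.Lib.Helper34.ChiefFactorAction

set_option autoImplicit false

/-!
Helper34 library: in a group `Y` with `Y / O_p(Y)` having a normal `p`-complement and a maximal Sylow
`p`-subgroup `T`, no element of `T` outside `O_p(Y)` satisfies the Engel-type condition
`[X, g; p-1] ≤ V`, `[X, g] ≰ V` on a chief factor `X / V` with `X ≤ O_p(Y)`.
-/

namespace Cfsg.Agent.Lib.Helper34

open Cfsg

open scoped IsMulCommutative commutatorElement

theorem map_iterCommutator {L L' : Type*} [Group L] [Group L'] (f : L →* L') (N G : Subgroup L) (n : ℕ) :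
    (Cfsg.iterCommutator N G n).map f = Cfsg.iterCommutator (N.map f) (G.map f) n := by
  induction n with
  | zero => rfl
  | succ n ih =>
    show (⁅Cfsg.iterCommutator N G n, G⁆).map f = ⁅Cfsg.iterCommutator (N.map f) (G.map f) n, G.map f⁆
    rw [Subgroup.map_commutator, ih]

theorem sup_eq_top_of_sylow_of_index_pow {G : Type*} [Group G] [Finite G] {p : ℕ} [Fact p.Prime]
    (T : Sylow p G) (Y : Subgroup G) {k : ℕ} (hk : Y.index = p ^ k) : (T : Subgroup G) ⊔ Y = ⊤ := by
  have h1 : ((T : Subgroup G) ⊔ Y).index ∣ (T : Subgroup G).index := Subgroup.index_dvd_of_le le_sup_left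
  have h2 : ((T : Subgroup G) ⊔ Y).index ∣ p ^ k := by
    rw [← hk]; exact Subgroup.index_dvd_of_le le_sup_right
  have hcop : Nat.Coprime (T : Subgroup G).index (p ^ k) :=
    Nat.Coprime.pow_right k ((Nat.Prime.coprime_iff_not_dvd Fact.out).mpr T.not_dvd_index).symm
  exact Subgroup.index_eq_one.mp (Nat.eq_one_of_dvd_coprimes hcop h1 h2)

theorem no_engel_pair {Y : Type*} [Group Y] [Finite Y] {p : ℕ} [Fact p.Prime]
    (hQ : HasNormalPComplement p (Y ⧸ pCore p Y)) (T : Sylow p Y) (hT : IsCoatom (T : Subgroup Y))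
    (g : Y) (hgT : g ∈ (T : Subgroup Y)) (hgP : g ∉ pCore p Y)
    (U V : Subgroup Y) (hch : IsChiefFactor U V) (hUP : U ≤ pCore p Y)
    (hit : Cfsg.iterCommutator U (Subgroup.zpowers g) (p - 1) ≤ V)
    (hnc : ¬ ⁅U, Subgroup.zpowers g⁆ ≤ V) : False := by
  have hVn : V.Normal := hch.2.2.1
  set P := pCore p Y with hPdef
  have hPn : P.Normal := Cfsg.pCore_normal p Y
  have hPp : IsPGroup p P := Cfsg.Agent.Lib.Helper76.pCore_isPGroup p
  have hPT : P ≤ T := Cfsg.Agent.Lib.Helper76.pCore_le_sylow p T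
  have hsurjV := QuotientGroup.mk'_surjective V
  have hsurjP := QuotientGroup.mk'_surjective P
  obtain ⟨hUbne, hUbn, hUbmin⟩ := minimal_normal_of_isChiefFactor hch
  set Ub := U.map (QuotientGroup.mk' V) with hUb
  set Pb := P.map (QuotientGroup.mk' V) with hPb
  have hPbn : Pb.Normal := hPn.map _ hsurjV
  have hPbp : IsPGroup p Pb := hPp.map _
  have hUbPb : Ub ≤ Pb := Subgroup.map_mono hUP
  -- `Pb` centralizes `Ub`
  have hPbC : Pb ≤ Subgroup.centralizer (Ub : Set (Y ⧸ V)) :=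
    le_centralizer_of_minimal_normal Ub hUbne hUbmin Pb hPbp hUbPb inferInstance
  have hUbcomm : ∀ a ∈ Ub, ∀ b ∈ Ub, a * b = b * a := fun a ha b hb =>
    Subgroup.mem_centralizer_iff.mp (hPbC (hUbPb hb)) a ha
  have hUbc : IsMulCommutative ↥Ub := ⟨⟨fun a b => Subtype.ext (hUbcomm a a.2 b b.2)⟩⟩
  have hUbp : IsPGroup p Ub := hPbp.to_le hUbPb
  have hexp := pow_eq_one_of_minimal_normal Ub hUbne hUbmin hUbp hUbcomm
  -- the ring and the action
  have hpR : ((p : ℕ) : AddMonoid.End (Additive ↥Ub)) = 0 := natCast_conjEnd_eq_zero Ub hexp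
  set ρY : Y →* (AddMonoid.End (Additive ↥Ub))ˣ :=
    (conjEnd Ub).toHomUnits.comp (QuotientGroup.mk' V) with hρY
  have hρYval : ∀ y : Y, ((ρY y : (AddMonoid.End (Additive ↥Ub))ˣ) : AddMonoid.End (Additive ↥Ub)) =
      conjEnd Ub (QuotientGroup.mk' V y) := fun y => MonoidHom.coe_toHomUnits _ _
  have hρY1 : ∀ y : Y, ρY y = 1 ↔ (QuotientGroup.mk' V y) ∈ Subgroup.centralizer (Ub : Set (Y ⧸ V)) := by
    intro y
    rw [← conjEnd_eq_one_iff, ← hρYval y, Units.ext_iff, Units.val_one]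
  have hker : P ≤ ρY.ker := by
    intro x hx
    rw [MonoidHom.mem_ker, hρY1]
    exact hPbC ⟨x, hx, rfl⟩
  set ρb : (Y ⧸ P) →* (AddMonoid.End (Additive ↥Ub))ˣ := QuotientGroup.lift P ρY hker with hρb
  have hρbmk : ∀ y : Y, ρb (QuotientGroup.mk' P y) = ρY y := fun y => rfl
  -- the normal `p`-complement of `Y ⧸ P`
  rw [hasNPC_iff_exists_normal] at hQ
  obtain ⟨Yb, hYbn, hYbcop, k, hk⟩ := hQ
  set Tb : Sylow p (Y ⧸ P) := Sylow.mapSurjective hsurjP T with hTbdef
  have hTb : (Tb : Subgroup (Y ⧸ P)) = (T : Subgroup Y).map (QuotientGroup.mk' P) :=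
    Sylow.coe_mapSurjective _ _
  have hTbco : IsCoatom (Tb : Subgroup (Y ⧸ P)) := by
    rw [hTb]; exact isCoatom_map_mk_of_le P T hT hPT
  have hYbcomm := commute_of_isCoatom_sylow Tb hTbco Yb hYbcop
  have htop : (Tb : Subgroup (Y ⧸ P)) ⊔ Yb = ⊤ := sup_eq_top_of_sylow_of_index_pow Tb Yb hk
  -- the abelian `p'`-group `A`
  set A := Yb.map ρb with hA
  have hAfin : Finite A := Finite.of_surjective (ρb.subgroupMap Yb) (ρb.subgroupMap_surjective Yb)
  have hAcomm : ∀ a ∈ A, ∀ b ∈ A, a * b = b * a := by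
    rintro _ ⟨a, ha, rfl⟩ _ ⟨b, hb, rfl⟩
    rw [← map_mul, ← map_mul, hYbcomm a ha b hb]
  have hAcop : (Nat.card A).Coprime p :=
    Nat.Coprime.coprime_dvd_left (Subgroup.card_map_dvd Yb ρb) hYbcop
  set gb : Y ⧸ P := QuotientGroup.mk' P g with hgb
  have hρbg : ρb gb = ρY g := hρbmk g
  have hgnorm : ∀ a ∈ A, ρY g * a * (ρY g)⁻¹ ∈ A := by
    rintro _ ⟨a, ha, rfl⟩
    refine ⟨gb * a * gb⁻¹, hYbn.conj_mem a ha gb, ?_⟩
    rw [map_mul, map_mul, map_inv, hρbg]
  -- the Engel condition gives `1 + g + ⋯ + g^(p-1) = 0`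
  have hitQ : Cfsg.iterCommutator Ub (Subgroup.zpowers (QuotientGroup.mk' V g)) (p - 1) = ⊥ := by
    rw [hUb, ← MonoidHom.map_zpowers, ← map_iterCommutator, eq_bot_iff]
    rintro _ ⟨x, hx, rfl⟩
    rw [Subgroup.mem_bot, QuotientGroup.mk'_apply, QuotientGroup.eq_one_iff]
    exact hit hx
  have hpow0 : (conjEnd Ub (QuotientGroup.mk' V g) - 1) ^ (p - 1) = 0 := by
    ext x
    have := toMul_sub_one_pow_mem Ub (QuotientGroup.mk' V g) (p - 1) x
    rw [hitQ, Subgroup.mem_bot] at this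
    exact this
  have hN : ∑ i ∈ Finset.range p,
      ((ρY g : (AddMonoid.End (Additive ↥Ub))ˣ) : AddMonoid.End (Additive ↥Ub)) ^ i = 0 := by
    rw [hρYval, ← sub_one_pow_pred_eq_geom_sum Fact.out hpR, hpow0]
  have hcommA := commute_of_geom_sum_eq_zero hpR (ρY g) A hAcomm hAcop hgnorm hN
  -- `g` acts nontrivially
  have hρg : ρY g ≠ 1 := by
    intro h1
    rw [hρY1] at h1
    apply hnc
    have h2 : Subgroup.zpowers (QuotientGroup.mk' V g) ≤ Subgroup.centralizer (Ub : Set (Y ⧸ V)) :=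
      Subgroup.zpowers_le.mpr h1
    have h3 : ⁅Ub, Subgroup.zpowers (QuotientGroup.mk' V g)⁆ = ⊥ := by
      rw [Subgroup.commutator_comm]
      exact Subgroup.commutator_eq_bot_iff_le_centralizer.mpr h2
    have h4 : (⁅U, Subgroup.zpowers g⁆).map (QuotientGroup.mk' V) = ⊥ := by
      rw [Subgroup.map_commutator, MonoidHom.map_zpowers]; exact h3
    intro x hx
    have h5 : QuotientGroup.mk' V x ∈ (⁅U, Subgroup.zpowers g⁆).map (QuotientGroup.mk' V) := ⟨x, hx, rfl⟩
    rw [h4, Subgroup.mem_bot, QuotientGroup.mk'_apply, QuotientGroup.eq_one_iff] at h5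
    exact h5
  -- dichotomy for `Yb ⊓ ker ρb`
  set Kb := Yb ⊓ ρb.ker with hKb
  have hKbn : Kb.Normal := inferInstance
  have hTbK : (Tb : Subgroup (Y ⧸ P)) ≤ Subgroup.normalizer (Kb : Set (Y ⧸ P)) := by
    rw [Subgroup.normalizer_eq_top_iff.mpr hKbn]; exact le_top
  rcases eq_bot_or_eq_of_le_normalizer_of_isCoatom Tb hTbco Yb hYbcop Kb inf_le_left hTbK with hK | hK
  · -- `gb` centralizes `Yb`
    have hcen : ∀ y ∈ Yb, gb * y = y * gb := by
      intro y hy
      have hc1 : gb * y * gb⁻¹ * y⁻¹ ∈ Yb := Yb.mul_mem (hYbn.conj_mem y hy gb) (Yb.inv_mem hy)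
      have hc2 : gb * y * gb⁻¹ * y⁻¹ ∈ ρb.ker := by
        rw [MonoidHom.mem_ker, map_mul, map_mul, map_mul, map_inv, map_inv, hρbg,
          hcommA (ρb y) ⟨y, hy, rfl⟩]
        group
      have hc3 : gb * y * gb⁻¹ * y⁻¹ ∈ Kb := ⟨hc1, hc2⟩
      rw [hK, Subgroup.mem_bot] at hc3
      calc gb * y = (gb * y * gb⁻¹ * y⁻¹) * (y * gb) := by group
        _ = y * gb := by rw [hc3, one_mul]
    set Db := (Tb : Subgroup (Y ⧸ P)) ⊓ Subgroup.centralizer (Yb : Set (Y ⧸ P)) with hDb
    have hgbD : gb ∈ Db := by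
      apply Subgroup.mem_inf.mpr
      refine ⟨?_, ?_⟩
      · rw [hTb]; exact ⟨g, hgT, rfl⟩
      · rw [Subgroup.mem_centralizer_iff]
        intro y hy
        exact (hcen y hy).symm
    have hCn : (Subgroup.centralizer (Yb : Set (Y ⧸ P))).Normal := Subgroup.normal_centralizer
    have hDbn : Db.Normal := by
      constructor
      intro d hd x
      have hx : x ∈ (Tb : Subgroup (Y ⧸ P)) ⊔ Yb := by rw [htop]; exact Subgroup.mem_top x
      obtain ⟨t, ht, y, hy, rfl⟩ := Subgroup.mem_sup_of_normal_right.mp hx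
      have hyd : y * d * y⁻¹ = d := by
        have := Subgroup.mem_centralizer_iff.mp hd.2 y hy
        rw [this]; group
      have h1 : t * y * d * (t * y)⁻¹ = t * d * t⁻¹ := by
        calc t * y * d * (t * y)⁻¹ = t * (y * d * y⁻¹) * t⁻¹ := by group
          _ = t * d * t⁻¹ := by rw [hyd]
      rw [h1]
      exact ⟨Subgroup.mul_mem _ (Subgroup.mul_mem _ ht hd.1) (Subgroup.inv_mem _ ht),
        hCn.conj_mem d hd.2 t⟩
    have hDbp : IsPGroup p Db := Tb.isPGroup'.to_le inf_le_left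
    have hDp : IsPGroup p (Db.comap (QuotientGroup.mk' P)) :=
      hDbp.comap_of_ker_isPGroup _ (by rw [QuotientGroup.ker_mk']; exact hPp)
    have hDle : Db.comap (QuotientGroup.mk' P) ≤ P :=
      Cfsg.Agent.Lib.Helper76.le_pCore p _ (hDbn.comap _) hDp
    exact hgP (hDle hgbD)
  · -- `Yb` acts trivially
    have hYbker : Yb ≤ ρb.ker := by rw [← hK]; exact inf_le_right
    set M := Yb.comap (QuotientGroup.mk' P) with hM
    have hTM : (T : Subgroup Y) ⊔ M = ⊤ := by
      have h1 : ((T : Subgroup Y) ⊔ M).map (QuotientGroup.mk' P) = ⊤ := by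
        rw [Subgroup.map_sup, ← hTb, hM, Subgroup.map_comap_eq_self_of_surjective hsurjP, htop]
      have h2 : (QuotientGroup.mk' P).ker ≤ (T : Subgroup Y) ⊔ M := by
        rw [QuotientGroup.ker_mk']; exact hPT.trans le_sup_left
      rw [← Subgroup.comap_map_eq_self h2, h1, Subgroup.comap_top]
    set Tq := (T : Subgroup Y).map (QuotientGroup.mk' V) with hTq
    have hTqp : IsPGroup p Tq := T.isPGroup'.map _
    have hUbTq : Ub ≤ Tq := Subgroup.map_mono (hUP.trans hPT)
    have hMC : M.map (QuotientGroup.mk' V) ≤ Subgroup.centralizer (Ub : Set (Y ⧸ V)) := by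
      rintro _ ⟨m, hm, rfl⟩
      rw [← hρY1, ← hρbmk]
      exact hYbker hm
    have htopQ : Tq ⊔ Subgroup.centralizer (Ub : Set (Y ⧸ V)) = ⊤ := by
      rw [eq_top_iff]
      calc (⊤ : Subgroup (Y ⧸ V)) = ((T : Subgroup Y) ⊔ M).map (QuotientGroup.mk' V) := by
            rw [hTM, Subgroup.map_top_of_surjective _ hsurjV]
        _ = Tq ⊔ M.map (QuotientGroup.mk' V) := Subgroup.map_sup _ _ _
        _ ≤ Tq ⊔ Subgroup.centralizer (Ub : Set (Y ⧸ V)) := sup_le_sup_left hMC _
    have hZeq : Ub ⊓ Subgroup.centralizer (Tq : Set (Y ⧸ V)) = Ub ⊓ Subgroup.center (Y ⧸ V) := by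
      apply le_antisymm
      · rintro z ⟨hzU, hzT⟩
        apply Subgroup.mem_inf.mpr
        refine ⟨hzU, ?_⟩
        have h1 : Tq ⊔ Subgroup.centralizer (Ub : Set (Y ⧸ V)) ≤
            Subgroup.centralizer ({z} : Set (Y ⧸ V)) := by
          apply sup_le
          · intro t ht
            rw [Subgroup.mem_centralizer_iff]
            intro h hh
            rw [Set.mem_singleton_iff] at hh
            rw [hh]
            exact (Subgroup.mem_centralizer_iff.mp hzT t ht).symm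
          · intro c hc
            rw [Subgroup.mem_centralizer_iff]
            intro h hh
            rw [Set.mem_singleton_iff] at hh
            rw [hh]
            exact Subgroup.mem_centralizer_iff.mp hc z hzU
        rw [htopQ] at h1
        rw [Subgroup.mem_center_iff]
        intro q
        have := Subgroup.mem_centralizer_iff.mp (h1 (Subgroup.mem_top q)) z rfl
        exact this.symm
      · exact inf_le_inf_left _ (Subgroup.center_le_centralizer _)
    have hZn : (Ub ⊓ Subgroup.centralizer (Tq : Set (Y ⧸ V))).Normal := by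
      rw [hZeq]; infer_instance
    have hTqC := le_centralizer_of_minimal_normal Ub hUbne hUbmin Tq hTqp hUbTq hZn
    apply hρg
    rw [hρY1]
    exact hTqC ⟨g, hgT, rfl⟩

end Cfsg.Agent.Lib.Helper34
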