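import Mathlib
import Cfsg.Prelude.Def_SolvableStructure
import Cfsg.Agent.Lib.Helper9.SS
import Cfsg.Agent.S0531
import Cfsg.Agent.S0532

/-!
# Groups with the same order type as a supersolvable group are solvable (helper34, for S3998)

Elementary: the Sylow subgroup `P` for the largest prime `p` of a supersolvable group `G` is normal,
so `G` has exactly `|G|_p` elements of `p`-power order; the same holds in `H`, so its Sylow `p`-subgroup
`Q` is normal; the order of the image of `k` in `K ⧸ P` is the `p'`-part of the order of `k`, so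
`G ⧸ P` and `H ⧸ Q` again have the same order type; induction.
-/

set_option autoImplicit false

namespace Cfsg.Agent.Lib.Helper34.OrderType

/-- same order type, as an order-preserving bijection -/
def SameType (G H : Type*) [Group G] [Group H] : Prop :=
  ∃ e : G ≃ H, ∀ g, orderOf (e g) = orderOf g

theorem sameType_of_card {G H : Type*} [Group G] [Finite G] [Group H] [Finite H]
    (hT : ∀ m : ℕ, Nat.card {g : G // orderOf g = m} = Nat.card {h : H // orderOf h = m}) :
    SameType G H := by
  have h1 : ∀ m : ℕ, Nonempty ({g : G // orderOf g = m} ≃ {h : H // orderOf h = m}) :=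
    fun m => Finite.card_eq.mp (hT m)
  let e : ∀ m : ℕ, {g : G // orderOf g = m} ≃ {h : H // orderOf h = m} :=
    fun m => Classical.choice (h1 m)
  exact ⟨Equiv.ofFiberEquiv e, fun g => Equiv.ofFiberEquiv_map e g⟩

theorem SameType.card_eq {G H : Type*} [Group G] [Group H] (h : SameType G H) :
    Nat.card G = Nat.card H := by
  obtain ⟨e, -⟩ := h
  exact Nat.card_congr e

section normalSylow

variable {K : Type*} [Group K] [Finite K] {p : ℕ} [Fact p.Prime]

/-- a normal Sylow `p`-subgroup contains all elements of `p`-power order -/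
theorem mem_of_orderOf_eq_pow (P : Sylow p K) (hP : (P : Subgroup K).Normal) (k : K) (j : ℕ)
    (hk : orderOf k = p ^ j) : k ∈ (P : Subgroup K) := by
  have h1 : IsPGroup p (Subgroup.zpowers k) := by
    apply IsPGroup.of_card (n := j)
    rw [Nat.card_zpowers, hk]
  obtain ⟨Q, hQ⟩ := h1.exists_le_sylow
  have := Sylow.unique_of_normal P hP
  have hQP : Q = P := Subsingleton.elim _ _
  rw [← hQP]
  exact hQ (Subgroup.mem_zpowers k)

omit [Finite K] in
theorem orderOf_of_mem (P : Sylow p K) (k : K) (hk : k ∈ (P : Subgroup K)) :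
    ∃ j : ℕ, orderOf k = p ^ j := by
  obtain ⟨j, hj⟩ := (IsPGroup.iff_orderOf.mp P.2) ⟨k, hk⟩
  exact ⟨j, by rw [← hj, Subgroup.orderOf_mk]⟩

/-- the order of the image of `k` modulo a normal Sylow `p`-subgroup is the `p'`-part of the
order of `k` -/
theorem orderOf_mk_eq (P : Sylow p K) [hP : (P : Subgroup K).Normal] (k : K) :
    orderOf (k : K ⧸ (P : Subgroup K)) = orderOf k / p ^ (orderOf k).factorization p := by
  have hp : p.Prime := Fact.out
  set n := orderOf k with hn
  have hn0 : n ≠ 0 := (orderOf_pos k).ne'
  set a := n.factorization p with ha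
  set m' := n / p ^ a with hm'
  have hmul : p ^ a * m' = n := Nat.ordProj_mul_ordCompl_eq_self n p
  have hm'0 : m' ≠ 0 := by
    intro h; rw [h, mul_zero] at hmul; exact hn0 hmul.symm
  have hcop : p.Coprime m' := Nat.coprime_ordCompl hp hn0
  apply Nat.dvd_antisymm
  · -- `orderOf (mk k) ∣ m'`
    apply orderOf_dvd_of_pow_eq_one
    have h1 : orderOf (k ^ m') = p ^ a := by
      rw [orderOf_pow_of_dvd hm'0 (Dvd.intro_left _ hmul), ← hn]
      exact Nat.div_eq_of_eq_mul_left (Nat.pos_of_ne_zero hm'0) hmul.symm
    have h2 : k ^ m' ∈ (P : Subgroup K) := mem_of_orderOf_eq_pow P hP _ a h1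
    rw [← QuotientGroup.mk_pow]
    exact (QuotientGroup.eq_one_iff _).mpr h2
  · -- `m' ∣ orderOf (mk k)`
    set d := orderOf (k : K ⧸ (P : Subgroup K)) with hd
    have h1 : k ^ d ∈ (P : Subgroup K) := by
      rw [← QuotientGroup.eq_one_iff, QuotientGroup.mk_pow, hd]
      exact pow_orderOf_eq_one _
    obtain ⟨b, hb⟩ := orderOf_of_mem P _ h1
    have h2 : k ^ (d * p ^ b) = 1 := by
      rw [pow_mul, ← hb]; exact pow_orderOf_eq_one _
    have h3 : n ∣ d * p ^ b := orderOf_dvd_of_pow_eq_one h2
    have h4 : m' ∣ d * p ^ b := (Dvd.intro_left _ hmul).trans h3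
    exact (Nat.Coprime.pow_right b hcop.symm).dvd_of_dvd_mul_right h4

/-- fibre counting -/
theorem card_ordCompl_eq (P : Sylow p K) [hP : (P : Subgroup K).Normal] (m : ℕ) :
    Nat.card {k : K // orderOf k / p ^ (orderOf k).factorization p = m} =
      Nat.card (P : Subgroup K) * Nat.card {x : K ⧸ (P : Subgroup K) // orderOf x = m} := by
  have e1 : {k : K // orderOf k / p ^ (orderOf k).factorization p = m} ≃
      ↥((QuotientGroup.mk : K → K ⧸ (P : Subgroup K)) ⁻¹'
        {x : K ⧸ (P : Subgroup K) | orderOf x = m}) :=
    Equiv.subtypeEquivRight (fun k => by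
      rw [Set.mem_preimage, Set.mem_ofPred_eq, orderOf_mk_eq P k])
  rw [Nat.card_congr e1,
    Nat.card_congr (QuotientGroup.preimageMkEquivSubgroupProdSet (P : Subgroup K) _),
    Nat.card_prod]
  rfl

end normalSylow

universe u v

/-- main induction -/
theorem solvable_of_sameType_aux (n : ℕ) : ∀ (G : Type u) (H : Type v) [Group G] [Finite G] [Group H]
    [Finite H], Nat.card G = n → SameType G H → Cfsg.IsSupersolvable G → Group.IsSolvable H := by
  induction n using Nat.strong_induction_on with
  | _ n ih =>
    intro G H _ _ _ _ hn hGH hG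
    have hcard : Nat.card G = Nat.card H := hGH.card_eq
    by_cases h1 : Nat.card G = 1
    · have : Subsingleton H := (Nat.card_eq_one_iff_unique.mp (hcard ▸ h1)).1
      exact Group.isSolvable_of_top_eq_bot H (Subsingleton.elim _ _)
    -- the largest prime
    have hgt : 1 < Nat.card G := by
      have : 0 < Nat.card G := Nat.card_pos
      omega
    have hne : (Nat.card G).primeFactors.Nonempty := Nat.nonempty_primeFactors.mpr hgt
    set p := (Nat.card G).primeFactors.max' hne with hp_def
    have hpmem := Finset.max'_mem _ hne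
    rw [← hp_def, Nat.mem_primeFactors] at hpmem
    have : Fact p.Prime := ⟨hpmem.1⟩
    have hmax : ∀ q : ℕ, q.Prime → q ∣ Nat.card G → q ≤ p := by
      intro q hq hqd
      apply Finset.le_max'
      rw [Nat.mem_primeFactors]
      exact ⟨hq, hqd, hpmem.2.2⟩
    -- the normal Sylow subgroup of `G`
    let P : Sylow p G := default
    have hclt : ∀ L : Subgroup G, Cfsg.HasSubgroupOfEveryOrder L := fun L =>
      Cfsg.Agent.S0531.result (Cfsg.Agent.Lib.Helper9.isSupersolvable_subgroup hG L)
    have hPn : (P : Subgroup G).Normal := Cfsg.Agent.S0532.result hclt p hpmem.2.1 hmax P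
    -- the Sylow subgroup of `H`
    let Q : Sylow p H := default
    obtain ⟨e, he⟩ := hGH
    have hPQ : Nat.card (P : Subgroup G) = Nat.card (Q : Subgroup H) := by
      rw [Sylow.card_eq_multiplicity, Sylow.card_eq_multiplicity, hcard]
    -- `Q` is the set of `p`-elements of `H`
    have hQset : ∀ h : H, (∃ j : ℕ, orderOf h = p ^ j) → h ∈ (Q : Subgroup H) := by
      have hsub : ((Q : Subgroup H) : Set H) ⊆ {h : H | ∃ j : ℕ, orderOf h = p ^ j} :=
        fun h hh => orderOf_of_mem Q h hh
      have hcardE : Nat.card {h : H // ∃ j : ℕ, orderOf h = p ^ j} = Nat.card (P : Subgroup G) := by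
        have e2 : {g : G // g ∈ (P : Subgroup G)} ≃ {h : H // ∃ j : ℕ, orderOf h = p ^ j} :=
          e.subtypeEquiv (fun g => by
            rw [he]
            exact ⟨orderOf_of_mem P g, fun ⟨j, hj⟩ => mem_of_orderOf_eq_pow P hPn g j hj⟩)
        exact (Nat.card_congr e2).symm
      have heq : ((Q : Subgroup H) : Set H) = {h : H | ∃ j : ℕ, orderOf h = p ^ j} := by
        apply Set.eq_of_subset_of_ncard_le hsub _ (Set.toFinite _)
        have h3 : ({h : H | ∃ j : ℕ, orderOf h = p ^ j} : Set H).ncard =
            Nat.card {h : H // ∃ j : ℕ, orderOf h = p ^ j} := rfl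
        have h4 : (((Q : Subgroup H) : Set H)).ncard = Nat.card (Q : Subgroup H) := rfl
        rw [h3, h4, hcardE, hPQ]
      intro h hh
      have : h ∈ ((Q : Subgroup H) : Set H) := by rw [heq]; exact hh
      exact this
    have hQn : (Q : Subgroup H).Normal := by
      constructor
      intro x hx g
      obtain ⟨j, hj⟩ := orderOf_of_mem Q x hx
      apply hQset
      refine ⟨j, ?_⟩
      rw [← hj]
      have : g * x * g⁻¹ = MulAut.conj g x := rfl
      rw [this, MulEquiv.orderOf_eq]
    -- the quotients have the same order type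
    have hquot : SameType (G ⧸ (P : Subgroup G)) (H ⧸ (Q : Subgroup H)) := by
      apply sameType_of_card
      intro m
      have h5 := card_ordCompl_eq P m
      have h6 := card_ordCompl_eq Q m
      have e3 : {g : G // orderOf g / p ^ (orderOf g).factorization p = m} ≃
          {h : H // orderOf h / p ^ (orderOf h).factorization p = m} :=
        e.subtypeEquiv (fun g => by rw [he])
      rw [Nat.card_congr e3, h6, hPQ] at h5
      have hpos : 0 < Nat.card (Q : Subgroup H) := Nat.card_pos
      exact (Nat.eq_of_mul_eq_mul_left hpos h5).symm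
    -- induction
    have hlt : Nat.card (G ⧸ (P : Subgroup G)) < n := by
      have h7 := Subgroup.card_eq_card_quotient_mul_card_subgroup (P : Subgroup G)
      have h8 : 1 < Nat.card (P : Subgroup G) := by
        rw [Sylow.card_eq_multiplicity]
        have : 0 < (Nat.card G).factorization p :=
          hpmem.1.factorization_pos_of_dvd hpmem.2.2 hpmem.2.1
        exact Nat.one_lt_pow this.ne' hpmem.1.one_lt
      have h9 : 0 < Nat.card (G ⧸ (P : Subgroup G)) := Nat.card_pos
      rw [← hn, h7]
      nlinarith
    have hsolq : Group.IsSolvable (H ⧸ (Q : Subgroup H)) :=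
      ih _ hlt (G ⧸ (P : Subgroup G)) (H ⧸ (Q : Subgroup H)) rfl hquot
        (Cfsg.Agent.Lib.Helper9.isSupersolvable_quotient hG (P : Subgroup G))
    have hsolQ : Group.IsSolvable (Q : Subgroup H) := by
      have : Group.IsNilpotent (Q : Subgroup H) := Q.2.isNilpotent
      exact IsNilpotent.to_isSolvable
    exact Group.isSolvable_of_ker_le_range (Q : Subgroup H).subtype (QuotientGroup.mk' (Q : Subgroup H))
      (by rw [QuotientGroup.ker_mk', Subgroup.range_subtype])

/-- same order type as a supersolvable group implies solvable -/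
theorem solvable_of_sameType {G : Type u} {H : Type v} [Group G] [Finite G] [Group H] [Finite H]
    (hT : ∀ m : ℕ, Nat.card {g : G // orderOf g = m} = Nat.card {h : H // orderOf h = m})
    (hG : Cfsg.IsSupersolvable G) : Group.IsSolvable H :=
  solvable_of_sameType_aux _ G H rfl (sameType_of_card hT) hG

end Cfsg.Agent.Lib.Helper34.OrderType
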