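import Mathlib
import Cfsg.Prelude.Def_Solvable
import Cfsg.Prelude.Def_Transfer

/-!
# Frobenius structure from a fixed-point-free complement, pulled back along an embedding

Given `N = K C` inside `G` with `K ⊴ G`, `K ∩ C = 1` and `C` acting fixed-point-freely on `K`, and an
injective homomorphism `ψ : H →* G` with range `N`, the preimage of `C` is a Frobenius complement
in `H` whose Frobenius kernel is the preimage of `K`.
-/

set_option autoImplicit false
set_option linter.style.haveILetI false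

namespace Cfsg.Agent.Lib.Helper34

open Cfsg
open scoped Pointwise

theorem mem_conj_smul_iff {H : Type*} [Group H] (Q : Subgroup H) (g x : H) :
    x ∈ MulAut.conj g • Q ↔ g⁻¹ * x * g ∈ Q := by
  rw [Subgroup.mem_pointwise_smul_iff_inv_smul_mem]
  simp [MulAut.smul_def]

section

variable {G : Type*} [Group G] {N K C : Subgroup G}

/-- Conjugates of the complement by elements outside it meet it trivially. -/
theorem frob_conj_inter (hKn : K.Normal)
    (hKC0 : ∀ g ∈ K, g ∈ C → g = 1) (hprod : ∀ n ∈ N, ∃ k ∈ K, ∃ c ∈ C, n = k * c)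
    (hfpf : ∀ k ∈ K, ∀ c ∈ C, c ≠ 1 → k * c = c * k → k = 1) :
    ∀ n ∈ N, n ∉ C → ∀ c ∈ C, n * c * n⁻¹ ∈ C → c = 1 := by
  intro n hn hnC c hc hncn
  by_contra hc1
  obtain ⟨k, hk, c₁, hc₁, rfl⟩ := hprod n hn
  set c'' : G := c₁ * c * c₁⁻¹ with hc''
  have hc''C : c'' ∈ C := C.mul_mem (C.mul_mem hc₁ hc) (C.inv_mem hc₁)
  have hc''1 : c'' ≠ 1 := by
    intro h1
    apply hc1
    have : c = c₁⁻¹ * c'' * c₁ := by rw [hc'']; group
    rw [this, h1]; group
  have e : k * c₁ * c * (k * c₁)⁻¹ = k * c'' * k⁻¹ := by rw [hc'']; group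
  rw [e] at hncn
  have h1 : c''⁻¹ * (k * c'' * k⁻¹) ∈ C := C.mul_mem (C.inv_mem hc''C) hncn
  have h2 : c''⁻¹ * (k * c'' * k⁻¹) ∈ K := by
    have : c''⁻¹ * (k * c'' * k⁻¹) = (c''⁻¹ * k * c''⁻¹⁻¹) * k⁻¹ := by group
    rw [this]
    exact K.mul_mem (hKn.conj_mem k hk c''⁻¹) (K.inv_mem hk)
  have h3 := hKC0 _ h2 h1
  have h4 : k * c'' = c'' * k := by
    have : k * c'' = c'' * (c''⁻¹ * (k * c'' * k⁻¹)) * k := by group
    rw [this, h3, mul_one]
  have hk1 := hfpf k hk c'' hc''C hc''1 h4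
  apply hnC
  rw [hk1, one_mul]
  exact hc₁

/-- Elements outside the kernel are conjugate into the complement. -/
theorem frob_exists_conj [Finite G] (hKn : K.Normal)
    (hprod : ∀ n ∈ N, ∃ k ∈ K, ∃ c ∈ C, n = k * c)
    (hfpf : ∀ k ∈ K, ∀ c ∈ C, c ≠ 1 → k * c = c * k → k = 1) :
    ∀ n ∈ N, n ∉ K → ∃ g ∈ K, ∃ c ∈ C, n = g * c * g⁻¹ := by
  intro n hn hnK
  obtain ⟨k, hk, c, hc, rfl⟩ := hprod n hn
  have hc1 : c ≠ 1 := by
    rintro rfl
    apply hnK
    rw [mul_one]; exact hk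
  let θ : K → K := fun g => ⟨(g : G) * c * (g : G)⁻¹ * c⁻¹, by
    have : (g : G) * c * (g : G)⁻¹ * c⁻¹ = (g : G) * (c * (g : G)⁻¹ * c⁻¹) := by group
    rw [this]
    exact K.mul_mem g.2 (hKn.conj_mem _ (K.inv_mem g.2) c)⟩
  have hinj : Function.Injective θ := by
    intro g g' hgg'
    have h1 : (g : G) * c * (g : G)⁻¹ * c⁻¹ = (g' : G) * c * (g' : G)⁻¹ * c⁻¹ :=
      congrArg Subtype.val hgg'
    have h2 : (g : G) * c * (g : G)⁻¹ = (g' : G) * c * (g' : G)⁻¹ := mul_right_cancel h1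
    have h3 : ((g' : G)⁻¹ * (g : G)) * c = c * ((g' : G)⁻¹ * (g : G)) := by
      calc ((g' : G)⁻¹ * (g : G)) * c = (g' : G)⁻¹ * ((g : G) * c * (g : G)⁻¹) * (g : G) := by group
        _ = (g' : G)⁻¹ * ((g' : G) * c * (g' : G)⁻¹) * (g : G) := by rw [h2]
        _ = c * ((g' : G)⁻¹ * (g : G)) := by group
    have h4 := hfpf _ (K.mul_mem (K.inv_mem g'.2) g.2) c hc hc1 h3
    apply Subtype.ext
    have : (g : G) = (g' : G) * ((g' : G)⁻¹ * (g : G)) := by group
    rw [this, h4, mul_one]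
  have hsurj : Function.Surjective θ := Finite.injective_iff_surjective.mp hinj
  obtain ⟨g, hg⟩ := hsurj ⟨k, hk⟩
  have hg' : (g : G) * c * (g : G)⁻¹ * c⁻¹ = k := congrArg Subtype.val hg
  refine ⟨g, g.2, c, hc, ?_⟩
  rw [← hg']; group

/-- Pull the Frobenius structure back along an embedding with range `N`. -/
theorem frobenius_of_structure [Finite G] {H : Type*} [Group H] (ψ : H →* G)
    (hψ : Function.Injective ψ) (hrange : ∀ n : G, n ∈ N ↔ ∃ y : H, ψ y = n)
    (hKn : K.Normal) (hKN : K ≤ N) (hCN : C ≤ N) (hK1 : K ≠ ⊥)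
    (hKab : ∀ a ∈ K, ∀ b ∈ K, a * b = b * a) {r : ℕ} (hKr : ∀ a ∈ K, a ^ r = 1)
    (hCprime : (Nat.card C).Prime) (hKC0 : ∀ g ∈ K, g ∈ C → g = 1)
    (hprod : ∀ n ∈ N, ∃ k ∈ K, ∃ c ∈ C, n = k * c)
    (hfpf : ∀ k ∈ K, ∀ c ∈ C, c ≠ 1 → k * c = c * k → k = 1) :
    ∃ Q K' : Subgroup H, IsFrobeniusComplement Q ∧ (Nat.card ↥Q).Prime ∧ K'.Normal ∧
      (K' : Set H) = frobeniusKernel Q ∧ IsElementaryAbelian r K' := by
  have hF2 := frob_conj_inter hKn hKC0 hprod hfpf
  have hF3 := frob_exists_conj hKn hprod hfpf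
  have hψN : ∀ y : H, ψ y ∈ N := fun y => (hrange _).mpr ⟨y, rfl⟩
  have hcardQ : Nat.card (C.comap ψ) = Nat.card C := by
    have h1 : (C.comap ψ).map ψ = C := by
      rw [Subgroup.map_comap_eq, inf_eq_right]
      intro c hc
      obtain ⟨y, hy⟩ := (hrange c).mp (hCN hc)
      exact ⟨y, hy⟩
    rw [← Subgroup.card_map_of_injective hψ, h1]
  refine ⟨C.comap ψ, K.comap ψ, ⟨?_, ?_, ?_⟩, ?_, hKn.comap ψ, ?_, ?_, ?_⟩
  · intro hbot
    rw [hbot, Subgroup.card_bot] at hcardQ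
    rw [← hcardQ] at hCprime
    exact Nat.not_prime_one hCprime
  · intro htop
    apply hK1
    rw [eq_bot_iff]
    intro k hk
    obtain ⟨y, hy⟩ := (hrange k).mp (hKN hk)
    have hyC : y ∈ C.comap ψ := by rw [htop]; exact Subgroup.mem_top y
    rw [Subgroup.mem_comap, hy] at hyC
    exact Subgroup.mem_bot.mpr (hKC0 k hk hyC)
  · intro g hg
    rw [eq_bot_iff]
    intro y hy
    rw [Subgroup.mem_inf, mem_conj_smul_iff, Subgroup.mem_comap, Subgroup.mem_comap] at hy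
    rw [Subgroup.mem_bot]
    apply hψ
    rw [map_one]
    have hgC : (ψ g)⁻¹ ∉ C := by
      intro h1
      apply hg
      rw [Subgroup.mem_comap]
      have := C.inv_mem h1
      rwa [inv_inv] at this
    apply hF2 (ψ g)⁻¹ (N.inv_mem (hψN g)) hgC (ψ y) hy.1
    have := hy.2
    rw [map_mul, map_mul, map_inv] at this
    rw [inv_inv]
    exact this
  · rw [hcardQ]; exact hCprime
  · ext y
    rw [SetLike.mem_coe, Subgroup.mem_comap]
    constructor
    · intro hy
      by_cases hy1 : y = 1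
      · exact Or.inl hy1
      · right
        intro g hg
        rw [mem_conj_smul_iff, Subgroup.mem_comap, map_mul, map_mul, map_inv] at hg
        have h1 : (ψ g)⁻¹ * ψ y * ψ g ∈ K := by
          have := hKn.conj_mem (ψ y) hy (ψ g)⁻¹
          rwa [inv_inv] at this
        have h2 := hKC0 _ h1 hg
        apply hy1
        apply hψ
        rw [map_one]
        have : ψ y = ψ g * ((ψ g)⁻¹ * ψ y * ψ g) * (ψ g)⁻¹ := by group
        rw [this, h2]; group
    · rintro (hy1 | hy)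
      · rw [hy1, map_one]; exact K.one_mem
      · by_contra hyK
        obtain ⟨g, hg, c, hc, hgc⟩ := hF3 (ψ y) (hψN y) hyK
        obtain ⟨g', hg'⟩ := (hrange g).mp (hKN hg)
        apply hy g'
        rw [mem_conj_smul_iff, Subgroup.mem_comap, map_mul, map_mul, map_inv, hg', hgc]
        have : g⁻¹ * (g * c * g⁻¹) * g = c := by group
        rw [this]
        exact hc
  · exact ⟨⟨fun a b => Subtype.ext (hψ (by
      rw [Subgroup.coe_mul, Subgroup.coe_mul, map_mul, map_mul]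
      exact hKab _ a.2 _ b.2))⟩⟩
  · intro a ha
    apply hψ
    rw [map_pow, map_one]
    exact hKr _ ha

end

end Cfsg.Agent.Lib.Helper34
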