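import Mathlib
import Cfsg.Agent.Lib.Helper34.RelCM
import Cfsg.Agent.Lib.Helper34.RelCMFrob
import Cfsg.Agent.Lib.Helper34.NilpotentMaximal

/-!
# Elements outside a normal subgroup with prime power order and maximal centralizer

If every element outside the proper normal subgroup `N` of the finite group `G` has prime power
order and a maximal centralizer, then `G` (and so `N`) is solvable, or `N` is a `p`-group.
-/

set_option autoImplicit false
set_option linter.style.haveILetI false

namespace Cfsg.Agent.Lib.Helper34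

open scoped Pointwise commutatorElement

universe u

variable {G : Type u} [Group G] [Finite G]

/-- The centralizer of an element outside `N` is a `p`-group. -/
theorem isPGroup_cz_of_not_mem (N : Subgroup G) [N.Normal]
    (h : ∀ x : G, x ∉ N → IsPrimePow (orderOf x) ∧ IsCoatom (cz x))
    {y : G} (hy : y ∉ N) {p k : ℕ} (hp : p.Prime) (hk : 0 < k) (hyo : p ^ k = orderOf y) :
    IsPGroup p (cz y) := by
  haveI : Fact p.Prime := ⟨hp⟩
  have hcard := Nat.eq_prime_pow_of_unique_prime_dvd (Nat.card_pos (α := cz y)).ne' (p := p)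
    (fun {q} hq hqd => ?_)
  · exact IsPGroup.of_card hcard
  by_contra hqp
  haveI : Fact q.Prime := ⟨hq⟩
  obtain ⟨u, hu⟩ := exists_prime_orderOf_dvd_card' (G := cz y) q hqd
  have huo : orderOf (u : G) = q := by rw [← hu]; exact Subgroup.orderOf_coe u
  have hcomm : Commute y (u : G) := (mem_cz_iff.mp u.2).symm
  have hcop : (orderOf y).Coprime (orderOf (u : G)) := by
    rw [← hyo, huo]
    exact Nat.Coprime.pow_left k ((Nat.coprime_primes hp hq).mpr (Ne.symm hqp))
  have hord : orderOf (y * (u : G)) = orderOf y * orderOf (u : G) :=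
    hcomm.orderOf_mul_eq_mul_orderOf_of_coprime hcop
  by_cases hw : y * (u : G) ∈ N
  · apply hy
    have h1 : (y * (u : G)) ^ q ∈ N := N.pow_mem hw q
    have h1' : y ^ q ∈ N := by
      have : (y * (u : G)) ^ q = y ^ q := by
        rw [hcomm.mul_pow]
        have : (u : G) ^ q = 1 := by rw [← huo]; exact pow_orderOf_eq_one _
        rw [this, mul_one]
      rwa [this] at h1
    have h2 : ((y : G ⧸ N)) ^ q = 1 := by
      rw [← QuotientGroup.mk_pow, QuotientGroup.eq_one_iff]
      exact h1'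
    have h3 : ((y : G ⧸ N)) ^ (p ^ k) = 1 := by
      rw [← QuotientGroup.mk_pow, hyo, pow_orderOf_eq_one]
      rfl
    have h4 : orderOf (y : G ⧸ N) ∣ Nat.gcd q (p ^ k) :=
      Nat.dvd_gcd (orderOf_dvd_of_pow_eq_one h2) (orderOf_dvd_of_pow_eq_one h3)
    have h5 : Nat.gcd q (p ^ k) = 1 :=
      Nat.Coprime.pow_right k ((Nat.coprime_primes hq hp).mpr hqp)
    rw [h5, Nat.dvd_one, orderOf_eq_one_iff, QuotientGroup.eq_one_iff] at h4
    exact h4
  · have hpp := (h _ hw).1
    rw [hord, ← hyo, huo, isPrimePow_iff_unique_prime_dvd] at hpp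
    obtain ⟨r, _, hr⟩ := hpp
    have e1 := hr p ⟨hp, dvd_mul_of_dvd_left (dvd_pow_self p hk.ne') q⟩
    have e2 := hr q ⟨hq, dvd_mul_left q _⟩
    exact hqp (e2.trans e1.symm)

/-- Main theorem: the normal subgroup is solvable. -/
theorem isSolvable_of_outside_primePow_coatom (N : Subgroup G) [N.Normal] (hN : N ≠ ⊤)
    (h : ∀ x : G, x ∉ N → IsPrimePow (orderOf x) ∧ IsCoatom (cz x)) : Group.IsSolvable ↥N := by
  obtain ⟨x₀, hx₀⟩ : ∃ x₀, x₀ ∉ N := by
    by_contra hcon
    push Not at hcon
    exact hN (eq_top_iff.mpr (fun g _ => hcon g))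
  obtain ⟨p, k, hp', hk, hx₀o⟩ := (h x₀ hx₀).1
  have hp : p.Prime := Nat.prime_iff.mpr hp'
  haveI : Fact p.Prime := ⟨hp⟩
  by_cases hB : ∃ y, y ∉ N ∧ N ≤ cz y
  · obtain ⟨y, hy, hle⟩ := hB
    obtain ⟨q, j, hq', hj, hyo⟩ := (h y hy).1
    have hq := Nat.prime_iff.mpr hq'
    haveI : Fact q.Prime := ⟨hq⟩
    have hNq : IsPGroup q N := (isPGroup_cz_of_not_mem N h hy hq hj hyo).to_le hle
    haveI := hNq.isNilpotent
    infer_instance
  push Not at hB
  suffices hG : Group.IsSolvable G by infer_instance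
  by_cases hGp : IsPGroup p G
  · haveI := hGp.isNilpotent
    infer_instance
  have hx₀p : IsPGroup p (cz x₀) := isPGroup_cz_of_not_mem N h hx₀ hp hk hx₀o
  have hall : ∀ y, y ∉ N → IsPGroup p (cz y) := by
    intro y hy
    obtain ⟨q, j, hq', hj, hyo⟩ := (h y hy).1
    have hq := Nat.prime_iff.mpr hq'
    have hyq := isPGroup_cz_of_not_mem N h hy hq hj hyo
    by_cases hqp : q = p
    · exact hqp ▸ hyq
    · exfalso
      obtain ⟨n, hn, c, hc, hnc⟩ :=
        exists_mul_of_normal_of_isCoatom N (h x₀ hx₀).2 (hB x₀ hx₀) y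
      obtain ⟨i, hi⟩ := hx₀p ⟨c, hc⟩
      have hci : c ^ (p ^ i) = 1 := by simpa using congrArg Subtype.val hi
      have e : (y : G ⧸ N) = (c : G ⧸ N) := by
        rw [hnc, QuotientGroup.mk_mul, (QuotientGroup.eq_one_iff n).mpr hn, one_mul]
      have h2 : (y : G ⧸ N) ^ (q ^ j) = 1 := by
        rw [← QuotientGroup.mk_pow, hyo, pow_orderOf_eq_one]
        rfl
      have h3 : (y : G ⧸ N) ^ (p ^ i) = 1 := by
        rw [e, ← QuotientGroup.mk_pow, hci]
        rfl
      have h4 := Nat.dvd_gcd (orderOf_dvd_of_pow_eq_one h2) (orderOf_dvd_of_pow_eq_one h3)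
      have h5 : Nat.gcd (q ^ j) (p ^ i) = 1 :=
        Nat.Coprime.pow _ _ ((Nat.coprime_primes hq hp).mpr hqp)
      rw [h5, Nat.dvd_one, orderOf_eq_one_iff, QuotientGroup.eq_one_iff] at h4
      exact hy h4
  have hsyl : ∀ y, y ∉ N → ∃ S : Sylow p G, (S : Subgroup G) = cz y := by
    intro y hy
    refine ⟨⟨cz y, hall y hy, ?_⟩, rfl⟩
    intro Q hQ hle
    rcases (h y hy).2.le_iff.mp hle with h1 | h1
    · exfalso
      apply hGp
      rw [h1] at hQ
      intro g
      obtain ⟨i, hi⟩ := hQ ⟨g, Subgroup.mem_top g⟩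
      exact ⟨i, by simpa using congrArg Subtype.val hi⟩
    · exact h1
  obtain ⟨P, hP⟩ := hsyl x₀ hx₀
  -- the counting map
  let ψ : (G ⧸ (P : Subgroup G)) × ↥(Subgroup.center ↥(P : Subgroup G)) → G :=
    fun qz => qz.1.out * ((qz.2 : ↥(P : Subgroup G)) : G) * qz.1.out⁻¹
  have hsub : ((N : Set G))ᶜ ⊆ Set.range ψ := by
    intro y hy
    have hy' : y ∉ N := hy
    obtain ⟨S, hS⟩ := hsyl y hy'
    obtain ⟨g, hg⟩ := MulAction.exists_smul_eq G P S
    have hSg : cz y = MulAut.conj g • (P : Subgroup G) := by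
      rw [← hS, ← hg, Sylow.coe_subgroup_smul]
    have hz₀P : g⁻¹ * y * g ∈ (P : Subgroup G) := by
      rw [← mem_conj_smul_iff, ← hSg]
      exact self_mem_cz y
    have hz₀Z : (⟨g⁻¹ * y * g, hz₀P⟩ : ↥(P : Subgroup G)) ∈ Subgroup.center ↥(P : Subgroup G) := by
      rw [Subgroup.mem_center_iff]
      intro c
      apply Subtype.ext
      have hc : g * (c : G) * g⁻¹ ∈ cz y := by
        rw [hSg, mem_conj_smul_iff]
        have : g⁻¹ * (g * (c : G) * g⁻¹) * g = c := by group
        rw [this]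
        exact c.2
      have hcy : g * (c : G) * g⁻¹ * y = y * (g * (c : G) * g⁻¹) := mem_cz_iff.mp hc
      show (c : G) * (g⁻¹ * y * g) = g⁻¹ * y * g * (c : G)
      calc (c : G) * (g⁻¹ * y * g) = g⁻¹ * (g * (c : G) * g⁻¹ * y) * g := by group
        _ = g⁻¹ * (y * (g * (c : G) * g⁻¹)) * g := by rw [hcy]
        _ = g⁻¹ * y * g * (c : G) := by group
    obtain ⟨c, hc⟩ := QuotientGroup.mk_out_eq_mul (P : Subgroup G) g
    refine ⟨((g : G ⧸ (P : Subgroup G)), ⟨⟨g⁻¹ * y * g, hz₀P⟩, hz₀Z⟩), ?_⟩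
    show (QuotientGroup.mk g : G ⧸ (P : Subgroup G)).out * (g⁻¹ * y * g) *
      (QuotientGroup.mk g : G ⧸ (P : Subgroup G)).out⁻¹ = y
    rw [hc]
    have hcz : (c : G) * (g⁻¹ * y * g) = g⁻¹ * y * g * (c : G) :=
      congrArg Subtype.val (Subgroup.mem_center_iff.mp hz₀Z c)
    calc g * (c : G) * (g⁻¹ * y * g) * (g * (c : G))⁻¹
        = g * ((c : G) * (g⁻¹ * y * g)) * (c : G)⁻¹ * g⁻¹ := by group
      _ = g * (g⁻¹ * y * g * (c : G)) * (c : G)⁻¹ * g⁻¹ := by rw [hcz]
      _ = y := by group
  have hcount : Nat.card G - Nat.card N ≤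
      (P : Subgroup G).index * Nat.card (Subgroup.center ↥(P : Subgroup G)) := by
    have h1 : ((N : Set G))ᶜ.ncard = Nat.card G - Nat.card N := by
      rw [Set.ncard_compl]
      congr 1
    have h2 : ((N : Set G))ᶜ.ncard ≤ (Set.range ψ).ncard :=
      Set.ncard_le_ncard hsub (Set.toFinite _)
    have h3 : (Set.range ψ).ncard ≤
        Nat.card ((G ⧸ (P : Subgroup G)) × ↥(Subgroup.center ↥(P : Subgroup G))) := by
      rw [← Set.image_univ, ← Set.ncard_univ]
      exact Set.ncard_image_le
    rw [Nat.card_prod, ← Subgroup.index_eq_card] at h3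
    omega
  -- arithmetic
  have hidx : 2 ≤ N.index := by
    have h0 : N.index ≠ 0 := Subgroup.index_ne_zero_of_finite
    have h1 : N.index ≠ 1 := fun h1 => hN (Subgroup.index_eq_one.mp h1)
    omega
  have hGN : Nat.card N * N.index = Nat.card G := Subgroup.card_mul_index N
  have hGP : Nat.card (P : Subgroup G) * (P : Subgroup G).index = Nat.card G :=
    Subgroup.card_mul_index _
  have hPidx : 0 < (P : Subgroup G).index := Nat.pos_of_ne_zero Subgroup.index_ne_zero_of_finite
  have hle : Nat.card (P : Subgroup G) ≤ 2 * Nat.card (Subgroup.center ↥(P : Subgroup G)) := by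
    have h2N : 2 * Nat.card N ≤ Nat.card G := by
      rw [← hGN]
      calc 2 * Nat.card N = Nat.card N * 2 := by ring
        _ ≤ Nat.card N * N.index := Nat.mul_le_mul_left _ hidx
    have h3 : Nat.card G ≤ 2 * (Nat.card G - Nat.card N) := by omega
    have h4 : (P : Subgroup G).index * Nat.card (P : Subgroup G) ≤
        (P : Subgroup G).index * (2 * Nat.card (Subgroup.center ↥(P : Subgroup G))) := by
      calc (P : Subgroup G).index * Nat.card (P : Subgroup G) = Nat.card G := by
            rw [mul_comm]; exact hGP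
        _ ≤ 2 * (Nat.card G - Nat.card N) := h3
        _ ≤ 2 * ((P : Subgroup G).index * Nat.card (Subgroup.center ↥(P : Subgroup G))) :=
            Nat.mul_le_mul_left _ hcount
        _ = (P : Subgroup G).index * (2 * Nat.card (Subgroup.center ↥(P : Subgroup G))) := by ring
    exact Nat.le_of_mul_le_mul_left h4 hPidx
  -- `P` is abelian
  have hPab : ∀ a b : ↥(P : Subgroup G), a * b = b * a := by
    have hZ := Subgroup.card_mul_index (Subgroup.center ↥(P : Subgroup G))
    have hZpos : 0 < Nat.card (Subgroup.center ↥(P : Subgroup G)) := Nat.card_pos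
    have hi2 : (Subgroup.center ↥(P : Subgroup G)).index ≤ 2 := by
      by_contra hcon
      push Not at hcon
      have : Nat.card (Subgroup.center ↥(P : Subgroup G)) * 3 ≤
          Nat.card (Subgroup.center ↥(P : Subgroup G)) *
            (Subgroup.center ↥(P : Subgroup G)).index := Nat.mul_le_mul_left _ hcon
      omega
    have hi0 : (Subgroup.center ↥(P : Subgroup G)).index ≠ 0 := Subgroup.index_ne_zero_of_finite
    haveI hcyc : IsCyclic (↥(P : Subgroup G) ⧸ Subgroup.center ↥(P : Subgroup G)) := by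
      have hq : Nat.card (↥(P : Subgroup G) ⧸ Subgroup.center ↥(P : Subgroup G)) =
          (Subgroup.center ↥(P : Subgroup G)).index := (Subgroup.index_eq_card _).symm
      have hcases : (Subgroup.center ↥(P : Subgroup G)).index = 1 ∨
          (Subgroup.center ↥(P : Subgroup G)).index = 2 := by omega
      rcases hcases with h1 | h1
      · rw [h1] at hq
        haveI : Subsingleton (↥(P : Subgroup G) ⧸ Subgroup.center ↥(P : Subgroup G)) :=
          (Nat.card_eq_one_iff_unique.mp hq).1
        infer_instance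
      · rw [h1] at hq
        haveI : Fact (Nat.Prime 2) := ⟨Nat.prime_two⟩
        exact isCyclic_of_prime_card hq
    have hmc := MonoidHom.isMulCommutative_of_isCyclic_of_ker_le_center
      (QuotientGroup.mk' (Subgroup.center ↥(P : Subgroup G))) (by rw [QuotientGroup.ker_mk'])
    exact fun a b => hmc.is_comm.comm a b
  have hPco : IsCoatom (P : Subgroup G) := by rw [hP]; exact (h x₀ hx₀).2
  have hnil : Group.IsNilpotent ↥(P : Subgroup G) := P.isPGroup'.isNilpotent
  apply isSolvable_of_nilpotent_class_two_coatom_aux _ G rfl (P : Subgroup G) hPco hnil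
  intro a ha b hb c _
  have : ⁅a, b⁆ = 1 := by
    rw [commutatorElement_eq_one_iff_mul_comm]
    exact congrArg Subtype.val (hPab ⟨a, ha⟩ ⟨b, hb⟩)
  rw [this, commutatorElement_one_left]

end Cfsg.Agent.Lib.Helper34
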