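import Mathlib
import Cfsg.Agent.Lib.Helper60.PFTwelveG1
import Cfsg.Agent.Lib.Helper54.Coprime
import Cfsg.Agent.Lib.Helper54.BGElevenD
import Cfsg.Agent.Lib.Helper23.TypeP

/-!
# Peterfalvi (12.7), group part: module [COMM] of helper60 (helper34)
-/

set_option autoImplicit false
set_option linter.unusedVariables false
set_option linter.unusedSectionVars false

namespace Cfsg.Agent.Lib.Helper34.PF12G

open scoped Pointwise
open Cfsg
open Cfsg.Agent.Lib.Helper60.PF12G

variable {G : Type*} [Group G]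

/-- **[COMM]** Two elements of a complement `E` of `K` in `M`, each centralizing a non-identity
element of `K`, commute (they lie in the conjugate of the abelian subgroup `U₁`). -/
theorem commute_of_fix [Finite G] {M K U U₁ U₀ : Subgroup G} (hD : FData M K U U₁ U₀)
    {E : Subgroup G} (hE : IsComplIn K E M) {a b : G} (ha : a ∈ E) (hb : b ∈ E)
    (hak : ∃ k ∈ K, k ≠ 1 ∧ a * k = k * a) (hbk : ∃ k ∈ K, k ≠ 1 ∧ b * k = k * b) :
    a * b = b * a := by
  have hKM : K ≤ M := hD.compl.1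
  have hUM : U ≤ M := hD.compl.2.1
  have hEM : E ≤ M := hE.2.1
  have hMK : M ≤ Subgroup.normalizer (K : Set G) := fun m hm =>
    Cfsg.Agent.Lib.Helper54.mem_normalizer_of_conj_mem (hD.K_norm m hm)
  have hcU := Cfsg.Agent.Lib.Helper23.card_of_isComplIn hD.compl
  have hcE := Cfsg.Agent.Lib.Helper23.card_of_isComplIn hE
  have hEU : Nat.card E = Nat.card U := by
    rw [hcU] at hcE
    exact (Nat.eq_of_mul_eq_mul_left Nat.card_pos hcE).symm
  obtain ⟨l, hl, hconj⟩ := Cfsg.Agent.Lib.Helper54.sz_conj_rel M K U E hKM hMK hUM hEM hcU.symm hEU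
    hD.cop (Or.inl (Cfsg.Agent.Lib.Helper54.isSolvable_of_le hUM hD.M_solv))
  -- transport to `U`
  have key : ∀ c ∈ E, (∃ k ∈ K, k ≠ 1 ∧ c * k = k * c) → l⁻¹ * c * l ∈ U₁ := by
    intro c hc hck
    have hcU : l⁻¹ * c * l ∈ U := by
      rw [← hconj] at hc
      exact Cfsg.Agent.Lib.Helper54.mem_conj_smul_iff.mp hc
    obtain ⟨k, hk, hk1, hck⟩ := hck
    have hlM : l ∈ M := hKM hl
    have hk' : l⁻¹ * k * l ∈ K := by
      have := hD.K_norm l⁻¹ (M.inv_mem hlM) k hk
      simpa using this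
    refine hD.U₁_cent (l⁻¹ * k * l) hk' ?_ _ hcU ?_
    · intro h1
      apply hk1
      have : k = l * (l⁻¹ * k * l) * l⁻¹ := by group
      rw [this, h1]
      group
    · calc l⁻¹ * c * l * (l⁻¹ * k * l) = l⁻¹ * (c * k) * l := by group
        _ = l⁻¹ * (k * c) * l := by rw [hck]
        _ = l⁻¹ * k * l * (l⁻¹ * c * l) := by group
  have h1 := hD.U₁_comm _ (key a ha hak) _ (key b hb hbk)
  calc a * b = l * ((l⁻¹ * a * l) * (l⁻¹ * b * l)) * l⁻¹ := by group
    _ = l * ((l⁻¹ * b * l) * (l⁻¹ * a * l)) * l⁻¹ := by rw [h1]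
    _ = b * a := by group

end Cfsg.Agent.Lib.Helper34.PF12G
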