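import Mathlib
import Cfsg.Agent.Lib.Helper60.PFTwelveG1
import Cfsg.Agent.Lib.Helper52.NilpSub
import Cfsg.Agent.Lib.Helper54.UqSylow
import Cfsg.Agent.Lib.Helper54.Coprime

/-!
# Peterfalvi (12.7), group part: modules [SYLN], [SYLG], [HALLN], [OMZ] of helper60 (helper34)
-/

set_option autoImplicit false
set_option linter.unusedVariables false
set_option linter.unusedSectionVars false
set_option linter.style.haveILetI false

namespace Cfsg.Agent.Lib.Helper34.PF12G

open scoped Pointwise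
open Cfsg
open Cfsg.Agent.Lib.Helper60.PF12G

variable {G : Type*} [Group G]

/-- conjugation preserves the order of an element -/
theorem orderOf_conj_eq (g y : G) : orderOf (g * y * g⁻¹) = orderOf y := by
  have := orderOf_injective (MulAut.conj g).toMonoidHom (MulAut.conj g).injective y
  simpa using this

/-- **[SYLN]** The unique Sylow `p`-subgroup of a nilpotent subgroup `H` normalized by `L`. -/
theorem exists_sylow_of_nilpotent [Finite G] (p : ℕ) [Fact p.Prime] (L H : Subgroup G)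
    (hnil : Group.IsNilpotent H) (hLH : ∀ l ∈ L, ∀ h ∈ H, l * h * l⁻¹ ∈ H) :
    ∃ S : Subgroup G, S ≤ H ∧ IsPGroup p S ∧ (∀ Q : Subgroup G, Q ≤ H → IsPGroup p Q → Q ≤ S) ∧
      ∀ l ∈ L, ∀ s ∈ S, l * s * l⁻¹ ∈ S := by
  obtain ⟨S, hSH, hSp, hSmem⟩ := Cfsg.Agent.Lib.Helper52.exists_pSubgroup_of_nilpotent H hnil p
  refine ⟨S, hSH, hSp, ?_, ?_⟩
  · intro Q hQH hQp q hq
    obtain ⟨k, hk⟩ := (IsPGroup.iff_orderOf.mp hQp) ⟨q, hq⟩
    rw [Subgroup.orderOf_mk] at hk
    exact hSmem q (hQH hq) k hk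
  · intro l hl s hs
    obtain ⟨k, hk⟩ := (IsPGroup.iff_orderOf.mp hSp) ⟨s, hs⟩
    rw [Subgroup.orderOf_mk] at hk
    refine hSmem _ (hLH l hl s (hSH hs)) k ?_
    rw [orderOf_conj_eq, hk]

/-- **[SYLG]** A Sylow `p`-subgroup `S₀` of a subgroup `L₀` whose normalizer in `G` lies in `L₀` is a
Sylow `p`-subgroup of `G`: every `p`-subgroup of `G` is conjugate into it. -/
theorem exists_conj_le_of_normalizer_le [Finite G] (p : ℕ) [Fact p.Prime] (L₀ S₀ : Subgroup G)
    (hS₀L : S₀ ≤ L₀) (hS₀p : IsPGroup p S₀)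
    (hmax : ∀ Q : Subgroup G, Q ≤ L₀ → IsPGroup p Q → S₀ ≤ Q → Q = S₀)
    (hN : Subgroup.normalizer (S₀ : Set G) ≤ L₀)
    (P : Subgroup G) (hP : IsPGroup p P) :
    ∃ g : G, ∀ x ∈ P, g * x * g⁻¹ ∈ S₀ := by
  obtain ⟨S, hS⟩ := hS₀p.exists_le_sylow
  have hS₀S : S₀ = (S : Subgroup G) := by
    apply Cfsg.Agent.Lib.Helper54.eq_of_inf_normalizer_le (S : Subgroup G) S₀ S.isPGroup' hS
    have h1 : (S : Subgroup G) ⊓ Subgroup.normalizer (S₀ : Set G) = S₀ :=
      hmax _ (inf_le_right.trans hN) (S.isPGroup'.to_le inf_le_left)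
        (le_inf hS Subgroup.le_normalizer)
    exact h1.le
  obtain ⟨S', hS'⟩ := hP.exists_le_sylow
  obtain ⟨g, hg⟩ := MulAction.exists_smul_eq G S' S
  refine ⟨g, fun x hx => ?_⟩
  rw [hS₀S]
  have h1 : g * x * g⁻¹ ∈ ((g • S' : Sylow p G) : Subgroup G) := by
    rw [Sylow.coe_subgroup_smul]
    have : MulAut.conj g • x ∈ MulAut.conj g • (S' : Subgroup G) :=
      Subgroup.smul_mem_pointwise_smul _ _ _ (hS' hx)
    simpa [MulAut.smul_def] using this
  rw [hg] at h1
  exact h1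

/-- **[HALLN]** A normal subgroup `N` of `L` of index prime to `p` contains every `p`-subgroup of
`L`. -/
theorem le_of_isPGroup_of_not_dvd_relIndex [Finite G] (p : ℕ) (hp : p.Prime) (L N P : Subgroup G)
    (hNL : N ≤ L) (hLN : ∀ l ∈ L, ∀ n ∈ N, l * n * l⁻¹ ∈ N) (hidx : ¬ p ∣ N.relIndex L)
    (hPL : P ≤ L) (hP : IsPGroup p P) : P ≤ N := by
  haveI : Fact p.Prime := ⟨hp⟩
  haveI : (N.subgroupOf L).Normal := by
    refine ⟨fun n hn l => ?_⟩
    rw [Subgroup.mem_subgroupOf] at hn ⊢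
    simpa using hLN l l.2 n hn
  have hcop : (N.subgroupOf L).index.Coprime p := by
    rw [Nat.coprime_comm, Nat.Prime.coprime_iff_not_dvd hp]
    exact hidx
  have hQ : IsPGroup p (P.subgroupOf L) := hP.comap_subtype
  have h1 := Cfsg.Agent.Lib.Helper54.le_of_normal_of_index_coprime (N.subgroupOf L) hcop hQ
  intro x hx
  have : (⟨x, hPL hx⟩ : L) ∈ N.subgroupOf L := h1 (Subgroup.mem_subgroupOf.mpr hx)
  exact Subgroup.mem_subgroupOf.mp this

/-- **[OMZ]** `Ω₁(Z(O_p(H)))` for a nilpotent subgroup `H` of order divisible by `p`: a non-identity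
central subgroup of exponent `p`, invariant under everything that normalizes `H`. -/
theorem exists_omega_center [Finite G] (p : ℕ) (hp : p.Prime) (H : Subgroup G)
    (hnil : Group.IsNilpotent H) (hpH : p ∣ Nat.card H) :
    ∃ V : Subgroup G, V ≤ H ∧ V ≠ ⊥ ∧ (∀ v ∈ V, v ^ p = 1) ∧ (∀ v ∈ V, ∀ h ∈ H, v * h = h * v) ∧
      ∀ g : G, (∀ h ∈ H, g * h * g⁻¹ ∈ H) → ∀ v ∈ V, g * v * g⁻¹ ∈ V := by
  haveI : Fact p.Prime := ⟨hp⟩
  let V : Subgroup G :=
    { carrier := {z | z ∈ H ∧ (∀ h ∈ H, z * h = h * z) ∧ z ^ p = 1}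
      one_mem' := ⟨H.one_mem, fun h _ => by simp, one_pow _⟩
      mul_mem' := by
        rintro a b ⟨ha, hac, hap⟩ ⟨hb, hbc, hbp⟩
        refine ⟨H.mul_mem ha hb, fun h hh => ?_, ?_⟩
        · rw [mul_assoc, hbc h hh, ← mul_assoc, hac h hh, mul_assoc]
        · rw [(show Commute a b from hac b hb).mul_pow, hap, hbp, one_mul]
      inv_mem' := by
        rintro a ⟨ha, hac, hap⟩
        refine ⟨H.inv_mem ha, fun h hh => ?_, by rw [inv_pow, hap, inv_one]⟩
        have := hac h hh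
        rw [inv_mul_eq_iff_eq_mul, ← mul_assoc, this, mul_assoc, mul_inv_cancel, mul_one] }
  have hV : ∀ z, z ∈ V ↔ z ∈ H ∧ (∀ h ∈ H, z * h = h * z) ∧ z ^ p = 1 := fun z => Iff.rfl
  obtain ⟨u, huH, huo, huc⟩ :=
    Cfsg.Agent.Lib.Helper52.exists_central_orderOf_eq_prime H hnil p hpH
  refine ⟨V, fun z hz => hz.1, ?_, fun v hv => hv.2.2, fun v hv => hv.2.1, ?_⟩
  · intro hbot
    have huV : u ∈ V := ⟨huH, huc, by rw [← huo]; exact pow_orderOf_eq_one u⟩
    rw [hbot, Subgroup.mem_bot] at huV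
    rw [huV, orderOf_one] at huo
    exact hp.one_lt.ne huo
  · intro g hg v hv
    obtain ⟨hvH, hvc, hvp⟩ := hv
    -- conjugation by `g` is a bijection of the finite set `H`
    let f : H → H := fun h => ⟨g * h * g⁻¹, hg h h.2⟩
    have hinj : Function.Injective f := by
      intro a b hab
      have := congrArg Subtype.val hab
      simp only [f] at this
      apply Subtype.ext
      exact mul_left_cancel (mul_right_cancel this)
    have hsurj : Function.Surjective f := Finite.surjective_of_injective hinj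
    refine ⟨hg v hvH, fun h hh => ?_, by rw [conj_pow, hvp]; group⟩
    obtain ⟨w, hw⟩ := hsurj ⟨h, hh⟩
    have hw' : g * (w : G) * g⁻¹ = h := congrArg Subtype.val hw
    rw [← hw']
    have := hvc w w.2
    calc g * v * g⁻¹ * (g * ↑w * g⁻¹) = g * (v * ↑w) * g⁻¹ := by group
      _ = g * (↑w * v) * g⁻¹ := by rw [this]
      _ = g * ↑w * g⁻¹ * (g * v * g⁻¹) := by group

end Cfsg.Agent.Lib.Helper34.PF12G
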