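import Cfsg.Agent.Lib.Helper34.PF14EndMain

/-!
# PF sec. 14, case (b): fusion of two Frobenius classes and the final dichotomy (module PF14-[END])

* `FrobClass.map_conj_eq_of_fusion` : if some `k ∈ H#` is conjugate (by `g`) into `H'` then
  `H^g = H'` (and `L^g = L'`): two Frobenius classes are either without fusion or conjugate.
* `isCyclic_of_typeII` : the corrected end of (b) (notes/helper10/PF1314.md sec. 7): from
  `(x,y) ∈ {(1,0),(0,1),(0,0)}` ([MOM]) and the two parity bounds ([THETA-S], [THETA-T]) the kernel `H`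
  of `L ≥ N_G(U)` is cyclic (`H = U` or `H = V^g`).
* `isCyclic_of_small` : the same when the `T`-class has `|L' : H'| = p` (Type III pseudo-class).
-/

set_option autoImplicit false
set_option linter.unusedSectionVars false
set_option linter.style.haveILetI false

namespace Cfsg.Agent.Lib.Helper34.PF14End

open Cfsg Cfsg.Agent.Lib.Helper54.PF14Arith

universe u

variable {G : Type u} [Group G] [Finite G] {L H L' H' U V : Subgroup G}

/-- a nontrivial central element of the (nilpotent) kernel -/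
theorem FrobClass.exists_central (c : FrobClass L H) :
    ∃ z ∈ H, z ≠ 1 ∧ ∀ h ∈ H, h * z = z * h := by
  haveI : Group.IsNilpotent H := c.nilpotent
  haveI : Nontrivial H := (Subgroup.nontrivial_iff_ne_bot H).mpr c.ne_bot
  have hZ : Subgroup.center H ≠ ⊥ := Group.IsNilpotent.center_ne_bot ↥H
  obtain ⟨a, ha⟩ := (Subgroup.ne_bot_iff_exists_ne_one).mp hZ
  refine ⟨((a : H) : G), (a : H).2, fun h => ha (Subtype.ext (Subtype.ext h)), ?_⟩
  intro h hh
  have := Subgroup.mem_center_iff.mp a.2 ⟨h, hh⟩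
  exact congrArg Subtype.val this

/-- the centraliser of `g k g⁻¹` lies in `H^g` for `k ∈ H#` -/
theorem FrobClass.cent_conj_le (c : FrobClass L H) {g k : G} (hk : k ∈ H) (hk1 : k ≠ 1) :
    Subgroup.centralizer ({g * k * g⁻¹} : Set G) ≤ H.map (MulAut.conj g).toMonoidHom := by
  intro x hx
  have hx' := Subgroup.mem_centralizer_singleton_iff.mp hx
  have h1 : g⁻¹ * x * g ∈ Subgroup.centralizer ({k} : Set G) := by
    rw [Subgroup.mem_centralizer_singleton_iff]
    have e1 : g⁻¹ * x * g * k = g⁻¹ * (x * (g * k * g⁻¹)) * g := by group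
    have e2 : k * (g⁻¹ * x * g) = g⁻¹ * ((g * k * g⁻¹) * x) * g := by group
    rw [e1, e2, hx']
  have h2 := c.cent k hk hk1 h1
  refine ⟨g⁻¹ * x * g, h2, ?_⟩
  show g * (g⁻¹ * x * g) * g⁻¹ = x
  group

/-- **Fusion implies conjugacy**: if `k ∈ H#` and `g k g⁻¹ ∈ H'` then `H^g = H'`. -/
theorem FrobClass.map_conj_eq_of_fusion (c : FrobClass L H) (c' : FrobClass L' H') {g k : G}
    (hk : k ∈ H) (hk1 : k ≠ 1) (hgk : g * k * g⁻¹ ∈ H') :
    H.map (MulAut.conj g).toMonoidHom = H' := by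
  have hk1' : g * k * g⁻¹ ≠ 1 := by
    intro h
    apply hk1
    have : k = g⁻¹ * (g * k * g⁻¹) * g := by group
    rw [this, h]; group
  -- `H' ≤ H^g`
  obtain ⟨z, hz, hz1, hzc⟩ := c'.exists_central
  have hzH : z ∈ H.map (MulAut.conj g).toMonoidHom := by
    apply c.cent_conj_le hk hk1
    rw [Subgroup.mem_centralizer_singleton_iff]
    exact (hzc _ hgk).symm
  obtain ⟨z₀, hz₀, hz₀z⟩ := hzH
  have hz₀z' : g * z₀ * g⁻¹ = z := hz₀z
  have hz₀1 : z₀ ≠ 1 := by
    rintro rfl
    apply hz1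
    rw [← hz₀z']; group
  have hle : H' ≤ H.map (MulAut.conj g).toMonoidHom := by
    intro x hx
    apply c.cent_conj_le hz₀ hz₀1
    rw [Subgroup.mem_centralizer_singleton_iff, hz₀z']
    exact hzc x hx
  -- `H^g ≤ H'`
  obtain ⟨w, hw, hw1, hwc⟩ := c.exists_central
  have hw' : g * w * g⁻¹ ∈ H' := by
    apply c'.cent _ hgk hk1'
    rw [Subgroup.mem_centralizer_singleton_iff]
    have := hwc k hk
    have e1 : g * k * g⁻¹ * (g * w * g⁻¹) = g * (k * w) * g⁻¹ := by group
    have e2 : g * w * g⁻¹ * (g * k * g⁻¹) = g * (w * k) * g⁻¹ := by group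
    rw [e1, e2, this]
  have hw1' : g * w * g⁻¹ ≠ 1 := by
    intro h
    apply hw1
    have : w = g⁻¹ * (g * w * g⁻¹) * g := by group
    rw [this, h]; group
  have hge : H.map (MulAut.conj g).toMonoidHom ≤ H' := by
    rintro x ⟨h, hh, rfl⟩
    show g * h * g⁻¹ ∈ H'
    apply c'.cent _ hw' hw1'
    rw [Subgroup.mem_centralizer_singleton_iff]
    have := hwc h hh
    have e1 : g * h * g⁻¹ * (g * w * g⁻¹) = g * (h * w) * g⁻¹ := by group
    have e2 : g * w * g⁻¹ * (g * h * g⁻¹) = g * (w * h) * g⁻¹ := by group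
    rw [e1, e2, this]
  exact le_antisymm hge hle

/-- **Dichotomy**: two Frobenius classes are without fusion, or conjugate. -/
theorem FrobClass.fusion_dichotomy (c : FrobClass L H) (c' : FrobClass L' H') :
    (∀ g : G, ∀ k ∈ H, g * k * g⁻¹ ∈ H' → k = 1) ∨
      ∃ g : G, H.map (MulAut.conj g).toMonoidHom = H' := by
  by_cases h : ∀ g : G, ∀ k ∈ H, g * k * g⁻¹ ∈ H' → k = 1
  · exact Or.inl h
  · right
    push Not at h
    obtain ⟨g, k, hk, hgk, hk1⟩ := h
    exact ⟨g, c.map_conj_eq_of_fusion c' hk hk1 hgk⟩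

/-- conjugate kernels have conjugate normalisers -/
theorem FrobClass.map_conj_eq (c : FrobClass L H) (c' : FrobClass L' H') {g : G}
    (h : H.map (MulAut.conj g).toMonoidHom = H') : L.map (MulAut.conj g).toMonoidHom = L' := by
  rw [← c.nor, ← c'.nor, ← h]
  exact Subgroup.map_equiv_normalizer_eq H (MulAut.conj g)

/-- **End of (b), `T` of Type II** (corrected design, notes/helper10/PF1314.md sec. 7).
`(L,H)` the class of `L ≥ N_G(U)` (`e = pq`), `(L',H')` the class of `L_T ≥ N_G(V)`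
(`e' ∈ {p, pq}`); `(x,y)` the values of `(η_{0j}, η_{i0})` on `H#`, restricted by the moments;
`hpx`, `hpy` the parity bounds.  Then `H` is cyclic. -/
theorem isCyclic_of_typeII (hodd : Odd (Nat.card G)) (c : FrobClass L H) (c' : FrobClass L' H')
    {p q : ℕ} (hp : p.Prime) (hq : q.Prime) (hq3 : 3 ≤ q) (hqp : q < p)
    (hUH : U ≤ H) (hVH : V ≤ H') (hUc : IsCyclic U) (hVc : IsCyclic V)
    (hU : Nat.card U * (p - 1) = p ^ q - 1) (hV : Nat.card V * (q - 1) = q ^ p - 1)
    (hUq : Nat.card U ≡ 1 [MOD q]) (he : H.relIndex L = p * q)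
    (he' : H'.relIndex L' = p ∨ H'.relIndex L' = p * q)
    (x y : ℤ) (hxy : (x = 1 ∧ y = 0) ∨ (x = 0 ∧ y = 1) ∨ (x = 0 ∧ y = 0))
    (hpx : Even x → Nat.card H - 1 ≤ p * (Nat.card U - 1))
    (hpy : Even y → Nat.card H - 1 ≤ q * (Nat.card V - 1)) :
    IsCyclic H := by
  obtain ⟨hn1, hnh, h0, h1⟩ := c.numeric hodd hp hq hq3 hqp hUH hU hUq he
  have hU1 : 1 ≤ Nat.card U := Nat.card_pos
  have hV1 : 1 ≤ Nat.card V := Nat.card_pos
  have ofU : Nat.card H = Nat.card U → IsCyclic H := by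
    intro h
    have : H = U := (Subgroup.eq_of_le_of_card_ge hUH (le_of_eq h)).symm
    rw [this]; exact hUc
  -- `x = 0`: `H = U`
  have hx0 : x = 0 → IsCyclic H := by
    intro hx
    have hle := hpx (by rw [hx]; exact Even.zero)
    apply ofU
    apply eq_n_of_lt_mul p q _ _ (by omega) (by omega) hn1 hnh h0 h1
    have : p * (Nat.card U - 1) + p = p * Nat.card U := by
      rw [← Nat.mul_succ]; congr 1; omega
    omega
  rcases hxy with ⟨-, hy⟩ | ⟨hx, -⟩ | ⟨hx, -⟩
  · -- `(x,y) = (1,0)`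
    have hle := hpy (by rw [hy]; exact Even.zero)
    rcases c.fusion_dichotomy c' with hnf | ⟨g, hg⟩
    · rcases eq_of_caseA hodd c c' hnf hp hq hq3 hqp hUH hVH hU hV hUq he he' with h | h
      · rw [h]; exact hUc
      · obtain ⟨rfl, rfl, -, -⟩ := h
        apply ofU
        apply five_three _ (Nat.card V) _ hU hV hnh h1
        omega
    · -- fused: `V^{g⁻¹} ≤ H`
      have hVg : V.map (MulAut.conj g⁻¹).toMonoidHom ≤ H := by
        rintro z ⟨w, hw, rfl⟩
        have hw' : w ∈ H.map (MulAut.conj g).toMonoidHom := by rw [hg]; exact hVH hw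
        obtain ⟨h, hh, rfl⟩ := hw'
        show g⁻¹ * (g * h * g⁻¹) * g⁻¹⁻¹ ∈ H
        have : g⁻¹ * (g * h * g⁻¹) * g⁻¹⁻¹ = h := by group
        rw [this]; exact hh
      have hcardV : Nat.card (V.map (MulAut.conj g⁻¹).toMonoidHom) = Nat.card V :=
        Subgroup.card_map_of_injective (MulAut.conj g⁻¹).injective
      have hvh : Nat.card V ∣ Nat.card H := by
        rw [← hcardV]; exact Subgroup.card_dvd_of_le hVg
      have hv1 := v_modEq_one p q (Nat.card V) hp (by omega) hqp hV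
      have hhp : Nat.card H ≡ 1 [MOD p] := by
        apply Nat.ModEq.of_dvd _ h1
        exact ⟨2 * q, by ring⟩
      have hlt : Nat.card H < q * Nat.card V := by
        have : q * (Nat.card V - 1) + q = q * Nat.card V := by
          rw [← Nat.mul_succ]; congr 1; omega
        omega
      have hh := A4_eq p q (Nat.card V) (Nat.card H) hvh hhp hv1 hlt hqp
      have : H = V.map (MulAut.conj g⁻¹).toMonoidHom :=
        (Subgroup.eq_of_le_of_card_ge hVg (by rw [hcardV, hh])).symm
      rw [this]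
      exact isCyclic_map_conj hVc g⁻¹
  · exact hx0 hx
  · exact hx0 hx

/-- **End of (b), small `T`-class** (`|L' : H'| = p`: Type III pseudo-class `(V W₂, V)`), given that
there is no fusion: `H = U` is cyclic. -/
theorem isCyclic_of_small (hodd : Odd (Nat.card G)) (c : FrobClass L H) (c' : FrobClass L' H')
    (hnf : ∀ g : G, ∀ k ∈ H, g * k * g⁻¹ ∈ H' → k = 1) {p q : ℕ}
    (hp : p.Prime) (hq : q.Prime) (hq3 : 3 ≤ q) (hqp : q < p) (hUH : U ≤ H) (hVH : V ≤ H')
    (hUc : IsCyclic U)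
    (hU : Nat.card U * (p - 1) = p ^ q - 1) (hV : Nat.card V * (q - 1) = q ^ p - 1)
    (hUq : Nat.card U ≡ 1 [MOD q]) (he : H.relIndex L = p * q)
    (he' : H'.relIndex L' = p) : IsCyclic H := by
  rw [eq_of_small hodd c c' hnf hp hq hq3 hqp hUH hVH hU hV hUq he he']
  exact hUc

end Cfsg.Agent.Lib.Helper34.PF14End
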