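import Mathlib
import Cfsg.Agent.Lib.Helper54.PF14Arith

/-!
# PF sec. 14, case (b): the numeric endgame (module PF14-[END], board #4220 / notes/helper10/PF1314.md 4.3-4.4)

Pure arithmetic.  `q < p` odd primes, `n (p-1) = p^q - 1`, `v (q-1) = q^p - 1`, `h = |H|` with `n ∣ h`,
`h ≡ 1 ≡ n (mod 2pq)`.  The lemmas turn the outputs of the tournament bound
(`Lib/Helper34/PFTournament.tournament_bound`) and of the parity bound
(`Lib/Helper34/PFParity.parity_bound`) into `h = n` (so `H = U`) or `h = v` (so `H = V^g`).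
-/

set_option autoImplicit false

namespace Cfsg.Agent.Lib.Helper34.PF14End

open Cfsg.Agent.Lib.Helper54.PF14Arith

/-- `p^q ≤ q^p` for `3 ≤ q ≤ p`. -/
theorem pow_swap_le (p q : ℕ) (hq3 : 3 ≤ q) (hqp : q ≤ p) : p ^ q ≤ q ^ p := by
  have hq0 : (0 : ℝ) < q := by exact_mod_cast (by omega : 0 < q)
  have hp0 : (0 : ℝ) < p := by exact_mod_cast (by omega : 0 < p)
  have he : Real.exp 1 ≤ (q : ℝ) := by
    have h1 : Real.exp 1 < 2.7182818286 := Real.exp_one_lt_d9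
    have h2 : (3 : ℝ) ≤ q := by exact_mod_cast hq3
    linarith
  have hep : Real.exp 1 ≤ (p : ℝ) := le_trans he (by exact_mod_cast hqp)
  have hanti := Real.log_div_self_antitoneOn (show (q : ℝ) ∈ {x | Real.exp 1 ≤ x} from he)
    (show (p : ℝ) ∈ {x | Real.exp 1 ≤ x} from hep) (by exact_mod_cast hqp)
  -- log p / p ≤ log q / q
  have h3 : (q : ℝ) * Real.log p ≤ (p : ℝ) * Real.log q := by
    have h4 : Real.log p / p ≤ Real.log q / q := hanti
    rw [div_le_div_iff₀ hp0 hq0] at h4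
    linarith
  have h5 : Real.log ((p : ℝ) ^ q) ≤ Real.log ((q : ℝ) ^ p) := by
    rw [Real.log_pow, Real.log_pow]
    exact h3
  have h6 : (p : ℝ) ^ q ≤ (q : ℝ) ^ p := by
    rwa [Real.log_le_log_iff (by positivity) (by positivity)] at h5
  exact_mod_cast h6

/-- `n < v`. -/
theorem n_lt_v (p q n v : ℕ) (hq3 : 3 ≤ q) (hqp : q < p)
    (hn : n * (p - 1) = p ^ q - 1) (hv : v * (q - 1) = q ^ p - 1) : n < v := by
  have hsw := pow_swap_le p q hq3 hqp.le
  have h1 : p ^ q - 1 ≤ q ^ p - 1 := Nat.sub_le_sub_right hsw 1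
  by_contra hcon
  push Not at hcon
  -- v ≤ n
  have hq1 : 0 < q - 1 := by omega
  have hp1 : q - 1 < p - 1 := by omega
  have hqpos : 1 < q ^ p := Nat.one_lt_pow (by omega) (by omega)
  have hv0 : 0 < v := by
    rcases Nat.eq_zero_or_pos v with h0 | h0
    · subst h0; omega
    · exact h0
  have h2 : v * (q - 1) < n * (p - 1) :=
    calc v * (q - 1) < v * (p - 1) := Nat.mul_lt_mul_of_pos_left hp1 hv0
      _ ≤ n * (p - 1) := Nat.mul_le_mul_right _ hcon
  omega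

/-- `p^2 q < v`. -/
theorem sq_mul_lt_v (p q v : ℕ) (hq3 : 3 ≤ q) (hqp : q < p) (hp5 : 5 ≤ p)
    (hv : v * (q - 1) = q ^ p - 1) : p ^ 2 * q < v := by
  have h1 := pow_pred_lt_of_mul_eq p q v (by omega) (by omega) hv
  -- p^2 ≤ 3^(p-2)
  have h2 : p ^ 2 ≤ 3 ^ (p - 2) := by
    rcases Nat.lt_or_ge p 7 with h7 | h7
    · interval_cases p <;> norm_num
    · have := sq_le_three_pow_sub p h7
      have h3 : 3 ^ (p - 3) ≤ 3 ^ (p - 2) := Nat.pow_le_pow_right (by norm_num) (by omega)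
      omega
  have h3 : 3 ^ (p - 2) ≤ q ^ (p - 2) := Nat.pow_le_pow_left hq3 _
  have h4 : q ^ (p - 1) = q ^ (p - 2) * q := by
    rw [← pow_succ]; congr 1; omega
  have h5 : p ^ 2 * q ≤ q ^ (p - 2) * q := Nat.mul_le_mul_right _ (h2.trans h3)
  omega

/-- a prime `q ≥ 3` is `3` or at least `5` -/
theorem three_or_five_le (q : ℕ) (hq : q.Prime) (hq3 : 3 ≤ q) : q = 3 ∨ 5 ≤ q := by
  rcases Nat.lt_or_ge q 5 with h | h
  · left
    interval_cases q
    · rfl
    · exact absurd hq (by norm_num)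
  · exact Or.inr h

/-- **Second alternative**: `h ≤ p^2 q^2 - pq + 1` forces `h = n`. -/
theorem eq_n_of_le (p q n h : ℕ) (_hp : p.Prime) (hq : q.Prime) (hq3 : 3 ≤ q) (hqp : q < p)
    (hn : n * (p - 1) = p ^ q - 1) (hn1 : n ≡ 1 [MOD 2 * p * q]) (hnh : n ∣ h) (h0 : 0 < h)
    (h1 : h ≡ 1 [MOD 2 * p * q]) (hle : h ≤ p ^ 2 * q ^ 2 - p * q + 1) : h = n := by
  rcases three_or_five_le q hq hq3 with h3 | h5
  · subst h3
    obtain ⟨k, hk⟩ := hnh
    have hk' : h = k * n := by rw [hk, mul_comm]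
    have hkm := cofactor_modEq_one (2 * p * 3) h k n hk' h1 hn1
    have hle' : k * n ≤ p ^ 2 * 3 ^ 2 := by
      rw [← hk']
      exact hle.trans (by
        have : p * 3 ≤ p ^ 2 * 3 ^ 2 := by nlinarith
        omega)
    have := A2 p n k (by omega) hn hkm hle'
    rw [hk', this, one_mul]
  · exact (A3_not_le p q n h h5 hqp hn hnh h0 hle).elim

/-- `h < p n` forces `h = n`. -/
theorem eq_n_of_lt_mul (p q n h : ℕ) (hp2 : 2 ≤ p) (_hq0 : 0 < q)
    (hn1 : n ≡ 1 [MOD 2 * p * q]) (hnh : n ∣ h) (h0 : 0 < h)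
    (h1 : h ≡ 1 [MOD 2 * p * q]) (hlt : h < p * n) : h = n := by
  obtain ⟨k, hk⟩ := hnh
  have hk' : h = k * n := by rw [hk, mul_comm]
  have hkm := cofactor_modEq_one (2 * p * q) h k n hk' h1 hn1
  have hkp : k ≡ 1 [MOD p] := by
    apply Nat.ModEq.of_dvd _ hkm
    exact ⟨2 * q, by ring⟩
  have hn0 : 0 < n := by
    rcases Nat.eq_zero_or_pos n with h | h
    · subst h; simp at hk; omega
    · exact h
  have hklt : k < p := by
    by_contra hcon
    push Not at hcon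
    have : p * n ≤ k * n := Nat.mul_le_mul_right _ hcon
    omega
  have hk1 : k = 1 := by
    have e1 : k % p = k := Nat.mod_eq_of_lt hklt
    have e2 : 1 % p = 1 := Nat.mod_eq_of_lt (by omega)
    have e3 : k % p = 1 % p := hkp
    omega
  rw [hk', hk1, one_mul]

/-- **Case A**, `(p,q) ≠ (5,3)` (T of Type II, `L` not conjugate to `L_T`): the tournament alternative
gives `h = n`.  `hT = |H_T| ≥ v`, `eT = |L_T : H_T| ≤ pq`. -/
theorem caseA (p q n v h hT eT : ℕ) (hp : p.Prime) (hq : q.Prime) (hq3 : 3 ≤ q) (hqp : q < p)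
    (hne : ¬(p = 5 ∧ q = 3))
    (hn : n * (p - 1) = p ^ q - 1) (hv : v * (q - 1) = q ^ p - 1)
    (hn1 : n ≡ 1 [MOD 2 * p * q]) (hnh : n ∣ h) (h0 : 0 < h) (h1 : h ≡ 1 [MOD 2 * p * q])
    (hvT : v ≤ hT) (heT : eT ≤ p * q)
    (halt : hT + eT ≤ p * q * eT + 1 ∨ h + p * q ≤ p * q * eT + 1) : h = n := by
  have hpq : 1 ≤ p * q := Nat.mul_pos (by omega) (by omega)
  obtain ⟨r, hr⟩ : ∃ r, p * q = r + 1 := ⟨p * q - 1, by omega⟩
  rcases halt with ha | ha
  · exfalso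
    apply A1_not_le p q v hT hp hq hq3 hqp hne hv hvT
    rw [hr] at ha ⊢
    have h2 : hT ≤ r * eT + 1 := by
      have : (r + 1) * eT = r * eT + eT := by ring
      omega
    have h3 : r * eT ≤ r * (r + 1) := Nat.mul_le_mul_left _ (hr ▸ heT)
    have h4 : (r + 1) * (r + 1 - 1) = r * (r + 1) := by
      rw [Nat.add_sub_cancel]; ring
    omega
  · apply eq_n_of_le p q n h hp hq hq3 hqp hn hn1 hnh h0 h1
    have h2 : p * q * eT ≤ p * q * (p * q) := Nat.mul_le_mul_left _ heT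
    have h3 : p * q * (p * q) = p ^ 2 * q ^ 2 := by ring
    omega

/-- **T of Type III** (pseudo-class `(V W₂, V)`, `e = p`), all `(p,q)`: the tournament alternative
gives `h = n`. -/
theorem typeIII (p q n v h : ℕ) (hp : p.Prime) (hq : q.Prime) (hq3 : 3 ≤ q) (hqp : q < p)
    (hn : n * (p - 1) = p ^ q - 1) (hv : v * (q - 1) = q ^ p - 1)
    (hn1 : n ≡ 1 [MOD 2 * p * q]) (hnh : n ∣ h) (h0 : 0 < h) (h1 : h ≡ 1 [MOD 2 * p * q])
    (halt : v + p ≤ p * q * p + 1 ∨ h + p * q ≤ p * q * p + 1) : h = n := by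
  have hp5 : 5 ≤ p := by
    rcases Nat.lt_or_ge p 5 with h | h
    · exfalso
      have : p = 4 := by omega
      subst this
      exact absurd hp (by norm_num)
    · exact h
  rcases halt with ha | ha
  · exfalso
    have := sq_mul_lt_v p q v hq3 hqp hp5 hv
    have e : p * q * p = p ^ 2 * q := by ring
    omega
  · apply eq_n_of_le p q n h hp hq hq3 hqp hn hn1 hnh h0 h1
    have h2 : p * q * p ≤ p * q * (p * q) := Nat.mul_le_mul_left _ (Nat.le_mul_of_pos_right p (by omega))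
    have h3 : p * q * (p * q) = p ^ 2 * q ^ 2 := by ring
    have hpq : 1 ≤ p * q := Nat.mul_pos (by omega) (by omega)
    omega

/-- Case A with `e_T = p` (complement `W₂` only), all `(p,q)`: same as `typeIII` with `h_T ≥ v`. -/
theorem caseA_small (p q n v h hT : ℕ) (hp : p.Prime) (hq : q.Prime) (hq3 : 3 ≤ q) (hqp : q < p)
    (hn : n * (p - 1) = p ^ q - 1) (hv : v * (q - 1) = q ^ p - 1)
    (hn1 : n ≡ 1 [MOD 2 * p * q]) (hnh : n ∣ h) (h0 : 0 < h) (h1 : h ≡ 1 [MOD 2 * p * q])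
    (hvT : v ≤ hT)
    (halt : hT + p ≤ p * q * p + 1 ∨ h + p * q ≤ p * q * p + 1) : h = n := by
  apply typeIII p q n v h hp hq hq3 hqp hn hv hn1 hnh h0 h1
  rcases halt with ha | ha
  · left; omega
  · right; exact ha

/-- `(p,q) = (5,3)`: the parity bound `h ≤ 3 (v - 1) + 1` gives `h = n`. -/
theorem five_three (n v h : ℕ) (hn : n * (5 - 1) = 5 ^ 3 - 1) (hv : v * (3 - 1) = 3 ^ 5 - 1)
    (hnh : n ∣ h) (h1 : h ≡ 1 [MOD 2 * 5 * 3]) (hle : h ≤ 3 * (v - 1) + 1) : h = n := by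
  obtain ⟨k, hk⟩ := hnh
  have hk' : h = k * n := by rw [hk, mul_comm]
  have hn' : n = 31 := by omega
  have hkm := cofactor_modEq_one (2 * 5 * 3) h k n hk' h1 (by rw [hn']; decide)
  have := A6' n v k h hn hv hk' hkm hle
  rw [hk', this, one_mul]

/-- `(p,q) = (5,3)`, Case A, `e_T = 15`, first tournament alternative: `h_T = 121`, `s_T = 8`. -/
theorem five_three_hT (v hT : ℕ) (hv : v * (3 - 1) = 3 ^ 5 - 1) (hvT : v ∣ hT) (h0 : 0 < hT)
    (ha : hT + 15 ≤ 5 * 3 * 15 + 1) : hT = 121 := by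
  have hv' : v = 121 := by omega
  subst hv'
  obtain ⟨k, rfl⟩ := hvT
  have hk : k = 1 := by
    have : k ≤ 1 := by omega
    omega
  rw [hk]

/-- **Case A**, all `(p,q)`, `e_T ∈ {p, pq}`: the tournament alternative gives `h = n`, except
for the residual configuration `(p,q) = (5,3)`, `e_T = 15`, `h_T = 121`. -/
theorem caseA_gen (p q n v h hT eT : ℕ) (hp : p.Prime) (hq : q.Prime) (hq3 : 3 ≤ q) (hqp : q < p)
    (hn : n * (p - 1) = p ^ q - 1) (hv : v * (q - 1) = q ^ p - 1)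
    (hn1 : n ≡ 1 [MOD 2 * p * q]) (hnh : n ∣ h) (h0 : 0 < h) (h1 : h ≡ 1 [MOD 2 * p * q])
    (hvT : v ∣ hT) (hT0 : 0 < hT) (heT : eT = p ∨ eT = p * q)
    (halt : hT + eT ≤ p * q * eT + 1 ∨ h + p * q ≤ p * q * eT + 1) :
    h = n ∨ (p = 5 ∧ q = 3 ∧ eT = 15 ∧ hT = 121) := by
  have hvle : v ≤ hT := Nat.le_of_dvd hT0 hvT
  have hele : eT ≤ p * q := by
    rcases heT with h | h
    · rw [h]; exact Nat.le_mul_of_pos_right p (by omega)
    · rw [h]
  by_cases hne : p = 5 ∧ q = 3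
  · obtain ⟨rfl, rfl⟩ := hne
    rcases heT with he | he
    · left
      subst he
      exact caseA_small 5 3 n v h hT hp hq hq3 hqp hn hv hn1 hnh h0 h1 hvle halt
    · subst he
      rcases halt with ha | ha
      · right
        exact ⟨rfl, rfl, rfl, five_three_hT v hT hv hvT hT0 ha⟩
      · left
        apply eq_n_of_le 5 3 n h hp hq hq3 hqp hn hn1 hnh h0 h1
        omega
  · left
    exact caseA p q n v h hT eT hp hq hq3 hqp hne hn hv hn1 hnh h0 h1 hvle hele halt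

/-- `n ≡ 1 (mod p)`. -/
theorem modEq_one_of_geom (p q n : ℕ) (hp : 2 ≤ p) (hq : 1 ≤ q)
    (hn : n * (p - 1) = p ^ q - 1) : n ≡ 1 [MOD p] := by
  have h1 : 1 ≤ p ^ q := Nat.one_le_pow _ _ (by omega)
  have h2 : n * p + 1 = n + p ^ q := by
    have : n * p = n * (p - 1) + n := by
      conv_lhs => rw [show p = (p - 1) + 1 by omega]
      ring
    omega
  have a : n * p + 1 ≡ 1 [MOD p] := by
    have : n * p ≡ 0 [MOD p] := (Nat.modEq_zero_iff_dvd).mpr (dvd_mul_left p n)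
    have h3 := this.add_right 1
    rwa [zero_add] at h3
  have b : n + p ^ q ≡ n [MOD p] := by
    have : p ^ q ≡ 0 [MOD p] := (Nat.modEq_zero_iff_dvd).mpr (dvd_pow_self p (by omega))
    simpa using this.add_left n
  rw [h2] at a
  exact b.symm.trans a

/-- `v ≡ 1 (mod p)` (Fermat; `q < p`). -/
theorem v_modEq_one (p q v : ℕ) (hp : p.Prime) (hq2 : 2 ≤ q) (hqp : q < p)
    (hv : v * (q - 1) = q ^ p - 1) : v ≡ 1 [MOD p] := by
  have : Fact p.Prime := ⟨hp⟩
  have h1 : 1 ≤ q ^ p := Nat.one_le_pow _ _ (by omega)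
  have hc : ((v : ZMod p)) * ((q : ZMod p) - 1) = (q : ZMod p) - 1 := by
    have h2 : ((v * (q - 1) : ℕ) : ZMod p) = ((q ^ p - 1 : ℕ) : ZMod p) := by rw [hv]
    rw [Nat.cast_mul, Nat.cast_sub (by omega : 1 ≤ q), Nat.cast_sub h1, Nat.cast_pow,
      ZMod.pow_card] at h2
    simpa using h2
  have hne : ((q : ZMod p) - 1) ≠ 0 := by
    have h3 : (((q - 1 : ℕ)) : ZMod p) ≠ 0 := by
      rw [Ne, ZMod.natCast_eq_zero_iff]
      intro hd
      have := Nat.le_of_dvd (by omega) hd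
      omega
    rwa [Nat.cast_sub (by omega : 1 ≤ q), Nat.cast_one] at h3
  have h4 : (v : ZMod p) = 1 := by
    have := mul_right_cancel₀ hne (hc.trans (one_mul _).symm)
    exact this
  have h5 : ((v : ℕ) : ZMod p) = ((1 : ℕ) : ZMod p) := by rw [h4]; simp
  exact (ZMod.natCast_eq_natCast_iff v 1 p).mp h5

/-- combine congruences mod `2`, `p`, `q` -/
theorem modEq_two_mul_mul (p q n : ℕ) (hp : p.Prime) (hq : q.Prime) (hp2 : p ≠ 2) (hq2 : q ≠ 2)
    (hpq : p ≠ q) (hodd : Odd n) (hnp : n ≡ 1 [MOD p]) (hnq : n ≡ 1 [MOD q]) :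
    n ≡ 1 [MOD 2 * p * q] := by
  have h2 : n ≡ 1 [MOD 2] := by
    unfold Nat.ModEq
    rw [Nat.odd_iff.mp hodd]
  have c1 : Nat.Coprime 2 p := by
    rw [Nat.coprime_primes Nat.prime_two hp]
    exact fun h => hp2 h.symm
  have h2p : n ≡ 1 [MOD 2 * p] := (Nat.modEq_and_modEq_iff_modEq_mul c1).mp ⟨h2, hnp⟩
  have c2 : Nat.Coprime (2 * p) q := by
    apply Nat.Coprime.mul_left
    · rw [Nat.coprime_primes Nat.prime_two hq]
      exact fun h => hq2 h.symm
    · rw [Nat.coprime_primes hp hq]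
      exact hpq
  exact (Nat.modEq_and_modEq_iff_modEq_mul c2).mp ⟨h2p, hnq⟩

/-- **Case B** (`L` conjugate to `L_T`, so `v ∣ h`): `h = v`. `x, y` are the constant values of
`η_{0j}`, `η_{i0}` on `H#`; `hB` is Bessel for `Ξ_L`; `hx, hy` the parity bounds for `Γ_S, Γ_T`;
the three tight cases are supplied by the caller. -/
theorem caseB (p q n v h : ℕ) (x y : ℤ) (_hp : p.Prime) (_hq : q.Prime) (hq3 : 3 ≤ q) (hqp : q < p)
    (hn : n * (p - 1) = p ^ q - 1) (hv : v * (q - 1) = q ^ p - 1)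
    (hn1 : n ≡ 1 [MOD 2 * p * q]) (hnh : n ∣ h) (h0 : 0 < h) (h1 : h ≡ 1 [MOD 2 * p * q])
    (hvh : v ∣ h) (hv1 : v ≡ 1 [MOD p])
    (hB : ((q : ℤ) - 1) * y ^ 2 + ((p : ℤ) - 1) * x ^ 2 +
      ((p : ℤ) - 1) * ((q : ℤ) - 1) * (x + y - 1) ^ 2 ≤ (p : ℤ) * q - 1)
    (hx : Even x → h - 1 ≤ p * (n - 1))
    (hy : Even y → h - 1 ≤ q * (v - 1))
    (h1m : x = 1 → y = -1 → 4 * (h - 1) ≤ q * (v - 1))
    (hm1 : x = -1 → y = 1 → 4 * (h - 1) ≤ p * (n - 1))
    (h11 : x = 1 → y = 1 → False) : h = v := by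
  have hnv := n_lt_v p q n v hq3 hqp hn hv
  have hn0 : 0 < n := Nat.pos_of_dvd_of_pos hnh h0
  have hv0 : 0 < v := Nat.pos_of_dvd_of_pos hvh h0
  have hhp : h ≡ 1 [MOD p] := by
    apply Nat.ModEq.of_dvd _ h1
    exact ⟨2 * q, by ring⟩
  -- `h - 1 ≤ p (n - 1)` is impossible
  have hU : h - 1 ≤ p * (n - 1) → False := by
    intro hle
    have hlt : h < p * n := by
      have : p * (n - 1) + p = p * n := by
        rw [← Nat.mul_succ]; congr 1; omega
      omega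
    have := eq_n_of_lt_mul p q n h (by omega) (by omega) hn1 hnh h0 h1 hlt
    rw [this] at hvh
    have := Nat.le_of_dvd hn0 hvh
    omega
  -- `h - 1 ≤ q (v - 1)` gives `h = v`
  have hV : h - 1 ≤ q * (v - 1) → h = v := by
    intro hle
    have hlt : h < q * v := by
      have : q * (v - 1) + q = q * v := by
        rw [← Nat.mul_succ]; congr 1; omega
      omega
    exact A4_eq p q v h hvh hhp hv1 hlt hqp
  by_cases hxe : Even x
  · exact (hU (hx hxe)).elim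
  by_cases hye : Even y
  · exact hV (hy hye)
  -- both odd
  have hxo : Odd x := Int.not_even_iff_odd.mp hxe
  have hyo : Odd y := Int.not_even_iff_odd.mp hye
  have hzo : Odd (x + y - 1) := by
    obtain ⟨a, ha⟩ := hxo
    obtain ⟨b, hb⟩ := hyo
    exact ⟨a + b, by rw [ha, hb]; ring⟩
  have sq1 : ∀ w : ℤ, Odd w → 1 ≤ w ^ 2 := by
    intro w hw
    have hw0 : w ≠ 0 := by
      rintro rfl
      exact (Int.not_even_iff_odd.mpr hw) (by decide)
    have : 0 < w ^ 2 := by positivity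
    omega
  have hx2 := sq1 x hxo
  have hy2 := sq1 y hyo
  have hz2 := sq1 (x + y - 1) hzo
  have hP : (1 : ℤ) ≤ (p : ℤ) - 1 := by
    have : (2 : ℤ) ≤ p := by exact_mod_cast (by omega : 2 ≤ p)
    linarith
  have hQ : (1 : ℤ) ≤ (q : ℤ) - 1 := by
    have : (2 : ℤ) ≤ q := by exact_mod_cast (by omega : 2 ≤ q)
    linarith
  have t1 : 0 ≤ ((q : ℤ) - 1) * (y ^ 2 - 1) := mul_nonneg (by linarith) (by linarith)
  have t2 : 0 ≤ ((p : ℤ) - 1) * (x ^ 2 - 1) := mul_nonneg (by linarith) (by linarith)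
  have t3 : 0 ≤ ((p : ℤ) - 1) * ((q : ℤ) - 1) * ((x + y - 1) ^ 2 - 1) :=
    mul_nonneg (mul_nonneg (by linarith) (by linarith)) (by linarith)
  have hsum : ((q : ℤ) - 1) * (y ^ 2 - 1) + ((p : ℤ) - 1) * (x ^ 2 - 1) +
      ((p : ℤ) - 1) * ((q : ℤ) - 1) * ((x + y - 1) ^ 2 - 1) ≤ 0 := by
    have e : ((q : ℤ) - 1) * (y ^ 2 - 1) + ((p : ℤ) - 1) * (x ^ 2 - 1) +
      ((p : ℤ) - 1) * ((q : ℤ) - 1) * ((x + y - 1) ^ 2 - 1) =
      (((q : ℤ) - 1) * y ^ 2 + ((p : ℤ) - 1) * x ^ 2 +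
      ((p : ℤ) - 1) * ((q : ℤ) - 1) * (x + y - 1) ^ 2) - ((p : ℤ) * q - 1) := by ring
    rw [e]
    linarith
  have pos_cancel : ∀ a b : ℤ, 1 ≤ a → 0 ≤ b → a * b ≤ 0 → b = 0 := by
    intro a b ha hb hab
    by_contra hne
    have hb' : 0 < b := lt_of_le_of_ne hb (Ne.symm hne)
    have := mul_pos (show (0 : ℤ) < a by linarith) hb'
    linarith
  have ex : x ^ 2 = 1 := by
    have := pos_cancel _ _ hP (by linarith) (by linarith : ((p : ℤ) - 1) * (x ^ 2 - 1) ≤ 0)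
    linarith
  have ey : y ^ 2 = 1 := by
    have := pos_cancel _ _ hQ (by linarith) (by linarith : ((q : ℤ) - 1) * (y ^ 2 - 1) ≤ 0)
    linarith
  have ez : (x + y - 1) ^ 2 = 1 := by
    have h4 : (1 : ℤ) ≤ ((p : ℤ) - 1) * ((q : ℤ) - 1) := by
      have := mul_le_mul hP hQ (by norm_num) (by linarith)
      linarith
    have := pos_cancel _ _ h4 (by linarith)
      (by linarith : ((p : ℤ) - 1) * ((q : ℤ) - 1) * ((x + y - 1) ^ 2 - 1) ≤ 0)
    linarith
  have sqone : ∀ w : ℤ, w ^ 2 = 1 → w = 1 ∨ w = -1 := by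
    intro w hw
    have h : (w - 1) * (w + 1) = 0 := by
      have : (w - 1) * (w + 1) = w ^ 2 - 1 := by ring
      rw [this, hw]; norm_num
    rcases mul_eq_zero.mp h with h | h
    · left; linarith
    · right; linarith
  rcases sqone x ex with hx1 | hx1 <;> rcases sqone y ey with hy1 | hy1
  · exact (h11 hx1 hy1).elim
  · apply hV
    have := h1m hx1 hy1
    omega
  · exfalso
    apply hU
    have := hm1 hx1 hy1
    omega
  · exfalso
    rw [hx1, hy1] at ez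
    norm_num at ez

end Cfsg.Agent.Lib.Helper34.PF14End
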