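import Cfsg.Agent.Lib.Helper34.PF14EndTypeII
import Cfsg.Agent.Lib.Helper33.PFThirteenD
import Cfsg.Agent.Lib.Helper54.Coprime

/-!
# PF sec. 14, case (b): assembly in the pair situation (module PF14-[END])

`exists_y_of_b` : the last clause of `Stmt1544Core` (`∃ y ∈ T_F, W₂^y ≤ N_G(U)`) from
* the frozen rows S1543, S1549 in `Stmt` form, book-form B&G data, (12.7) (`h127`);
* the sec. 13 RESULT for both sides (`U`, `V` cyclic of the right orders, semiregular);
* case (a) of S1549 excluded (`hna`, helper51);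
* the character-theoretic outputs of (b) for `T` of Type II (`hchar`: [MOM] + [THETA-S] + [THETA-T]);
* the pseudo-class `(V W₂, V)` for `T` of Type III (`hIII`).
Everything else (Type I ⇒ Frobenius class, tournament, arithmetic, fusion split, cyclic ⇒ normaliser)
is proved.
-/

set_option autoImplicit false
set_option linter.unusedSectionVars false
set_option linter.unusedVariables false

namespace Cfsg.Agent.Lib.Helper34.PF14End

open Cfsg Cfsg.Agent.Lib.Helper4.PF Cfsg.Agent.Lib.Helper4 Cfsg.Agent.Lib.Helper33.PF13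

universe u

variable {G : Type u} [Group G] [Finite G]

/-- `|W₁ ⊔ W₂^y| = |W₁| |W₂|` when `y` centralises `W₁`. -/
theorem card_sup_map_conj {W₁ W₂ : Subgroup G} (hW : IsSelfNormalizingCyclic W₁ W₂) {y : G}
    (hy : ∀ w ∈ W₁, y * w * y⁻¹ = w) :
    Nat.card (W₁ ⊔ W₂.map (MulAut.conj y).toMonoidHom : Subgroup G) =
      Nat.card W₁ * Nat.card W₂ := by
  obtain ⟨-, -, hinf, hcomm, -, -⟩ := hW
  have h1 : W₁.map (MulAut.conj y).toMonoidHom = W₁ := by
    ext z
    constructor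
    · rintro ⟨w, hw, rfl⟩
      show y * w * y⁻¹ ∈ W₁
      rw [hy w hw]; exact hw
    · intro hz
      exact ⟨z, hz, hy z hz⟩
  have h2 : W₁ ⊔ W₂.map (MulAut.conj y).toMonoidHom =
      (W₁ ⊔ W₂).map (MulAut.conj y).toMonoidHom := by
    rw [Subgroup.map_sup, h1]
  rw [h2, Subgroup.card_map_of_injective (MulAut.conj y).injective]
  apply Cfsg.Agent.Lib.Helper54.card_sup_of_le_normalizer _ hinf
  intro b hb
  rw [Subgroup.mem_normalizer_iff]
  intro a
  constructor
  · intro ha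
    have : b * a * b⁻¹ = a := by rw [← hcomm a ha b hb]; group
    show b * a * b⁻¹ ∈ W₁
    rw [this]; exact ha
  · intro ha
    have hc := hcomm (b * a * b⁻¹) ha b hb
    have : a = b * a * b⁻¹ := by
      have e : b * a * b⁻¹ * b = b * (b * a * b⁻¹) := hc
      have e2 : b * a = b * (b * a * b⁻¹) := by rw [← e]; group
      exact mul_left_cancel e2
    show a ∈ W₁
    rw [this]; exact ha

/-- a maximal subgroup of Type II is conjugate to `S` or `T` -/
theorem conj_of_typeII (bg : BookBGData G) {S T W₁ W₂ U V : Subgroup G}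
    (hPair : PairHyp S T W₁ W₂ U V) (hpq : Nat.card W₁ ≠ Nat.card W₂) {M : Subgroup G}
    (hM : IsCoatom M) (hII : IsOfTypeII M) : ∃ g : G, M = conjSub g S ∨ M = conjSub g T := by
  by_contra hcon
  push Not at hcon
  have hI := litTypeI_of_pair bg hPair hpq hM (fun g => (hcon g).1) (fun g => (hcon g).2)
  exact Cfsg.Agent.Lib.Helper26.PFBook.not_isOfTypeP_of_typeF hI.1
    (Cfsg.Agent.Lib.Helper26.PFBook.isOfTypeP_of_typeIItoV (Or.inl hII))

/-- a maximal subgroup containing `N_G(U)` (`S` of Type II) is of Type I -/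
theorem litTypeI_of_NU_le (hG : IsMinSimpleOddOrder G) (bg : BookBGData G) (h1543 : Stmt1543 G)
    {S T W₁ W₂ U V : Subgroup G} (hPair : PairHyp S T W₁ W₂ U V) (hSII : IsOfTypeII S)
    {L : Subgroup G} (hL : IsCoatom L) (hNU : Subgroup.normalizer (U : Set G) ≤ L) :
    LitTypeI L := by
  obtain ⟨hS, hT, hSP, hTP, hST, hII, hS25, hT25⟩ := hPair
  have hsolv : ∀ M : Subgroup G, IsCoatom M → Group.IsSolvable M := fun M hM => hG.2.2.2 M hM.1
  have hST' : T ⊓ S = W₂ ⊔ W₁ := by rw [inf_comm, hST, sup_comm]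
  obtain ⟨hT23, -, hEA, -, hTI, hN⟩ :=
    h1543 T S W₂ W₁ V U hT hS hTP hSP hST' hII.symm hT25 hS25
  obtain ⟨hU, hq, hNUS⟩ := typeII_data (hsolv S hS) hSP hSII
  have hp := card_W₂_prime hTP hT23
  have hpq := card_W₂_ne_card_W₁ hSP hp
  exact litTypeI_of_pair bg ⟨hS, hT, hSP, hTP, hST, hII, hS25, hT25⟩ hpq.symm hL
    (fun g => Cfsg.Agent.Lib.Helper59.PFThirteenM2.not_conj_S hSP (hsolv S hS) hNUS L hNU g)
    (fun g => Cfsg.Agent.Lib.Helper12.PFThirteenM3.not_conj_T hSP hTP hST hU hq hTI hN L hNU g)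

/-- a proper nontrivial subgroup of a simple group has its normaliser in a maximal subgroup -/
theorem exists_coatom_normalizer_le (hsimple : IsSimpleGroup G) {X M : Subgroup G} (hM : IsCoatom M)
    (hXM : X ≤ M) (hX : X ≠ ⊥) :
    ∃ L : Subgroup G, IsCoatom L ∧ Subgroup.normalizer (X : Set G) ≤ L := by
  rcases eq_top_or_exists_le_coatom (Subgroup.normalizer (X : Set G)) with h | ⟨L, hL, hle⟩
  · exfalso
    have hn : X.Normal := Subgroup.normalizer_eq_top_iff.mp h
    rcases hn.eq_bot_or_eq_top with hb | ht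
    · exact hX hb
    · apply hM.1
      rw [eq_top_iff, ← ht]
      exact hXM
  · exact ⟨L, hL, hle⟩

/-- commutativity of an elementary abelian subgroup, elementwise -/
theorem comm_of_elementaryAbelian {r : ℕ} {A : Subgroup G} (h : IsElementaryAbelian r A) :
    ∀ x ∈ A, ∀ y ∈ A, x * y = y * x := by
  intro x hx y hy
  have := h.1.is_comm.comm (⟨x, hx⟩ : A) ⟨y, hy⟩
  exact congrArg Subtype.val this

/-- **The last clause of `Stmt1544Core`**, modulo the inputs listed in the file header. -/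
theorem exists_y_of_b (hG : IsMinSimpleOddOrder G) (bg : BookBGData G)
    (h1543 : Stmt1543 G) (h1549 : Stmt1549 G)
    (h127 : ∀ L : Subgroup G, IsCoatom L → LitTypeI L → IsFrobWithFittingHall L)
    {S T W₁ W₂ U V : Subgroup G} (hPair : PairHyp S T W₁ W₂ U V)
    (hqp : Nat.card W₁ < Nat.card W₂)
    (hUc : IsCyclic U)
    (hUn : Nat.card U * (Nat.card W₂ - 1) = Nat.card W₂ ^ Nat.card W₁ - 1)
    (hUreg : ∀ u ∈ U, u ≠ 1 → ∀ x ∈ fittingHallOf S, u * x = x * u → x = 1)
    (hUq : Nat.card U ≡ 1 [MOD Nat.card W₁])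
    (hVc : IsCyclic V)
    (hVn : Nat.card V * (Nat.card W₁ - 1) = Nat.card W₁ ^ Nat.card W₂ - 1)
    (hVreg : ∀ v ∈ V, v ≠ 1 → ∀ x ∈ fittingHallOf T, v * x = x * v → x = 1)
    (hna : ∀ L : Subgroup G, IsCoatom L → Subgroup.normalizer (U : Set G) ≤ L →
      ¬ (fittingHallOf L ⊓ W₁ = ⊥ ∧ fittingHallOf L ⊔ W₁ = L))
    (hchar : IsOfTypeII T → ∀ L : Subgroup G, IsCoatom L → Subgroup.normalizer (U : Set G) ≤ L →
      ∃ x y : ℤ, ((x = 1 ∧ y = 0) ∨ (x = 0 ∧ y = 1) ∨ (x = 0 ∧ y = 0)) ∧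
        (Even x → Nat.card (fittingHallOf L) - 1 ≤ Nat.card W₂ * (Nat.card U - 1)) ∧
        (Even y → Nat.card (fittingHallOf L) - 1 ≤ Nat.card W₁ * (Nat.card V - 1)))
    (hIII : IsOfTypeIII T → FrobClass (V ⊔ W₂) V ∧
      ∀ L : Subgroup G, IsCoatom L → Subgroup.normalizer (U : Set G) ≤ L →
        ∀ g : G, ∀ k ∈ fittingHallOf L, g * k * g⁻¹ ∈ V → k = 1) :
    ∃ y ∈ fittingHallOf T,
      W₂.map (MulAut.conj y).toMonoidHom ≤ Subgroup.normalizer (U : Set G) := by
  obtain ⟨hS, hT, hSP, hTP, hST, hII, hS25, hT25⟩ := id hPair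
  have hsolv : ∀ M : Subgroup G, IsCoatom M → Group.IsSolvable M := fun M hM => hG.2.2.2 M hM.1
  have hsimple : IsSimpleGroup G := hG.2.1
  have hST' : T ⊓ S = W₂ ⊔ W₁ := by rw [inf_comm, hST, sup_comm]
  obtain ⟨-, hSII', hEAS, -, -, -⟩ := h1543 S T W₁ W₂ U V hS hT hSP hTP hST hII hS25 hT25
  have hSII : IsOfTypeII S := hSII' hqp
  obtain ⟨hT23, -, hEAT, -, -, -⟩ :=
    h1543 T S W₂ W₁ V U hT hS hTP hSP hST' hII.symm hT25 hS25
  obtain ⟨hU1, hq, -⟩ := typeII_data (hsolv S hS) hSP hSII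
  have hp := card_W₂_prime hTP hT23
  have hq3 : 3 ≤ Nat.card W₁ := by
    have hodd : Odd (Nat.card W₁) := Odd.of_dvd_nat hG.1 (Subgroup.card_subgroup_dvd_card W₁)
    have h2 := hq.two_le
    rcases Nat.lt_or_ge (Nat.card W₁) 3 with h | h
    · exfalso
      have : Nat.card W₁ = 2 := by omega
      rw [this] at hodd
      exact absurd hodd (by decide)
    · exact h
  have hUS : U ≤ S := hSP.U_compl.2.1.trans hSP.W₁_compl.1
  have hVT : V ≤ T := hTP.U_compl.2.1.trans hTP.W₁_compl.1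
  obtain ⟨L, hL, hNU⟩ := exists_coatom_normalizer_le hsimple hS hUS hU1
  obtain ⟨hfrobL, hUH, halt⟩ :=
    h1549 S T W₁ W₂ U V hS hT hSP hTP hST hII hS25 hT25 hSII L hL hNU
  rcases halt with ha | ⟨y, hy, hinf, hsup⟩
  · exact absurd ha (hna L hL hNU)
  have hLI := litTypeI_of_NU_le hG bg h1543 hPair hSII hL hNU
  have hpq_ne : Nat.card W₁ ≠ Nat.card W₂ := ne_of_lt hqp
  have habS := comm_of_elementaryAbelian hEAS
  have habT := comm_of_elementaryAbelian hEAT
  have hIIall := hII_of_pair hG hSP hTP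
    (fun M hM h => conj_of_typeII bg hPair hpq_ne hM h) (fun _ => habS) (fun _ => hUreg)
    (fun _ => habT) (fun _ => hVreg)
  have c := frobClass_of_litTypeI hG bg h127 hIIall hL hLI
  have hyW₁ : ∀ w ∈ W₁, y * w * y⁻¹ = w := by
    intro w hw
    have hwT : w ∈ fittingHallOf T := (hTP.W₂_le hw).1
    rw [habT y hy w hwT]; group
  have hWL : W₁ ⊔ W₂.map (MulAut.conj y).toMonoidHom ≤ L := by
    rw [← hsup]; exact le_sup_right
  have he : (fittingHallOf L).relIndex L = Nat.card W₂ * Nat.card W₁ := by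
    rw [c.relIndex_eq_card hWL hinf hsup, card_sup_map_conj hSP.selfNormalizing hyW₁, mul_comm]
  have hcyc : IsCyclic (fittingHallOf L) := by
    rcases hT23 with hTII | hTIII
    · obtain ⟨hV1, -, -⟩ := typeII_data (hsolv T hT) hTP hTII
      obtain ⟨L', hL', hNV⟩ := exists_coatom_normalizer_le hsimple hT hVT hV1
      obtain ⟨hfrobL', hVH', halt'⟩ :=
        h1549 T S W₂ W₁ V U hT hS hTP hSP hST' hII.symm hT25 hS25 hTII L' hL' hNV
      have hLI' := litTypeI_of_NU_le hG bg h1543 hPair.symm hTII hL' hNV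
      have c' := frobClass_of_litTypeI hG bg h127 hIIall hL' hLI'
      have he' : (fittingHallOf L').relIndex L' = Nat.card W₂ ∨
          (fittingHallOf L').relIndex L' = Nat.card W₂ * Nat.card W₁ := by
        rcases halt' with ⟨hinf', hsup'⟩ | ⟨y', hy', hinf', hsup'⟩
        · left
          have hW₂L' : W₂ ≤ L' := by rw [← hsup']; exact le_sup_right
          exact c'.relIndex_eq_card hW₂L' hinf' hsup'
        · right
          have hW' : W₂ ⊔ W₁.map (MulAut.conj y').toMonoidHom ≤ L' := by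
            rw [← hsup']; exact le_sup_right
          have hy'W₂ : ∀ w ∈ W₂, y' * w * y'⁻¹ = w := by
            intro w hw
            have hwS : w ∈ fittingHallOf S := (hSP.W₂_le hw).1
            rw [habS y' hy' w hwS]; group
          rw [c'.relIndex_eq_card hW' hinf' hsup', card_sup_map_conj hTP.selfNormalizing hy'W₂]
      obtain ⟨x, y₁, hxy, hpx, hpy⟩ := hchar hTII L hL hNU
      exact isCyclic_of_typeII hG.1 c c' hp hq hq3 hqp hUH hVH' hUc hVc hUn hVn hUq he he'
        x y₁ hxy hpx hpy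
    · obtain ⟨c', hnf⟩ := hIII hTIII
      have hVW : V ⊓ W₂ = ⊥ := by
        have h1 : ⁅T, T⁆ ⊓ W₂ = ⊥ := hTP.W₁_compl.2.2.1
        rw [eq_bot_iff, ← h1]
        exact inf_le_inf_right _ hTP.U_compl.2.1
      have he' : V.relIndex (V ⊔ W₂) = Nat.card W₂ := c'.relIndex_eq_card le_sup_right hVW rfl
      exact isCyclic_of_small hG.1 c c' (hnf L hL hNU) hp hq hq3 hqp hUH le_rfl hUc hUn hVn hUq
        he he'
  exact exists_conj_le_normalizer c hcyc hUH ⟨y, hy, hinf, hsup⟩

end Cfsg.Agent.Lib.Helper34.PF14End
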