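import Cfsg.Agent.Lib.Helper34.PF14EndFusion
import Cfsg.Agent.Lib.Helper64.PFTwelveX1
import Cfsg.Agent.Lib.Helper74.PFTwelveD

/-!
# PF sec. 14, case (b): a maximal subgroup of Type I is a Frobenius class (module PF14-[END])

* `tiSubset_of_cent` : a nilpotent subgroup `H ≠ 1` containing the full centralisers of its
  non-identity elements is a T.I. subset (same argument as fusion ⇒ conjugate).
* `FrobClass.of_cent` : constructor of `FrobClass L H` from `C_G(h) ≤ H` instead of T.I.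
* `cent_le_of_tame` : in the pair situation, for `L` of (book) Type I, `C_G(a) ≤ L` for `a ∈ L_F#`:
  by the tame clause of B&G Theorem II (`BookBGData.tame`) a counterexample `a` would lie in
  `A(L₂) ∖ A₁(L₂)` for a maximal `L₂` of Type I or II; Type I is Frobenius (`h127` = S1540 in book
  form), and for Type II `A(M) ⊆ A₁(M)` is the semiregularity of `U` on `M_F` (`hII`; this is
  S1547 + PF sec. 13 for `S`, `T` and their conjugates).
* `frobClass_of_litTypeI` : hence `FrobClass L (fittingHallOf L)`.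
-/

set_option autoImplicit false
set_option linter.unusedSectionVars false
set_option linter.style.haveILetI false

namespace Cfsg.Agent.Lib.Helper34.PF14End

open Cfsg Cfsg.Agent.Lib.Helper4.PF

universe u

variable {G : Type u} [Group G] [Finite G]

/-- raw form of fusion ⇒ conjugate -/
theorem map_conj_eq_of_cent {H H' : Subgroup G}
    (hcent : ∀ k ∈ H, k ≠ 1 → Subgroup.centralizer ({k} : Set G) ≤ H)
    (hcent' : ∀ k ∈ H', k ≠ 1 → Subgroup.centralizer ({k} : Set G) ≤ H')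
    (hcH : ∃ z ∈ H, z ≠ 1 ∧ ∀ h ∈ H, h * z = z * h)
    (hcH' : ∃ z ∈ H', z ≠ 1 ∧ ∀ h ∈ H', h * z = z * h)
    {g k : G} (hk : k ∈ H) (hk1 : k ≠ 1) (hgk : g * k * g⁻¹ ∈ H') :
    H.map (MulAut.conj g).toMonoidHom = H' := by
  have cent_conj : ∀ k ∈ H, k ≠ 1 →
      Subgroup.centralizer ({g * k * g⁻¹} : Set G) ≤ H.map (MulAut.conj g).toMonoidHom := by
    intro k hk hk1 x hx
    have hx' := Subgroup.mem_centralizer_singleton_iff.mp hx
    have h1 : g⁻¹ * x * g ∈ Subgroup.centralizer ({k} : Set G) := by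
      rw [Subgroup.mem_centralizer_singleton_iff]
      have e1 : g⁻¹ * x * g * k = g⁻¹ * (x * (g * k * g⁻¹)) * g := by group
      have e2 : k * (g⁻¹ * x * g) = g⁻¹ * ((g * k * g⁻¹) * x) * g := by group
      rw [e1, e2, hx']
    have h2 := hcent k hk hk1 h1
    refine ⟨g⁻¹ * x * g, h2, ?_⟩
    show g * (g⁻¹ * x * g) * g⁻¹ = x
    group
  have hk1' : g * k * g⁻¹ ≠ 1 := by
    intro h
    apply hk1
    have : k = g⁻¹ * (g * k * g⁻¹) * g := by group
    rw [this, h]; group
  obtain ⟨z, hz, hz1, hzc⟩ := hcH'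
  have hzH : z ∈ H.map (MulAut.conj g).toMonoidHom := by
    apply cent_conj k hk hk1
    rw [Subgroup.mem_centralizer_singleton_iff]
    exact (hzc _ hgk).symm
  obtain ⟨z₀, hz₀, hz₀z⟩ := hzH
  have hz₀z' : g * z₀ * g⁻¹ = z := hz₀z
  have hz₀1 : z₀ ≠ 1 := by
    rintro rfl
    apply hz1
    rw [← hz₀z']; group
  have hle : H' ≤ H.map (MulAut.conj g).toMonoidHom := by
    intro x hx
    apply cent_conj z₀ hz₀ hz₀1
    rw [Subgroup.mem_centralizer_singleton_iff, hz₀z']
    exact hzc x hx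
  obtain ⟨w, hw, hw1, hwc⟩ := hcH
  have hw' : g * w * g⁻¹ ∈ H' := by
    apply hcent' _ hgk hk1'
    rw [Subgroup.mem_centralizer_singleton_iff]
    have := hwc k hk
    have e1 : g * k * g⁻¹ * (g * w * g⁻¹) = g * (k * w) * g⁻¹ := by group
    have e2 : g * w * g⁻¹ * (g * k * g⁻¹) = g * (w * k) * g⁻¹ := by group
    rw [e1, e2, this]
  have hw1' : g * w * g⁻¹ ≠ 1 := by
    intro h
    apply hw1
    have : w = g⁻¹ * (g * w * g⁻¹) * g := by group
    rw [this, h]; group
  have hge : H.map (MulAut.conj g).toMonoidHom ≤ H' := by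
    rintro x ⟨h, hh, rfl⟩
    show g * h * g⁻¹ ∈ H'
    apply hcent' _ hw' hw1'
    rw [Subgroup.mem_centralizer_singleton_iff]
    have := hwc h hh
    have e1 : g * h * g⁻¹ * (g * w * g⁻¹) = g * (h * w) * g⁻¹ := by group
    have e2 : g * w * g⁻¹ * (g * h * g⁻¹) = g * (w * h) * g⁻¹ := by group
    rw [e1, e2, this]
  exact le_antisymm hge hle

/-- a nontrivial central element of a nilpotent subgroup -/
theorem exists_central_of_nilpotent {H : Subgroup G} (hnil : Group.IsNilpotent H) (hne : H ≠ ⊥) :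
    ∃ z ∈ H, z ≠ 1 ∧ ∀ h ∈ H, h * z = z * h := by
  haveI := hnil
  haveI : Nontrivial H := (Subgroup.nontrivial_iff_ne_bot H).mpr hne
  have hZ : Subgroup.center H ≠ ⊥ := Group.IsNilpotent.center_ne_bot ↥H
  obtain ⟨a, ha⟩ := (Subgroup.ne_bot_iff_exists_ne_one).mp hZ
  refine ⟨((a : H) : G), (a : H).2, fun h => ha (Subtype.ext (Subtype.ext h)), ?_⟩
  intro h hh
  have := Subgroup.mem_center_iff.mp a.2 ⟨h, hh⟩
  exact congrArg Subtype.val this

/-- a nilpotent subgroup containing the centralisers of its non-identity elements is T.I. -/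
theorem tiSubset_of_cent {H : Subgroup G} (hnil : Group.IsNilpotent H) (hne : H ≠ ⊥)
    (hcent : ∀ k ∈ H, k ≠ 1 → Subgroup.centralizer ({k} : Set G) ≤ H) :
    IsTISubset (H : Set G) := by
  intro g hg x hx hgx
  by_contra hx1
  apply hg
  have hz := exists_central_of_nilpotent hnil hne
  have h := map_conj_eq_of_cent hcent hcent hz hz hx hx1 hgx
  rw [Subgroup.mem_normalizer_iff]
  intro y
  constructor
  · intro hy
    have : g * y * g⁻¹ ∈ H.map (MulAut.conj g).toMonoidHom := ⟨y, hy, rfl⟩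
    rw [h] at this
    exact this
  · intro hy
    have hy' : g * y * g⁻¹ ∈ H.map (MulAut.conj g).toMonoidHom := by rw [h]; exact hy
    obtain ⟨y', hy'H, hy'e⟩ := hy'
    have e : g * y' * g⁻¹ = g * y * g⁻¹ := hy'e
    have : y' = y := by
      have h1 : y' = g⁻¹ * (g * y' * g⁻¹) * g := by group
      rw [h1, e]; group
    rw [← this]
    exact hy'H

/-- constructor of a Frobenius class from `C_G(h) ≤ H` -/
theorem FrobClass.of_cent {L H : Subgroup G} (hlt : H < L) (hne : H ≠ ⊥)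
    (hnormal : ∀ x ∈ L, ∀ h ∈ H, x * h * x⁻¹ ∈ H)
    (hcent : ∀ k ∈ H, k ≠ 1 → Subgroup.centralizer ({k} : Set G) ≤ H)
    (hnor : Subgroup.normalizer (H : Set G) = L) : FrobClass L H := by
  have hfrob : ∀ h ∈ H, h ≠ 1 → L ⊓ Subgroup.centralizer ({h} : Set G) ≤ H :=
    fun h hh hh1 => inf_le_right.trans (hcent h hh hh1)
  have hnil := (Cfsg.Agent.Lib.Helper52.frobenius_kernel_setup H L hlt hne hnormal hfrob).1
  exact ⟨hlt, hne, hnormal, hfrob, tiSubset_of_cent hnil hne hcent, hnor⟩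

/-- **Tame clause**: in the pair situation `C_G(a) ≤ L` for `a ∈ L_F#`, `L` of Type I. -/
theorem cent_le_of_tame (bg : BookBGData G)
    (h127 : ∀ L : Subgroup G, IsCoatom L → LitTypeI L → IsFrobWithFittingHall L)
    (hII : ∀ M : Subgroup G, IsCoatom M → IsOfTypeII M → litA M ⊆ typeA1 M)
    {L : Subgroup G} (hL : IsCoatom L) (hI : LitTypeI L) {a : G} (ha : a ∈ fittingHallOf L)
    (ha1 : a ≠ 1) : Subgroup.centralizer ({a} : Set G) ≤ L := by
  by_contra hnM
  have hFL : IsOfTypeF ↥L := hI.1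
  have haA : a ∈ litA L := by
    rw [Cfsg.Agent.Lib.Helper64.PF12.litA_eq_of_typeF hFL]
    exact ⟨Cfsg.Agent.Lib.Helper26.PFEight.fittingHallOf_le L ha, ha1, a, ha, ha1, rfl⟩
  have ht := bg.tame L hL (litA L) (Or.inl rfl)
  obtain ⟨-, L₂, ⟨hL₂, hCL₂⟩, -⟩ := ht.2.1 a haA hnM
  obtain ⟨-, -, -, -, ⟨haL, hnL⟩, hty, -⟩ := ht.2.2 a haA hnM L₂ hL₂ hCL₂
  rcases hty with hI₂ | hII₂
  · exact hnL (Cfsg.Agent.Lib.Helper64.PF12.litA_subset_typeA1_of_frob hI₂.1 (h127 L₂ hL₂ hI₂) haL)
  · exact hnL (hII L₂ hL₂ hII₂ haL)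

/-- **A maximal subgroup of (book) Type I is a Frobenius class** (pair situation). -/
theorem frobClass_of_litTypeI (hG : IsMinSimpleOddOrder G) (bg : BookBGData G)
    (h127 : ∀ L : Subgroup G, IsCoatom L → LitTypeI L → IsFrobWithFittingHall L)
    (hII : ∀ M : Subgroup G, IsCoatom M → IsOfTypeII M → litA M ⊆ typeA1 M)
    {L : Subgroup G} (hL : IsCoatom L) (hI : LitTypeI L) : FrobClass L (fittingHallOf L) := by
  classical
  haveI : Fintype G := Fintype.ofFinite G
  haveI : Fintype L := Fintype.ofFinite L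
  have hF : IsOfTypeF ↥L := hI.1
  have hlt : fittingHallOf L < L := by
    obtain ⟨-, -, -, hFtop, -⟩ := hF
    refine lt_of_le_of_ne (Subgroup.map_subtype_le _) ?_
    intro h
    apply hFtop
    rw [eq_top_iff]
    intro x _
    have hx : (x : G) ∈ fittingHallOf L := by rw [h]; exact x.2
    obtain ⟨y, hy, hyx⟩ := hx
    have : y = x := Subtype.ext hyx
    rwa [← this]
  have hK1 : fittingHall L ≠ ⊥ := hF.2.2.1
  have hne : fittingHallOf L ≠ ⊥ := by
    intro h
    apply hK1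
    unfold fittingHallOf at h
    exact (Subgroup.map_eq_bot_iff_of_injective _ L.subtype_injective).mp h
  have hfrob := h127 L hL hI
  refine FrobClass.of_cent hlt hne
    (fun x hx h hh => Cfsg.Agent.Lib.Helper26.PFEight.conj_mem_fittingHallOf L hx hh) ?_
    (Cfsg.Agent.Lib.Helper74.PF12.normalizer_fittingHallOf L hG.2.1 hL hK1)
  intro k hk hk1 x hx
  have hxL : x ∈ L := cent_le_of_tame bg h127 hII hL hI hk hk1 hx
  exact hfrob k hk hk1 (Subgroup.mem_inf.mpr ⟨hxL, hx⟩)

end Cfsg.Agent.Lib.Helper34.PF14End
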