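import Cfsg.Agent.Lib.Helper34.PF14EndTypeI
import Cfsg.Agent.Lib.Helper26.PFEightC
import Cfsg.Agent.Lib.Helper95.TypeConj

/-!
# PF sec. 14, case (b): `A(M) ⊆ A₁(M)` for `M` of Type II with `U` semiregular on `M_F`

This is the hypothesis `hII` of `frobClass_of_litTypeI` for one maximal subgroup `M` of Type II with
type-P data `(W₁, U, W₂)`: if `M_F` is abelian and no non-identity element of `U` commutes with a
non-identity element of `M_F` (PF sec. 13: `U` acts regularly), then every non-identity element of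
`M' = M_F U` commuting with a non-identity element of `M_F` lies in `M_F`.
-/

set_option autoImplicit false
set_option linter.unusedSectionVars false

namespace Cfsg.Agent.Lib.Helper34.PF14End

open Cfsg Cfsg.Agent.Lib.Helper4.PF

universe u

variable {G : Type u} [Group G] [Finite G]

theorem litA_subset_typeA1_of_semiregular {M W₁ U W₂ : Subgroup G}
    (hP : IsTypePWith M W₁ U W₂) (hII : IsOfTypeII M) (hsolv : Group.IsSolvable ↥⁅M, M⁆)
    (hab : ∀ x ∈ fittingHallOf M, ∀ y ∈ fittingHallOf M, x * y = y * x)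
    (hreg : ∀ u ∈ U, u ≠ 1 → ∀ x ∈ fittingHallOf M, u * x = x * u → x = 1) :
    litA M ⊆ typeA1 M := by
  intro a ha
  have hPM : IsOfTypeP M := ⟨W₁, U, W₂, hP⟩
  unfold litA at ha
  rw [if_pos hPM] at ha
  obtain ⟨haM', ha1, x, hx, hx1, hax⟩ := ha
  have hcore := Cfsg.Agent.Lib.Helper26.PFEight.typeCore_eq_of_typeII hsolv hII
  rw [hcore] at hx
  unfold typeA1
  rw [hcore]
  refine ⟨?_, by simpa using ha1⟩
  obtain ⟨-, -, -, hdec⟩ := hP.U_compl
  obtain ⟨h, hh, u, hu, rfl⟩ := hdec a haM'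
  by_cases hu1 : u = 1
  · rw [hu1, mul_one]
    exact hh
  · exfalso
    apply hx1
    apply hreg u hu hu1 x hx
    have e1 : h * u * x = h * x * u := by
      rw [hax, ← mul_assoc, hab x hx h hh]
    have e2 : h * (u * x) = h * (x * u) := by
      rw [← mul_assoc, ← mul_assoc]; exact e1
    exact mul_left_cancel e2

/-- the same for a conjugate of `M`, with the data of `M` -/
theorem litA_subset_typeA1_conj {M W₁ U W₂ : Subgroup G} (hP : IsTypePWith M W₁ U W₂) (g : G)
    (hII : IsOfTypeII (conjSub g M)) (hsolv : Group.IsSolvable ↥⁅conjSub g M, conjSub g M⁆)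
    (hab : ∀ x ∈ fittingHallOf M, ∀ y ∈ fittingHallOf M, x * y = y * x)
    (hreg : ∀ u ∈ U, u ≠ 1 → ∀ x ∈ fittingHallOf M, u * x = x * u → x = 1) :
    litA (conjSub g M) ⊆ typeA1 (conjSub g M) := by
  have hP' := Cfsg.Agent.Lib.Helper54.TypePTransport.IsTypePWith.map (MulAut.conj g) hP
  have hF := Cfsg.Agent.Lib.Helper34.TildeEquiv.fittingHallOf_map (MulAut.conj g) M
  apply litA_subset_typeA1_of_semiregular hP' hII hsolv
  · intro x hx y hy
    rw [hF] at hx hy
    obtain ⟨x₀, hx₀, rfl⟩ := hx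
    obtain ⟨y₀, hy₀, rfl⟩ := hy
    show (MulAut.conj g) x₀ * (MulAut.conj g) y₀ = (MulAut.conj g) y₀ * (MulAut.conj g) x₀
    rw [← map_mul, ← map_mul, hab x₀ hx₀ y₀ hy₀]
  · rintro _ ⟨u, hu, rfl⟩ hu1 x hx hc
    rw [hF] at hx
    obtain ⟨x₀, hx₀, rfl⟩ := hx
    have hu1' : u ≠ 1 := by
      rintro rfl
      exact hu1 (map_one _)
    have hc' : (MulAut.conj g) (u * x₀) = (MulAut.conj g) (x₀ * u) := by
      rw [map_mul, map_mul]; exact hc
    have := hreg u hu hu1' x₀ hx₀ ((MulAut.conj g).injective hc')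
    show (MulAut.conj g) x₀ = 1
    rw [this, map_one]

/-- **`hII` for all maximal subgroups of Type II**, from the semiregularity on the two sides of the
pair: every maximal subgroup of Type II is conjugate to `S` or `T`. -/
theorem hII_of_pair (hG : IsMinSimpleOddOrder G) {S T W₁ W₂ U V : Subgroup G}
    (hSP : IsTypePWith S W₁ U W₂) (hTP : IsTypePWith T W₂ V W₁)
    (hall : ∀ M : Subgroup G, IsCoatom M → IsOfTypeII M →
      ∃ g : G, M = conjSub g S ∨ M = conjSub g T)
    (habS : IsOfTypeII S → ∀ x ∈ fittingHallOf S, ∀ y ∈ fittingHallOf S, x * y = y * x)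
    (hregS : IsOfTypeII S → ∀ u ∈ U, u ≠ 1 → ∀ x ∈ fittingHallOf S, u * x = x * u → x = 1)
    (habT : IsOfTypeII T → ∀ x ∈ fittingHallOf T, ∀ y ∈ fittingHallOf T, x * y = y * x)
    (hregT : IsOfTypeII T → ∀ u ∈ V, u ≠ 1 → ∀ x ∈ fittingHallOf T, u * x = x * u → x = 1) :
    ∀ M : Subgroup G, IsCoatom M → IsOfTypeII M → litA M ⊆ typeA1 M := by
  intro M hM hII
  have hsolv : Group.IsSolvable ↥⁅M, M⁆ :=
    Cfsg.Agent.Lib.Helper26.PFBook.isSolvable_of_isCoatom hG hM (Subgroup.commutator_le_self M)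
  have back : ∀ (X : Subgroup G) (g : G), IsOfTypeII (conjSub g X) → IsOfTypeII X := by
    intro X g h
    have h2 := Cfsg.Agent.Lib.Helper95.TypeConj.isOfTypeII_map (MulAut.conj g⁻¹) h
    have e : (conjSub g X).map (MulAut.conj g⁻¹).toMonoidHom = X := by
      ext z
      constructor
      · rintro ⟨_, ⟨w, hw, rfl⟩, rfl⟩
        show g⁻¹ * (g * w * g⁻¹) * g⁻¹⁻¹ ∈ X
        have : g⁻¹ * (g * w * g⁻¹) * g⁻¹⁻¹ = w := by group
        rw [this]; exact hw
      · intro hz
        refine ⟨g * z * g⁻¹, ⟨z, hz, rfl⟩, ?_⟩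
        show g⁻¹ * (g * z * g⁻¹) * g⁻¹⁻¹ = z
        group
    rwa [e] at h2
  obtain ⟨g, rfl | rfl⟩ := hall M hM hII
  · have hS := back S g hII
    exact litA_subset_typeA1_conj hSP g hII hsolv (habS hS) (hregS hS)
  · have hT := back T g hII
    exact litA_subset_typeA1_conj hTP g hII hsolv (habT hT) (hregT hT)

end Cfsg.Agent.Lib.Helper34.PF14End
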