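import Mathlib
import Cfsg.Agent.Lib.Helper52.PF14XiConst
import Cfsg.Agent.Lib.Helper52.PF14XiVal
import Cfsg.Agent.Lib.Helper4.PFTenAbs

/-!
# PF sec. 14, case (a): the bridge Bessel inequality on a Frobenius class (module PF14-[HNA], part 2)

For a Frobenius class `(L, H)` (helper34 `FrobClass L H`) and a finite orthonormal family `e a` of
class functions of `G`, each constant `= x a ∈ ℤ` on `H#`:

  `∑ a, (x a)² ≤ |L : H| + 1`.

This is Bessel's inequality for the bridge `A = Ind_L^G (ρ - φ)` (`ρ = Ind_H^L 1`, `φ` induced from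
a nontrivial linear character of `H`): `‖A‖² = |L:H| + 1`, `⟨A, e a⟩ = x a` (helper52's `Carrier`).
Corollary: if the family has more than `|L:H| + 1` members, some `x a` vanishes.
-/

set_option autoImplicit false
set_option linter.unusedSectionVars false
set_option linter.style.haveILetI false

namespace Cfsg.Agent.Lib.Helper34.PF14End

open Cfsg Cfsg.Agent.Lib.Helper52.PF14Xi
open scoped ComplexConjugate

universe u

variable {G : Type u} [Group G] [Fintype G]

/-- **bridge Bessel on a Frobenius class** -/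
theorem FrobClass.bridge_bessel (hodd : Odd (Nat.card G)) {L H : Subgroup G} (cl : FrobClass L H)
    {α : Type*} [Fintype α] [DecidableEq α] (e : α → G → ℂ)
    (hcf : ∀ a, IsClassFunction G (e a))
    (he : ∀ a b, classInner (e a) (e b) = if a = b then 1 else 0)
    (x : α → ℤ) (hx : ∀ a, ∀ k ∈ H, k ≠ 1 → e a k = (x a : ℂ)) :
    ∑ a, (x a) ^ 2 ≤ (H.relIndex L : ℤ) + 1 := by
  classical
  letI : Fintype L := Fintype.ofFinite L
  obtain ⟨τ₁, φ, C⟩ := Carrier.exists_of_frobClass hodd cl
  have hin : ∀ a, classInner (AA L (H.subgroupOf L) φ) (e a) = (x a : ℂ) := by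
    intro a
    have h1 := C.A_inner_const hodd (hcf a) (x a : ℂ) (by
      intro k hk
      have hkH : (k : G) ∈ H := Subgroup.mem_subgroupOf.mp hk.1
      have hk1 : (k : G) ≠ 1 := by
        intro h
        apply hk.2
        rw [Subgroup.mem_bot]
        exact Subtype.ext h
      exact hx a (k : G) hkH hk1)
    rw [h1, map_intCast]
  have hb := Cfsg.Agent.Lib.Helper4.PFTen.bessel e he (AA L (H.subgroupOf L) φ)
  rw [C.A_norm] at hb
  have h2 : ((((H.subgroupOf L).index : ℂ) + 1).re) = ((H.relIndex L : ℝ) + 1) := by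
    simp [Subgroup.relIndex]
  rw [h2] at hb
  have h3 : ∑ a, ‖classInner (AA L (H.subgroupOf L) φ) (e a)‖ ^ 2 =
      ((∑ a, (x a) ^ 2 : ℤ) : ℝ) := by
    push_cast
    apply Finset.sum_congr rfl
    intro a _
    rw [hin a, Complex.norm_intCast, sq_abs]
  rw [h3] at hb
  exact_mod_cast hb

/-- Corollary: a family with more than `|L:H| + 1` members contains a member vanishing on `H#`. -/
theorem FrobClass.exists_zero_of_bridge (hodd : Odd (Nat.card G)) {L H : Subgroup G}
    (cl : FrobClass L H)
    {α : Type*} [Fintype α] [DecidableEq α] (e : α → G → ℂ)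
    (hcf : ∀ a, IsClassFunction G (e a))
    (he : ∀ a b, classInner (e a) (e b) = if a = b then 1 else 0)
    (x : α → ℤ) (hx : ∀ a, ∀ k ∈ H, k ≠ 1 → e a k = (x a : ℂ))
    (hcard : H.relIndex L + 1 < Fintype.card α) : ∃ a, x a = 0 := by
  classical
  by_contra hne
  have hne : ∀ a, x a ≠ 0 := fun a h => hne ⟨a, h⟩
  have h1 := cl.bridge_bessel hodd e hcf he x hx
  have h2 : (Fintype.card α : ℤ) ≤ ∑ a, (x a) ^ 2 := by
    have : ∑ _a : α, (1 : ℤ) ≤ ∑ a, (x a) ^ 2 := by
      apply Finset.sum_le_sum
      intro a _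
      have := hne a
      have h3 : 0 < (x a) ^ 2 := by positivity
      omega
    simpa using this
  have h3 : (Fintype.card α : ℤ) ≤ (H.relIndex L : ℤ) + 1 := h2.trans h1
  have h4 : ((H.relIndex L + 1 : ℕ) : ℤ) < (Fintype.card α : ℤ) := by exact_mod_cast hcard
  push_cast at h4
  omega

end Cfsg.Agent.Lib.Helper34.PF14End
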