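import Cfsg.Agent.Lib.Helper34.PF14HnaGlue
import Cfsg.Agent.Lib.Helper34.PF14HnaBessel
import Cfsg.Agent.Lib.Helper52.PF14HCharFinal
import Cfsg.Agent.Lib.Helper23.PFCycTau1MuA
import Cfsg.Agent.Lib.Helper26.PFBookC

/-!
# PF sec. 14, case (a) excluded: the character-theoretic input (module PF14-[HNA], part 3)

`hna_of`: the input `hna` of helper26's `stmt1544Core_of_sec14_final` /
`odd_order_of_sec14_final`, from `IsMinSimpleOddOrder G`, `Stmt1543`, `Stmt1547`, `h127`.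

Steps, for a Frobenius class `(L, H)` with `|L : H| = q = |W₁|`:

* `FrobClass.coprime_of_centralized` : `|H|` is prime to `p = |W₂|` (a Sylow argument: a subgroup
  of order `p` of `H` would pull a conjugate of `W₂`, then of `W₁ ≤ C(W₂)`, into `H`);
* `hpx_of_side_gen`, `hpx_of_pside_gen` : helper10's parity bound for any index:
  `|H| - 1 ≤ |L : H| N`, `N q + 1 = |U|`, when `η ψ` takes an even value on `H#`;
* `hparA_of_pside` : the `p` characters `η_{0j}` are constant integers on `H#`; bridge Bessel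
  (`FrobClass.exists_zero_of_bridge`, `p > q + 1`) gives `j ≠ 0` with `η_{0j} = 0` on `H#`; the
  parity bound then says `|H| - 1 ≤ q N = |U| - 1`;
* `hparA_of`, `hna_of` : assembly with `exists_pside`, `litA_typeII`, `hna_of_par`.
-/

set_option autoImplicit false
set_option linter.unusedSectionVars false
set_option linter.unusedVariables false
set_option linter.style.haveILetI false

namespace Cfsg.Agent.Lib.Helper34.PF14End

open Cfsg Cfsg.Agent.Lib.Helper24.PFCyc Cfsg.Agent.Lib.Helper4.PF Cfsg.Agent.Lib.Helper16.PF13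
open Cfsg.Agent.Lib.Helper10.PF14 Cfsg.Agent.Lib.Helper26.PF14Core
open Cfsg.Agent.Lib.Helper52.PF14HChar

universe u

section Coprime

variable {G : Type u} [Group G]

/-- a subgroup `W₂` of prime order centralised by `W₁ ≠ 1` with `|W₁|` prime to `|H|`:
`|W₂|` is prime to `|H|` -/
theorem FrobClass.coprime_of_centralized [Finite G] {L H : Subgroup G} (c : FrobClass L H)
    {W₁ W₂ : Subgroup G}
    (hp : (Nat.card W₂).Prime) (hW₁ : W₁ ≠ ⊥) (hcomm : ∀ a ∈ W₁, ∀ b ∈ W₂, a * b = b * a)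
    (hcop : (Nat.card H).Coprime (Nat.card W₁)) : (Nat.card H).Coprime (Nat.card W₂) := by
  classical
  set p := Nat.card W₂ with hpdef
  haveI : Fact p.Prime := ⟨hp⟩
  rw [Nat.coprime_comm, Nat.Prime.coprime_iff_not_dvd hp]
  intro hdvd
  -- an element of order `p` in `H`
  obtain ⟨x, hx⟩ := exists_prime_orderOf_dvd_card' p hdvd
  have hx1 : (x : G) ≠ 1 := by
    intro h
    have h2 : x = 1 := Subtype.ext h
    rw [h2, orderOf_one] at hx
    exact hp.one_lt.ne hx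
  have hxo : orderOf (x : G) = p := by rw [Subgroup.orderOf_coe, hx]
  -- Sylow subgroups
  have hW₂p : IsPGroup p W₂ := IsPGroup.of_card (n := 1) (by rw [pow_one])
  obtain ⟨R, hR⟩ := hW₂p.exists_le_sylow
  have hxp : IsPGroup p (Subgroup.zpowers (x : G)) := by
    apply IsPGroup.of_card (n := 1)
    rw [Nat.card_zpowers, hxo, pow_one]
  obtain ⟨R₁, hR₁⟩ := hxp.exists_le_sylow
  obtain ⟨g, hg⟩ := MulAction.exists_smul_eq G R R₁
  have hconj : ∀ r ∈ (R : Subgroup G), g * r * g⁻¹ ∈ (R₁ : Subgroup G) := by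
    intro r hr
    rw [← hg, Sylow.coe_subgroup_smul]
    have := Subgroup.smul_mem_pointwise_smul r (MulAut.conj g) (R : Subgroup G) hr
    rwa [MulAut.smul_def, MulAut.conj_apply] at this
  -- a central element of `R₁`
  have hxR₁ : (x : G) ∈ (R₁ : Subgroup G) := hR₁ (Subgroup.mem_zpowers _)
  haveI : Nontrivial (R₁ : Subgroup G) :=
    ⟨⟨⟨(x : G), hxR₁⟩, 1, fun h => hx1 (congrArg Subtype.val h)⟩⟩
  haveI := R₁.isPGroup'.center_nontrivial
  obtain ⟨z, hz⟩ := exists_ne (1 : Subgroup.center (R₁ : Subgroup G))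
  have hz1 : ((z : (R₁ : Subgroup G)) : G) ≠ 1 := by
    intro h
    apply hz
    apply Subtype.ext
    exact Subtype.ext h
  have hzc : ∀ r ∈ (R₁ : Subgroup G), r * ((z : (R₁ : Subgroup G)) : G) =
      ((z : (R₁ : Subgroup G)) : G) * r := by
    intro r hr
    have := Subgroup.mem_center_iff.1 z.2 ⟨r, hr⟩
    exact congrArg Subtype.val this
  -- `z ∈ H`
  have hzH : ((z : (R₁ : Subgroup G)) : G) ∈ H := by
    apply c.cent (x : G) x.2 hx1
    rw [Subgroup.mem_centralizer_singleton_iff]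
    exact (hzc (x : G) hxR₁).symm
  -- `R₁ ≤ H`
  have hR₁H : (R₁ : Subgroup G) ≤ H := by
    intro r hr
    apply c.cent _ hzH hz1
    rw [Subgroup.mem_centralizer_singleton_iff]
    exact hzc r hr
  -- a nontrivial element of `W₂`
  have hW₂ne : W₂ ≠ ⊥ := by
    intro h
    rw [hpdef, h, Subgroup.card_bot] at hp
    exact Nat.not_prime_one hp
  obtain ⟨w', hw'⟩ := Subgroup.ne_bot_iff_exists_ne_one.mp hW₂ne
  obtain ⟨w, hw, hw1⟩ : ∃ w : G, w ∈ W₂ ∧ w ≠ 1 :=
    ⟨(w' : G), w'.2, fun h => hw' (Subtype.ext h)⟩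
  have hw'H : g * w * g⁻¹ ∈ H := hR₁H (hconj w (hR hw))
  have hw'1 : g * w * g⁻¹ ≠ 1 := by
    intro h
    apply hw1
    have : w = g⁻¹ * (g * w * g⁻¹) * g := by group
    rw [this, h]; group
  -- `W₁^g ≤ H`
  have hW₁H : W₁.map (MulAut.conj g).toMonoidHom ≤ H := by
    rintro _ ⟨a, ha, rfl⟩
    apply c.cent _ hw'H hw'1
    rw [Subgroup.mem_centralizer_singleton_iff]
    show (MulAut.conj g) a * (g * w * g⁻¹) = g * w * g⁻¹ * (MulAut.conj g) a
    rw [MulAut.conj_apply]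
    have := hcomm a ha w hw
    calc g * a * g⁻¹ * (g * w * g⁻¹) = g * (a * w) * g⁻¹ := by group
      _ = g * (w * a) * g⁻¹ := by rw [this]
      _ = g * w * g⁻¹ * (g * a * g⁻¹) := by group
  have hcard : Nat.card (W₁.map (MulAut.conj g).toMonoidHom) = Nat.card W₁ :=
    Subgroup.card_map_of_injective (MulAut.conj g).injective
  have hdvd2 : Nat.card W₁ ∣ Nat.card H := by
    rw [← hcard]
    exact Subgroup.card_dvd_of_le hW₁H
  have h1 : Nat.card W₁ = 1 := Nat.Coprime.eq_one_of_dvd hcop.symm hdvd2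
  exact hW₁ (Subgroup.card_eq_one.mp h1)

end Coprime

variable {G : Type u} [Group G] [Fintype G]

variable {S W₁ U W₂ : Subgroup G} [Fintype S]
  {mu : WChar W₁ W₂ → (↥S → ℂ)} {dl : WChar W₁ W₂ → ℂ} {η : WChar W₁ W₂ → (G → ℂ)}

open Classical in
/-- **the parity bound of one side** on a Frobenius class `(L, H)` of any index whose kernel
consists of elements of order prime to `p q` (helper10's `hpx_of_side` without `|L : H| = p q`). -/
theorem hpx_of_side_gen (h : PSide S W₁ U W₂ mu dl η)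
    (hA : ∀ a ∈ litA S, a ∈ fittingHallOf S)
    {L H : Subgroup G} (cl : FrobClass L H)
    (hcop : ∀ k ∈ H, (orderOf k).Coprime (Nat.card W₂ * Nat.card W₁))
    (ψ : WChar W₁ W₂) (hψ : TrivOn W₁ ψ) (hψ1 : ψ ≠ 1)
    (N : ℕ)
    (hN : classInner (betaS S mu ψ) (betaS S mu ψ) = (N : ℂ) + 2)
    (hX : IsGeneralizedCharacter G (XbetaS S mu ψ) ∧
      classInner (XbetaS S mu ψ) (XbetaS S mu ψ) = classInner (betaS S mu ψ) (betaS S mu ψ) ∧
      classInner (XbetaS S mu ψ) (fun _ => (1 : ℂ)) = 1 ∧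
      (∀ g : G, (∀ x : G, x * g * x⁻¹ ∉ litA0 S) → XbetaS S mu ψ g = 0) ∧
      (∀ g : G, ((XbetaS S mu ψ + η ψ) g).im = 0) ∧
      (∀ φ ψ' : WChar W₁ W₂, TrivOn W₂ φ → TrivOn W₁ ψ' → φ ≠ 1 → ψ' ≠ 1 →
        classInner (XbetaS S mu ψ) (η (φ * ψ')) = classInner (XbetaS S mu ψ) (η φ) +
          classInner (XbetaS S mu ψ) (η ψ') + (if ψ' = ψ then 1 else 0)))
    (k₀ : G) (hk₀ : k₀ ∈ H) (hk₀1 : k₀ ≠ 1) (x : ℤ) (hx : η ψ k₀ = (x : ℂ)) (hxe : Even x) :
    Nat.card H - 1 ≤ H.relIndex L * N := by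
  obtain ⟨hXgen, hXnorm, hX1, hXsupp, hXreal, hXrect⟩ := hX
  have hW := h.hP.selfNormalizing
  obtain ⟨φ, hφ, hφ1⟩ := exists_phi' hW h.hq
  have hsirr : ∀ ω, Cfsg.Agent.Lib.Helper25.SIrr G (η ω) := fun ω => h.hη.irr_or_neg ω
  have hint : ∀ ω : WChar W₁ W₂, ∀ k ∈ H, k ≠ 1 → ∃ n : ℤ, η ω k = (n : ℂ) :=
    fun ω k hk _ => eta_int_on hW h.hodd h.hη ω k (hcop k hk)
  have hdisj : ∀ k ∈ H, k ≠ 1 → ∀ y : G, y * k * y⁻¹ ∉ litA0 S := by
    intro k hk hk1 y hy
    have h1 := dvd_orderOf_of_mem_litA0 h.hp h.hPexp (fun a ha => ⟨hA a ha, (h.hA_sub a ha).2⟩)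
      _ hy
    have hord : orderOf (y * k * y⁻¹) = orderOf k :=
      orderOf_injective (MulAut.conj y).toMonoidHom (MulAut.conj y).injective k
    rw [hord] at h1
    have h2 := hcop k hk
    have h3 : (orderOf k).Coprime (Nat.card W₂) := Nat.Coprime.coprime_mul_right_right h2
    have h4 : Nat.card W₂ = 1 := Nat.Coprime.eq_one_of_dvd h3.symm h1
    exact h.hp.one_lt.ne' h4
  have hone : η 1 = fun _ => (1 : ℂ) := h.hη.map_one
  have hne1 : ∀ ω : WChar W₁ W₂, ω ≠ 1 → classInner (η ω) (fun _ : G => (1 : ℂ)) = 0 := by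
    intro ω hω
    rw [← hone, h.hη.orthonormal ω 1, if_neg hω]
  have hφψ1 : φ * ψ ≠ 1 := mul_ne_of_trivOn' (ψ' := 1) hφ hψ (trivOn_one W₁) hφ1
  have hφψφ : φ * ψ ≠ φ := by
    intro hc
    apply hψ1
    ext w
    have h2 := congrArg (fun f : WChar W₁ W₂ => f w) hc
    simp only [MonoidHom.mul_apply] at h2
    have h3 : ψ w = 1 := by
      have h4 : φ w * ψ w = φ w * 1 := by rw [mul_one]; exact h2
      exact mul_left_cancel h4
    rw [h3]
    rfl
  have hφψψ : φ * ψ ≠ ψ := mul_ne_of_trivOn' hφ hψ hψ hφ1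
  have hφψ' : φ ≠ ψ := by
    intro hc
    apply hφ1
    apply Cfsg.Agent.Lib.Helper25.PFCyc.eq_one_of_trivOn _ hφ
    rw [hc]
    exact hψ
  obtain ⟨c0, hc0, -⟩ := Cfsg.Agent.Lib.Helper25.inner_int' hXgen (hsirr (φ * ψ)).gen
  obtain ⟨c1, hc1, -⟩ := Cfsg.Agent.Lib.Helper25.inner_int' hXgen (hsirr φ).gen
  obtain ⟨c2, hc2, -⟩ := Cfsg.Agent.Lib.Helper25.inner_int' hXgen (hsirr ψ).gen
  have hrect : c0 = c1 + c2 + 1 := by
    have := hXrect φ ψ hφ hψ hφ1 hψ1
    rw [hc0, hc1, hc2, if_pos rfl] at this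
    exact_mod_cast this
  exact Cfsg.Agent.Lib.Helper52.PF14Xi.parity_card_frobClass_int h.hodd cl hXgen (hsirr ψ)
    hXreal hX1 (hne1 ψ hψ1)
    (fun k hk hk1 => hXsupp k (hdisj k hk hk1))
    (hint ψ) k₀ hk₀ hk₀1 x hx hxe N (by rw [hXnorm, hN])
    (κ := Fin 3) ![η (φ * ψ), η φ, η ψ]
    (by
      intro a
      fin_cases a <;>
        simp only [Matrix.cons_val_zero, Matrix.cons_val_one, Matrix.cons_val_two,
          Matrix.head_cons, Matrix.tail_cons, Fin.zero_eta, Fin.mk_one, Fin.reduceFinMk]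
      · exact hsirr _
      · exact hsirr _
      · exact hsirr _)
    (by
      intro a b
      fin_cases a <;> fin_cases b <;>
        simp only [Matrix.cons_val_zero, Matrix.cons_val_one, Matrix.cons_val_two,
          Matrix.head_cons, Matrix.tail_cons, Fin.zero_eta, Fin.mk_one, Fin.reduceFinMk] <;>
        rw [h.hη.orthonormal]
      · simp
      · rw [if_neg hφψφ]; simp
      · rw [if_neg hφψψ]; simp
      · rw [if_neg (Ne.symm hφψφ)]; simp
      · simp
      · rw [if_neg hφψ']; simp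
      · rw [if_neg (Ne.symm hφψψ)]; simp
      · rw [if_neg (Ne.symm hφψ')]; simp
      · simp)
    (by
      intro a
      fin_cases a <;>
        simp only [Matrix.cons_val_zero, Matrix.cons_val_one, Matrix.cons_val_two,
          Matrix.head_cons, Matrix.tail_cons, Fin.zero_eta, Fin.mk_one, Fin.reduceFinMk]
      · exact hne1 _ hφψ1
      · exact hne1 _ hφ1
      · exact hne1 _ hψ1)
    (by
      intro a
      fin_cases a <;>
        simp only [Matrix.cons_val_zero, Matrix.cons_val_one, Matrix.cons_val_two,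
          Matrix.head_cons, Matrix.tail_cons, Fin.zero_eta, Fin.mk_one, Fin.reduceFinMk]
      · exact hint _
      · exact hint _
      · exact hint _)
    ![c0, c1, c2]
    (by
      intro a
      fin_cases a <;>
        simp only [Matrix.cons_val_zero, Matrix.cons_val_one, Matrix.cons_val_two,
          Matrix.head_cons, Matrix.tail_cons, Fin.zero_eta, Fin.mk_one, Fin.reduceFinMk]
      · exact hc0
      · exact hc1
      · exact hc2)
    (Cfsg.Agent.Lib.Helper10.PF14Par.exists_ne_zero_of_rect _ (by simpa using hrect))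

/-- **the one-side chain for any index**: helper52's `xbeta_of` ([MUFROB] → [PI] → [BETA-S] →
[BETA-G]) → `hpx_of_side_gen`. -/
theorem hpx_of_pside_gen (h : PSide S W₁ U W₂ mu dl η)
    (hfree : ∀ z ∈ U, z ≠ 1 → ∀ x ∈ fittingHallOf S, z * x = x * z → x = 1)
    (hII : ∀ a ∈ litA S, ∃ x ∈ fittingHallOf S, x ≠ 1 ∧ a * x = x * a)
    {L H : Subgroup G} (cl : FrobClass L H)
    (hcop : ∀ k ∈ H, (orderOf k).Coprime (Nat.card W₂ * Nat.card W₁))
    (ψ : WChar W₁ W₂) (hψ : TrivOn W₁ ψ) (hψ1 : ψ ≠ 1)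
    (k₀ : G) (hk₀ : k₀ ∈ H) (hk₀1 : k₀ ≠ 1) (x : ℤ) (hx : η ψ k₀ = (x : ℂ)) (hxe : Even x) :
    ∃ N : ℕ, N * Nat.card W₁ + 1 = Nat.card U ∧ Nat.card H - 1 ≤ H.relIndex L * N := by
  obtain ⟨N, hNq, hN, hX⟩ := xbeta_of h (xbetaStmt G) hfree ψ hψ hψ1
  exact ⟨N, hNq, hpx_of_side_gen h (litA_mem_P h hfree hII) cl hcop ψ hψ hψ1 N hN hX k₀ hk₀ hk₀1 x
    hx hxe⟩

open Classical in
/-- **(a) excluded, one side**: for a Frobenius class `(L, H)` with `|L : H| = q`,
`|H| ≤ |U|`. -/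
theorem hparA_of_pside (h : PSide S W₁ U W₂ mu dl η)
    (hfree : ∀ z ∈ U, z ≠ 1 → ∀ x ∈ fittingHallOf S, z * x = x * z → x = 1)
    (hII : ∀ a ∈ litA S, ∃ x ∈ fittingHallOf S, x ≠ 1 ∧ a * x = x * a)
    (hqp : Nat.card W₁ < Nat.card W₂)
    {L H : Subgroup G} (cl : FrobClass L H)
    (he : H.relIndex L = Nat.card W₁) :
    Nat.card H ≤ Nat.card U := by
  have hW := h.hP.selfNormalizing
  have hodd := h.hodd
  have hη := h.hη
  -- coprimality
  have hdvd : Nat.card W₁ ∣ Nat.card H - 1 := by rw [← he]; exact cl.relIndex_dvd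
  have hHpos : 0 < Nat.card H := Nat.card_pos
  have hcopq : (Nat.card H).Coprime (Nat.card W₁) := by
    have h3 : (Nat.card H).Coprime (Nat.card H - 1) := by
      have : Nat.card H = (Nat.card H - 1) + 1 := by omega
      rw [this, Nat.add_sub_cancel]
      exact (Nat.coprime_self_add_left.mpr (Nat.coprime_one_left _))
    exact Nat.Coprime.coprime_dvd_right hdvd h3
  have hW₁ne : W₁ ≠ ⊥ := by
    intro h0
    have := h.hq
    rw [h0, Subgroup.card_bot] at this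
    exact Nat.not_prime_one this
  have hcopp : (Nat.card H).Coprime (Nat.card W₂) :=
    cl.coprime_of_centralized h.hp hW₁ne (fun a ha b hb => (hW.2.2.2.1 a ha b hb)) hcopq
  have hcop : ∀ k ∈ H, (orderOf k).Coprime (Nat.card W₂ * Nat.card W₁) := by
    intro k hk
    have h1 : orderOf k ∣ Nat.card H := Subgroup.orderOf_dvd_natCard H hk
    exact Nat.Coprime.coprime_dvd_left h1 (Nat.Coprime.mul_right hcopp hcopq)
  -- the constants
  have hsirr : ∀ ω, Cfsg.Agent.Lib.Helper25.SIrr G (η ω) := fun ω => hη.irr_or_neg ω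
  have hint : ∀ ω : WChar W₁ W₂, ∀ k ∈ H, k ≠ 1 → ∃ n : ℤ, η ω k = (n : ℂ) :=
    fun ω k hk _ => eta_int_on hW hodd hη ω k (hcop k hk)
  -- the family `η_{0j}`
  let α := {ψ : WChar W₁ W₂ // ψ ∈ trivSet W₁ W₂ W₁}
  have hxa : ∀ a : α, ∃ x : ℤ, ∀ k ∈ H, k ≠ 1 → η a.1 k = (x : ℂ) := fun a =>
    Cfsg.Agent.Lib.Helper52.PF14Xi.const_of_int_frobClass hodd cl (hsirr a.1) (hint a.1)
  choose x hx using hxa
  have hcardα : Fintype.card α = Nat.card W₂ := by
    rw [Fintype.card_coe]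
    exact Cfsg.Agent.Lib.Helper23.PFCycTau1Mu.card_trivSet_left hW
  have hoddq : Odd (Nat.card W₁) := Odd.of_dvd_nat hodd (Subgroup.card_subgroup_dvd_card _)
  have hoddp : Odd (Nat.card W₂) := Odd.of_dvd_nat hodd (Subgroup.card_subgroup_dvd_card _)
  have hcard : H.relIndex L + 1 < Fintype.card α := by
    rw [he, hcardα]
    obtain ⟨a, ha⟩ := hoddq
    obtain ⟨b, hb⟩ := hoddp
    omega
  obtain ⟨a, ha⟩ := cl.exists_zero_of_bridge hodd (fun a : α => η a.1)
    (fun a => Cfsg.Agent.Lib.Helper23.PF14.gen_cf (hsirr a.1).gen)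
    (by
      intro a b
      rw [hη.orthonormal]
      by_cases hab : a = b
      · rw [if_pos hab, if_pos (congrArg Subtype.val hab)]
      · rw [if_neg hab, if_neg (fun h => hab (Subtype.ext h))])
    x hx hcard
  obtain ⟨k₀, hk₀1⟩ := (Subgroup.ne_bot_iff_exists_ne_one.mp cl.ne_bot)
  have hk₀' : (k₀ : G) ≠ 1 := fun h => hk₀1 (Subtype.ext h)
  have hψ : TrivOn W₁ a.1 := mem_trivSet.mp a.2
  have hψ1 : a.1 ≠ 1 := by
    intro h1
    have h2 := hx a (k₀ : G) k₀.2 hk₀'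
    rw [h1, hη.map_one, ha] at h2
    norm_num at h2
  obtain ⟨N, hNq, hle⟩ := hpx_of_pside_gen h hfree hII cl hcop a.1 hψ hψ1 (k₀ : G) k₀.2 hk₀' 0
    (by rw [hx a (k₀ : G) k₀.2 hk₀', ha]) (by simp)
  rw [he] at hle
  have e : Nat.card W₁ * N = N * Nat.card W₁ := mul_comm _ _
  omega

omit [Fintype S] in
/-- **(a) excluded**, the character-theoretic input `hparA` of `hna_of_par`. -/
theorem hparA_of (hG : IsMinSimpleOddOrder G) (bg : BookBGData G) (pf8 : BookPF8Data G)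
    (h1543 : Stmt1543 G)
    {T V : Subgroup G} (ph : PairHyp S T W₁ W₂ U V)
    (hqp : Nat.card W₁ < Nat.card W₂)
    (hUreg : ∀ z ∈ U, z ≠ 1 → ∀ x ∈ fittingHallOf S, z * x = x * z → x = 1)
    {L : Subgroup G} (c : FrobClass L (fittingHallOf L))
    (he : (fittingHallOf L).relIndex L = Nat.card W₁) :
    Nat.card (fittingHallOf L) ≤ Nat.card U := by
  classical
  obtain ⟨hS, hT, hSP, hTP, hST, hII, hS25, hT25⟩ := id ph
  have hodd : Odd (Nat.card G) := hG.1
  have hW : IsSelfNormalizingCyclic W₁ W₂ := hSP.selfNormalizing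
  have hoddW : Odd (Nat.card ↥(W₁ ⊔ W₂)) :=
    Odd.of_dvd_nat hodd (Subgroup.card_subgroup_dvd_card _)
  obtain ⟨η, hη⟩ := Cfsg.Agent.S1502.result W₁ W₂ hW hoddW
  let _ : Fintype ↥S := Fintype.ofFinite _
  obtain ⟨mu, dl, hPS⟩ := Cfsg.Agent.Lib.Helper54.PF13PSide.exists_pside hG bg pf8 h1543 ph hη
  obtain ⟨-, hSII', -⟩ := h1543 S T W₁ W₂ U V hS hT hSP hTP hST hII hS25 hT25
  have hSII : IsOfTypeII S := hSII' hqp
  have hsolvS : Group.IsSolvable ↥⁅S, S⁆ :=
    Cfsg.Agent.Lib.Helper26.PFBook.isSolvable_of_isCoatom hG hS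
      (Cfsg.Agent.Lib.Helper26.PFEight.commutator_self_le S)
  exact hparA_of_pside hPS hUreg
    (Cfsg.Agent.Lib.Helper54.PF13PSide.litA_typeII hsolvS hSP hSII) hqp c he

omit [Fintype S] in
/-- **(a) excluded** = the input `hna` of helper26's `stmt1544Core_of_sec14_final`
(`[Fintype G]` form). -/
theorem hna_of_fintype (hG : IsMinSimpleOddOrder G) (h1543 : Stmt1543 G) (h1547 : Stmt1547 G)
    (h127 : ∀ L : Subgroup G, IsCoatom L → LitTypeI L → IsFrobWithFittingHall L)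
    {T V : Subgroup G} (o : Sec13Out S T W₁ W₂ U V) :
    ∀ L : Subgroup G, IsCoatom L → Subgroup.normalizer (U : Set G) ≤ L →
      ¬ (fittingHallOf L ⊓ W₁ = ⊥ ∧ fittingHallOf L ⊔ W₁ = L) :=
  hna_of_par hG h1543 h1547 h127 o (fun L hL hNU c hUH he =>
    hparA_of hG (Cfsg.Agent.Lib.Helper24.BGBook.bookBGData hG)
      (Cfsg.Agent.Lib.Helper26.PFBook.bookPF8Data_of hG
        (Cfsg.Agent.Lib.Helper24.BGBook.bookBGData hG))
      h1543 o.pair o.hqp o.hUreg c he)

end Cfsg.Agent.Lib.Helper34.PF14End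

namespace Cfsg.Agent.Lib.Helper34.PF14End

open Cfsg Cfsg.Agent.Lib.Helper4.PF Cfsg.Agent.Lib.Helper26.PF14Core

universe u

variable {G : Type u} [Group G] [Finite G]

/-- **(a) excluded**: the input `hna` of helper26's `stmt1544Core_of_sec14_final`,
`odd_order_of_sec14_final` and helper52's `stmt1544Core_of_hna`, in their exact shape
(`[Finite G]`, implicit subgroups). -/
theorem hna_of (hG : IsMinSimpleOddOrder G) (h1543 : Stmt1543 G) (h1547 : Stmt1547 G)
    (h127 : ∀ L : Subgroup G, IsCoatom L → LitTypeI L → IsFrobWithFittingHall L) :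
    ∀ {S T W₁ W₂ U V : Subgroup G}, Sec13Out S T W₁ W₂ U V →
      ∀ L : Subgroup G, IsCoatom L → Subgroup.normalizer (U : Set G) ≤ L →
        ¬ (fittingHallOf L ⊓ W₁ = ⊥ ∧ fittingHallOf L ⊔ W₁ = L) := by
  classical
  letI : Fintype G := Fintype.ofFinite G
  intro S T W₁ W₂ U V o
  exact hna_of_fintype hG h1543 h1547 h127 o

/-- **`Stmt1544Core G`** from the named outputs of sec.10-13: `hna` and `hchar` discharged. -/
theorem stmt1544Core_final (hG : IsMinSimpleOddOrder G) (h1543 : Stmt1543 G)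
    (h1547 : Stmt1547 G)
    (h127 : ∀ L : Subgroup G, IsCoatom L → LitTypeI L → IsFrobWithFittingHall L)
    (hcard : ∀ {S T W₁ W₂ U V : Subgroup G}, PairHyp S T W₁ W₂ U V → Nat.card W₁ < Nat.card W₂ →
      Nat.card U * (Nat.card W₂ - 1) = Nat.card W₂ ^ Nat.card W₁ - 1 ∧
        Nat.card V * (Nat.card W₁ - 1) = Nat.card W₁ ^ Nat.card W₂ - 1) :
    Cfsg.Agent.Lib.Helper54.PF14Field.Stmt1544Core G :=
  Cfsg.Agent.Lib.Helper52.PF14HChar.stmt1544Core_of_hna hG h1543 h1547 h127 hcard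
    (hna_of hG h1543 h1547 h127)

end Cfsg.Agent.Lib.Helper34.PF14End
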