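import Cfsg.Agent.Lib.Helper26.PF14CoreC

/-!
# PF sec. 14, case (a) excluded: the group-theoretic glue (module PF14-[HNA], part 1)

`hna_of_par`: the input `hna` of helper26's `stmt1544Core_of_sec14_final`, from the single
character-theoretic input `hparA` (bridge Bessel `x = 0` + parity bound in the index-`q` case):
for a maximal subgroup `L ⊇ N_G(U)` which is a Frobenius class `(L, L_F)` with `U ≤ L_F` and
`|L : L_F| = q`, one has `|L_F| ≤ |U|`.

Then `L_F = U`, `L = U W₁ ≤ S`, so `L = S` and `S_F = U`, contradicting `S_F ∩ U = 1`, `U ≠ 1`.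
-/

set_option autoImplicit false
set_option linter.unusedSectionVars false
set_option linter.unusedVariables false
set_option linter.style.haveILetI false

namespace Cfsg.Agent.Lib.Helper34.PF14End

open Cfsg Cfsg.Agent.Lib.Helper4.PF Cfsg.Agent.Lib.Helper4 Cfsg.Agent.Lib.Helper33.PF13
  Cfsg.Agent.Lib.Helper26.PF14Core

universe u

variable {G : Type u} [Group G] [Finite G]

/-- **(a) excluded**, group-theoretic part. -/
theorem hna_of_par (hG : IsMinSimpleOddOrder G) (h1543 : Stmt1543 G) (h1547 : Stmt1547 G)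
    (h127 : ∀ L : Subgroup G, IsCoatom L → LitTypeI L → IsFrobWithFittingHall L)
    {S T W₁ W₂ U V : Subgroup G} (o : Sec13Out S T W₁ W₂ U V)
    (hparA : ∀ L : Subgroup G, IsCoatom L → Subgroup.normalizer (U : Set G) ≤ L →
      FrobClass L (fittingHallOf L) → U ≤ fittingHallOf L →
      (fittingHallOf L).relIndex L = Nat.card W₁ →
      Nat.card (fittingHallOf L) ≤ Nat.card U) :
    ∀ L : Subgroup G, IsCoatom L → Subgroup.normalizer (U : Set G) ≤ L →
      ¬ (fittingHallOf L ⊓ W₁ = ⊥ ∧ fittingHallOf L ⊔ W₁ = L) := by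
  intro L hL hNU ⟨hinf, hsup⟩
  have bg := Cfsg.Agent.Lib.Helper24.BGBook.bookBGData hG
  have h1549 : Stmt1549 G := Cfsg.Agent.Lib.Helper33.PF13.stmt1549_of hG bg h1543 h1547 h127
  have hPair := o.pair
  have hqp := o.hqp
  obtain ⟨hS, hT, hSP, hTP, hST, hII, hS25, hT25⟩ := id hPair
  have hsolv : ∀ M : Subgroup G, IsCoatom M → Group.IsSolvable M := fun M hM => hG.2.2.2 M hM.1
  have hST' : T ⊓ S = W₂ ⊔ W₁ := by rw [inf_comm, hST, sup_comm]
  obtain ⟨-, -, hEAS, -, -, -⟩ := h1543 S T W₁ W₂ U V hS hT hSP hTP hST hII hS25 hT25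
  have hSII : IsOfTypeII S := o.hSII
  obtain ⟨-, -, hEAT, -, -, -⟩ :=
    h1543 T S W₂ W₁ V U hT hS hTP hSP hST' hII.symm hT25 hS25
  obtain ⟨hU1, -, -⟩ := typeII_data (hsolv S hS) hSP hSII
  have hUS : U ≤ S := hSP.U_compl.2.1.trans hSP.W₁_compl.1
  obtain ⟨hfrobL, hUH, -⟩ :=
    h1549 S T W₁ W₂ U V hS hT hSP hTP hST hII hS25 hT25 hSII L hL hNU
  have hLI := litTypeI_of_NU_le hG bg h1543 hPair hSII hL hNU
  have hpq_ne : Nat.card W₁ ≠ Nat.card W₂ := ne_of_lt hqp
  have habS := comm_of_elementaryAbelian hEAS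
  have habT := comm_of_elementaryAbelian hEAT
  have hIIall := hII_of_pair hG hSP hTP
    (fun M hM h => conj_of_typeII bg hPair hpq_ne hM h) (fun _ => habS) (fun _ => o.hUreg)
    (fun _ => habT) (fun _ => o.hVreg)
  have c := frobClass_of_litTypeI hG bg h127 hIIall hL hLI
  have hW₁L : W₁ ≤ L := by rw [← hsup]; exact le_sup_right
  have he : (fittingHallOf L).relIndex L = Nat.card W₁ := c.relIndex_eq_card hW₁L hinf hsup
  have hle := hparA L hL hNU c hUH he
  -- `L_F = U`
  have hLFU : fittingHallOf L = U := by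
    have h1 : Nat.card U = Nat.card (fittingHallOf L) :=
      le_antisymm (Subgroup.card_le_of_le hUH) hle
    exact ((Subgroup.eq_of_le_of_card_ge hUH (le_of_eq h1.symm))).symm
  -- `L = U ⊔ W₁ ≤ S`, hence `L = S`
  have hW₁S : W₁ ≤ S := hSP.W₁_compl.2.1
  have hLS : L ≤ S := by
    rw [← hsup, hLFU]
    exact sup_le hUS hW₁S
  have hLS' : S = L := by
    rcases hL.le_iff.1 hLS with h | h
    · exact absurd h hS.1
    · exact h
  -- `S_F = U` contradicts `S_F ⊓ U = ⊥`, `U ≠ ⊥`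
  have h3 : fittingHallOf S ⊓ U = ⊥ := hSP.U_compl.2.2.1
  rw [hLS', hLFU, inf_idem] at h3
  exact hU1 h3

end Cfsg.Agent.Lib.Helper34.PF14End
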