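import Cfsg.Agent.Lib.Helper34.PFTournament
import Cfsg.Agent.Lib.Helper79.HeightZero

/-!
# The parity lemma for a coherent T.I. subgroup with Frobenius normalizer (PF sec. 14)

`K ≤ G` (`|G|` odd) as in `PFTournament`, with coherent data `D : CohData K` and a relevant
character `ζ` of degree `e = |N : K|`.  Let `Θ = ∑ a ψ • ψ` be a generalized character with
`a (conj ψ) = a ψ` which is constant `= t ∈ ℤ` on `K#`.  Then
* `∑ ψ, mult ζ ψ * a ψ = t` (`par_sum`);
* `e * a (f χ) = χ(1) * a (f ζ)` for all relevant `χ` (`par_prop`);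
* `t - a 1 - a (f ζ)` is even (`par_parity`);
* `∑_{ψ exceptional} (a ψ)² = ((|K| - 1)/e) (a (f ζ))²` (`par_sum_sq`);
* if `t - a 1` is odd then `|K| - 1 ≤ e ∑ ψ, (a ψ)²` (`par_bound`).
-/

set_option autoImplicit false
set_option linter.unusedSectionVars false
set_option linter.style.haveILetI false

namespace Cfsg.Agent.Lib.Helper34

open Cfsg Cfsg.Agent.Lib.Helper74 Cfsg.Agent.Lib.Helper78 Cfsg.Agent.Lib.Helper75
open Cfsg.Agent.Lib.Helper52
open scoped ComplexConjugate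

universe u

section GenChar

variable {G : Type u} [Group G] [Fintype G]

/-- the generalized character with integer coefficients `a` -/
noncomputable def genChar (a : IrrCharacter G → ℤ) : G → ℂ :=
  fun x => ∑ ψ : IrrCharacter G, (a ψ : ℂ) * (ψ : G → ℂ) x

theorem genChar_isClassFunction (a : IrrCharacter G → ℤ) : IsClassFunction G (genChar a) := by
  intro g h
  unfold genChar
  apply Finset.sum_congr rfl
  intro ψ _
  rw [isClassFunction_irr ψ g h]

theorem classInner_genChar (a : IrrCharacter G → ℤ) (ξ : IrrCharacter G) :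
    classInner (genChar a) (ξ : G → ℂ) = a ξ :=
  Cfsg.Agent.Lib.Helper79.classInner_sum_int a ξ

/-- the parity of `∑ m ψ * a ψ` -/
theorem parity_sum (hodd : Odd (Nat.card G)) (m a : IrrCharacter G → ℤ) (Ψ : IrrCharacter G)
    (hΨ1 : Ψ ≠ oneIrr)
    (hmc : ∀ ψ, ψ ≠ Ψ → ψ ≠ conjIrrChar Ψ → m (conjIrrChar ψ) = m ψ)
    (hac : ∀ ψ, a (conjIrrChar ψ) = a ψ)
    (hoddΨ : Odd (m Ψ + m (conjIrrChar Ψ))) :
    Even (∑ ψ : IrrCharacter G, m ψ * a ψ - m oneIrr * a oneIrr - a Ψ) := by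
  classical
  set F : IrrCharacter G → ZMod 2 := fun ψ => ((m ψ * a ψ : ℤ) : ZMod 2) with hF
  have c1 : conjIrrChar Ψ ≠ oneIrr := by
    intro h
    apply hΨ1
    have := congrArg conjIrrChar h
    rwa [conjIrrChar_conjIrrChar, conjIrrChar_oneIrr] at this
  have c2 : conjIrrChar Ψ ≠ Ψ := conjIrrChar_ne_self hodd hΨ1
  set E : Finset (IrrCharacter G) := {oneIrr, Ψ, conjIrrChar Ψ} with hE
  have hmemE : ∀ ψ, ψ ∈ E ↔ ψ = oneIrr ∨ ψ = Ψ ∨ ψ = conjIrrChar Ψ := by
    intro ψ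
    simp [hE]
  have hsplit : ∑ ψ : IrrCharacter G, F ψ = ∑ ψ ∈ Finset.univ \ E, F ψ + ∑ ψ ∈ E, F ψ :=
    (Finset.sum_sdiff (Finset.subset_univ E)).symm
  have hrest : ∑ ψ ∈ Finset.univ \ E, F ψ = 0 := by
    apply Finset.sum_involution (fun ψ _ => conjIrrChar ψ)
    · intro ψ hψ
      simp only [Finset.mem_sdiff, Finset.mem_univ, true_and, hmemE] at hψ
      push Not at hψ
      simp only [hF]
      rw [hmc ψ hψ.2.1 hψ.2.2, hac ψ]
      exact CharTwo.add_self_eq_zero _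
    · intro ψ hψ _ heq
      simp only [Finset.mem_sdiff, Finset.mem_univ, true_and, hmemE] at hψ
      push Not at hψ
      exact conjIrrChar_ne_self hodd hψ.1 heq
    · intro ψ hψ
      simp only [Finset.mem_sdiff, Finset.mem_univ, true_and, hmemE] at hψ ⊢
      push Not at hψ ⊢
      refine ⟨?_, ?_, ?_⟩
      · intro h
        apply hψ.1
        have := congrArg conjIrrChar h
        rwa [conjIrrChar_conjIrrChar, conjIrrChar_oneIrr] at this
      · intro h
        apply hψ.2.2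
        rw [← h, conjIrrChar_conjIrrChar]
      · intro h
        exact hψ.2.1 (conjIrrChar_inj h)
    · intro ψ _
      exact conjIrrChar_conjIrrChar ψ
  have hEsum : ∑ ψ ∈ E, F ψ = F oneIrr + (F Ψ + F (conjIrrChar Ψ)) := by
    rw [hE, Finset.sum_insert, Finset.sum_pair]
    · exact fun h => c2 h.symm
    · simp only [Finset.mem_insert, Finset.mem_singleton, not_or]
      exact ⟨fun h => hΨ1 h.symm, fun h => c1 h.symm⟩
  have hFΨ : F Ψ + F (conjIrrChar Ψ) = ((a Ψ : ℤ) : ZMod 2) := by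
    simp only [hF]
    rw [hac Ψ, ← Int.cast_add, ← add_mul, Int.cast_mul, zmod2_of_odd hoddΨ, one_mul]
  have htot : ((∑ ψ : IrrCharacter G, m ψ * a ψ : ℤ) : ZMod 2) =
      ((m oneIrr * a oneIrr : ℤ) : ZMod 2) + ((a Ψ : ℤ) : ZMod 2) := by
    rw [Int.cast_sum]
    have : ∑ ψ : IrrCharacter G, ((m ψ * a ψ : ℤ) : ZMod 2) = ∑ ψ : IrrCharacter G, F ψ := rfl
    rw [this, hsplit, hrest, hEsum, hFΨ, zero_add]
  have h0 : ((∑ ψ : IrrCharacter G, m ψ * a ψ - m oneIrr * a oneIrr - a Ψ : ℤ) : ZMod 2) = 0 := by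
    push_cast at htot ⊢
    rw [htot]
    ring
  exact (ZMod.intCast_eq_zero_iff_even).mp h0

end GenChar

section Parity

variable {G : Type u} [Group G] [Fintype G] {K : Subgroup G}
variable [Fintype ↥(Subgroup.normalizer (K : Set G))]

/-- the inner product of a function vanishing off `K#` with a function constant on `K#` -/
theorem classInner_of_vanish_const
    {β F : ↥(Subgroup.normalizer (K : Set G)) → ℂ} {c : ℂ}
    (hβ : ∀ x : ↥(Subgroup.normalizer (K : Set G)), (x : G) ∉ K → β x = 0) (hβ1 : β 1 = 0)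
    (hF : ∀ x : ↥(Subgroup.normalizer (K : Set G)), (x : G) ∈ K → x ≠ 1 → F x = c) :
    classInner β F = conj c * classInner β (fun _ => (1 : ℂ)) := by
  unfold classInner
  rw [mul_left_comm]
  congr 1
  rw [Finset.mul_sum]
  apply Finset.sum_congr rfl
  intro x _
  by_cases hx : (x : G) ∈ K
  · by_cases hx1 : x = 1
    · rw [hx1, hβ1]; ring
    · rw [hF x hx hx1]; simp; ring
  · rw [hβ x hx]; ring

variable (hC : ∀ k ∈ K, k ≠ 1 → Subgroup.centralizer ({k} : Set G) ≤ K)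
variable (ζ : RelChar K)
variable (hζ1 : (ζ.1 : ↥(Subgroup.normalizer (K : Set G)) → ℂ) 1 =
      ((K.subgroupOf (Subgroup.normalizer (K : Set G))).index : ℂ))
variable (a : IrrCharacter G → ℤ) (t : ℤ)
variable (hconst : ∀ x : ↥(Subgroup.normalizer (K : Set G)), (x : G) ∈ K → x ≠ 1 →
      genChar a (x : G) = (t : ℂ))

include hC hζ1 hconst in
/-- `⟨Γ, Θ⟩ = t` -/
theorem par_sum : ∑ ψ : IrrCharacter G, mult ζ ψ * a ψ = t := by
  have h1 : classInner (gammaK ζ) (genChar a) = (t : ℂ) := by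
    rw [classInner_gammaK ζ (genChar_isClassFunction a),
      classInner_betaK_of_const' hC ζ hζ1 (c := (t : ℂ)) (fun x hx hx1 => hconst x hx hx1),
      map_intCast]
  have h2 := classInner_eq_sum_mul_conj (genChar a) (gammaK_isClassFunction ζ)
  rw [h1] at h2
  have h3 : ∑ ψ : IrrCharacter G, classInner (gammaK ζ) (ψ : G → ℂ) *
      conj (classInner (genChar a) (ψ : G → ℂ)) =
      ((∑ ψ : IrrCharacter G, mult ζ ψ * a ψ : ℤ) : ℂ) := by
    push_cast
    apply Finset.sum_congr rfl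
    intro ψ _
    rw [mult_spec, classInner_genChar, map_intCast]
  rw [h3] at h2
  exact_mod_cast h2.symm

include hC hconst in
/-- the coefficients of the exceptional characters are proportional to the degrees -/
theorem par_prop (D : CohData K) (χ ξ : RelChar K) :
    (charDegree (ξ.1 : ↥(Subgroup.normalizer (K : Set G)) → ℂ) : ℤ) * a (D.f χ) =
      (charDegree (χ.1 : ↥(Subgroup.normalizer (K : Set G)) → ℂ) : ℤ) * a (D.f ξ) := by
  have hβ := tifnBeta_mem_zspan χ.mem_tifnS ξ.mem_tifnS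
  have h1 : classInner (indFun (Subgroup.normalizer (K : Set G))
      (tifnBeta (χ.1 : ↥(Subgroup.normalizer (K : Set G)) → ℂ)
        (ξ.1 : ↥(Subgroup.normalizer (K : Set G)) → ℂ))) (genChar a) = 0 := by
    rw [frobenius_reciprocity _ _ (genChar_isClassFunction a),
      classInner_of_vanish_const (c := (t : ℂ))
        (fun x hx => zspan_tifnS_vanish hC hβ x hx) (tifnBeta_one χ.mem_tifnS ξ.mem_tifnS)
        (fun x hx hx1 => hconst x hx hx1)]
    have h0 : classInner (tifnBeta (χ.1 : ↥(Subgroup.normalizer (K : Set G)) → ℂ)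
        (ξ.1 : ↥(Subgroup.normalizer (K : Set G)) → ℂ)) (fun _ => (1 : ℂ)) = 0 := by
      have e1 : tifnBeta (χ.1 : ↥(Subgroup.normalizer (K : Set G)) → ℂ)
          (ξ.1 : ↥(Subgroup.normalizer (K : Set G)) → ℂ) =
          ((charDegree (ξ.1 : ↥(Subgroup.normalizer (K : Set G)) → ℂ) : ℕ) : ℂ) •
            (χ.1 : ↥(Subgroup.normalizer (K : Set G)) → ℂ) +
          (-((charDegree (χ.1 : ↥(Subgroup.normalizer (K : Set G)) → ℂ) : ℕ) : ℂ)) •
            (ξ.1 : ↥(Subgroup.normalizer (K : Set G)) → ℂ) := by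
        funext x
        rw [tifnBeta_apply]
        simp only [Pi.add_apply, Pi.smul_apply, smul_eq_mul]
        ring
      rw [e1, classInner_add_left, classInner_smul_left, classInner_smul_left,
        relChar_classInner_one χ, relChar_classInner_one ξ]
      ring
    rw [h0, mul_zero]
  rw [D.star_tifnBeta, classInner_smul_left, Cfsg.Agent.Lib.Helper26.classInner_sub_left,
    classInner_smul_left, classInner_smul_left] at h1
  have h2 : ∀ ψ : IrrCharacter G, classInner (ψ : G → ℂ) (genChar a) = (a ψ : ℂ) := by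
    intro ψ
    rw [← classInner_conj_symm, classInner_genChar, map_intCast]
  rw [h2, h2] at h1
  rcases mul_eq_zero.mp h1 with h | h
  · exact absurd h D.ε_ne_zero
  · have := sub_eq_zero.mp h
    exact_mod_cast this

variable (hodd : Odd (Nat.card G)) (hK1 : K ≠ ⊥)
variable (hTI : ∀ g : G, g ∉ Subgroup.normalizer (K : Set G) → ∀ k ∈ K, g * k * g⁻¹ ∈ K → k = 1)
variable (hlt : K < Subgroup.normalizer (K : Set G))
variable (hac : ∀ ψ, a (conjIrrChar ψ) = a ψ)

include hC hζ1 hconst hodd hK1 hTI hlt hac in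
/-- **Parity lemma**: `a (f ζ) ≡ t - a 1 (mod 2)`. -/
theorem par_parity (D : CohData K) : Even (t - a oneIrr - a (D.f ζ)) := by
  have htwo : ∃ χ ξ : RelChar K, χ ≠ ξ := ⟨conjRel ζ, ζ, conjRel_ne_self hodd ζ⟩
  obtain ⟨M, hM⟩ := D.exists_m hTI hlt hC htwo
  have h := parity_sum hodd (mult ζ) a (D.f ζ) (D.f_ne_one htwo _)
    (tour_mult_conj hodd hK1 hTI hlt hC ζ hζ1 D M hM) hac
    (by rw [← D.f_conjRel htwo]; exact D.odd_mult_add hodd hC ζ hζ1 M hM)
  rw [par_sum hC ζ hζ1 a t hconst, mult_one, one_mul] at h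
  exact h

include hC hζ1 hconst in
/-- the sum of the squares of the coefficients of the exceptional characters -/
theorem par_sum_sq (D : CohData K) :
    ∑ ψ ∈ D.excSet, ((a ψ : ℤ) : ℝ) ^ 2 =
      ((Nat.card K : ℝ) - 1) / ((K.subgroupOf (Subgroup.normalizer (K : Set G))).index : ℝ) *
        ((a (D.f ζ) : ℤ) : ℝ) ^ 2 := by
  classical
  haveI : Finite (RelChar K) := Finite.of_injective D.f D.hf
  haveI : Fintype (RelChar K) := Fintype.ofFinite _
  set e : ℝ := ((K.subgroupOf (Subgroup.normalizer (K : Set G))).index : ℝ) with he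
  have he0 : e ≠ 0 := by
    have : (K.subgroupOf (Subgroup.normalizer (K : Set G))).index ≠ 0 :=
      Subgroup.index_ne_zero_of_finite
    rw [he]
    exact_mod_cast this
  have hζd : charDegree (ζ.1 : ↥(Subgroup.normalizer (K : Set G)) → ℂ) =
      (K.subgroupOf (Subgroup.normalizer (K : Set G))).index := by
    have h1 := IsCharacter.apply_one_eq_charDegree (IsIrrCharacter.isCharacter ζ.1.2)
    rw [hζ1] at h1
    exact_mod_cast h1.symm
  rw [D.sum_excSet (fun ψ => ((a ψ : ℤ) : ℝ) ^ 2)]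
  have hterm : ∀ χ : RelChar K, ((a (D.f χ) : ℤ) : ℝ) ^ 2 =
      ((a (D.f ζ) : ℤ) : ℝ) ^ 2 / e ^ 2 *
        ((charDegree (χ.1 : ↥(Subgroup.normalizer (K : Set G)) → ℂ) : ℕ) : ℝ) ^ 2 := by
    intro χ
    have h := par_prop hC a t hconst D χ ζ
    rw [hζd] at h
    have h' : e * ((a (D.f χ) : ℤ) : ℝ) =
        ((charDegree (χ.1 : ↥(Subgroup.normalizer (K : Set G)) → ℂ) : ℕ) : ℝ) *
          ((a (D.f ζ) : ℤ) : ℝ) := by
      rw [he]
      exact_mod_cast h
    have h2 : ((a (D.f χ) : ℤ) : ℝ) =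
        ((charDegree (χ.1 : ↥(Subgroup.normalizer (K : Set G)) → ℂ) : ℕ) : ℝ) *
          ((a (D.f ζ) : ℤ) : ℝ) / e := by
      rw [eq_div_iff he0]
      linarith
    rw [h2]
    field_simp
  rw [Finset.sum_congr rfl (fun χ _ => hterm χ), ← Finset.mul_sum]
  have hS := sum_relChar_degree_sq (K := K) hC
  have hS' : ∑ χ : RelChar K,
      ((charDegree (χ.1 : ↥(Subgroup.normalizer (K : Set G)) → ℂ) : ℕ) : ℝ) ^ 2 =
      (Nat.card K : ℝ) * e - e := by
    have : ((∑ χ : RelChar K,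
        charDegree (χ.1 : ↥(Subgroup.normalizer (K : Set G)) → ℂ) ^ 2 +
          (K.subgroupOf (Subgroup.normalizer (K : Set G))).index : ℕ) : ℝ) =
        ((Nat.card K * (K.subgroupOf (Subgroup.normalizer (K : Set G))).index : ℕ) : ℝ) := by
      rw [hS]
    push_cast at this
    linarith
  rw [hS']
  field_simp

include hC hζ1 hconst hodd hK1 hTI hlt hac in
/-- **Parity bound**: if `t - a 1` is odd then `|K| - 1 ≤ e ‖Θ‖²`. -/
theorem par_bound (D : CohData K) (hodd' : Odd (t - a oneIrr)) :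
    (Nat.card K : ℤ) - 1 ≤
      ((K.subgroupOf (Subgroup.normalizer (K : Set G))).index : ℤ) *
        ∑ ψ : IrrCharacter G, (a ψ) ^ 2 := by
  classical
  have hpar := par_parity hC ζ hζ1 a t hconst hodd hK1 hTI hlt hac D
  have hne : a (D.f ζ) ≠ 0 := by
    intro h0
    rw [h0, sub_zero] at hpar
    exact (Int.not_even_iff_odd.mpr hodd') hpar
  have hsq := par_sum_sq hC ζ hζ1 a t hconst D
  set e : ℕ := (K.subgroupOf (Subgroup.normalizer (K : Set G))).index with he
  have he0 : 0 < e := Nat.pos_of_ne_zero Subgroup.index_ne_zero_of_finite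
  have hle : ∑ ψ ∈ D.excSet, ((a ψ : ℤ) : ℝ) ^ 2 ≤ ∑ ψ : IrrCharacter G, ((a ψ : ℤ) : ℝ) ^ 2 :=
    Finset.sum_le_sum_of_subset_of_nonneg (Finset.subset_univ _) (fun ψ _ _ => sq_nonneg _)
  rw [hsq] at hle
  have hν : (1 : ℝ) ≤ ((a (D.f ζ) : ℤ) : ℝ) ^ 2 := by
    have : (1 : ℤ) ≤ (a (D.f ζ)) ^ 2 := by
      have h0 : 0 < (a (D.f ζ)) ^ 2 := by positivity
      omega
    exact_mod_cast this
  have hcard1 : (1 : ℝ) ≤ (Nat.card K : ℝ) := by
    have : 1 ≤ Nat.card K := Nat.card_pos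
    exact_mod_cast this
  have hr0 : (0 : ℝ) ≤ ((Nat.card K : ℝ) - 1) / (e : ℝ) :=
    div_nonneg (by linarith) (by exact_mod_cast he0.le)
  have h1 : ((Nat.card K : ℝ) - 1) / (e : ℝ) ≤ ∑ ψ : IrrCharacter G, ((a ψ : ℤ) : ℝ) ^ 2 := by
    nlinarith
  rw [div_le_iff₀ (by exact_mod_cast he0)] at h1
  have h2 : (((Nat.card K : ℤ) - 1 : ℤ) : ℝ) ≤
      (((e : ℤ) * ∑ ψ : IrrCharacter G, (a ψ) ^ 2 : ℤ) : ℝ) := by
    push_cast
    linarith
  exact_mod_cast h2

end Parity

section Wrapper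

variable {G : Type u} [Group G] [Fintype G] {K : Subgroup G}
variable [Fintype ↥(Subgroup.normalizer (K : Set G))]

/-- **Parity bound**, packaged: `K` a coherent T.I. subgroup with Frobenius normalizer in a
group of odd order, `Θ = ∑ a ψ • ψ` real, constant `= t` on `K#`, `t - a 1` odd.  Then
`|K| - 1 ≤ e ‖Θ‖²`. -/
theorem parity_bound (hodd : Odd (Nat.card G)) (hK1 : K ≠ ⊥)
    (hTI : ∀ g : G, g ∉ Subgroup.normalizer (K : Set G) → ∀ k ∈ K, g * k * g⁻¹ ∈ K → k = 1)
    (hlt : K < Subgroup.normalizer (K : Set G))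
    (hC : ∀ k ∈ K, k ≠ 1 → Subgroup.centralizer ({k} : Set G) ≤ K)
    (hcoh : IsCoherent (tifnS K) ({1}ᶜ : Set ↥(Subgroup.normalizer (K : Set G)))
      (fun α : ↥(Subgroup.normalizer (K : Set G)) → ℂ =>
        indFun (Subgroup.normalizer (K : Set G)) α))
    (hlin : ∃ ζ : RelChar K, (ζ.1 : ↥(Subgroup.normalizer (K : Set G)) → ℂ) 1 =
      ((K.subgroupOf (Subgroup.normalizer (K : Set G))).index : ℂ))
    (a : IrrCharacter G → ℤ) (t : ℤ)
    (hac : ∀ ψ, a (conjIrrChar ψ) = a ψ)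
    (hconst : ∀ k ∈ K, k ≠ 1 → genChar a k = (t : ℂ))
    (hodd' : Odd (t - a oneIrr)) :
    (Nat.card K : ℤ) - 1 ≤
      ((K.subgroupOf (Subgroup.normalizer (K : Set G))).index : ℤ) *
        ∑ ψ : IrrCharacter G, (a ψ) ^ 2 := by
  obtain ⟨ζ, hζ1⟩ := hlin
  have htwo : ∃ χ ξ : RelChar K, χ ≠ ξ := ⟨conjRel ζ, ζ, conjRel_ne_self hodd ζ⟩
  obtain ⟨D⟩ := exists_cohData hcoh htwo
  exact par_bound hC ζ hζ1 a t
    (fun x hx hx1 => hconst (x : G) hx (fun h => hx1 (Subtype.ext h))) hodd hK1 hTI hlt hac D hodd'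

end Wrapper

end Cfsg.Agent.Lib.Helper34
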