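import Cfsg.Agent.Lib.Helper52.CohTIMain

/-!
# The tournament bound for two coherent T.I. subgroups with Frobenius normalizers

`K, K' ≤ G` (`|G|` odd) T.I. subgroups containing the centralizers of their non-identity
elements, properly contained in their normalizers `N, N'`, with coherent sets of relevant
characters, each having a relevant character of degree `e = |N : K|` (resp. `e' = |N' : K'|`),
and with no fusion between `K` and `K'`.  Then
`(|K'| - 1)/e' ≤ e - 1` or `(|K| - 1)/e ≤ e' - 1`.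

Proof: with `Γ = Ind (ρ - ζ)`, `Γ' = Ind (ρ' - ζ')` (orthogonal, disjoint supports), the parity
lemma gives that `⟨Γ, f' ζ'⟩ + ⟨Γ', f ζ⟩` is odd, so one of them is non-zero; then the
`(|K'| - 1)/e'` exceptional characters of `K'` all occur in `Γ`, whose norm is `e + 1`.
-/

set_option autoImplicit false
set_option linter.unusedSectionVars false
set_option linter.style.haveILetI false

namespace Cfsg.Agent.Lib.Helper34

open Cfsg Cfsg.Agent.Lib.Helper74 Cfsg.Agent.Lib.Helper78 Cfsg.Agent.Lib.Helper75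
open Cfsg.Agent.Lib.Helper52
open scoped ComplexConjugate

universe u

section Tournament

variable {G : Type u} [Group G] [Fintype G] {K K' : Subgroup G}
variable [Fintype ↥(Subgroup.normalizer (K : Set G))]
variable [Fintype ↥(Subgroup.normalizer (K' : Set G))]

/-- the conjugation invariance of the multiplicities in `Γ` -/
theorem tour_mult_conj (hodd : Odd (Nat.card G)) (hK1 : K ≠ ⊥)
    (hTI : ∀ g : G, g ∉ Subgroup.normalizer (K : Set G) → ∀ k ∈ K, g * k * g⁻¹ ∈ K → k = 1)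
    (hlt : K < Subgroup.normalizer (K : Set G))
    (hC : ∀ k ∈ K, k ≠ 1 → Subgroup.centralizer ({k} : Set G) ≤ K)
    (ζ : RelChar K)
    (hζ1 : (ζ.1 : ↥(Subgroup.normalizer (K : Set G)) → ℂ) 1 =
      ((K.subgroupOf (Subgroup.normalizer (K : Set G))).index : ℂ))
    (D : CohData K) (M : ℤ)
    (hM : ∀ χ : RelChar K, ∀ k : ↥(Subgroup.normalizer (K : Set G)), (k : G) ∈ K → k ≠ 1 →
      (D.f χ : G → ℂ) k = D.ε * (χ.1 : ↥(Subgroup.normalizer (K : Set G)) → ℂ) k +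
        D.ε * (M : ℂ) * (χ.1 : ↥(Subgroup.normalizer (K : Set G)) → ℂ) 1 /
          ((K.subgroupOf (Subgroup.normalizer (K : Set G))).index : ℂ))
    (ψ : IrrCharacter G) (h1 : ψ ≠ D.f ζ) (h2 : ψ ≠ conjIrrChar (D.f ζ)) :
    mult ζ (conjIrrChar ψ) = mult ζ ψ := by
  have htwo : ∃ χ ξ : RelChar K, χ ≠ ξ := ⟨conjRel ζ, ζ, conjRel_ne_self hodd ζ⟩
  by_cases hψ : ψ ∈ D.excSet
  · rw [D.mem_excSet] at hψ
    obtain ⟨χ, rfl⟩ := hψ
    rw [← D.f_conjRel htwo]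
    apply D.mult_f_conjRel hC ζ hζ1 M hM χ
    · intro h
      exact h1 (by rw [h])
    · intro h
      apply h2
      rw [h, D.f_conjRel htwo]
  · exact D.mult_conj hTI hlt hC htwo hK1 ζ hζ1 hψ

/-- **Tournament lemma**: the two cross multiplicities have odd sum. -/
theorem tour_odd (hodd : Odd (Nat.card G)) (hK1 : K ≠ ⊥) (hK1' : K' ≠ ⊥)
    (hTI : ∀ g : G, g ∉ Subgroup.normalizer (K : Set G) → ∀ k ∈ K, g * k * g⁻¹ ∈ K → k = 1)
    (hTI' : ∀ g : G, g ∉ Subgroup.normalizer (K' : Set G) → ∀ k ∈ K', g * k * g⁻¹ ∈ K' → k = 1)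
    (hlt : K < Subgroup.normalizer (K : Set G))
    (hlt' : K' < Subgroup.normalizer (K' : Set G))
    (hC : ∀ k ∈ K, k ≠ 1 → Subgroup.centralizer ({k} : Set G) ≤ K)
    (hC' : ∀ k ∈ K', k ≠ 1 → Subgroup.centralizer ({k} : Set G) ≤ K')
    (hnf : ∀ g : G, ∀ k ∈ K, g * k * g⁻¹ ∈ K' → k = 1)
    (ζ : RelChar K) (ζ' : RelChar K')
    (hζ1 : (ζ.1 : ↥(Subgroup.normalizer (K : Set G)) → ℂ) 1 =
      ((K.subgroupOf (Subgroup.normalizer (K : Set G))).index : ℂ))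
    (hζ1' : (ζ'.1 : ↥(Subgroup.normalizer (K' : Set G)) → ℂ) 1 =
      ((K'.subgroupOf (Subgroup.normalizer (K' : Set G))).index : ℂ))
    (D : CohData K) (D' : CohData K') :
    Odd (mult ζ' (D.f ζ) + mult ζ (D'.f ζ')) := by
  have htwo : ∃ χ ξ : RelChar K, χ ≠ ξ := ⟨conjRel ζ, ζ, conjRel_ne_self hodd ζ⟩
  have htwo' : ∃ χ ξ : RelChar K', χ ≠ ξ := ⟨conjRel ζ', ζ', conjRel_ne_self hodd ζ'⟩
  obtain ⟨M, hM⟩ := D.exists_m hTI hlt hC htwo
  obtain ⟨M', hM'⟩ := D'.exists_m hTI' hlt' hC' htwo'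
  apply parity_lemma' hodd (mult ζ) (mult ζ') (D.f ζ) (D'.f ζ')
  · exact sum_mult_mul_cross' hnf hC hC' ζ ζ' hζ1 hζ1'
  · exact mult_one _
  · exact mult_one _
  · exact D.f_ne_one htwo _
  · exact D'.f_ne_one htwo' _
  · exact exc_ne_exc' hnf hC hC' htwo htwo' D D' _ _
  · rw [← D'.f_conjRel htwo']
    exact exc_ne_exc' hnf hC hC' htwo htwo' D D' _ _
  · exact tour_mult_conj hodd hK1 hTI hlt hC ζ hζ1 D M hM
  · exact tour_mult_conj hodd hK1' hTI' hlt' hC' ζ' hζ1' D' M' hM'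
  · rw [← D.f_conjRel htwo]
    exact D.odd_mult_add hodd hC ζ hζ1 M hM
  · rw [← D'.f_conjRel htwo']
    exact D'.odd_mult_add hodd hC' ζ' hζ1' M' hM'

/-- if the exceptional character `f' ζ'` of `K'` occurs in `Γ = Ind (ρ - ζ)` then
`(|K'| - 1)/e' ≤ e - 1`, in the form `|K'| + e' ≤ e e' + 1`. -/
theorem tour_bound_of_ne_zero (hodd : Odd (Nat.card G))
    (hTI : ∀ g : G, g ∉ Subgroup.normalizer (K : Set G) → ∀ k ∈ K, g * k * g⁻¹ ∈ K → k = 1)
    (hlt : K < Subgroup.normalizer (K : Set G))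
    (hC : ∀ k ∈ K, k ≠ 1 → Subgroup.centralizer ({k} : Set G) ≤ K)
    (hC' : ∀ k ∈ K', k ≠ 1 → Subgroup.centralizer ({k} : Set G) ≤ K')
    (hnf : ∀ g : G, ∀ k ∈ K, g * k * g⁻¹ ∈ K' → k = 1)
    (ζ : RelChar K) (ζ' : RelChar K')
    (hζ1 : (ζ.1 : ↥(Subgroup.normalizer (K : Set G)) → ℂ) 1 =
      ((K.subgroupOf (Subgroup.normalizer (K : Set G))).index : ℂ))
    (hζ1' : (ζ'.1 : ↥(Subgroup.normalizer (K' : Set G)) → ℂ) 1 =
      ((K'.subgroupOf (Subgroup.normalizer (K' : Set G))).index : ℂ))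
    (D : CohData K) (D' : CohData K')
    (hne : mult ζ (D'.f ζ') ≠ 0) :
    Nat.card K' + (K'.subgroupOf (Subgroup.normalizer (K' : Set G))).index ≤
      (K.subgroupOf (Subgroup.normalizer (K : Set G))).index *
        (K'.subgroupOf (Subgroup.normalizer (K' : Set G))).index + 1 := by
  classical
  have htwo : ∃ χ ξ : RelChar K, χ ≠ ξ := ⟨conjRel ζ, ζ, conjRel_ne_self hodd ζ⟩
  have htwo' : ∃ χ ξ : RelChar K', χ ≠ ξ := ⟨conjRel ζ', ζ', conjRel_ne_self hodd ζ'⟩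
  obtain ⟨M, hM⟩ := D.exists_m hTI hlt hC htwo
  set e : ℕ := (K.subgroupOf (Subgroup.normalizer (K : Set G))).index with he
  set e' : ℕ := (K'.subgroupOf (Subgroup.normalizer (K' : Set G))).index with he'
  have he0 : 0 < e := Nat.pos_of_ne_zero Subgroup.index_ne_zero_of_finite
  have he0' : 0 < e' := Nat.pos_of_ne_zero Subgroup.index_ne_zero_of_finite
  -- the norm of `Γ`
  have hsum := sum_mult_mul_self' hTI hC ζ hζ1
  have hsumR : ∑ ψ : IrrCharacter G, ((mult ζ ψ : ℤ) : ℝ) ^ 2 = (e : ℝ) + 1 := by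
    have : ((∑ ψ : IrrCharacter G, mult ζ ψ * mult ζ ψ : ℤ) : ℝ) =
        ((((K.subgroupOf (Subgroup.normalizer (K : Set G))).index : ℤ) + 1 : ℤ) : ℝ) := by
      rw [hsum]
    push_cast at this
    rw [he, ← this]
    apply Finset.sum_congr rfl
    intro ψ _
    ring
  -- the three disjoint parts
  have hdisj : Disjoint D.excSet D'.excSet := excSet_disjoint' hnf hC hC' htwo htwo' D D'
  have h1not : (oneIrr : IrrCharacter G) ∉ D.excSet := D.one_notMem_excSet htwo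
  have h1not' : (oneIrr : IrrCharacter G) ∉ D'.excSet := D'.one_notMem_excSet htwo'
  set T : Finset (IrrCharacter G) := insert oneIrr (D.excSet ∪ D'.excSet) with hT
  have hle : ∑ ψ ∈ T, ((mult ζ ψ : ℤ) : ℝ) ^ 2 ≤
      ∑ ψ : IrrCharacter G, ((mult ζ ψ : ℤ) : ℝ) ^ 2 :=
    Finset.sum_le_sum_of_subset_of_nonneg (Finset.subset_univ _) (fun ψ _ _ => sq_nonneg _)
  have hn1 : (oneIrr : IrrCharacter G) ∉ D.excSet ∪ D'.excSet := by
    rw [Finset.mem_union]
    rintro (h | h)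
    · exact h1not h
    · exact h1not' h
  rw [hT, Finset.sum_insert hn1, Finset.sum_union hdisj, mult_one, hsumR,
    D.sum_sq_mult_excSet hC ζ hζ1 M hM,
    sum_sq_mult_cross hnf hC hC' ζ hζ1 D' ζ' hζ1'] at hle
  rw [← he, ← he'] at hle
  -- `r ≥ 2`
  have h2e := two_mul_index_lt_card hodd hC ζ hζ1
  rw [← he] at h2e
  have hr : (2 : ℝ) ≤ ((Nat.card K : ℝ) - 1) / (e : ℝ) := by
    rw [le_div_iff₀ (by exact_mod_cast he0)]
    have : ((2 * e + 1 : ℕ) : ℝ) ≤ (Nat.card K : ℝ) := by exact_mod_cast h2e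
    push_cast at this
    linarith
  -- the own part is at least `1`
  have hown : (1 : ℝ) ≤ ((Nat.card K : ℝ) - 1) / (e : ℝ) * (M : ℝ) ^ 2 - 2 * (M : ℝ) + 1 := by
    have hM2 : (M : ℝ) ≤ (M : ℝ) ^ 2 := by
      have : M ≤ M ^ 2 := by nlinarith [sq_nonneg (M - 1), sq_nonneg M, sq_nonneg (2 * M - 1)]
      exact_mod_cast this
    nlinarith [sq_nonneg (M : ℝ)]
  -- the cross part is at least `r'`
  have hν : (1 : ℝ) ≤ ((mult ζ (D'.f ζ') : ℤ) : ℝ) ^ 2 := by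
    have : (1 : ℤ) ≤ (mult ζ (D'.f ζ')) ^ 2 := by
      have h0 : 0 < (mult ζ (D'.f ζ')) ^ 2 := by positivity
      omega
    exact_mod_cast this
  have hcard1 : (1 : ℝ) ≤ (Nat.card K' : ℝ) := by
    have : 1 ≤ Nat.card K' := Nat.card_pos
    exact_mod_cast this
  have hr'0 : (0 : ℝ) ≤ ((Nat.card K' : ℝ) - 1) / (e' : ℝ) :=
    div_nonneg (by linarith) (by exact_mod_cast he0'.le)
  have hcross : ((Nat.card K' : ℝ) - 1) / (e' : ℝ) ≤
      ((Nat.card K' : ℝ) - 1) / (e' : ℝ) * ((mult ζ (D'.f ζ') : ℤ) : ℝ) ^ 2 := by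
    nlinarith
  have hfin : ((Nat.card K' : ℝ) - 1) / (e' : ℝ) ≤ (e : ℝ) - 1 := by
    have h1 : ((1 : ℤ) : ℝ) ^ 2 = 1 := by norm_num
    rw [h1] at hle
    linarith
  rw [div_le_iff₀ (by exact_mod_cast he0')] at hfin
  have : ((Nat.card K' + e' : ℕ) : ℝ) ≤ ((e * e' + 1 : ℕ) : ℝ) := by
    push_cast
    linarith
  exact_mod_cast this

/-- **Tournament bound.** Two coherent T.I. subgroups with Frobenius normalizers and no fusion
in a group of odd order: `(|K'| - 1)/e' ≤ e - 1` or `(|K| - 1)/e ≤ e' - 1`. -/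
theorem tournament_bound (hodd : Odd (Nat.card G)) (hK1 : K ≠ ⊥) (hK1' : K' ≠ ⊥)
    (hTI : ∀ g : G, g ∉ Subgroup.normalizer (K : Set G) → ∀ k ∈ K, g * k * g⁻¹ ∈ K → k = 1)
    (hTI' : ∀ g : G, g ∉ Subgroup.normalizer (K' : Set G) → ∀ k ∈ K', g * k * g⁻¹ ∈ K' → k = 1)
    (hlt : K < Subgroup.normalizer (K : Set G))
    (hlt' : K' < Subgroup.normalizer (K' : Set G))
    (hC : ∀ k ∈ K, k ≠ 1 → Subgroup.centralizer ({k} : Set G) ≤ K)
    (hC' : ∀ k ∈ K', k ≠ 1 → Subgroup.centralizer ({k} : Set G) ≤ K')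
    (hcoh : IsCoherent (tifnS K) ({1}ᶜ : Set ↥(Subgroup.normalizer (K : Set G)))
      (fun α : ↥(Subgroup.normalizer (K : Set G)) → ℂ =>
        indFun (Subgroup.normalizer (K : Set G)) α))
    (hcoh' : IsCoherent (tifnS K') ({1}ᶜ : Set ↥(Subgroup.normalizer (K' : Set G)))
      (fun α : ↥(Subgroup.normalizer (K' : Set G)) → ℂ =>
        indFun (Subgroup.normalizer (K' : Set G)) α))
    (hlin : ∃ ζ : RelChar K, (ζ.1 : ↥(Subgroup.normalizer (K : Set G)) → ℂ) 1 =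
      ((K.subgroupOf (Subgroup.normalizer (K : Set G))).index : ℂ))
    (hlin' : ∃ ζ : RelChar K', (ζ.1 : ↥(Subgroup.normalizer (K' : Set G)) → ℂ) 1 =
      ((K'.subgroupOf (Subgroup.normalizer (K' : Set G))).index : ℂ))
    (hnf : ∀ g : G, ∀ k ∈ K, g * k * g⁻¹ ∈ K' → k = 1) :
    Nat.card K' + (K'.subgroupOf (Subgroup.normalizer (K' : Set G))).index ≤
        (K.subgroupOf (Subgroup.normalizer (K : Set G))).index *
          (K'.subgroupOf (Subgroup.normalizer (K' : Set G))).index + 1 ∨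
      Nat.card K + (K.subgroupOf (Subgroup.normalizer (K : Set G))).index ≤
        (K.subgroupOf (Subgroup.normalizer (K : Set G))).index *
          (K'.subgroupOf (Subgroup.normalizer (K' : Set G))).index + 1 := by
  obtain ⟨ζ, hζ1⟩ := hlin
  obtain ⟨ζ', hζ1'⟩ := hlin'
  have htwo : ∃ χ ξ : RelChar K, χ ≠ ξ := ⟨conjRel ζ, ζ, conjRel_ne_self hodd ζ⟩
  have htwo' : ∃ χ ξ : RelChar K', χ ≠ ξ := ⟨conjRel ζ', ζ', conjRel_ne_self hodd ζ'⟩
  obtain ⟨D⟩ := exists_cohData hcoh htwo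
  obtain ⟨D'⟩ := exists_cohData hcoh' htwo'
  have hnf' : ∀ g : G, ∀ k ∈ K', g * k * g⁻¹ ∈ K → k = 1 := by
    intro g k hk hgk
    have h := hnf g⁻¹ (g * k * g⁻¹) hgk (by
      have : g⁻¹ * (g * k * g⁻¹) * g⁻¹⁻¹ = k := by group
      rw [this]
      exact hk)
    have : k = g⁻¹ * (g * k * g⁻¹) * g := by group
    rw [this, h]
    group
  have hpar := tour_odd hodd hK1 hK1' hTI hTI' hlt hlt' hC hC' hnf ζ ζ' hζ1 hζ1' D D'
  by_cases h : mult ζ (D'.f ζ') = 0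
  · right
    have h2 : mult ζ' (D.f ζ) ≠ 0 := by
      intro h0
      rw [h, h0] at hpar
      simp at hpar
    have := tour_bound_of_ne_zero hodd hTI' hlt' hC' hC hnf' ζ' ζ hζ1' hζ1 D' D h2
    rw [Nat.mul_comm]
    exact this
  · left
    exact tour_bound_of_ne_zero hodd hTI hlt hC hC' hnf ζ ζ' hζ1 hζ1' D D' h

end Tournament

end Cfsg.Agent.Lib.Helper34
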