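import Cfsg.Agent.Lib.Helper34.PFTournament
import Cfsg.Agent.Lib.Helper74.TIFNCoh

/-!
# Coherence for an abelian T.I. subgroup with Frobenius normalizer in a group of odd order

Convenience lemma feeding `tournament_bound`: for an ABELIAN `K` (e.g. the cyclic `V` of the
pseudo-class `(V W₂, V)` of PF sec. 14) the coherence hypothesis follows from Feit's theorem
(`S1535`), the non-abelian alternative being impossible.
-/

set_option autoImplicit false
set_option linter.unusedSectionVars false
set_option linter.style.haveILetI false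

namespace Cfsg.Agent.Lib.Helper34

open Cfsg Cfsg.Agent.Lib.Helper74 Cfsg.Agent.Lib.Helper78 Cfsg.Agent.Lib.Helper75
open Cfsg.Agent.Lib.Helper52

universe u

section

variable {G : Type u} [Group G] [Fintype G] {K : Subgroup G}
variable [Fintype ↥(Subgroup.normalizer (K : Set G))]

theorem tifn_coherent_of_comm (hodd : Odd (Nat.card G)) (hK1 : K ≠ ⊥)
    (hTI : ∀ g : G, g ∉ Subgroup.normalizer (K : Set G) → ∀ k ∈ K, g * k * g⁻¹ ∈ K → k = 1)
    (hlt : K < Subgroup.normalizer (K : Set G))
    (hC : ∀ k ∈ K, k ≠ 1 → Subgroup.centralizer ({k} : Set G) ≤ K)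
    (hab : ∀ a ∈ K, ∀ b ∈ K, a * b = b * a) :
    IsCoherent (tifnS K) ({1}ᶜ : Set ↥(Subgroup.normalizer (K : Set G)))
      (fun α : ↥(Subgroup.normalizer (K : Set G)) → ℂ =>
        indFun (Subgroup.normalizer (K : Set G)) α) := by
  have hle : K ≤ Subgroup.normalizer (K : Set G) := Subgroup.le_normalizer
  have hC' := tifn_centralizer_le hC
  have hcardH : Nat.card (K.subgroupOf (Subgroup.normalizer (K : Set G))) = Nat.card K :=
    Nat.card_congr (Subgroup.subgroupOfEquivOfLe hle).toEquiv
  have hsmall : Nat.card K ≠ (K.subgroupOf (Subgroup.normalizer (K : Set G))).index + 1 := by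
    intro h
    have h1 := Cfsg.Agent.Lib.Helper52.card_odd (K := K) hodd
    have h2 := Cfsg.Agent.Lib.Helper52.index_odd (K := K) hodd
    rw [h] at h1
    rcases h1 with ⟨m, hm⟩
    rcases h2 with ⟨n, hn⟩
    omega
  have hiso := indFun_isometry_of_TI K (Subgroup.normalizer (K : Set G)) hle hTI rfl (tifnS K)
    (fun χ hχ => IsIrrCharacter.isCharacter hχ.1) (fun χ hχ x hx => tifnS_vanish hC hχ x hx)
  have hres := Cfsg.Agent.S1535.result (K.subgroupOf (Subgroup.normalizer (K : Set G)))
    (subgroupOf_ne_bot K (Subgroup.normalizer (K : Set G)) hle hK1)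
    (tifn_subgroupOf_ne_top K hlt) hC' (by rw [hcardH]; exact hsmall)
    (fun α : ↥(Subgroup.normalizer (K : Set G)) → ℂ =>
      indFun (Subgroup.normalizer (K : Set G)) α) hiso.1 hiso.2
  rcases hres with hcoh | ⟨p, _, _, hna, _⟩
  · exact hcoh
  · exfalso
    apply hna
    refine ⟨⟨fun x y => ?_⟩⟩
    apply Subtype.ext
    apply Subtype.ext
    have := hab (x : ↥(Subgroup.normalizer (K : Set G))) (Subgroup.mem_subgroupOf.mp x.2)
      (y : ↥(Subgroup.normalizer (K : Set G))) (Subgroup.mem_subgroupOf.mp y.2)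
    simpa using this

end

end Cfsg.Agent.Lib.Helper34
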