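import Mathlib
import Cfsg.Prelude.Def_Transfer
import Cfsg.Agent.Lib.Helper34.RelCM
import Cfsg.Agent.Lib.Helper34.CentMaxStruct

/-!
# Normal subgroups whose noncentral elements have maximal centralizers: the class two case

Let `N ⊴ G` such that `C_G(x)` is maximal in `G` for all `x ∈ N ∖ Z(N)`.  If `N' ≤ Z(N)` then
`N / Z(N)` is elementary abelian.
-/

set_option autoImplicit false
set_option linter.style.haveILetI false

namespace Cfsg.Agent.Lib.Helper34

open Cfsg

universe u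

variable {G : Type u} [Group G]

/-- The center of `N` as a subgroup of `G`. -/
abbrev zN (N : Subgroup G) : Subgroup G := N ⊓ Subgroup.centralizer (N : Set G)

theorem mem_center_subtype_iff (N : Subgroup G) (n : N) :
    n ∈ Subgroup.center N ↔ (n : G) ∈ zN N := by
  rw [Subgroup.mem_center_iff, Subgroup.mem_inf, Subgroup.mem_centralizer_iff]
  constructor
  · intro h
    exact ⟨n.2, fun g hg => congrArg Subtype.val (h ⟨g, hg⟩)⟩
  · intro h g
    exact Subtype.ext (h.2 g g.2)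

/-- The commutator `x g x⁻¹ g⁻¹`. -/
def cmm (x g : G) : G := x * g * x⁻¹ * g⁻¹

theorem cmm_mul (x g k : G) : cmm x (g * k) = cmm x g * (g * cmm x k * g⁻¹) := by
  unfold cmm; group

theorem cmm_inv (x g : G) : cmm x g⁻¹ = g⁻¹ * (cmm x g)⁻¹ * g⁻¹⁻¹ := by
  unfold cmm; group

theorem cmm_one (x : G) : cmm x 1 = 1 := by
  unfold cmm; group

theorem cmm_eq_one_iff (x g : G) : cmm x g = 1 ↔ g ∈ cz x := by
  rw [mem_cz_iff]
  unfold cmm
  constructor
  · intro h
    have : x * g = (x * g * x⁻¹ * g⁻¹) * (g * x) := by group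
    rw [h, one_mul] at this
    exact this.symm
  · intro h
    have : x * g * x⁻¹ * g⁻¹ = (x * g) * (g * x)⁻¹ := by group
    rw [this, h]; group

section caseI

variable [Finite G] (N : Subgroup G) [N.Normal]

theorem exists_prime_pow_mem_zN_of_class_two
    (h : ∀ x : G, x ∈ N → x ∉ Subgroup.centralizer (N : Set G) → IsCoatom (cz x))
    (hI : ∀ a ∈ N, ∀ b ∈ N, a * b * a⁻¹ * b⁻¹ ∈ zN N) (x : G) (hx : x ∈ N) :
    ∃ q : ℕ, q.Prime ∧ x ^ q ∈ zN N := by
  by_cases hxZ : x ∈ Subgroup.centralizer (N : Set G)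
  · exact ⟨2, Nat.prime_two, (zN N).pow_mem (Subgroup.mem_inf.mpr ⟨hx, hxZ⟩) 2⟩
  have hM : IsCoatom (cz x) := h x hx hxZ
  have hNM : ¬ N ≤ cz x := by
    intro hle
    apply hxZ
    rw [Subgroup.mem_centralizer_iff]
    intro n hn
    exact mem_cz_iff.mp (hle hn)
  have hZN : zN N ≤ N := inf_le_left
  have hZcomm : ∀ z ∈ zN N, ∀ n ∈ N, n * z = z * n := fun z hz n hn =>
    Subgroup.mem_centralizer_iff.mp (Subgroup.mem_inf.mp hz).2 n hn
  have hZn : (zN N).Normal := inferInstance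
  have hZZ : ∀ a ∈ zN N, ∀ b ∈ zN N, Commute a b := fun a ha b hb => hZcomm b hb a (hZN ha)
  have hcZ : ∀ g, cmm x g ∈ zN N := by
    intro g
    obtain ⟨n, hn, m, hm, rfl⟩ := exists_mul_of_normal_of_isCoatom N hM hNM g
    have h1 : cmm x m = 1 := (cmm_eq_one_iff x m).mpr hm
    rw [cmm_mul, h1, mul_one, mul_inv_cancel, mul_one]
    exact hI x hx n hn
  -- `cmm x` is multiplicative on `N`
  have hcN : ∀ a ∈ N, ∀ b, cmm x (a * b) = cmm x a * cmm x b := by
    intro a ha b
    rw [cmm_mul]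
    congr 1
    have := hZcomm (cmm x b) (hcZ b) a ha
    rw [this]; group
  have hcpow : ∀ a ∈ N, ∀ j : ℕ, cmm x (a ^ j) = (cmm x a) ^ j := by
    intro a ha j
    induction j with
    | zero => rw [pow_zero, pow_zero, cmm_one]
    | succ j ih => rw [pow_succ', hcN a ha, ih, pow_succ']
  obtain ⟨n₁, hn₁N, hn₁M⟩ := SetLike.not_le_iff_exists.mp hNM
  have hcn₁ : cmm x n₁ ≠ 1 := fun h1 => hn₁M ((cmm_eq_one_iff x n₁).mp h1)
  set k := orderOf (cmm x n₁) with hk
  have hk1 : k ≠ 1 := fun h1 => hcn₁ (orderOf_eq_one_iff.mp h1)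
  have hk0 : 0 < k := orderOf_pos _
  set q := k.minFac with hq
  have hqp : q.Prime := Nat.minFac_prime hk1
  obtain ⟨k', hk'⟩ : q ∣ k := Nat.minFac_dvd k
  have hk'0 : 0 < k' := by
    rcases Nat.eq_zero_or_pos k' with h0 | h0
    · rw [h0, mul_zero] at hk'; omega
    · exact h0
  have hk'k : k' < k := by
    rw [hk']
    exact lt_mul_of_one_lt_left hk'0 hqp.one_lt
  have hn'N : n₁ ^ k' ∈ N := N.pow_mem hn₁N k'
  have hcn' : cmm x (n₁ ^ k') = (cmm x n₁) ^ k' := hcpow n₁ hn₁N k'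
  have hcn'1 : cmm x (n₁ ^ k') ≠ 1 := by
    rw [hcn']
    intro h1
    have := Nat.le_of_dvd hk'0 (orderOf_dvd_of_pow_eq_one h1)
    omega
  have hcn'q : (cmm x (n₁ ^ k')) ^ q = 1 := by
    rw [hcn', ← pow_mul, mul_comm, ← hk']
    exact pow_orderOf_eq_one _
  let J : Subgroup G :=
    { carrier := {g | (cmm x g) ^ q = 1}
      one_mem' := by
        show (cmm x 1) ^ q = 1
        rw [cmm_one, one_pow]
      mul_mem' := by
        intro a b ha hb
        have ha' : (cmm x a) ^ q = 1 := ha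
        have hb' : (cmm x b) ^ q = 1 := hb
        show (cmm x (a * b)) ^ q = 1
        rw [cmm_mul, (hZZ _ (hcZ a) _ (hZn.conj_mem _ (hcZ b) a)).mul_pow, ha', one_mul,
          conj_pow, hb', mul_one, mul_inv_cancel]
      inv_mem' := by
        intro a ha
        have ha' : (cmm x a) ^ q = 1 := ha
        show (cmm x a⁻¹) ^ q = 1
        rw [cmm_inv, conj_pow, inv_pow, ha', inv_one, mul_one, mul_inv_cancel] }
  have hMJ : cz x ≤ J := by
    intro m hm
    show (cmm x m) ^ q = 1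
    rw [(cmm_eq_one_iff x m).mpr hm, one_pow]
  have hJtop : J = ⊤ := by
    rcases hM.le_iff.mp hMJ with h1 | h1
    · exact h1
    · exfalso
      have : n₁ ^ k' ∈ cz x := by rw [← h1]; exact hcn'q
      exact hcn'1 ((cmm_eq_one_iff x _).mpr this)
  have hall : ∀ g, (cmm x g) ^ q = 1 := fun g => by
    have : g ∈ J := by rw [hJtop]; exact Subgroup.mem_top g
    exact this
  refine ⟨q, hqp, Subgroup.mem_inf.mpr ⟨N.pow_mem hx q, ?_⟩⟩
  rw [Subgroup.mem_centralizer_iff]
  intro n hn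
  have he : ∀ j : ℕ, cmm (x ^ j) n = (cmm x n) ^ j := by
    intro j
    induction j with
    | zero =>
      rw [pow_zero, pow_zero]
      unfold cmm; group
    | succ j ih =>
      have h1 : cmm (x ^ (j + 1)) n = x * cmm (x ^ j) n * x⁻¹ * cmm x n := by
        unfold cmm
        rw [pow_succ']; group
      rw [h1, ih]
      have h2 : x * (cmm x n) ^ j = (cmm x n) ^ j * x :=
        hZcomm _ ((zN N).pow_mem (hcZ n) j) x hx
      rw [h2, mul_assoc ((cmm x n) ^ j) x x⁻¹, mul_inv_cancel, mul_one, ← pow_succ]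
  have h3 := he q
  rw [hall n, cmm_eq_one_iff, mem_cz_iff] at h3
  exact h3

theorem elementaryAbelian_of_class_two
    (h : ∀ x : G, x ∈ N → x ∉ Subgroup.centralizer (N : Set G) → IsCoatom (cz x))
    (hI : ∀ a ∈ N, ∀ b ∈ N, a * b * a⁻¹ * b⁻¹ ∈ zN N) :
    ∃ p : ℕ, p.Prime ∧ IsElementaryAbelian p (⊤ : Subgroup (↥N ⧸ Subgroup.center ↥N)) := by
  have hcomm : ∀ a b : ↥N ⧸ Subgroup.center ↥N, a * b = b * a := by
    intro a b
    induction a using QuotientGroup.induction_on with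
    | H a =>
      induction b using QuotientGroup.induction_on with
      | H b =>
        rw [← QuotientGroup.mk_mul, ← QuotientGroup.mk_mul, QuotientGroup.eq,
          mem_center_subtype_iff]
        have := hI (b⁻¹ : N) (N.inv_mem b.2) (a⁻¹ : N) (N.inv_mem a.2)
        have e : (((a * b)⁻¹ * (b * a) : N) : G)
            = ((b⁻¹ : N) : G) * ((a⁻¹ : N) : G) * ((b⁻¹ : N) : G)⁻¹ * ((a⁻¹ : N) : G)⁻¹ := by
          simp only [Subgroup.coe_mul, Subgroup.coe_inv]
          group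
        rw [e]
        exact this
  have hpr : ∀ a : ↥N ⧸ Subgroup.center ↥N, ∃ q : ℕ, q.Prime ∧ a ^ q = 1 := by
    intro a
    induction a using QuotientGroup.induction_on with
    | H a =>
      obtain ⟨q, hq, haq⟩ := exists_prime_pow_mem_zN_of_class_two N h hI a a.2
      refine ⟨q, hq, ?_⟩
      rw [← QuotientGroup.mk_pow, QuotientGroup.eq_one_iff, mem_center_subtype_iff]
      simpa using haq
  obtain ⟨p, hp, hexp⟩ := exists_prime_exponent_of_comm hcomm hpr
  exact ⟨p, hp, ⟨⟨fun a b => Subtype.ext (hcomm a.1 b.1)⟩⟩, fun a _ => hexp a⟩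

end caseI

end Cfsg.Agent.Lib.Helper34
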