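import Mathlib
import Cfsg.Prelude.Def_Solvable
import Cfsg.Prelude.Def_Transfer
import Cfsg.Agent.Lib.Helper34.RelCMCaseI
import Cfsg.Agent.Lib.Helper34.RelCMStruct
import Cfsg.Agent.Lib.Helper34.RelCMFrob
import Cfsg.Agent.Lib.Helper34.ChiefFactorAction

/-!
# Normal subgroups whose noncentral elements have maximal centralizers: the general case

Let `N ⊴ G` such that `C_G(x)` is maximal in `G` for all `x ∈ N ∖ Z(N)`.  If `N' ≰ Z(N)` then
`N Z(N) / Z(N) ≤ G / Z(N)` satisfies `RelCM`, so `N / Z(N)` is a Frobenius group with elementary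
abelian kernel and complement of prime order.
-/

set_option autoImplicit false
set_option linter.style.haveILetI false

namespace Cfsg.Agent.Lib.Helper34

open Cfsg

universe u

variable {G : Type u} [Group G]

theorem cmm_mem_iff (Z : Subgroup G) [Z.Normal] (a b : G) :
    cmm a b ∈ Z ↔ QuotientGroup.mk' Z b ∈ cz (QuotientGroup.mk' Z a) := by
  rw [mem_cz_iff, ← QuotientGroup.eq_one_iff]
  unfold cmm
  rw [QuotientGroup.mk'_apply, QuotientGroup.mk'_apply, QuotientGroup.mk_mul, QuotientGroup.mk_mul,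
    QuotientGroup.mk_mul, QuotientGroup.mk_inv, QuotientGroup.mk_inv, mul_inv_eq_one,
    mul_inv_eq_iff_eq_mul]
  exact eq_comm

theorem cmm_mul_left_not_mem (Z : Subgroup G) [hZn : Z.Normal] {a y n : G} (ha : cmm a n ∈ Z)
    (hy : cmm y n ∉ Z) : cmm (a * y) n ∉ Z := by
  intro hmem
  have e1 : cmm (a * y) n = a * cmm y n * a⁻¹ * cmm a n := by unfold cmm; group
  rw [e1] at hmem
  have h2 : a * cmm y n * a⁻¹ ∈ Z := by
    have := Z.mul_mem hmem (Z.inv_mem ha)
    rwa [mul_inv_cancel_right] at this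
  apply hy
  have := hZn.conj_mem _ h2 a⁻¹
  have e2 : a⁻¹ * (a * cmm y n * a⁻¹) * a⁻¹⁻¹ = cmm y n := by group
  rwa [e2] at this

section caseII

variable (N : Subgroup G) [N.Normal]

theorem mem_cz_of_cmm_mem
    (h : ∀ x : G, x ∈ N → x ∉ Subgroup.centralizer (N : Set G) → IsCoatom (cz x))
    {w n₁ : G} (hw : w ∈ N) (hn₁ : n₁ ∈ N) (hwn : cmm w n₁ ∉ zN N) {g : G}
    (hg : cmm w g ∈ zN N) : g ∈ cz w := by
  haveI hZn : (zN N).Normal := inferInstance
  have hwZ : w ∉ Subgroup.centralizer (N : Set G) := by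
    intro hc
    apply hwn
    have : n₁ ∈ cz w := by
      rw [mem_cz_iff]
      exact Subgroup.mem_centralizer_iff.mp hc n₁ hn₁
    rw [(cmm_eq_one_iff w n₁).mpr this]
    exact (zN N).one_mem
  have hM := h w hw hwZ
  set S : Subgroup G :=
    (cz (QuotientGroup.mk' (zN N) w)).comap (QuotientGroup.mk' (zN N)) with hS
  have hMS : cz w ≤ S := by
    intro m hm
    rw [hS, Subgroup.mem_comap, ← cmm_mem_iff, (cmm_eq_one_iff w m).mpr hm]
    exact (zN N).one_mem
  have hgS : g ∈ S := by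
    rw [hS, Subgroup.mem_comap, ← cmm_mem_iff]
    exact hg
  rcases hM.le_iff.mp hMS with h1 | h1
  · exfalso
    apply hwn
    have : n₁ ∈ S := by rw [h1]; exact Subgroup.mem_top _
    rw [hS, Subgroup.mem_comap, ← cmm_mem_iff] at this
    exact this
  · rw [← h1]
    exact hgS

theorem mem_zN_of_forall_cmm_mem
    (h : ∀ x : G, x ∈ N → x ∉ Subgroup.centralizer (N : Set G) → IsCoatom (cz x))
    {x₀ n₀ : G} (hx₀ : x₀ ∈ N) (hn₀ : n₀ ∈ N) (hII : cmm x₀ n₀ ∉ zN N) {x : G} (hx : x ∈ N)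
    (hxT : ∀ n ∈ N, cmm x n ∈ zN N) : x ∈ zN N := by
  haveI hZn : (zN N).Normal := inferInstance
  have step1 : ∀ y ∈ N, ∀ n₁ ∈ N, cmm y n₁ ∉ zN N → y * x = x * y := by
    intro y hy n₁ hn₁ hyn
    have hw : cmm (x * y) n₁ ∉ zN N := cmm_mul_left_not_mem (zN N) (hxT n₁ hn₁) hyn
    have e2 : cmm (x * y) y = cmm x y := by unfold cmm; group
    have h3 : y ∈ cz (x * y) :=
      mem_cz_of_cmm_mem N h (N.mul_mem hx hy) hn₁ hw (by rw [e2]; exact hxT y hy)
    rw [mem_cz_iff] at h3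
    have : y * x * y = x * y * y := by rw [mul_assoc, h3]
    exact mul_right_cancel this
  rw [Subgroup.mem_inf]
  refine ⟨hx, ?_⟩
  rw [Subgroup.mem_centralizer_iff]
  intro n hn
  by_cases hT : ∃ n₁ ∈ N, cmm n n₁ ∉ zN N
  · obtain ⟨n₁, hn₁, hnn⟩ := hT
    exact step1 n hn n₁ hn₁ hnn
  · push Not at hT
    have hy : cmm (n * x₀) n₀ ∉ zN N := cmm_mul_left_not_mem (zN N) (hT n₀ hn₀) hII
    have h4 := step1 (n * x₀) (N.mul_mem hn hx₀) n₀ hn₀ hy
    have h5 := step1 x₀ hx₀ n₀ hn₀ hII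
    have : n * x * x₀ = x * n * x₀ := by
      calc n * x * x₀ = n * (x * x₀) := by group
        _ = n * (x₀ * x) := by rw [h5]
        _ = n * x₀ * x := by group
        _ = x * (n * x₀) := h4
        _ = x * n * x₀ := by group
    exact mul_right_cancel this

theorem frobenius_of_not_class_two [Finite G]
    (h : ∀ x : G, x ∈ N → x ∉ Subgroup.centralizer (N : Set G) → IsCoatom (cz x))
    {x₀ n₀ : G} (hx₀ : x₀ ∈ N) (hn₀ : n₀ ∈ N) (hII : cmm x₀ n₀ ∉ zN N) :
    ∃ (Q K : Subgroup (↥N ⧸ Subgroup.center ↥N)) (p : ℕ), p.Prime ∧ IsFrobeniusComplement Q ∧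
      (Nat.card ↥Q).Prime ∧ K.Normal ∧
      (K : Set (↥N ⧸ Subgroup.center ↥N)) = frobeniusKernel Q ∧ IsElementaryAbelian p K := by
  haveI hZn : (zN N).Normal := inferInstance
  set π := QuotientGroup.mk' (zN N) with hπ
  set Nb : Subgroup (G ⧸ zN N) := N.map π with hNb
  haveI hNbn : Nb.Normal :=
    Subgroup.Normal.map inferInstance π (QuotientGroup.mk'_surjective (zN N))
  have hnotT : ∀ x ∈ N, x ∉ zN N → ∃ n₁ ∈ N, cmm x n₁ ∉ zN N := by
    intro x hx hxZ
    by_contra hcon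
    push Not at hcon
    exact hxZ (mem_zN_of_forall_cmm_mem N h hx₀ hn₀ hII hx hcon)
  have hrel : RelCM Nb := by
    constructor
    · rintro _ ⟨x, hx, rfl⟩ hx1
      have hxZ : x ∉ zN N := fun hz => hx1 ((QuotientGroup.eq_one_iff x).mpr hz)
      obtain ⟨n₁, hn₁, hxn⟩ := hnotT x hx hxZ
      have hxC : x ∉ Subgroup.centralizer (N : Set G) :=
        fun hc => hxZ (Subgroup.mem_inf.mpr ⟨hx, hc⟩)
      have hM := h x hx hxC
      have hZle : zN N ≤ cz x := by
        intro z hz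
        rw [mem_cz_iff]
        exact (Subgroup.mem_centralizer_iff.mp (Subgroup.mem_inf.mp hz).2 x hx).symm
      have hco := isCoatom_map_mk_of_le (zN N) (cz x) hM hZle
      have hle : (cz x).map π ≤ cz (π x) := by
        rintro _ ⟨m, hm, rfl⟩
        rw [← cmm_mem_iff, (cmm_eq_one_iff x m).mpr hm]
        exact (zN N).one_mem
      rcases hco.le_iff.mp hle with h1 | h1
      · exfalso
        have : π n₁ ∈ cz (π x) := by rw [h1]; exact Subgroup.mem_top _
        exact hxn ((cmm_mem_iff (zN N) x n₁).mpr this)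
      · rw [h1]; exact hco
    · rintro _ ⟨x, hx, rfl⟩ hx1 hle
      have hxZ : x ∉ zN N := fun hz => hx1 ((QuotientGroup.eq_one_iff x).mpr hz)
      obtain ⟨n₁, hn₁, hxn⟩ := hnotT x hx hxZ
      exact hxn ((cmm_mem_iff (zN N) x n₁).mpr (hle ⟨n₁, hn₁, rfl⟩))
  have hNb1 : Nb ≠ ⊥ := by
    intro hbot
    have hmem : π x₀ ∈ Nb := ⟨x₀, hx₀, rfl⟩
    rw [hbot, Subgroup.mem_bot] at hmem
    have hx₀Z : x₀ ∈ zN N := (QuotientGroup.eq_one_iff x₀).mp hmem
    apply hII
    have : n₀ ∈ cz x₀ := by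
      rw [mem_cz_iff]
      exact Subgroup.mem_centralizer_iff.mp (Subgroup.mem_inf.mp hx₀Z).2 n₀ hn₀
    rw [(cmm_eq_one_iff x₀ n₀).mpr this]
    exact (zN N).one_mem
  obtain ⟨K, C, r, hr, hKn, hKN, hCN, hK1, hKab, hKr, hCprime, hKC0, hprod, hfpf⟩ :=
    hrel.exists_structure hNb1
  have hker : Subgroup.center ↥N ≤ (π.comp N.subtype).ker := by
    intro n hn
    rw [MonoidHom.mem_ker, MonoidHom.comp_apply]
    exact (QuotientGroup.eq_one_iff _).mpr ((mem_center_subtype_iff N n).mp hn)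
  set ψ : ↥N ⧸ Subgroup.center ↥N →* G ⧸ zN N :=
    QuotientGroup.lift (Subgroup.center ↥N) (π.comp N.subtype) hker with hψ
  have hψinj : Function.Injective ψ := by
    rw [injective_iff_map_eq_one]
    intro a ha
    induction a using QuotientGroup.induction_on with
    | H a =>
      rw [hψ, QuotientGroup.lift_mk] at ha
      rw [QuotientGroup.eq_one_iff, mem_center_subtype_iff]
      exact (QuotientGroup.eq_one_iff _).mp ha
  have hrange : ∀ n : G ⧸ zN N, n ∈ Nb ↔ ∃ y, ψ y = n := by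
    intro n
    constructor
    · rintro ⟨x, hx, rfl⟩
      exact ⟨QuotientGroup.mk ⟨x, hx⟩, rfl⟩
    · rintro ⟨y, rfl⟩
      induction y using QuotientGroup.induction_on with
      | H a => exact ⟨a, a.2, rfl⟩
  obtain ⟨Q, K', h1, h2, h3, h4, h5⟩ := frobenius_of_structure ψ hψinj hrange hKn hKN hCN hK1
    hKab hKr hCprime hKC0 hprod hfpf
  exact ⟨Q, K', r, hr, h1, h2, h3, h4, h5⟩

end caseII

end Cfsg.Agent.Lib.Helper34
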