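import Mathlib
import Cfsg.Prelude.Def_Local
import Cfsg.Prelude.Def_CaseTheorems

/-!
# S2924 (helper55's sheet), module [COMM] (helper34)

Abstract family `θ` on an elementary abelian `2`-group `Y`, `|Y| ≥ 8`, abelian members of odd order,
balance `θ a ∩ C(b) ≤ θ b`: then `[θ a, θ b] = 1`.
-/

set_option autoImplicit false

namespace Cfsg.Agent.Lib.Helper34.S2924

variable {X : Type*} [Group X]

/-- `s` inverts `w` -/
def Inverts (s w : X) : Prop := s * w * s⁻¹ = w⁻¹

theorem Inverts.mul {s x y : X} (h1 : Inverts s x) (h2 : Inverts s y) (hc : Commute x y) :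
    Inverts s (x * y) := by
  unfold Inverts at *
  calc s * (x * y) * s⁻¹ = (s * x * s⁻¹) * (s * y * s⁻¹) := by group
    _ = x⁻¹ * y⁻¹ := by rw [h1, h2]
    _ = (y * x)⁻¹ := by rw [mul_inv_rev]
    _ = (x * y)⁻¹ := by rw [hc.eq]

theorem Inverts.inv {s x : X} (h : Inverts s x) : Inverts s x⁻¹ := by
  unfold Inverts at *
  calc s * x⁻¹ * s⁻¹ = (s * x * s⁻¹)⁻¹ := by group
    _ = x⁻¹⁻¹ := by rw [h]

theorem Inverts.conj {s t v : X} (h : Inverts s v) (hst : Commute s t) :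
    Inverts s (t * v * t⁻¹) := by
  unfold Inverts at *
  have h1 : s * t = t * s := hst.eq
  have h2 : t⁻¹ * s⁻¹ = s⁻¹ * t⁻¹ := by
    rw [← mul_inv_rev, ← mul_inv_rev, h1]
  calc s * (t * v * t⁻¹) * s⁻¹ = (s * t) * v * (t⁻¹ * s⁻¹) := by group
    _ = (t * s) * v * (s⁻¹ * t⁻¹) := by rw [h1, h2]
    _ = t * (s * v * s⁻¹) * t⁻¹ := by group
    _ = t * v⁻¹ * t⁻¹ := by rw [h]
    _ = (t * v * t⁻¹)⁻¹ := by group

theorem commute_mul_of_inverts {s s' w : X} (h : Inverts s w) (h' : Inverts s' w) :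
    Commute w (s * s') := by
  unfold Inverts at h h'
  have key : (s * s') * w * (s * s')⁻¹ = w := by
    calc (s * s') * w * (s * s')⁻¹ = s * (s' * w * s'⁻¹) * s⁻¹ := by group
      _ = s * w⁻¹ * s⁻¹ := by rw [h']
      _ = (s * w * s⁻¹)⁻¹ := by group
      _ = w := by rw [h, inv_inv]
  show w * (s * s') = (s * s') * w
  calc w * (s * s') = ((s * s') * w * (s * s')⁻¹) * (s * s') := by rw [key]
    _ = (s * s') * w := by group

theorem commute_of_sq_of_odd {v u : X} (hv : Odd (orderOf v)) (hu : Odd (orderOf u))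
    (h : Commute (v * v) (u * u)) : Commute v u := by
  obtain ⟨k, hk⟩ := hv
  obtain ⟨j, hj⟩ := hu
  have e1 : (v * v) ^ (k + 1) = v := by
    rw [← pow_two, ← pow_mul]
    have : 2 * (k + 1) = orderOf v + 1 := by omega
    rw [this, pow_succ, pow_orderOf_eq_one, one_mul]
  have e2 : (u * u) ^ (j + 1) = u := by
    rw [← pow_two, ← pow_mul]
    have : 2 * (j + 1) = orderOf u + 1 := by omega
    rw [this, pow_succ, pow_orderOf_eq_one, one_mul]
  have := h.pow_pow (k + 1) (j + 1)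
  rwa [e1, e2] at this

/-- the `+`-part of `v` under `t` -/
def sp (t v : X) : X := v * (t * v * t⁻¹)

/-- the `-`-part of `v` under `t` -/
def sm (t v : X) : X := v * (t * v * t⁻¹)⁻¹

section split

variable {V : Subgroup X} {t v : X}

theorem sp_mem (hn : t * v * t⁻¹ ∈ V) (hv : v ∈ V) : sp t v ∈ V := mul_mem hv hn

theorem sm_mem (hn : t * v * t⁻¹ ∈ V) (hv : v ∈ V) : sm t v ∈ V := mul_mem hv (inv_mem hn)

theorem sp_mul_sm (hc : Commute v (t * v * t⁻¹)) : sp t v * sm t v = v * v := by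
  unfold sp sm
  calc v * (t * v * t⁻¹) * (v * (t * v * t⁻¹)⁻¹)
      = v * ((t * v * t⁻¹) * v) * (t * v * t⁻¹)⁻¹ := by group
    _ = v * (v * (t * v * t⁻¹)) * (t * v * t⁻¹)⁻¹ := by rw [hc.eq]
    _ = v * v := by group

theorem conj_conj (ht : t * t = 1) : t * (t * v * t⁻¹) * t⁻¹ = v := by
  calc t * (t * v * t⁻¹) * t⁻¹ = (t * t) * v * (t * t)⁻¹ := by group
    _ = v := by rw [ht]; group

theorem commute_sp (ht : t * t = 1) (hc : Commute v (t * v * t⁻¹)) : Commute (sp t v) t := by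
  have key : t * sp t v * t⁻¹ = sp t v := by
    unfold sp
    calc t * (v * (t * v * t⁻¹)) * t⁻¹ = (t * v * t⁻¹) * (t * (t * v * t⁻¹) * t⁻¹) := by group
      _ = (t * v * t⁻¹) * v := by rw [conj_conj ht]
      _ = v * (t * v * t⁻¹) := hc.eq.symm
  show sp t v * t = t * sp t v
  calc sp t v * t = (t * sp t v * t⁻¹) * t := by rw [key]
    _ = t * sp t v := by group

theorem inverts_sm (ht : t * t = 1) : Inverts t (sm t v) := by
  unfold Inverts sm
  calc t * (v * (t * v * t⁻¹)⁻¹) * t⁻¹ = (t * v * t⁻¹) * (t * (t * v * t⁻¹) * t⁻¹)⁻¹ := by group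
    _ = (t * v * t⁻¹) * v⁻¹ := by rw [conj_conj ht]
    _ = (v * (t * v * t⁻¹)⁻¹)⁻¹ := by group

theorem commute_conj {s : X} (hvs : Commute v s) (hts : Commute t s) :
    Commute (t * v * t⁻¹) s :=
  (hts.mul_left hvs).mul_left hts.inv_left

theorem commute_sp_of {s : X} (hvs : Commute v s) (hts : Commute t s) : Commute (sp t v) s :=
  hvs.mul_left (commute_conj hvs hts)

theorem commute_sm_of {s : X} (hvs : Commute v s) (hts : Commute t s) : Commute (sm t v) s :=
  hvs.mul_left (commute_conj hvs hts).inv_left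

theorem inverts_sp_of {s : X} (hvs : Inverts s v) (hst : Commute s t)
    (hc : Commute v (t * v * t⁻¹)) : Inverts s (sp t v) :=
  hvs.mul (hvs.conj hst) hc

theorem inverts_sm_of {s : X} (hvs : Inverts s v) (hst : Commute s t)
    (hc : Commute v (t * v * t⁻¹)) : Inverts s (sm t v) :=
  hvs.mul (hvs.conj hst).inv hc.inv_right

end split

/-- [COMM] -/
theorem commute_of_balance (Y : Subgroup X) (θ : X → Subgroup X)
    (hY : Cfsg.IsElementaryAbelian 2 Y) (h8 : 8 ≤ Nat.card ↥Y)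
    (hab : ∀ y ∈ Y, y ≠ 1 → ∀ u ∈ θ y, ∀ v ∈ θ y, Commute u v)
    (hodd : ∀ y ∈ Y, y ≠ 1 → ∀ v ∈ θ y, Odd (orderOf v))
    (hcent : ∀ y ∈ Y, y ≠ 1 → ∀ v ∈ θ y, Commute v y)
    (hnorm : ∀ y ∈ Y, y ≠ 1 → ∀ t ∈ Y, ∀ v ∈ θ y, t * v * t⁻¹ ∈ θ y)
    (hbal : ∀ a ∈ Y, a ≠ 1 → ∀ b ∈ Y, b ≠ 1 → ∀ v ∈ θ a, Commute v b → v ∈ θ b) :
    ∀ a ∈ Y, a ≠ 1 → ∀ b ∈ Y, b ≠ 1 → ∀ v ∈ θ a, ∀ u ∈ θ b, Commute v u := by
  classical
  intro a ha ha1 b hb hb1 v hv u hu
  by_cases hne : a = b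
  · subst hne
    exact hab a ha ha1 v hv u hu
  -- facts on `Y`
  have comY : ∀ s ∈ Y, ∀ t ∈ Y, Commute s t := by
    intro s hs t ht
    have := hY.1.is_comm.comm (⟨s, hs⟩ : Y) ⟨t, ht⟩
    exact congrArg Subtype.val this
  have sqY : ∀ s ∈ Y, s * s = 1 := by
    intro s hs
    rw [← pow_two]; exact hY.2 s hs
  have invY : ∀ s ∈ Y, s⁻¹ = s := fun s hs => inv_eq_of_mul_eq_one_right (sqY s hs)
  -- the element `c`
  have hexc : ∃ c ∈ Y, c ≠ 1 ∧ c ≠ a ∧ c ≠ b ∧ c ≠ a * b := by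
    by_contra hcon
    have hsub : (Y : Set X) ⊆ ↑({1, a, b, a * b} : Finset X) := by
      intro y hy
      by_contra hy'
      apply hcon
      refine ⟨y, hy, ?_, ?_, ?_, ?_⟩ <;> · intro h; apply hy'; simp [h]
    have h1 := Set.ncard_le_ncard hsub (Finset.finite_toSet _)
    rw [Set.ncard_coe_finset] at h1
    have h2 : ({1, a, b, a * b} : Finset X).card ≤ 4 := Finset.card_le_four
    have h3 : Nat.card ↥Y = (Y : Set X).ncard := rfl
    omega
  obtain ⟨c, hc, hc1, hca, hcb, hcab⟩ := hexc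
  -- the products
  have hac : a * c ∈ Y := mul_mem ha hc
  have hbc : b * c ∈ Y := mul_mem hb hc
  have habc : a * (b * c) ∈ Y := mul_mem ha hbc
  have hac1 : a * c ≠ 1 := by
    intro h
    apply hca
    have : c = a⁻¹ := (inv_eq_of_mul_eq_one_right h).symm
    rw [this, invY a ha]
  have hbc1 : b * c ≠ 1 := by
    intro h
    apply hcb
    have : c = b⁻¹ := (inv_eq_of_mul_eq_one_right h).symm
    rw [this, invY b hb]
  have habc1 : a * (b * c) ≠ 1 := by
    intro h
    apply hcab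
    have h1 : b * c = a⁻¹ := (inv_eq_of_mul_eq_one_right h).symm
    rw [invY a ha] at h1
    have h2 : c = b⁻¹ * a := by rw [← h1]; group
    rw [h2, invY b hb, (comY a ha b hb).eq]
  -- commuting inside `θ y`, for conjugates
  have hcc : ∀ y ∈ Y, y ≠ 1 → ∀ t ∈ Y, ∀ w ∈ θ y, Commute w (t * w * t⁻¹) :=
    fun y hy hy1 t ht w hw => hab y hy hy1 w hw _ (hnorm y hy hy1 t ht w hw)
  -- first split
  have hvp : sp b v ∈ θ a := sp_mem (hnorm a ha ha1 b hb v hv) hv
  have hvm : sm b v ∈ θ a := sm_mem (hnorm a ha ha1 b hb v hv) hv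
  have hup : sp a u ∈ θ b := sp_mem (hnorm b hb hb1 a ha u hu) hu
  have hum : sm a u ∈ θ b := sm_mem (hnorm b hb hb1 a ha u hu) hu
  have hvv : sp b v * sm b v = v * v := sp_mul_sm (hcc a ha ha1 b hb v hv)
  have huu : sp a u * sm a u = u * u := sp_mul_sm (hcc b hb hb1 a ha u hu)
  have hvpb : sp b v ∈ θ b :=
    hbal a ha ha1 b hb hb1 _ hvp (commute_sp (sqY b hb) (hcc a ha ha1 b hb v hv))
  have hupa : sp a u ∈ θ a :=
    hbal b hb hb1 a ha ha1 _ hup (commute_sp (sqY a ha) (hcc b hb hb1 a ha u hu))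
  have hvmb : Inverts b (sm b v) := inverts_sm (sqY b hb)
  have huma : Inverts a (sm a u) := inverts_sm (sqY a ha)
  -- second split
  set vm := sm b v with hvm_def
  set um := sm a u with hum_def
  have hcvm := hcc a ha ha1 c hc vm hvm
  have hcum := hcc b hb hb1 c hc um hum
  have hvmp : sp c vm ∈ θ a := sp_mem (hnorm a ha ha1 c hc vm hvm) hvm
  have hvmm : sm c vm ∈ θ a := sm_mem (hnorm a ha ha1 c hc vm hvm) hvm
  have hump : sp c um ∈ θ b := sp_mem (hnorm b hb hb1 c hc um hum) hum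
  have humm : sm c um ∈ θ b := sm_mem (hnorm b hb hb1 c hc um hum) hum
  have hvm2 : sp c vm * sm c vm = vm * vm := sp_mul_sm hcvm
  have hum2 : sp c um * sm c um = um * um := sp_mul_sm hcum
  -- properties of the four pieces
  have vmp_c : Commute (sp c vm) c := commute_sp (sqY c hc) hcvm
  have vmp_a : Commute (sp c vm) a := hcent a ha ha1 _ hvmp
  have vmm_c : Inverts c (sm c vm) := inverts_sm (sqY c hc)
  have vmm_a : Commute (sm c vm) a := hcent a ha ha1 _ hvmm
  have vmm_b : Inverts b (sm c vm) := inverts_sm_of hvmb (comY b hb c hc) hcvm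
  have ump_c : Commute (sp c um) c := commute_sp (sqY c hc) hcum
  have ump_b : Commute (sp c um) b := hcent b hb hb1 _ hump
  have umm_c : Inverts c (sm c um) := inverts_sm (sqY c hc)
  have umm_b : Commute (sm c um) b := hcent b hb hb1 _ humm
  have umm_a : Inverts a (sm c um) := inverts_sm_of huma (comY a ha c hc) hcum
  -- the four pairs
  have p1 : Commute (sp c vm) (sp c um) :=
    hab c hc hc1 _ (hbal a ha ha1 c hc hc1 _ hvmp vmp_c) _ (hbal b hb hb1 c hc hc1 _ hump ump_c)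
  have p2 : Commute (sp c vm) (sm c um) :=
    hab (a * c) hac hac1 _ (hbal a ha ha1 (a * c) hac hac1 _ hvmp (vmp_a.mul_right vmp_c)) _
      (hbal b hb hb1 (a * c) hac hac1 _ humm (commute_mul_of_inverts umm_a umm_c))
  have p3 : Commute (sm c vm) (sp c um) :=
    hab (b * c) hbc hbc1 _ (hbal a ha ha1 (b * c) hbc hbc1 _ hvmm (commute_mul_of_inverts vmm_b vmm_c)) _
      (hbal b hb hb1 (b * c) hbc hbc1 _ hump (ump_b.mul_right ump_c))
  have e4 : b * (a * c) = a * (b * c) := by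
    rw [← mul_assoc, ← mul_assoc, (comY b hb a ha).eq]
  have p4 : Commute (sm c vm) (sm c um) := by
    have h1 : Commute (sm c vm) (a * (b * c)) :=
      vmm_a.mul_right (commute_mul_of_inverts vmm_b vmm_c)
    have h2 : Commute (sm c um) (a * (b * c)) := by
      have := umm_b.mul_right (commute_mul_of_inverts umm_a umm_c)
      rwa [e4] at this
    exact hab (a * (b * c)) habc habc1 _ (hbal a ha ha1 _ habc habc1 _ hvmm h1) _
      (hbal b hb hb1 _ habc habc1 _ humm h2)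
  have hq : Commute (vm * vm) (um * um) := by
    rw [← hvm2, ← hum2]
    exact (p1.mul_right p2).mul_left (p3.mul_right p4)
  have hvmum : Commute vm um :=
    commute_of_sq_of_odd (hodd a ha ha1 vm hvm) (hodd b hb hb1 um hum) hq
  -- conclusion
  have q1 : Commute (sp b v) (sp a u) := hab b hb hb1 _ hvpb _ hup
  have q2 : Commute (sp b v) um := hab b hb hb1 _ hvpb _ hum
  have q3 : Commute vm (sp a u) := hab a ha ha1 _ hvm _ hupa
  have hfin : Commute (v * v) (u * u) := by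
    rw [← hvv, ← huu]
    exact (q1.mul_right q2).mul_left (q3.mul_right hvmum)
  exact commute_of_sq_of_odd (hodd a ha ha1 v hv) (hodd b hb hb1 u hu) hfin

end Cfsg.Agent.Lib.Helper34.S2924
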