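import Mathlib
import Cfsg.Prelude.Def_Local
import Cfsg.Prelude.Def_CaseTheorems
import Cfsg.Agent.Lib.Helper55.S2924.Defs
import Cfsg.Agent.Lib.Helper55.S2924.API

/-!
# S2924 (helper55's sheet), module [INV] (helper34)
-/

set_option autoImplicit false

namespace Cfsg.Agent.Lib.Helper34.S2924

open Cfsg.Agent.Lib.Helper55.S2924

variable {X : Type*} [Group X]

/-- an involution acting fixed-point-freely on a finite normalized subgroup inverts it -/
theorem inverts_of_fpf_subgroup {z : X} (hz : z ^ 2 = 1) (V : Subgroup X) [Finite V]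
    (hn : z ∈ Subgroup.normalizer (V : Set X))
    (h : V ⊓ Subgroup.centralizer ({z} : Set X) = ⊥) :
    ∀ v ∈ V, z * v * z⁻¹ = v⁻¹ := by
  have hzi : z⁻¹ = z := by
    have : z * z = 1 := by rw [← pow_two]; exact hz
    exact inv_eq_of_mul_eq_one_right this
  have hconj : ∀ v ∈ V, z * v * z⁻¹ ∈ V := fun v hv => (Subgroup.mem_normalizer_iff.mp hn v).mp hv
  let φ : V →* V :=
    { toFun := fun v => ⟨z * v * z⁻¹, hconj v v.2⟩
      map_one' := by apply Subtype.ext; simp
      map_mul' := by intro a b; apply Subtype.ext; simp [mul_assoc] }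
  have hφ : MonoidHom.FixedPointFree φ := by
    intro v hv
    have h1 : z * (v : X) * z⁻¹ = v := congrArg Subtype.val hv
    have h2 : (v : X) ∈ V ⊓ Subgroup.centralizer ({z} : Set X) := by
      refine ⟨v.2, ?_⟩
      show (v : X) ∈ Subgroup.centralizer ({z} : Set X)
      rw [Subgroup.mem_centralizer_iff]
      intro x hx
      rw [Set.mem_singleton_iff] at hx
      subst hx
      calc x * (v : X) = (x * (v : X) * x⁻¹) * x := by group
        _ = (v : X) * x := by rw [h1]
    rw [h] at h2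
    exact Subtype.ext (Subgroup.mem_bot.mp h2)
  have hinv : Function.Involutive φ := by
    intro v
    apply Subtype.ext
    show z * (z * (v : X) * z⁻¹) * z⁻¹ = v
    rw [hzi]
    have : z * z = 1 := by rw [← pow_two]; exact hz
    calc z * (z * (v : X) * z) * z = (z * z) * (v : X) * (z * z) := by group
      _ = v := by rw [this]; simp
  have key := hφ.coe_eq_inv_of_involutive hinv
  intro v hv
  have := congrFun key ⟨v, hv⟩
  exact congrArg Subtype.val this

/-- [INV] 1 -/
theorem inverts_of_fpf [Finite X] {y z : X} (hz : z ^ 2 = 1) (hyz : Commute y z)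
    (h : th y ⊓ Subgroup.centralizer ({z} : Set X) = ⊥) :
    ∀ v ∈ th y, z * v * z⁻¹ = v⁻¹ := by
  have hzc : z ∈ Subgroup.centralizer ({y} : Set X) := by
    rw [Subgroup.mem_centralizer_iff]
    intro x hx
    rw [Set.mem_singleton_iff] at hx
    subst hx
    exact hyz.eq
  exact inverts_of_fpf_subgroup hz (th y) (th_normalized y hzc) h

/-- [INV] 2 -/
theorem commute_of_inverts {z : X} {V : Subgroup X} (h : ∀ v ∈ V, z * v * z⁻¹ = v⁻¹) :
    ∀ u ∈ V, ∀ v ∈ V, Commute u v := by
  intro u hu v hv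
  have h1 := h (u * v) (mul_mem hu hv)
  have h2 : z * (u * v) * z⁻¹ = (z * u * z⁻¹) * (z * v * z⁻¹) := by group
  rw [h2, h u hu, h v hv] at h1
  -- `u⁻¹ * v⁻¹ = (u * v)⁻¹ = v⁻¹ * u⁻¹`
  have h3 : u⁻¹ * v⁻¹ = v⁻¹ * u⁻¹ := by rw [h1, mul_inv_rev]
  have h4 : (v * u)⁻¹ = (u * v)⁻¹ := by rw [mul_inv_rev, mul_inv_rev]; exact h3
  exact (inv_injective h4).symm

end Cfsg.Agent.Lib.Helper34.S2924
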