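import Mathlib
import Cfsg.Prelude.Def_Local
import Cfsg.Prelude.Def_CaseTheorems
import Cfsg.Agent.Lib.Helper55.S2924.Defs
import Cfsg.Agent.Lib.Helper55.S2924.API

/-!
# S2924 (helper55's sheet), module [NORM] (helper34)
-/

set_option autoImplicit false

namespace Cfsg.Agent.Lib.Helper34.S2924

open Cfsg.Agent.Lib.Helper55.S2924

variable {X : Type*} [Group X]

/-- [NORM], with the statement of `th_conj` as a hypothesis -/
theorem normalizer_le_normalizer_iSup_of
    (hconj : ∀ g y : X, (th y).map (MulAut.conj g).toMonoidHom = th (g * y * g⁻¹))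
    (Y : Subgroup X) :
    Subgroup.normalizer (Y : Set X) ≤
      Subgroup.normalizer ((⨆ y : {y : X // y ∈ Y ∧ y ≠ 1}, th (y : X) : Subgroup X) : Set X) := by
  have key : ∀ g ∈ Subgroup.normalizer (Y : Set X),
      (⨆ y : {y : X // y ∈ Y ∧ y ≠ 1}, th (y : X) : Subgroup X).map (MulAut.conj g).toMonoidHom ≤
        (⨆ y : {y : X // y ∈ Y ∧ y ≠ 1}, th (y : X) : Subgroup X) := by
    intro g hg
    rw [Subgroup.map_iSup]
    refine iSup_le fun y => ?_
    rw [hconj]
    have hmem : g * (y : X) * g⁻¹ ∈ Y := (Subgroup.mem_normalizer_iff.mp hg _).mp y.2.1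
    have hne : g * (y : X) * g⁻¹ ≠ 1 := by
      intro h
      apply y.2.2
      have : (y : X) = g⁻¹ * (g * (y : X) * g⁻¹) * g := by group
      rw [this, h]; group
    exact le_iSup (fun y : {y : X // y ∈ Y ∧ y ≠ 1} => th (y : X)) ⟨g * (y : X) * g⁻¹, hmem, hne⟩
  intro g hg
  rw [Subgroup.mem_normalizer_iff]
  intro h
  constructor
  · intro hh
    have := key g hg (Subgroup.mem_map_of_mem _ hh)
    simpa [MulAut.conj_apply] using this
  · intro hh
    have hg' : g⁻¹ ∈ Subgroup.normalizer (Y : Set X) := inv_mem hg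
    have := key g⁻¹ hg' (Subgroup.mem_map_of_mem _ hh)
    have e : (MulAut.conj g⁻¹).toMonoidHom (g * h * g⁻¹) = h := by
      simp; group
    rwa [e] at this

/-- [NORM] -/
theorem normalizer_le_normalizer_iSup (Y : Subgroup X) :
    Subgroup.normalizer (Y : Set X) ≤
      Subgroup.normalizer ((⨆ y : {y : X // y ∈ Y ∧ y ≠ 1}, th (y : X) : Subgroup X) : Set X) :=
  normalizer_le_normalizer_iSup_of th_conj Y

end Cfsg.Agent.Lib.Helper34.S2924
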