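import Mathlib

/-!
# S2924 (helper55's sheet), module [ODD] (helper34)

A join of pairwise commuting subgroups of odd order has odd order.
-/

set_option autoImplicit false

namespace Cfsg.Agent.Lib.Helper34.S2924

variable {X : Type*} [Group X]

/-- the join of pairwise commuting subgroups is commutative (elementwise) -/
theorem commute_of_mem_iSup {ι : Type*} (S : ι → Subgroup X)
    (hcomm : ∀ i j, ∀ u ∈ S i, ∀ v ∈ S j, Commute u v) :
    ∀ u ∈ ⨆ i, S i, ∀ v ∈ ⨆ i, S i, Commute u v := by
  have h1 : (⨆ i, S i) ≤ Subgroup.centralizer ((⨆ i, S i : Subgroup X) : Set X) := by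
    refine iSup_le fun i => ?_
    rw [Subgroup.le_centralizer_iff]
    refine iSup_le fun j => ?_
    intro v hv
    rw [Subgroup.mem_centralizer_iff]
    intro u hu
    exact (hcomm i j u hu v hv).eq
  intro u hu v hv
  have := h1 hv
  rw [Subgroup.mem_centralizer_iff] at this
  exact this u hu

/-- [ODD] -/
theorem odd_card_iSup_of_commute [Finite X] {ι : Type*} (S : ι → Subgroup X)
    (hodd : ∀ i, Odd (Nat.card ↥(S i)))
    (hcomm : ∀ i j, ∀ u ∈ S i, ∀ v ∈ S j, Commute u v) :
    Odd (Nat.card ↥(⨆ i, S i)) := by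
  classical
  have hJ := commute_of_mem_iSup S hcomm
  -- the subgroup of elements of odd order of `J`
  let K : Subgroup X :=
    { carrier := {x | x ∈ ⨆ i, S i ∧ Odd (orderOf x)}
      one_mem' := ⟨one_mem _, by simp⟩
      mul_mem' := by
        rintro x y ⟨hx, hox⟩ ⟨hy, hoy⟩
        refine ⟨mul_mem hx hy, ?_⟩
        have hd := (hJ x hx y hy).orderOf_mul_dvd_lcm
        have hl : Odd (Nat.lcm (orderOf x) (orderOf y)) := by
          rw [Nat.odd_iff, ← Nat.two_dvd_ne_zero]
          intro h2
          have := (Nat.Prime.dvd_lcm Nat.prime_two).mp h2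
          rcases this with h | h
          · exact (Nat.two_dvd_ne_zero.mpr (Nat.odd_iff.mp hox)) h
          · exact (Nat.two_dvd_ne_zero.mpr (Nat.odd_iff.mp hoy)) h
        exact hl.of_dvd_nat hd
      inv_mem' := by
        rintro x ⟨hx, hox⟩
        exact ⟨inv_mem hx, by rwa [orderOf_inv]⟩ }
  have hK : (⨆ i, S i) ≤ K := by
    refine iSup_le fun i => ?_
    intro x hx
    refine ⟨le_iSup S i hx, ?_⟩
    exact (hodd i).of_dvd_nat (Subgroup.orderOf_dvd_natCard (S i) hx)
  by_contra hcon
  rw [Nat.not_odd_iff_even, even_iff_two_dvd] at hcon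
  have : Fact (Nat.Prime 2) := ⟨Nat.prime_two⟩
  obtain ⟨x, hx⟩ := exists_prime_orderOf_dvd_card' 2 hcon
  have hxK := hK x.2
  have h2 : orderOf (x : X) = 2 := by rw [Subgroup.orderOf_coe]; exact hx
  have := hxK.2
  rw [h2] at this
  exact absurd this (by decide)

end Cfsg.Agent.Lib.Helper34.S2924
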