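import Mathlib
import Cfsg.Prelude.Def_Amalgam
import Cfsg.Agent.Lib.Helper46.Ambient

/-!
# S3385/S3685 front end, module [H5] (hedge): hypothesis `h₅` of S2858 is automatic

`h5_auto`: neither `P₁` nor `P₂` centralizes `Ω₁(Z(T))` (sheet `Lib/Helper59/SimsFrontSHEET.md`).
-/

set_option autoImplicit false

namespace Cfsg.Agent.Lib.Helper34.SimsFront

open Cfsg

/-- [H5] hypothesis `h₅` of S2858 is automatic. -/
theorem h5_auto {G : Type*} [Group G] [Finite G] (P₁ P₂ T : Subgroup G)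
    (hT₁ : T ≤ P₁) (hT₂ : T ≤ P₂) (hgen : P₁ ⊔ P₂ = ⊤)
    (core : ∀ N : Subgroup G, N.Normal → N ≤ T → N = ⊥)
    (two : IsPGroup 2 ↥T) (hne : T ≠ ⊥)
    (x : G) (hxP : P₂ = P₁.map (MulAut.conj x).toMonoidHom)
    (hxT : T.map (MulAut.conj x).toMonoidHom = T) :
    ∀ P ∈ ({P₁, P₂} : Set (Subgroup G)),
      ¬ P ≤ Subgroup.centralizer
        (Cfsg.omegaOne 2 (T ⊓ Subgroup.centralizer (T : Set G)) : Set G) := by
  classical
  have : Fact (Nat.Prime 2) := ⟨Nat.prime_two⟩
  set S : Set G := {z : G | z ∈ T ⊓ Subgroup.centralizer (T : Set G) ∧ z ^ 2 = 1} with hS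
  have hW : Cfsg.omegaOne 2 (T ⊓ Subgroup.centralizer (T : Set G)) = Subgroup.closure S := rfl
  rw [hW]
  -- `x` and `x⁻¹` normalize `T`
  have hxT1 : ∀ t ∈ T, x * t * x⁻¹ ∈ T := by
    intro t ht
    rw [← hxT]
    exact ⟨t, ht, by simp [MulAut.conj_apply]⟩
  have hxT2 : ∀ t ∈ T, x⁻¹ * t * x ∈ T := by
    intro t ht
    rw [← hxT] at ht
    obtain ⟨t', ht', rfl⟩ := ht
    have : x⁻¹ * ((MulAut.conj x).toMonoidHom t') * x = t' := by
      simp [MulAut.conj_apply, mul_assoc]
    rw [this]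
    exact ht'
  -- hence they preserve `S`
  have hS1 : ∀ z ∈ S, x * z * x⁻¹ ∈ S := by
    rintro z ⟨hz, hz2⟩
    obtain ⟨hzT, hzC⟩ := Subgroup.mem_inf.mp hz
    refine ⟨Subgroup.mem_inf.mpr ⟨hxT1 z hzT, ?_⟩, ?_⟩
    · rw [Subgroup.mem_centralizer_iff]
      intro t ht
      have ht' : x⁻¹ * t * x ∈ T := hxT2 t ht
      have hc := (Subgroup.mem_centralizer_iff.mp hzC) (x⁻¹ * t * x) ht'
      calc t * (x * z * x⁻¹) = x * ((x⁻¹ * t * x) * z) * x⁻¹ := by group
        _ = x * (z * (x⁻¹ * t * x)) * x⁻¹ := by rw [hc]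
        _ = x * z * x⁻¹ * t := by group
    · rw [conj_pow, hz2, mul_one, mul_inv_cancel]
  have hS2 : ∀ z ∈ S, x⁻¹ * z * x ∈ S := by
    rintro z ⟨hz, hz2⟩
    obtain ⟨hzT, hzC⟩ := Subgroup.mem_inf.mp hz
    refine ⟨Subgroup.mem_inf.mpr ⟨hxT2 z hzT, ?_⟩, ?_⟩
    · rw [Subgroup.mem_centralizer_iff]
      intro t ht
      have ht' : x * t * x⁻¹ ∈ T := hxT1 t ht
      have hc := (Subgroup.mem_centralizer_iff.mp hzC) (x * t * x⁻¹) ht'
      calc t * (x⁻¹ * z * x) = x⁻¹ * ((x * t * x⁻¹) * z) * x := by group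
        _ = x⁻¹ * (z * (x * t * x⁻¹)) * x := by rw [hc]
        _ = x⁻¹ * z * x * t := by group
    · have e : x⁻¹ * z * x = x⁻¹ * z * x⁻¹⁻¹ := by rw [inv_inv]
      rw [e, conj_pow, hz2, mul_one, mul_inv_cancel]
  -- `P ≤ C(closure S)` iff every element of `P` commutes with every element of `S`
  have hcent : ∀ P : Subgroup G, P ≤ Subgroup.centralizer (Subgroup.closure S : Set G) ↔
      ∀ p ∈ P, ∀ z ∈ S, z * p = p * z := by
    intro P
    constructor
    · intro h p hp z hz
      exact (Subgroup.mem_centralizer_iff.mp (h hp)) z (Subgroup.subset_closure hz)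
    · intro h p hp
      rw [Subgroup.mem_centralizer_iff]
      intro w hw
      induction hw using Subgroup.closure_induction with
      | mem z hz => exact h p hp z hz
      | one => simp
      | mul a b _ _ ha hb => rw [mul_assoc, hb, ← mul_assoc, ha, mul_assoc]
      | inv a _ ha =>
        have : a⁻¹ * p = a⁻¹ * (p * a) * a⁻¹ := by group
        rw [this, ← ha]; group
  -- the contradiction once both centralize
  have hboth : (∀ p ∈ P₁, ∀ z ∈ S, z * p = p * z) → (∀ p ∈ P₂, ∀ z ∈ S, z * p = p * z) →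
      False := by
    intro h1 h2
    have htop : ∀ g : G, ∀ z ∈ S, z * g = g * z := by
      intro g
      have hg : g ∈ P₁ ⊔ P₂ := by rw [hgen]; exact Subgroup.mem_top g
      have : P₁ ⊔ P₂ ≤ Subgroup.centralizer (Subgroup.closure S : Set G) :=
        sup_le ((hcent P₁).mpr h1) ((hcent P₂).mpr h2)
      exact (hcent _).mp this g hg
    -- `closure S` is normal and inside `T`
    have hWT : Subgroup.closure S ≤ T := by
      rw [Subgroup.closure_le]
      rintro z ⟨hz, -⟩
      exact (Subgroup.mem_inf.mp hz).1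
    have hWc : ∀ w ∈ Subgroup.closure S, ∀ g : G, w * g = g * w := by
      intro w hw g
      have : (⊤ : Subgroup G) ≤ Subgroup.centralizer (Subgroup.closure S : Set G) :=
        (hcent ⊤).mpr (fun p _ z hz => htop p z hz)
      exact (Subgroup.mem_centralizer_iff.mp (this (Subgroup.mem_top g))) w hw
    have hWn : (Subgroup.closure S).Normal := by
      refine ⟨fun w hw g => ?_⟩
      have : g * w * g⁻¹ = w := by rw [← hWc w hw g]; group
      rw [this]; exact hw
    have hWbot : Subgroup.closure S = ⊥ := core _ hWn hWT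
    -- an element of order 2 in the centre of `T`
    have : Nontrivial ↥T := (Subgroup.nontrivial_iff_ne_bot T).mpr hne
    have : Nontrivial ↥(Subgroup.center ↥T) := two.center_nontrivial
    have hZ2 : IsPGroup 2 ↥(Subgroup.center ↥T) := two.to_subgroup _
    obtain ⟨n, hn, hcard⟩ := hZ2.nontrivial_iff_card.mp inferInstance
    have hdvd : 2 ∣ Nat.card ↥(Subgroup.center ↥T) := by
      rw [hcard]; exact dvd_pow_self 2 (by omega)
    obtain ⟨z, hz⟩ := exists_prime_orderOf_dvd_card' 2 hdvd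
    have hzS : ((z : ↥T) : G) ∈ S := by
      refine ⟨Subgroup.mem_inf.mpr ⟨(z : ↥T).2, ?_⟩, ?_⟩
      · rw [Subgroup.mem_centralizer_iff]
        intro t ht
        have := Subgroup.mem_center_iff.mp z.2 ⟨t, ht⟩
        exact congrArg Subtype.val this
      · have h2 : z ^ 2 = 1 := by rw [← hz]; exact pow_orderOf_eq_one z
        have := congrArg (fun w : ↥(Subgroup.center ↥T) => ((w : ↥T) : G)) h2
        simpa using this
    have hz1 : ((z : ↥T) : G) = 1 := by
      have : ((z : ↥T) : G) ∈ Subgroup.closure S := Subgroup.subset_closure hzS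
      rw [hWbot] at this
      exact Subgroup.mem_bot.mp this
    have hz1' : z = 1 := by
      apply Subtype.ext; apply Subtype.ext; exact hz1
    rw [hz1', orderOf_one] at hz
    omega
  intro P hP hle
  rw [hcent] at hle
  rcases hP with rfl | hP
  · -- `P = P₁`
    apply hboth hle
    intro p hp z hz
    rw [hxP] at hp
    obtain ⟨p₁, hp₁, rfl⟩ := hp
    have hc := hle p₁ hp₁ (x⁻¹ * z * x) (hS2 z hz)
    show z * (MulAut.conj x) p₁ = (MulAut.conj x) p₁ * z
    rw [MulAut.conj_apply]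
    calc z * (x * p₁ * x⁻¹) = x * ((x⁻¹ * z * x) * p₁) * x⁻¹ := by group
      _ = x * (p₁ * (x⁻¹ * z * x)) * x⁻¹ := by rw [hc]
      _ = x * p₁ * x⁻¹ * z := by group
  · -- `P = P₂`
    rw [Set.mem_singleton_iff] at hP
    subst hP
    refine hboth ?_ hle
    intro p hp z hz
    have hp₂ : x * p * x⁻¹ ∈ P₁.map (MulAut.conj x).toMonoidHom :=
      ⟨p, hp, by simp [MulAut.conj_apply]⟩
    rw [← hxP] at hp₂
    have hc := hle (x * p * x⁻¹) hp₂ (x * z * x⁻¹) (hS1 z hz)
    have e1 : x * z * x⁻¹ * (x * p * x⁻¹) = x * (z * p) * x⁻¹ := by group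
    have e2 : x * p * x⁻¹ * (x * z * x⁻¹) = x * (p * z) * x⁻¹ := by group
    rw [e1, e2] at hc
    exact mul_left_cancel (mul_right_cancel hc)

end Cfsg.Agent.Lib.Helper34.SimsFront
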