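import Mathlib
import Cfsg.Agent.Lib.Helper71.SylAltDefs
import Cfsg.Agent.Lib.Helper68.SylAltAGBasic

set_option autoImplicit false

/-!
# S2221 module [AG-C2] (helper71 sheet): the kernel of the product of signs when one factor is `C₂`
with an odd generator.
-/

namespace Cfsg.Agent.Lib.Helper34.SylAlt

open Equiv Cfsg.Agent.Lib.Helper71.SylAlt Cfsg.Agent.Lib.Helper68.SylAlt

section c2

variable {ι : Type*} [Fintype ι] [DecidableEq ι] (H : ι → Type*) [∀ i, Group (H i)]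
  (ε : ∀ i, H i →* ℤˣ)

theorem piSign_mulSingle (i : ι) (h : H i) : piSign H ε (Pi.mulSingle i h) = ε i h := by
  rw [piSign_apply]
  rw [Finset.prod_eq_single i]
  · simp
  · intro l _ hl
    rw [Pi.mulSingle_eq_of_ne hl, map_one]
  · intro hi
    exact absurd (Finset.mem_univ i) hi

omit [Fintype ι] [DecidableEq ι] in
/-- in a group of order two with an odd element `c`, every element is `1` or `c` -/
theorem c2_cases {i₀ : ι} (h0 : Nat.card (H i₀) = 2) {c : H i₀} (hc : ε i₀ c = -1) :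
    c ≠ 1 ∧ ∀ x : H i₀, x = 1 ∨ x = c := by
  have hc1 : c ≠ 1 := by
    rintro rfl
    rw [map_one] at hc
    exact absurd hc (by decide)
  refine ⟨hc1, fun x => ?_⟩
  obtain ⟨y, _, hy⟩ := (Nat.card_eq_two_iff' (1 : H i₀)).1 h0
  by_cases hx : x = 1
  · exact Or.inl hx
  · right
    rw [hy x hx, hy c hc1]

omit [Fintype ι] [DecidableEq ι] in
/-- every sign is the sign of `1` or `c` -/
theorem c2_exists_sign {i₀ : ι} {c : H i₀} (hc : ε i₀ c = -1) (u : ℤˣ) :
    ∃ d : H i₀, ε i₀ d = u := by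
  rcases Int.units_eq_one_or u with rfl | rfl
  · exact ⟨1, map_one _⟩
  · exact ⟨c, hc⟩

omit [Fintype ι] [DecidableEq ι] in
theorem c2_eq_one_of_sign {i₀ : ι} (h0 : Nat.card (H i₀) = 2) {c : H i₀} (hc : ε i₀ c = -1)
    {x : H i₀} (hx : ε i₀ x = 1) : x = 1 := by
  rcases (c2_cases H ε h0 hc).2 x with h | h
  · exact h
  · rw [h, hc] at hx
    exact absurd hx (by decide)

omit [Fintype ι] [DecidableEq ι] in
theorem c2_comm {i₀ : ι} (h0 : Nat.card (H i₀) = 2) {c : H i₀} (hc : ε i₀ c = -1)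
    (x y : H i₀) : x * y = y * x := by
  rcases (c2_cases H ε h0 hc).2 x with rfl | rfl <;>
    rcases (c2_cases H ε h0 hc).2 y with rfl | rfl <;> simp

/-- an element of the kernel which is trivial off `i₀` is trivial -/
theorem eq_one_of_ker_of_off {i₀ : ι} (h0 : Nat.card (H i₀) = 2) {c : H i₀} (hc : ε i₀ c = -1)
    {k : ∀ l, H l} (hk : piSign H ε k = 1) (hoff : ∀ l, l ≠ i₀ → k l = 1) : k = 1 := by
  have h1 : piSign H ε k = ε i₀ (k i₀) := by
    rw [piSign_apply, Finset.prod_eq_single i₀]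
    · intro l _ hl
      rw [hoff l hl, map_one]
    · intro hi
      exact absurd (Finset.mem_univ i₀) hi
  rw [h1] at hk
  have h2 := c2_eq_one_of_sign H ε h0 hc hk
  funext l
  by_cases hl : l = i₀
  · subst hl
    exact h2
  · exact hoff l hl

/-- the lift `h ↦ mulSingle i h * mulSingle i₀ d` into the kernel -/
theorem exists_lift {i₀ i : ι} (hi : i ≠ i₀) {c : H i₀} (hc : ε i₀ c = -1) (h : H i) :
    ∃ x : ∀ l, H l, piSign H ε x = 1 ∧ x i = h ∧ ∀ l, l ≠ i → l ≠ i₀ → x l = 1 := by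
  obtain ⟨d, hd⟩ := c2_exists_sign H ε hc (ε i h)⁻¹
  refine ⟨Pi.mulSingle i h * Pi.mulSingle i₀ d, ?_, ?_, ?_⟩
  · rw [map_mul, piSign_mulSingle, piSign_mulSingle, hd, mul_inv_cancel]
  · rw [Pi.mul_apply, Pi.mulSingle_eq_same, Pi.mulSingle_eq_of_ne hi, mul_one]
  · intro l hl hl0
    rw [Pi.mul_apply, Pi.mulSingle_eq_of_ne hl, Pi.mulSingle_eq_of_ne hl0, mul_one]

end c2

theorem decompGroup_ker_of_c2 {ι : Type*} [Fintype ι] [DecidableEq ι] (H : ι → Type*)
    [∀ i, Group (H i)] (ε : ∀ i, H i →* ℤˣ) (i₀ i j : ι) (h0 : Nat.card (H i₀) = 2)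
    (ho : ∃ t : H i₀, ε i₀ t = -1) (hi : i ≠ i₀) (hj : j ≠ i₀) (hij : i ≠ j)
    (hHi : Nontrivial (H i)) (hHj : Nontrivial (H j)) :
    DecompGroup ↥(MonoidHom.ker (piSign H ε)) := by
  obtain ⟨c, hc⟩ := ho
  -- the two subgroups of the product
  let A' : Subgroup (∀ l, H l) :=
    { carrier := {x | ∀ l, l ≠ i → l ≠ i₀ → x l = 1}
      mul_mem' := by
        intro x y hx hy l hl hl0
        rw [Pi.mul_apply, hx l hl hl0, hy l hl hl0, mul_one]
      one_mem' := by
        intro l _ _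
        rfl
      inv_mem' := by
        intro x hx l hl hl0
        rw [Pi.inv_apply, hx l hl hl0, inv_one] }
  let B' : Subgroup (∀ l, H l) :=
    { carrier := {x | x i = 1}
      mul_mem' := by
        intro x y hx hy
        show (x * y) i = 1
        rw [Pi.mul_apply, hx, hy, mul_one]
      one_mem' := rfl
      inv_mem' := by
        intro x hx
        show x⁻¹ i = 1
        rw [Pi.inv_apply, hx, inv_one] }
  have hA' : ∀ x : ∀ l, H l, x ∈ A' ↔ ∀ l, l ≠ i → l ≠ i₀ → x l = 1 := fun x => Iff.rfl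
  have hB' : ∀ x : ∀ l, H l, x ∈ B' ↔ x i = 1 := fun x => Iff.rfl
  set K := MonoidHom.ker (piSign H ε) with hK
  refine ⟨A'.subgroupOf K, B'.subgroupOf K, ?_, ?_, ?_, ?_, ?_⟩
  · -- A ≠ ⊥
    obtain ⟨h, hh⟩ := exists_ne (1 : H i)
    obtain ⟨x, hx1, hx2, hx3⟩ := exists_lift H ε hi hc h
    intro hbot
    have hxK : x ∈ K := (MonoidHom.mem_ker).2 hx1
    have hmem : (⟨x, hxK⟩ : K) ∈ A'.subgroupOf K := by
      rw [Subgroup.mem_subgroupOf]
      exact (hA' x).2 hx3
    rw [hbot, Subgroup.mem_bot] at hmem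
    have : x = 1 := congrArg Subtype.val hmem
    apply hh
    rw [← hx2, this]
    rfl
  · -- B ≠ ⊥
    obtain ⟨h, hh⟩ := exists_ne (1 : H j)
    obtain ⟨x, hx1, hx2, hx3⟩ := exists_lift H ε hj hc h
    intro hbot
    have hxK : x ∈ K := (MonoidHom.mem_ker).2 hx1
    have hmem : (⟨x, hxK⟩ : K) ∈ B'.subgroupOf K := by
      rw [Subgroup.mem_subgroupOf]
      exact (hB' x).2 (hx3 i hij hi)
    rw [hbot, Subgroup.mem_bot] at hmem
    have : x = 1 := congrArg Subtype.val hmem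
    apply hh
    rw [← hx2, this]
    rfl
  · -- commute
    intro a ha b hb
    rw [Subgroup.mem_subgroupOf] at ha hb
    apply Subtype.ext
    show (a : ∀ l, H l) * (b : ∀ l, H l) = (b : ∀ l, H l) * (a : ∀ l, H l)
    funext l
    rw [Pi.mul_apply, Pi.mul_apply]
    by_cases hl : l = i
    · subst hl
      rw [(hB' _).1 hb, mul_one, one_mul]
    · by_cases hl0 : l = i₀
      · subst hl0
        exact c2_comm H ε h0 hc _ _
      · rw [(hA' _).1 ha l hl hl0, mul_one, one_mul]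
  · -- A ⊓ B = ⊥
    rw [eq_bot_iff]
    intro k hk
    rw [Subgroup.mem_inf, Subgroup.mem_subgroupOf, Subgroup.mem_subgroupOf] at hk
    rw [Subgroup.mem_bot]
    apply Subtype.ext
    show (k : ∀ l, H l) = 1
    apply eq_one_of_ker_of_off H ε h0 hc (MonoidHom.mem_ker.1 k.2)
    intro l hl0
    by_cases hl : l = i
    · subst hl
      exact (hB' _).1 hk.2
    · exact (hA' _).1 hk.1 l hl hl0
  · -- A ⊔ B = ⊤
    rw [eq_top_iff]
    intro k _
    obtain ⟨x, hx1, hx2, hx3⟩ := exists_lift H ε hi hc ((k : ∀ l, H l) i)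
    have hxK : x ∈ K := (MonoidHom.mem_ker).2 hx1
    have hk : k = (⟨x, hxK⟩ : K) * ((⟨x, hxK⟩ : K)⁻¹ * k) := by
      rw [mul_inv_cancel_left]
    rw [hk]
    apply Subgroup.mul_mem_sup
    · rw [Subgroup.mem_subgroupOf]
      exact (hA' x).2 hx3
    · rw [Subgroup.mem_subgroupOf]
      apply (hB' _).2
      show (x⁻¹ * (k : ∀ l, H l)) i = 1
      rw [Pi.mul_apply, Pi.inv_apply, hx2, inv_mul_cancel]

theorem not_decompGroup_ker_of_c2 {ι : Type*} [Fintype ι] [DecidableEq ι] (H : ι → Type*)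
    [∀ i, Group (H i)] (ε : ∀ i, H i →* ℤˣ) (i₀ i₁ : ι) (hne : i₁ ≠ i₀)
    (hall : ∀ i, i = i₀ ∨ i = i₁) (h0 : Nat.card (H i₀) = 2) (ho : ∃ t : H i₀, ε i₀ t = -1)
    [Finite (H i₁)] (hp : IsPGroup 2 (H i₁)) (z : H i₁)
    (hz : ∀ c : H i₁, (∀ g : H i₁, g * c = c * g) → c = 1 ∨ c = z) :
    ¬ DecompGroup ↥(MonoidHom.ker (piSign H ε)) := by
  obtain ⟨c, hc⟩ := ho
  set K := MonoidHom.ker (piSign H ε) with hK
  let φ : K →* H i₁ := (Pi.evalMonoidHom H i₁).comp K.subtype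
  have hφ : ∀ k : K, φ k = (k : ∀ l, H l) i₁ := fun k => rfl
  have hinj : Function.Injective φ := by
    rw [injective_iff_map_eq_one]
    intro k hk
    rw [hφ] at hk
    apply Subtype.ext
    show (k : ∀ l, H l) = 1
    apply eq_one_of_ker_of_off H ε h0 hc (MonoidHom.mem_ker.1 k.2)
    intro l hl0
    rcases hall l with h | h
    · exact absurd h hl0
    · subst h
      exact hk
  have hsurj : Function.Surjective φ := by
    intro h
    obtain ⟨x, hx1, hx2, _⟩ := exists_lift H ε hne hc h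
    exact ⟨⟨x, (MonoidHom.mem_ker).2 hx1⟩, hx2⟩
  have e : K ≃* H i₁ := MulEquiv.ofBijective φ ⟨hinj, hsurj⟩
  rw [decompGroup_congr e]
  exact not_decompGroup_of_center hp z hz

end Cfsg.Agent.Lib.Helper34.SylAlt
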