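import Mathlib
import Cfsg.Agent.Lib.Helper71.SylAltDefs
import Cfsg.Agent.Lib.Helper50.SylAltSupp
import Cfsg.Agent.Lib.Helper3.SylAltWRA
import Cfsg.Agent.Lib.Helper3.SylAltWRB

set_option autoImplicit false

/-!
# S2221 module [NICE-V4] (helper71 sheet): for `Nice 2 W Y` the even part `W ⊓ Alt` is a four-group,
hence decomposable.
-/

namespace Cfsg.Agent.Lib.Helper34.SylAlt

open Equiv Cfsg.Agent.Lib.Helper71.SylAlt Cfsg.Agent.Lib.Helper50.SylAlt Cfsg.Agent.Lib.Helper3.SylAlt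

variable {α : Type*} [DecidableEq α] [Fintype α]

omit [DecidableEq α] [Fintype α] in
theorem suppOn_bot (Y : Finset α) : SuppOn (⊥ : Subgroup (Perm α)) Y := by
  intro g hg x _
  rw [Subgroup.mem_bot] at hg
  rw [hg]
  rfl

/-- the elements of `wr ⊥ σ` are `1` and `σ` -/
theorem mem_wr_bot_iff {σ : Perm α} {Y : Finset α} (h : IsSwapOf σ Y) (g : Perm α) :
    g ∈ wr (⊥ : Subgroup (Perm α)) σ ↔ g = 1 ∨ g = σ := by
  rw [mem_wr_iff h (suppOn_bot Y)]
  constructor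
  · rintro ⟨u, hu, v, hv, hg⟩
    rw [Subgroup.mem_bot] at hu hv
    subst hu hv
    rcases hg with hg | hg
    · left
      rw [hg]
      group
    · right
      rw [hg]
      group
  · rintro (rfl | rfl)
    · exact ⟨1, Subgroup.one_mem _, 1, Subgroup.one_mem _, Or.inl (by group)⟩
    · exact ⟨1, Subgroup.one_mem _, 1, Subgroup.one_mem _, Or.inr (by group)⟩

theorem mem_zpowers_of_sq {K : Type*} [Group K] {x : K} (hx : x * x = 1) (g : K) :
    g ∈ Subgroup.zpowers x ↔ g = 1 ∨ g = x := by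
  constructor
  · intro hg
    obtain ⟨n, rfl⟩ := Subgroup.mem_zpowers_iff.1 hg
    rcases Int.even_or_odd' n with ⟨m, rfl | rfl⟩
    · left
      rw [zpow_mul, zpow_two, hx, one_zpow]
    · right
      rw [zpow_add, zpow_mul, zpow_two, hx, one_zpow, one_mul, zpow_one]
  · rintro (rfl | rfl)
    · exact Subgroup.one_mem _
    · exact Subgroup.mem_zpowers _

theorem nice_two_decomp {W : Subgroup (Perm α)} {Y : Finset α} (h : Nice 2 W Y) :
    DecompGroup ↥(W ⊓ alternatingGroup α) := by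
  obtain ⟨W₁, Y₁, σ, h1, hσ, rfl, -⟩ := nice_succ_iff.1 h
  obtain ⟨W₀, Y₀, σ₀, h00, hσ₀, rfl, rfl⟩ := nice_succ_iff.1 h1
  obtain ⟨rfl, y, rfl⟩ := nice_zero_iff.1 h00
  -- notation
  set W₁ : Subgroup (Perm α) := wr ⊥ σ₀ with hW₁
  set Y₁ : Finset α := {y} ∪ ({y} : Finset α).image σ₀ with hY₁
  have hS1 : SuppOn W₁ Y₁ := suppOn_wr hσ₀ (suppOn_bot _)
  have hne1 : Y₁.Nonempty := ⟨y, Finset.mem_union_left _ (Finset.mem_singleton_self y)⟩
  have hcardY₁ : Y₁.card = 2 := by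
    rw [hY₁, swap_card hσ₀, Finset.card_singleton]
  have hsign₀ : Perm.sign σ₀ = -1 := by
    rw [swap_sign hσ₀, Finset.card_singleton, pow_one]
  have hsign : Perm.sign σ = 1 := by
    rw [swap_sign hσ, hcardY₁]
    norm_num
  have hσ₀1 : σ₀ ≠ 1 := by
    rintro h1
    rw [h1, map_one] at hsign₀
    exact absurd hsign₀ (by decide)
  have hσ₀W₁ : σ₀ ∈ W₁ := swap_mem_wr _ _
  have hmemW₁ : ∀ g, g ∈ W₁ ↔ g = 1 ∨ g = σ₀ := mem_wr_bot_iff hσ₀
  have hinv : σ⁻¹ = σ := swap_inv hσ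
  have hσσ : σ * σ = 1 := hσ.1
  -- the conjugate of σ₀
  obtain ⟨τ, hτ⟩ : ∃ τ : Perm α, τ = σ * σ₀ * σ⁻¹ := ⟨_, rfl⟩
  have hτmem : τ ∈ W₁.map (MulAut.conj σ).toMonoidHom :=
    ⟨σ₀, hσ₀W₁, by simp [hτ, MulAut.conj_apply]⟩
  have hcomm : σ₀ * τ = τ * σ₀ :=
    commute_of_disjoint hS1 (suppOn_map_conj σ hS1) (swap_disjoint hσ) σ₀ hσ₀W₁ τ hτmem
  obtain ⟨z, hz⟩ : ∃ z : Perm α, z = σ₀ * τ := ⟨_, rfl⟩
  have hσ₀σ₀ : σ₀ * σ₀ = 1 := hσ₀.1
  have hττ : τ * τ = 1 := by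
    rw [hτ]
    calc σ * σ₀ * σ⁻¹ * (σ * σ₀ * σ⁻¹) = σ * (σ₀ * σ₀) * σ⁻¹ := by group
      _ = 1 := by rw [hσ₀σ₀]; group
  have hzz : z * z = 1 := by
    rw [hz]
    calc σ₀ * τ * (σ₀ * τ) = σ₀ * (τ * σ₀) * τ := by group
      _ = σ₀ * (σ₀ * τ) * τ := by rw [hcomm]
      _ = (σ₀ * σ₀) * (τ * τ) := by group
      _ = 1 := by rw [hσ₀σ₀, hττ, one_mul]
  have hστ : σ * τ * σ⁻¹ = σ₀ := by
    rw [hτ]
    calc σ * (σ * σ₀ * σ⁻¹) * σ⁻¹ = (σ * σ) * σ₀ * (σ * σ)⁻¹ := by group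
      _ = σ₀ := by rw [hσσ]; group
  have hzσ : z * σ = σ * z := by
    -- σ z σ⁻¹ = τ σ₀ = z
    have h1 : σ * z * σ⁻¹ = z := by
      rw [hz]
      calc σ * (σ₀ * τ) * σ⁻¹ = (σ * σ₀ * σ⁻¹) * (σ * τ * σ⁻¹) := by group
        _ = τ * σ₀ := by rw [hστ, ← hτ]
        _ = σ₀ * τ := hcomm.symm
    calc z * σ = (σ * z * σ⁻¹) * σ := by rw [h1]
      _ = σ * z := by group
  have hzW : z ∈ wr W₁ σ := by
    rw [hz]
    exact Subgroup.mul_mem _ (le_wr W₁ σ hσ₀W₁) (conj_le_wr W₁ σ hτmem)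
  have hσW : σ ∈ wr W₁ σ := swap_mem_wr _ _
  have hsignτ : Perm.sign τ = -1 := by
    rw [hτ, map_mul, map_mul, map_inv, hsign₀, hsign]
    decide
  have hsignz : Perm.sign z = 1 := by
    rw [hz, map_mul, hsign₀, hsignτ]
    decide
  have hzAlt : z ∈ alternatingGroup α := Perm.mem_alternatingGroup.2 hsignz
  have hσAlt : σ ∈ alternatingGroup α := Perm.mem_alternatingGroup.2 hsign
  -- normal forms
  have hnf := @wr_normal_form_unique α _ _ σ Y₁ hσ hne1 W₁ hS1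
  have hz1 : z ≠ 1 := by
    intro h1
    have := (hnf hσ₀W₁ hσ₀W₁ (Subgroup.one_mem _) (Subgroup.one_mem _)).1
      (by rw [← hτ, ← hz, h1]; group)
    exact hσ₀1 this.1
  have hzσne : z ≠ σ := by
    intro h1
    have := (hnf hσ₀W₁ hσ₀W₁ (Subgroup.one_mem _) (Subgroup.one_mem _)).2.2
    apply this
    rw [← hτ, ← hz, h1]
    group
  have hσ1 : σ ≠ 1 := by
    intro h1
    have := (hnf (Subgroup.one_mem _) (Subgroup.one_mem _) (Subgroup.one_mem _)
      (Subgroup.one_mem W₁)).2.2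
    apply this
    simp [h1]
  -- the list of the even elements
  have hlist : ∀ g ∈ wr W₁ σ, Perm.sign g = 1 → g = 1 ∨ g = z ∨ g = σ ∨ g = z * σ := by
    intro g hgW hsg
    obtain ⟨u, hu, v, hv, hg⟩ := (mem_wr_iff hσ hS1 g).1 hgW
    rw [hmemW₁] at hu hv
    rcases hu with hu | hu <;> rcases hv with hv | hv
    · rw [hu, hv] at hg
      rcases hg with hg | hg
      · left; rw [hg]; group
      · right; right; left; rw [hg]; group
    · exfalso
      rw [hu, hv, ← hτ, one_mul] at hg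
      rcases hg with hg | hg
      · rw [hg, hsignτ] at hsg
        exact absurd hsg (by decide)
      · rw [hg, map_mul, hsignτ, hsign] at hsg
        exact absurd hsg (by decide)
    · exfalso
      rw [hu, hv] at hg
      rcases hg with hg | hg
      · have : g = σ₀ := by rw [hg]; group
        rw [this, hsign₀] at hsg
        exact absurd hsg (by decide)
      · have : g = σ₀ * σ := by rw [hg]; group
        rw [this, map_mul, hsign₀, hsign] at hsg
        exact absurd hsg (by decide)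
    · rw [hu, hv, ← hτ, ← hz] at hg
      rcases hg with hg | hg
      · right; left; exact hg
      · right; right; right; exact hg
  -- the two factors
  set K : Subgroup (Perm α) := wr W₁ σ ⊓ alternatingGroup α with hK
  have hzK : z ∈ K := ⟨hzW, hzAlt⟩
  have hσK : σ ∈ K := ⟨hσW, hσAlt⟩
  let zK : K := ⟨z, hzK⟩
  let sK : K := ⟨σ, hσK⟩
  have hzK2 : zK * zK = 1 := Subtype.ext hzz
  have hsK2 : sK * sK = 1 := Subtype.ext hσσ
  have hmemA : ∀ g : K, g ∈ Subgroup.zpowers zK ↔ g = 1 ∨ g = zK := mem_zpowers_of_sq hzK2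
  have hmemB : ∀ g : K, g ∈ Subgroup.zpowers sK ↔ g = 1 ∨ g = sK := mem_zpowers_of_sq hsK2
  have hzK1 : zK ≠ 1 := fun h => hz1 (congrArg Subtype.val h)
  have hsK1 : sK ≠ 1 := fun h => hσ1 (congrArg Subtype.val h)
  have hzs : zK ≠ sK := fun h => hzσne (congrArg Subtype.val h)
  have hcommK : zK * sK = sK * zK := Subtype.ext hzσ
  refine ⟨Subgroup.zpowers zK, Subgroup.zpowers sK, ?_, ?_, ?_, ?_, ?_⟩
  · intro hbot
    have : zK ∈ (⊥ : Subgroup K) := hbot ▸ Subgroup.mem_zpowers zK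
    exact hzK1 (Subgroup.mem_bot.1 this)
  · intro hbot
    have : sK ∈ (⊥ : Subgroup K) := hbot ▸ Subgroup.mem_zpowers sK
    exact hsK1 (Subgroup.mem_bot.1 this)
  · intro a ha b hb
    rw [hmemA] at ha
    rw [hmemB] at hb
    rcases ha with rfl | rfl <;> rcases hb with rfl | rfl
    · rfl
    · rw [one_mul, mul_one]
    · rw [one_mul, mul_one]
    · exact hcommK
  · rw [eq_bot_iff]
    intro g hg
    rw [Subgroup.mem_inf, hmemA, hmemB] at hg
    rw [Subgroup.mem_bot]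
    rcases hg.1 with h1 | h1
    · exact h1
    · rcases hg.2 with h2 | h2
      · exact h2
      · exact absurd (h1.symm.trans h2) hzs
  · rw [eq_top_iff]
    intro g _
    have hg := hlist g.1 g.2.1 (Perm.mem_alternatingGroup.1 g.2.2)
    rcases hg with hg | hg | hg | hg
    · have : g = 1 := Subtype.ext hg
      rw [this]
      exact Subgroup.one_mem _
    · have : g = zK := Subtype.ext hg
      rw [this]
      exact Subgroup.mem_sup_left (Subgroup.mem_zpowers _)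
    · have : g = sK := Subtype.ext hg
      rw [this]
      exact Subgroup.mem_sup_right (Subgroup.mem_zpowers _)
    · have : g = zK * sK := Subtype.ext hg
      rw [this]
      exact Subgroup.mul_mem_sup (Subgroup.mem_zpowers _) (Subgroup.mem_zpowers _)

end Cfsg.Agent.Lib.Helper34.SylAlt
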