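import Mathlib
import Cfsg.Prelude.Def_OddOrderLocal
import Cfsg.Agent.Lib.Helper24.RankTwoGen
import Cfsg.Agent.Lib.Helper54.BGUnique
import Cfsg.Agent.Lib.Helper54.UqEight
import Cfsg.Agent.Lib.Helper54.FourGroup
import Cfsg.Agent.Lib.Helper62.PiHall

set_option autoImplicit false
set_option linter.style.haveILetI false
set_option linter.unusedSectionVars false

/-!
Helper34 library: in a solvable `{p,q}`-group `H` with `p` odd, `q ≥ p + 2`, whose `p`-subgroups have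
rank at most two and whose Sylow `q`-subgroup `Q₁` is abelian, `Q₁` is normal.  Consequently, in a
solvable group `M` with these properties every `p`-subgroup normalizes some Sylow `q`-subgroup of `M`.
(Requested by helper68 for the assembly of Bender–Glauberman Theorem 11.5/11.7.)
-/

namespace Cfsg.Agent.Lib.Helper34.SylowNormalized

open Cfsg

variable {G : Type*} [Group G] [Finite G]

/-- `q ≥ p + 2` prime is coprime to `#GL₂(p)`. -/
theorem coprime_card_GL2 (p q : ℕ) [hp : Fact p.Prime] [hq : Fact q.Prime] (hp2 : p ≠ 2)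
    (hpq : p + 2 ≤ q) : q.Coprime ((p ^ 2 - 1) * (p ^ 2 - p)) := by
  have hp3 : 3 ≤ p := by
    have := hp.out.two_le
    omega
  rw [Nat.Prime.coprime_iff_not_dvd hq.out]
  intro hd
  have e1 : p ^ 2 - 1 = (p - 1) * (p + 1) := by
    obtain ⟨k, rfl⟩ : ∃ k, p = k + 1 := ⟨p - 1, by omega⟩
    simp only [Nat.add_sub_cancel]
    ring_nf
    omega
  have e2 : p ^ 2 - p = p * (p - 1) := by
    rw [Nat.mul_sub, mul_one, sq]
  rw [e1, e2] at hd
  have hnd : ∀ m : ℕ, 0 < m → m < q → ¬ q ∣ m := fun m hm hmq h =>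
    absurd (Nat.le_of_dvd hm h) (by omega)
  rcases (Nat.Prime.dvd_mul hq.out).mp hd with h | h
  · rcases (Nat.Prime.dvd_mul hq.out).mp h with h | h
    · exact hnd _ (by omega) (by omega) h
    · exact hnd _ (by omega) (by omega) h
  · rcases (Nat.Prime.dvd_mul hq.out).mp h with h | h
    · exact hnd _ (by omega) (by omega) h
    · exact hnd _ (by omega) (by omega) h

/-- a `q`-subgroup of `H` of index prime to `q` is a maximal `q`-subgroup of `H` -/
theorem eq_of_not_dvd_relIndex {q : ℕ} [Fact q.Prime] {H Q₁ T : Subgroup G} (_hQ₁H : Q₁ ≤ H)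
    (hsyl : ¬ q ∣ Q₁.relIndex H) (hT : IsPGroup q T) (hQT : Q₁ ≤ T) (hTH : T ≤ H) : T = Q₁ := by
  have h1 : Q₁.relIndex T * T.relIndex H = Q₁.relIndex H := Subgroup.relIndex_mul_relIndex _ _ _ hQT hTH
  have h2 : Q₁.relIndex T ∣ Nat.card T := by
    have := Subgroup.relIndex_dvd_card Q₁ T
    exact this
  obtain ⟨k, hk⟩ := IsPGroup.iff_card.mp hT
  rw [hk] at h2
  obtain ⟨j, _, hj⟩ := (Nat.dvd_prime_pow (Fact.out : q.Prime)).mp h2
  have hj0 : j = 0 := by
    by_contra hne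
    apply hsyl
    rw [← h1, hj]
    exact Dvd.dvd.mul_right (dvd_pow_self q hne) _
  rw [hj0, pow_zero, Subgroup.relIndex_eq_one] at hj
  exact le_antisymm hj hQT

theorem hall_pq_normal_sylow (p q : ℕ) [Fact p.Prime] [Fact q.Prime] (hp2 : p ≠ 2)
    (hpq : p + 2 ≤ q) (H Q₁ : Subgroup G) (hHs : Group.IsSolvable H)
    (hHpq : ∀ r : ℕ, r.Prime → r ∣ Nat.card H → r = p ∨ r = q)
    (hrank : ∀ R : Subgroup G, R ≤ H → IsPGroup p R → Cfsg.Agent.Lib.Helper24.RankLETwo p R)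
    (hQ₁H : Q₁ ≤ H) (hQ₁q : IsPGroup q Q₁) (hQ₁ab : ∀ x ∈ Q₁, ∀ y ∈ Q₁, x * y = y * x)
    (hQ₁syl : ¬ q ∣ Q₁.relIndex H) :
    H ≤ Subgroup.normalizer (Q₁ : Set G) := by
  have hcop := coprime_card_GL2 p q hp2 hpq
  -- `O_q(H) ≤ Q₁`
  have hOq : Cfsg.Agent.Lib.Helper54.pcOf q H ≤ Q₁ :=
    Cfsg.Agent.Lib.Helper54.pcOf_le_of_maximal q hQ₁q hQ₁H
      (fun T' hT' hQT hTH => eq_of_not_dvd_relIndex hQ₁H hQ₁syl hT' hQT hTH)
  -- every `O_r(H)` centralizes `Q₁`
  have h1 : ∀ r : ℕ, r.Prime →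
      Cfsg.Agent.Lib.Helper54.pcOf r H ≤ Subgroup.centralizer (Q₁ : Set G) := by
    intro r hr
    haveI : Fact r.Prime := ⟨hr⟩
    by_cases hrp : r = p
    · subst hrp
      intro y hy
      rw [Subgroup.mem_centralizer_iff]
      intro x hx
      have hxH : x ∈ H := hQ₁H hx
      have hxo : (orderOf x).Coprime ((r ^ 2 - 1) * (r ^ 2 - r)) := by
        obtain ⟨k, hk⟩ := (IsPGroup.iff_orderOf.mp hQ₁q) ⟨x, hx⟩
        rw [Subgroup.orderOf_mk] at hk
        rw [hk]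
        exact Nat.Coprime.pow_left k hcop
      exact Cfsg.Agent.Lib.Helper24.centralizes_of_rankLETwo_of_coprime_card_GL2 r hp2 x hxo
        (Cfsg.Agent.Lib.Helper54.pcOf r H) (Cfsg.Agent.Lib.Helper54.pcOf_isPGroup r H)
        (hrank _ (Cfsg.Agent.Lib.Helper54.pcOf_le r H) (Cfsg.Agent.Lib.Helper54.pcOf_isPGroup r H))
        (Cfsg.Agent.Lib.Helper54.le_normalizer_pcOf r H hxH) y hy
    · by_cases hrq : r = q
      · subst hrq
        intro y hy
        rw [Subgroup.mem_centralizer_iff]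
        intro x hx
        exact hQ₁ab x hx y (hOq hy)
      · -- `O_r(H) = 1`
        have hbot : Cfsg.Agent.Lib.Helper54.pcOf r H = ⊥ := by
          have hrg := Cfsg.Agent.Lib.Helper54.pcOf_isPGroup r H
          obtain ⟨k, hk⟩ := IsPGroup.iff_card.mp hrg
          have hd : Nat.card (Cfsg.Agent.Lib.Helper54.pcOf r H) ∣ Nat.card H :=
            Subgroup.card_dvd_of_le (Cfsg.Agent.Lib.Helper54.pcOf_le r H)
          have hk0 : k = 0 := by
            by_contra hne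
            have : r ∣ Nat.card H := (hk ▸ dvd_pow_self r hne).trans hd
            rcases hHpq r hr this with h | h
            · exact hrp h
            · exact hrq h
          rw [hk0, pow_zero] at hk
          exact Subgroup.card_eq_one.mp hk
        rw [hbot]
        exact bot_le
  -- `F(H)` centralizes `Q₁`, so `Q₁ ≤ F(H)`
  have h2 : fittingOf H ≤ Subgroup.centralizer (Q₁ : Set G) :=
    Cfsg.Agent.Lib.Helper54.fittingOf_le_of_forall_pcOf_le h1
  have h3 : Q₁ ≤ Subgroup.centralizer (fittingOf H : Set G) := by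
    rw [Subgroup.le_centralizer_iff]
    exact h2
  have h4 : Q₁ ≤ fittingOf H :=
    (le_inf hQ₁H h3).trans (Cfsg.Agent.Lib.Helper54.inf_centralizer_fittingOf_le hHs)
  have h5 : Q₁ ≤ Cfsg.Agent.Lib.Helper54.pcOf q H :=
    Cfsg.Agent.Lib.Helper54.le_pcOf_of_isPGroup q hQ₁q h4
  have h6 : Q₁ = Cfsg.Agent.Lib.Helper54.pcOf q H := le_antisymm h5 hOq
  rw [h6]
  exact Cfsg.Agent.Lib.Helper54.le_normalizer_pcOf q H

theorem exists_sylow_normalized (p q : ℕ) [Fact p.Prime] [Fact q.Prime] (hp2 : p ≠ 2)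
    (hpq : p + 2 ≤ q) (M P : Subgroup G) (hMs : Group.IsSolvable M) (hPM : P ≤ M)
    (hP : IsPGroup p P)
    (hrank : ∀ R : Subgroup G, R ≤ M → IsPGroup p R → Cfsg.Agent.Lib.Helper24.RankLETwo p R)
    (hqab : ∀ Q : Subgroup G, Q ≤ M → IsPGroup q Q → ∀ x ∈ Q, ∀ y ∈ Q, x * y = y * x) :
    ∃ Q₁ : Subgroup G, Q₁ ≤ M ∧ IsPGroup q Q₁ ∧ ¬ q ∣ Q₁.relIndex M ∧
      P ≤ Subgroup.normalizer (Q₁ : Set G) := by
  have hpp : p.Prime := Fact.out
  have hqp : q.Prime := Fact.out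
  set π : Set ℕ := {p, q} with hπ
  have hPπ : Cfsg.Agent.Lib.Helper62.IsPiNum π (Nat.card P) := by
    intro r hr hrd
    obtain ⟨k, hk⟩ := IsPGroup.iff_card.mp hP
    rw [hk] at hrd
    have : r = p := (Nat.prime_dvd_prime_iff_eq hr hpp).mp (hr.dvd_of_dvd_pow hrd)
    rw [this, hπ]
    exact Set.mem_insert _ _
  obtain ⟨H, hH, hPH⟩ := Cfsg.Agent.Lib.Helper62.isPiHallOf_dom hMs hPM hPπ
  obtain ⟨hHM, hHπ, hHidx⟩ := hH
  haveI hHs : Group.IsSolvable ↥H :=
    Group.isSolvable_of_isSolvable_injective (Subgroup.inclusion_injective hHM)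
  obtain ⟨S⟩ : Nonempty (Sylow q ↥H) := inferInstance
  set Q₁ : Subgroup G := (S : Subgroup ↥H).map H.subtype with hQ₁
  have hQ₁H : Q₁ ≤ H := Subgroup.map_subtype_le _
  have hQ₁q : IsPGroup q Q₁ := S.2.map _
  have hrel : Q₁.relIndex H = (S : Subgroup ↥H).index := by
    rw [hQ₁, Subgroup.relIndex, Subgroup.subgroupOf, Subgroup.comap_map_eq_self_of_injective
      H.subtype_injective]
  have hQ₁syl : ¬ q ∣ Q₁.relIndex H := by
    rw [hrel]
    exact S.not_dvd_index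
  have hHqM : ¬ q ∣ H.relIndex M := hHidx q hqp (by rw [hπ]; exact Set.mem_insert_of_mem _ rfl)
  refine ⟨Q₁, hQ₁H.trans hHM, hQ₁q, ?_, ?_⟩
  · rw [← Subgroup.relIndex_mul_relIndex _ _ _ hQ₁H hHM]
    intro hd
    rcases (Nat.Prime.dvd_mul hqp).mp hd with h | h
    · exact hQ₁syl h
    · exact hHqM h
  · refine hPH.trans ?_
    apply hall_pq_normal_sylow p q hp2 hpq H Q₁ hHs ?_ ?_ hQ₁H hQ₁q ?_ hQ₁syl
    · intro r hr hrd
      have := hHπ r hr hrd
      rw [hπ] at this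
      rcases this with h | h
      · exact Or.inl h
      · exact Or.inr h
    · intro R hRH hR
      exact hrank R (hRH.trans hHM) hR
    · exact hqab Q₁ (hQ₁H.trans hHM) hQ₁q

end Cfsg.Agent.Lib.Helper34.SylowNormalized
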