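import Mathlib.GroupTheory.Sylow
import Cfsg.Agent.Lib.Helper34.ThompsonMain2

set_option autoImplicit false

/-!
Helper34 library: `AllNC` from the hypotheses at a single Sylow subgroup (by conjugation).
-/

namespace Cfsg.Agent.Lib.Helper34

open Cfsg

universe u

theorem map_mulEquiv_centralizer {G H : Type*} [Group G] [Group H] (e : G ≃* H) (K : Subgroup G) :
    (Subgroup.centralizer (K : Set G)).map e.toMonoidHom =
      Subgroup.centralizer ((K.map e.toMonoidHom : Subgroup H) : Set H) := by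
  ext y
  constructor
  · rintro ⟨x, hx, rfl⟩
    rw [Subgroup.mem_centralizer_iff]
    rintro _ ⟨k, hk, rfl⟩
    have := Subgroup.mem_centralizer_iff.mp hx k hk
    show e k * e x = e x * e k
    rw [← map_mul, ← map_mul, this]
  · intro hy
    refine ⟨e.symm y, ?_, by simp⟩
    show e.symm y ∈ Subgroup.centralizer (K : Set G)
    rw [Subgroup.mem_centralizer_iff]
    intro k hk
    have := Subgroup.mem_centralizer_iff.mp hy (e k) ⟨k, hk, rfl⟩
    apply e.injective
    rw [map_mul, map_mul, MulEquiv.apply_symm_apply]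
    exact this

variable {p : ℕ} [Fact p.Prime] {W : ∀ (Q : Type u) [Group Q], Subgroup Q}

/-- If `C(W(S))` has a normal `p`-complement for one Sylow `p`-subgroup, then for all of them. -/
theorem hasNPC_centralizer_all_sylow (hW : Cfsg.IsCharPFunctor.{u} p W) {Γ : Type u} [Group Γ] [Finite Γ]
    (S : Sylow p Γ)
    (h : HasNormalPComplement p
      ↥(Subgroup.centralizer ((Cfsg.inducedFunctor W (S : Subgroup Γ) : Subgroup Γ) : Set Γ)))
    (S' : Sylow p Γ) :
    HasNormalPComplement p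
      ↥(Subgroup.centralizer ((Cfsg.inducedFunctor W (S' : Subgroup Γ) : Subgroup Γ) : Set Γ)) := by
  obtain ⟨g, rfl⟩ := MulAction.exists_smul_eq Γ S S'
  rw [sylow_smul_eq_map_conj, inducedFunctor_map_mulEquiv W hW (MulAut.conj g) _ S.isPGroup',
    ← map_mulEquiv_centralizer]
  exact hasNPC_of_mulEquiv ((MulAut.conj g).subgroupMap _) h

theorem allNC_of_sylow {W₁ W₂ : ∀ (Q : Type u) [Group Q], Subgroup Q}
    (hW₁ : Cfsg.IsCharPFunctor.{u} p W₁) (hW₂ : Cfsg.IsCharPFunctor.{u} p W₂)
    {Γ : Type u} [Group Γ] [Finite Γ] (S : Sylow p Γ)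
    (h₁ : HasNormalPComplement p
      ↥(Subgroup.normalizer ((Cfsg.inducedFunctor W₁ (S : Subgroup Γ) : Subgroup Γ) : Set Γ)))
    (h₂ : HasNormalPComplement p
      ↥(Subgroup.centralizer ((Cfsg.inducedFunctor W₂ (S : Subgroup Γ) : Subgroup Γ) : Set Γ))) :
    AllNC p W₁ W₂ Γ := fun S' =>
  ⟨hasNPC_normalizer_all_sylow hW₁ S h₁ S', hasNPC_centralizer_all_sylow hW₂ S h₂ S'⟩

end Cfsg.Agent.Lib.Helper34
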