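import Mathlib
import Cfsg.Prelude.Def_OddOrderLocal
import Cfsg.Prelude.Def_OddOrder
import Cfsg.Agent.Lib.Helper34.TildeEquiv
import Cfsg.Agent.Lib.Helper62.PiHall
import Cfsg.Agent.Lib.Helper23.TypeP

/-!
# Bender–Glauberman: the partition of `G^#` by the sets `M̃` and `Ẑ` (statement S1379), conditional
form (helper34)

`s1379_of` derives the literal statement S1379 from the literal statements of
S1366, S1367, S1369, S1374, S1375, S1378, S1425, S1430, S1431, S1432, S1433, S1434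
(taken as hypotheses for the fixed group `G`).
-/

set_option autoImplicit false
set_option linter.unusedVariables false

namespace Cfsg.Agent.Lib.Helper34.TildePartition

open Cfsg
open scoped Pointwise
open Cfsg.Agent.Lib.Helper34.TildeEquiv
open Cfsg.Agent.Lib.Helper62 (IsPiNum IsPiPrimeNum)

variable {G : Type*} [Group G]

/-! ### Generic lemmas -/

/-- The `π`-decomposition of an element of a finite group. -/
theorem exists_pi_decomp_elt [Finite G] (π : Set ℕ) (g : G) :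
    ∃ x x' : G, x ∈ Subgroup.zpowers g ∧ x' ∈ Subgroup.zpowers g ∧ g = x * x' ∧
      (∀ q : ℕ, q.Prime → q ∣ orderOf x → q ∈ π) ∧ (∀ q : ℕ, q.Prime → q ∣ orderOf x' → q ∉ π) := by
  have hN : 0 < orderOf g := orderOf_pos g
  obtain ⟨m, n, hmn, hm, hn⟩ := Cfsg.Agent.Lib.Helper62.exists_pi_decomp π (orderOf g) hN
  have hcop : m.Coprime n := Cfsg.Agent.Lib.Helper62.coprime_of_pi hm hn
  have hb : (m : ℤ) * Nat.gcdA m n + (n : ℤ) * Nat.gcdB m n = 1 := by
    have := Nat.gcd_eq_gcd_ab m n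
    rw [hcop.gcd_eq_one] at this
    simpa using this.symm
  refine ⟨(g ^ n) ^ (Nat.gcdB m n), (g ^ m) ^ (Nat.gcdA m n),
    Subgroup.zpow_mem _ (Subgroup.pow_mem _ (Subgroup.mem_zpowers g) _) _,
    Subgroup.zpow_mem _ (Subgroup.pow_mem _ (Subgroup.mem_zpowers g) _) _, ?_, ?_, ?_⟩
  · rw [← zpow_natCast g n, ← zpow_natCast g m, ← zpow_mul, ← zpow_mul, ← zpow_add]
    rw [add_comm, hb, zpow_one]
  · intro q hq hqd
    apply hm q hq
    apply hqd.trans
    apply orderOf_dvd_of_pow_eq_one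
    rw [← zpow_natCast, ← zpow_mul, mul_comm, zpow_mul, zpow_natCast, ← pow_mul, mul_comm, ← hmn,
      pow_orderOf_eq_one, one_zpow]
  · intro q hq hqd hqπ
    apply hn q hq hqπ
    apply hqd.trans
    apply orderOf_dvd_of_pow_eq_one
    rw [← zpow_natCast, ← zpow_mul, mul_comm, zpow_mul, zpow_natCast, ← pow_mul, ← hmn,
      pow_orderOf_eq_one, one_zpow]

theorem supportR_le_centralizer (M : Subgroup G) (a : G) :
    supportR M a ≤ Subgroup.centralizer ({a} : Set G) := by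
  unfold supportR
  split_ifs
  · exact inf_le_right
  · exact bot_le

theorem supportR_eq_bot_of_le (M : Subgroup G) {a : G}
    (h : Subgroup.centralizer ({a} : Set G) ≤ M) : supportR M a = ⊥ := by
  unfold supportR
  rw [dif_neg]
  intro h'
  exact h'.1 h

theorem supportR_eq_of_unique (M : Subgroup G) {a : G} {L : Subgroup G}
    (h1 : ¬ Subgroup.centralizer ({a} : Set G) ≤ M) (hL : IsCoatom L)
    (hCL : Subgroup.centralizer ({a} : Set G) ≤ L)
    (huniq : ∀ L' : Subgroup G, IsCoatom L' → Subgroup.centralizer ({a} : Set G) ≤ L' → L' = L) :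
    supportR M a = fittingHallOf L ⊓ Subgroup.centralizer ({a} : Set G) := by
  have h2 : ∃! L : Subgroup G, IsCoatom L ∧ Subgroup.centralizer ({a} : Set G) ≤ L :=
    ⟨L, ⟨hL, hCL⟩, fun L' hL' => huniq L' hL'.1 hL'.2⟩
  unfold supportR
  rw [dif_pos ⟨h1, h2⟩]
  have hch := Classical.choose_spec h2.exists
  rw [huniq _ hch.1 hch.2]

theorem mem_centralizer_singleton {x c : G} :
    c ∈ Subgroup.centralizer ({x} : Set G) ↔ c * x = x * c :=
  Subgroup.mem_centralizer_singleton_iff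

/-- The prime divisors of the order of an element of `M_σ` lie in `σ(M)`. -/
theorem prime_mem_sigma_of_mem_sigmaCore [Finite G] {M : Subgroup G} {x : G}
    (hx : x ∈ sigmaCore M) : ∀ q : ℕ, q.Prime → q ∣ orderOf x → q ∈ sigma M := by
  intro q hq hqx
  apply Cfsg.Agent.Lib.Helper54.sigmaCore_isPi M q hq
  have h1 : orderOf (⟨x, hx⟩ : sigmaCore M) = orderOf x := Subgroup.orderOf_mk x hx
  rw [← h1] at hqx
  exact hqx.trans (orderOf_dvd_natCard _)

theorem exists_prime_dvd_orderOf [Finite G] {x : G} (hx1 : x ≠ 1) :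
    ∃ q : ℕ, q.Prime ∧ q ∣ orderOf x :=
  Nat.exists_prime_and_dvd (fun h => hx1 (orderOf_eq_one_iff.mp h))

/-- An element of `a ∈ (M^g)_σ^#` times an element of `R_{M^g}(a)` lies in `M̃`. -/
theorem mul_mem_tildeSigma {M : Subgroup G} (g : G) {a r : G}
    (ha : a ∈ sigmaCore (M.map (MulAut.conj g).toMonoidHom)) (ha1 : a ≠ 1)
    (hr : r ∈ supportR (M.map (MulAut.conj g).toMonoidHom) a) : a * r ∈ tildeSigma M :=
  (mem_tildeSigma_iff M (a * r)).mpr ⟨g, a, ha, ha1, r, hr, rfl⟩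

theorem mul_mem_tildeSigma_self {M : Subgroup G} {a r : G}
    (ha : a ∈ sigmaCore M) (ha1 : a ≠ 1) (hr : r ∈ supportR M a) : a * r ∈ tildeSigma M :=
  ⟨a, ⟨ha, ha1⟩, r, hr, 1, by simp⟩

/-! ### The hypotheses: literal rows (or the clauses of them that are used) -/

/-- First half of S1378. -/
def H1378a (G : Type*) [Group G] : Prop :=
  ∀ p : ℕ, p.Prime → p ∣ Nat.card G → ∃ M : Subgroup G, IsCoatom M ∧ p ∈ sigma M

/-- Second half of S1378. -/
def H1378b (G : Type*) [Group G] : Prop :=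
  ∀ M N : Subgroup G, IsCoatom M → IsCoatom N → (sigma M ∩ sigma N).Nonempty →
    ∃ g : G, N = M.map (MulAut.conj g).toMonoidHom

/-- S1425. -/
def H1425 (G : Type*) [Group G] : Prop :=
  ∀ (M : Subgroup G), IsCoatom M → ∀ (Y : Subgroup G), Y ≠ ⊥ →
    (∀ p : ℕ, p.Prime → p ∣ Nat.card Y → p ∈ sigma M) →
    ∃ g : G, Y.map (MulAut.conj g).toMonoidHom ≤ sigmaCore M

/-- First clause of S1374. -/
def H1374 (G : Type*) [Group G] : Prop :=
  ∀ (M : Subgroup G), IsCoatom M → ∀ x : G, x ∈ sigmaCore M → x ≠ 1 →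
    (Nat.card ↥(M ⊓ Subgroup.centralizer ({x} : Set G))).Coprime
      ((M ⊓ Subgroup.centralizer ({x} : Set G)).relIndex (Subgroup.centralizer ({x} : Set G)))

/-- The first five clauses of S1375. -/
def H1375 (G : Type*) [Group G] : Prop :=
  ∀ (M : Subgroup G), IsCoatom M → ∀ x : G, x ∈ sigmaCore M → x ≠ 1 →
    ¬ Subgroup.centralizer ({x} : Set G) ≤ M →
    ∃ N : Subgroup G, IsCoatom N ∧ Subgroup.centralizer ({x} : Set G) ≤ N ∧
      (∀ L : Subgroup G, IsCoatom L → Subgroup.centralizer ({x} : Set G) ≤ L → L = N) ∧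
      sigmaCore N = fittingHallOf N ∧
      Subgroup.centralizer ({x} : Set G) ≤ Subgroup.normalizer
        ((sigmaCore N ⊓ Subgroup.centralizer ({x} : Set G) : Subgroup G) : Set G) ∧
      IsComplIn (M ⊓ Subgroup.centralizer ({x} : Set G))
        (sigmaCore N ⊓ Subgroup.centralizer ({x} : Set G)) (Subgroup.centralizer ({x} : Set G))

/-- S1432 (B&G Theorem 14.3 / 14.4). -/
def H1432 (G : Type*) [Group G] : Prop :=
  ∀ (M : Subgroup G), IsCoatom M → ∀ x : G, x ∈ sigmaCore M → x ≠ 1 →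
    ∀ x' : G, x' ∈ M ⊓ Subgroup.centralizer ({x} : Set G) → x' ≠ 1 →
    (∀ p : ℕ, p.Prime → p ∣ orderOf x' → p ∉ sigma M) →
    ((∀ p : ℕ, p.Prime → p ∣ orderOf x' → p ∈ kappa M) ∧
        Subgroup.centralizer ({x} : Set G) ≤ M) ∨
      ((∀ p : ℕ, p.Prime → p ∣ orderOf x' → p ∈ tau2 M) ∧
        (∃ L : Subgroup G, IsCoatom L ∧ ∀ p : ℕ, p.Prime → p ∣ orderOf x' → p ∈ sigma L) ∧
        (Subgroup.centralizer ({x'} : Set G) ≤ M ∧
          ∀ L : Subgroup G, IsCoatom L → Subgroup.centralizer ({x'} : Set G) ≤ L → L = M))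

/-! ### The `τ₂`-alternative -/

/-- If `x ∈ M₁_σ` commutes with a `σ(L)`-element `w ≠ 1` which is a `σ(M₁)'`-element and such that
`M₁` is the unique maximal subgroup over `C_G(w)`, then `x w ∈ L̃`. -/
theorem tau2_finish [Finite G] (h25 : H1425 G) (h75 : H1375 G)
    {M₁ : Subgroup G} (hM₁ : IsCoatom M₁) {x w : G} (hx : x ∈ sigmaCore M₁)
    (hxw : w * x = x * w) (hw1 : w ≠ 1)
    (hwσ : ∀ q : ℕ, q.Prime → q ∣ orderOf w → q ∉ sigma M₁)
    {L : Subgroup G} (hL : IsCoatom L) (hwL : ∀ q : ℕ, q.Prime → q ∣ orderOf w → q ∈ sigma L)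
    (hCw : Subgroup.centralizer ({w} : Set G) ≤ M₁)
    (huniq : ∀ L' : Subgroup G, IsCoatom L' → Subgroup.centralizer ({w} : Set G) ≤ L' → L' = M₁) :
    x * w ∈ tildeSigma L := by
  have hY1 : Subgroup.zpowers w ≠ ⊥ := by
    intro h
    exact hw1 (Subgroup.zpowers_eq_bot.mp h)
  have hYσ : ∀ p : ℕ, p.Prime → p ∣ Nat.card (Subgroup.zpowers w) → p ∈ sigma L := by
    intro p hp hpd
    rw [Nat.card_zpowers] at hpd
    exact hwL p hp hpd
  obtain ⟨h, hh⟩ := h25 L hL _ hY1 hYσ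
  set L' := L.map (MulAut.conj h⁻¹).toMonoidHom with hL'def
  have hL' : IsCoatom L' := isCoatom_map_conj hL h⁻¹
  have hwL' : w ∈ sigmaCore L' := by
    rw [hL'def, sigmaCore_map, Cfsg.Agent.Lib.Helper34.mem_map_conj_iff, inv_inv]
    apply hh
    exact ⟨w, Subgroup.mem_zpowers w, by simp [MulAut.conj_apply]⟩
  by_cases hc : Subgroup.centralizer ({w} : Set G) ≤ L'
  · exfalso
    have hLM : L' = M₁ := huniq L' hL' hc
    rw [hLM] at hwL'
    obtain ⟨q, hq, hqd⟩ := exists_prime_dvd_orderOf hw1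
    exact hwσ q hq hqd (prime_mem_sigma_of_mem_sigmaCore hwL' q hq hqd)
  · obtain ⟨N, hN, hCN, hNuniq, hNF, -, -⟩ := h75 L' hL' w hwL' hw1 hc
    have hNM : N = M₁ := huniq N hN hCN
    rw [hNM] at hNF
    have hR : supportR L' w = fittingHallOf M₁ ⊓ Subgroup.centralizer ({w} : Set G) :=
      supportR_eq_of_unique L' hc hM₁ hCw huniq
    have hxR : x ∈ supportR L' w := by
      rw [hR, ← hNF]
      exact ⟨hx, mem_centralizer_singleton.mpr hxw.symm⟩
    have := mul_mem_tildeSigma (M := L) h⁻¹ hwL' hw1 hxR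
    rwa [hxw] at this

/-! ### The main dichotomy -/

/-- The `κ`-alternative for an element `g`: `g = x x'` with `x ∈ M₁_σ^#` and `x' ≠ 1` a
`κ(M₁)`-element of `C_{M₁}(x)`. -/
def KappaAlt (g : G) : Prop :=
  ∃ M₁ : Subgroup G, IsCoatom M₁ ∧ ∃ x ∈ sigmaCore M₁, x ≠ 1 ∧
    ∃ x' ∈ M₁ ⊓ Subgroup.centralizer ({x} : Set G), x' ≠ 1 ∧
      (∀ p : ℕ, p.Prime → p ∣ orderOf x' → p ∈ kappa M₁) ∧ g = x * x'

theorem commute_of_mem_zpowers {g a b : G} (ha : a ∈ Subgroup.zpowers g)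
    (hb : b ∈ Subgroup.zpowers g) : a * b = b * a := by
  obtain ⟨i, rfl⟩ := Subgroup.mem_zpowers_iff.mp ha
  obtain ⟨j, rfl⟩ := Subgroup.mem_zpowers_iff.mp hb
  rw [← zpow_add, ← zpow_add, add_comm]

theorem orderOf_conj_eq (k v : G) : orderOf (k * v * k⁻¹) = orderOf v := by
  have := orderOf_injective (MulAut.conj k).toMonoidHom (MulAut.conj k).injective v
  simpa [MulAut.conj_apply] using this

/-- Case `C_G(x) ⊄ M₁` of the dichotomy. -/
theorem mem_tilde_of_not_le [Finite G] (hG : IsMinSimpleOddOrder G) (h25 : H1425 G)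
    (h74 : H1374 G) (h75 : H1375 G) (h32 : H1432 G)
    {M₁ : Subgroup G} (hM₁ : IsCoatom M₁) {x x' : G} (hxM₁ : x ∈ sigmaCore M₁) (hx1 : x ≠ 1)
    (hx'C : x' ∈ Subgroup.centralizer ({x} : Set G))
    (hx'σ : ∀ q : ℕ, q.Prime → q ∣ orderOf x' → q ∉ sigma M₁)
    (hC : ¬ Subgroup.centralizer ({x} : Set G) ≤ M₁) :
    ∃ N : Subgroup G, IsCoatom N ∧ x * x' ∈ tildeSigma N := by
  obtain ⟨N, hN, hCN, hNuniq, hNF, hnorm, hcompl⟩ := h75 M₁ hM₁ x hxM₁ hx1 hC
  have hcop := h74 M₁ hM₁ x hxM₁ hx1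
  set C := Subgroup.centralizer ({x} : Set G) with hCdef
  set A := M₁ ⊓ C with hAdef
  set R := sigmaCore N ⊓ C with hRdef
  have hAC : A ≤ C := inf_le_right
  have hRC : R ≤ C := inf_le_right
  have hsuppR : supportR M₁ x = R := by
    rw [supportR_eq_of_unique M₁ hC hN hCN hNuniq, ← hNF]
  have hcard : Nat.card C = Nat.card A * Nat.card R :=
    Cfsg.Agent.Lib.Helper23.card_of_isComplIn hcompl
  have hrelA : A.relIndex C = Nat.card R := by
    have h1 := Cfsg.Agent.Lib.Helper23.card_mul_relIndex_of_le hAC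
    rw [hcard] at h1
    exact Nat.eq_of_mul_eq_mul_left Nat.card_pos h1
  have hrelR : R.relIndex C = Nat.card A := by
    have h1 := Cfsg.Agent.Lib.Helper23.card_mul_relIndex_of_le hRC
    rw [hcard, mul_comm (Nat.card A)] at h1
    exact Nat.eq_of_mul_eq_mul_left Nat.card_pos h1
  have hcopAR : (Nat.card A).Coprime (Nat.card R) := by rw [← hrelA]; exact hcop
  -- decompose `x'`
  obtain ⟨u, v, hu, hv, hx'uv, huπ, hvπ⟩ := exists_pi_decomp_elt {q | q ∣ Nat.card R} x'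
  have huC : u ∈ C := (Subgroup.zpowers_le.mpr hx'C) hu
  have hvC : v ∈ C := (Subgroup.zpowers_le.mpr hx'C) hv
  have huv : u * v = v * u := commute_of_mem_zpowers hu hv
  have hvσ : ∀ q : ℕ, q.Prime → q ∣ orderOf v → q ∉ sigma M₁ := by
    intro q hq hqd
    apply hx'σ q hq
    exact hqd.trans (orderOf_dvd_of_mem_zpowers hv)
  -- `u ∈ R`
  have huR : u ∈ R := by
    have : (R.subgroupOf C).Normal := Subgroup.normal_subgroupOf_of_le_normalizer hnorm
    have hco : (Nat.card (Subgroup.zpowers (⟨u, huC⟩ : C))).Coprime (R.subgroupOf C).index := by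
      rw [Nat.card_zpowers, Subgroup.orderOf_mk]
      show (orderOf u).Coprime (R.relIndex C)
      rw [hrelR]
      apply Nat.coprime_of_dvd
      intro q hq hq1 hq2
      have h3 : q ∣ Nat.card R := huπ q hq hq1
      have := Nat.Coprime.eq_one_of_dvd (hcopAR.coprime_dvd_left hq2) h3
      exact hq.one_lt.ne' this
    have h1 := Cfsg.Agent.Lib.Helper54.le_of_normal_of_coprime_index (R.subgroupOf C) hco
    have h2 : (⟨u, huC⟩ : C) ∈ R.subgroupOf C := h1 (Subgroup.mem_zpowers _)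
    exact Subgroup.mem_subgroupOf.mp h2
  by_cases hv1 : v = 1
  · refine ⟨M₁, hM₁, ?_⟩
    rw [hx'uv, hv1, mul_one]
    apply mul_mem_tildeSigma_self hxM₁ hx1
    rw [hsuppR]
    exact huR
  · -- conjugate `v` into `A`
    have hCtop : C ≠ ⊤ := by
      intro h
      apply hN.1
      rw [eq_top_iff, ← h]
      exact hCN
    have hsolv : Group.IsSolvable ↥C := hG.2.2.2 C hCtop
    have hAhall : IsPiHallOf {q | ¬ q ∣ Nat.card R} A C := by
      refine ⟨hAC, ?_, ?_⟩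
      · intro q hq hqA hqR
        have := Nat.Coprime.eq_one_of_dvd (hcopAR.coprime_dvd_left hqA) hqR
        exact hq.one_lt.ne' this
      · intro q hq hqπ
        rw [hrelA]
        exact hqπ
    have hVC : Subgroup.zpowers v ≤ C := Subgroup.zpowers_le.mpr hvC
    have hVπ : IsPiNum {q | ¬ q ∣ Nat.card R} (Nat.card (Subgroup.zpowers v)) := by
      intro q hq hqd
      rw [Nat.card_zpowers] at hqd
      exact hvπ q hq hqd
    obtain ⟨H, hH, hVH⟩ := Cfsg.Agent.Lib.Helper62.isPiHallOf_dom hsolv hVC hVπ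
    obtain ⟨k, hkC, hk⟩ := Cfsg.Agent.Lib.Helper62.isPiHallOf_conj hsolv hH hAhall
    have hkx : k * x = x * k := mem_centralizer_singleton.mp hkC
    set w := k * v * k⁻¹ with hwdef
    set u' := k * u * k⁻¹ with hu'def
    have hwA : w ∈ A := by
      rw [← hk]
      have := Subgroup.smul_mem_pointwise_smul v (MulAut.conj k) H (hVH (Subgroup.mem_zpowers v))
      simpa [MulAut.smul_def, MulAut.conj_apply] using this
    have hu'R : u' ∈ R := by
      have hkn : k ∈ Subgroup.normalizer (R : Set G) := hnorm hkC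
      exact (Subgroup.mem_normalizer_iff.mp hkn u).mp huR
    have hw1 : w ≠ 1 := by
      intro h
      apply hv1
      have : v = k⁻¹ * w * k := by rw [hwdef]; group
      rw [this, h]; group
    have hwσ : ∀ q : ℕ, q.Prime → q ∣ orderOf w → q ∉ sigma M₁ := by
      intro q hq hqd
      rw [hwdef, orderOf_conj_eq] at hqd
      exact hvσ q hq hqd
    have hu'w : u' * w = w * u' := by
      rw [hu'def, hwdef]
      have : k * u * k⁻¹ * (k * v * k⁻¹) = k * (u * v) * k⁻¹ := by group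
      rw [this, huv]; group
    have hconj : k * (x * x') * k⁻¹ = x * (u' * w) := by
      rw [hx'uv, hu'def, hwdef]
      have : k * (x * (u * v)) * k⁻¹ = (k * x) * (u * v) * k⁻¹ := by group
      rw [this, hkx]; group
    rcases h32 M₁ hM₁ x hxM₁ hx1 w hwA hw1 hwσ with ⟨-, hCM⟩ | ⟨-, ⟨L, hL, hLσ⟩, hCw, huniq⟩
    · exact absurd hCM hC
    · refine ⟨L, hL, ?_⟩
      have hu'M : u' ∈ M₁ := hCw (mem_centralizer_singleton.mpr hu'w)
      have hu'1 : u' = 1 := by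
        have h1 : u' ∈ A ⊓ R := ⟨⟨hu'M, hRC hu'R⟩, hu'R⟩
        rw [hcompl.2.2.1, Subgroup.mem_bot] at h1
        exact h1
      rw [hu'1, one_mul] at hconj
      have hwx : w * x = x * w := mem_centralizer_singleton.mp (hAC hwA)
      have h1 : x * w ∈ tildeSigma L :=
        tau2_finish h25 h75 hM₁ hxM₁ hwx hw1 hwσ hL hLσ hCw huniq
      rw [← hconj] at h1
      have h2 := conj_mem_tildeSigma h1 k⁻¹
      have h3 : k⁻¹ * (k * (x * x') * k⁻¹) * k⁻¹⁻¹ = x * x' := by group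
      rwa [h3] at h2

/-- The main dichotomy: every `g ≠ 1` lies in some `Ñ` or satisfies the `κ`-alternative. -/
theorem mem_tilde_or_kappaAlt [Finite G] (hG : IsMinSimpleOddOrder G) (h78a : H1378a G)
    (h25 : H1425 G) (h74 : H1374 G) (h75 : H1375 G) (h32 : H1432 G) (g : G) (hg1 : g ≠ 1) :
    (∃ N : Subgroup G, IsCoatom N ∧ g ∈ tildeSigma N) ∨ KappaAlt g := by
  obtain ⟨p, hp, hpg⟩ := exists_prime_dvd_orderOf hg1
  have hpG : p ∣ Nat.card G := hpg.trans (orderOf_dvd_natCard g)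
  obtain ⟨M₀, hM₀, hpM₀⟩ := h78a p hp hpG
  obtain ⟨x, x', hxg, hx'g, hgxx', hxπ, hx'π⟩ := exists_pi_decomp_elt (sigma M₀) g
  have hx1 : x ≠ 1 := by
    intro h
    rw [h, one_mul] at hgxx'
    rw [hgxx'] at hpg
    exact hx'π p hp hpg hpM₀
  have hcomm : x' * x = x * x' := commute_of_mem_zpowers hx'g hxg
  have hY1 : Subgroup.zpowers x ≠ ⊥ := fun h => hx1 (Subgroup.zpowers_eq_bot.mp h)
  have hYσ : ∀ q : ℕ, q.Prime → q ∣ Nat.card (Subgroup.zpowers x) → q ∈ sigma M₀ := by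
    intro q hq hqd
    rw [Nat.card_zpowers] at hqd
    exact hxπ q hq hqd
  obtain ⟨h, hh⟩ := h25 M₀ hM₀ _ hY1 hYσ
  set M₁ := M₀.map (MulAut.conj h⁻¹).toMonoidHom with hM₁def
  have hM₁ : IsCoatom M₁ := isCoatom_map_conj hM₀ h⁻¹
  have hσ₁ : sigma M₁ = sigma M₀ := sigma_map_conj M₀ h⁻¹
  have hxM₁ : x ∈ sigmaCore M₁ := by
    rw [hM₁def, sigmaCore_map, Cfsg.Agent.Lib.Helper34.mem_map_conj_iff, inv_inv]
    apply hh
    exact ⟨x, Subgroup.mem_zpowers x, by simp [MulAut.conj_apply]⟩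
  have hx'σ : ∀ q : ℕ, q.Prime → q ∣ orderOf x' → q ∉ sigma M₁ := by
    rw [hσ₁]; exact hx'π
  have hx'C : x' ∈ Subgroup.centralizer ({x} : Set G) := mem_centralizer_singleton.mpr hcomm
  by_cases hC : Subgroup.centralizer ({x} : Set G) ≤ M₁
  · by_cases hx'1 : x' = 1
    · left
      refine ⟨M₁, hM₁, ?_⟩
      rw [hgxx', hx'1]
      exact mul_mem_tildeSigma_self hxM₁ hx1 (Subgroup.one_mem _)
    · rcases h32 M₁ hM₁ x hxM₁ hx1 x' ⟨hC hx'C, hx'C⟩ hx'1 hx'σ with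
        ⟨hκ, -⟩ | ⟨-, ⟨L, hL, hLσ⟩, hCw, huniq⟩
      · right
        exact ⟨M₁, hM₁, x, hxM₁, hx1, x', ⟨hC hx'C, hx'C⟩, hx'1, hκ, hgxx'⟩
      · left
        refine ⟨L, hL, ?_⟩
        rw [hgxx']
        exact tau2_finish h25 h75 hM₁ hxM₁ hcomm hx'1 hx'σ hL hLσ hCw huniq
  · left
    rw [hgxx']
    exact mem_tilde_of_not_le hG h25 h74 h75 h32 hM₁ hxM₁ hx1 hx'C hx'σ hC

/-! ### Clause (2): no `κ` at all -/

theorem clause_two [Finite G] (hG : IsMinSimpleOddOrder G) (h78a : H1378a G)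
    (h25 : H1425 G) (h74 : H1374 G) (h75 : H1375 G) (h32 : H1432 G)
    (hκ : ∀ M : Subgroup G, IsCoatom M → kappa M = ∅) (g : G) (hg1 : g ≠ 1) :
    ∃ M : Subgroup G, IsCoatom M ∧ g ∈ tildeSigma M := by
  rcases mem_tilde_or_kappaAlt hG h78a h25 h74 h75 h32 g hg1 with h | h
  · exact h
  · exfalso
    obtain ⟨M₁, hM₁, x, -, -, x', -, hx'1, hx'κ, -⟩ := h
    obtain ⟨q, hq, hqd⟩ := exists_prime_dvd_orderOf hx'1
    have := hx'κ q hq hqd
    rw [hκ M₁ hM₁] at this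
    exact this

/-! ### Further generic lemmas -/

/-- A `κ(M)`-subgroup meets `M_σ` trivially. -/
theorem inf_sigmaCore_eq_bot_of_kappa [Finite G] {M K : Subgroup G}
    (hK : ∀ p : ℕ, p.Prime → p ∣ Nat.card K → p ∈ kappa M) : K ⊓ sigmaCore M = ⊥ := by
  rw [eq_bot_iff]
  rintro c ⟨hcK, hcσ⟩
  rw [Subgroup.mem_bot]
  by_contra hc1
  obtain ⟨q, hq, hqd⟩ := exists_prime_dvd_orderOf hc1
  have h1 : q ∈ sigma M := prime_mem_sigma_of_mem_sigmaCore hcσ q hq hqd
  have h2 : q ∣ Nat.card K := by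
    have h3 : orderOf (⟨c, hcK⟩ : K) = orderOf c := Subgroup.orderOf_mk c hcK
    rw [← h3] at hqd
    exact hqd.trans (orderOf_dvd_natCard _)
  exact (hK q hq h2).2.2.1 h1

theorem exists_prime_card_le_zpowers [Finite G] {a : G} (ha1 : a ≠ 1) :
    ∃ X : Subgroup G, X ≤ Subgroup.zpowers a ∧ (Nat.card X).Prime := by
  obtain ⟨q, hq, hqd⟩ := exists_prime_dvd_orderOf ha1
  refine ⟨Subgroup.zpowers (a ^ (orderOf a / q)), ?_, ?_⟩
  · exact Subgroup.zpowers_le.mpr (Subgroup.pow_mem _ (Subgroup.mem_zpowers a) _)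
  · rw [Nat.card_zpowers, orderOf_pow_orderOf_div (orderOf_pos a).ne' hqd]
    exact hq

theorem centralizer_singleton_le_of_le_zpowers {a : G} {X : Subgroup G}
    (hX : X ≤ Subgroup.zpowers a) :
    Subgroup.centralizer ({a} : Set G) ≤ Subgroup.centralizer (X : Set G) := by
  intro c hc
  rw [Subgroup.mem_centralizer_iff]
  intro t ht
  obtain ⟨i, rfl⟩ := Subgroup.mem_zpowers_iff.mp (hX ht)
  have h1 : c * a = a * c := mem_centralizer_singleton.mp hc
  exact ((Commute.zpow_left (show Commute a c from h1.symm) i).eq)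

theorem isPiHallOf_map_conj {π : Set ℕ} {H M : Subgroup G} (h : IsPiHallOf π H M) (g : G) :
    IsPiHallOf π (H.map (MulAut.conj g).toMonoidHom) (M.map (MulAut.conj g).toMonoidHom) := by
  refine ⟨Subgroup.map_mono h.1, ?_, ?_⟩
  · rw [Cfsg.Agent.Lib.Helper34.card_map_conj]
    exact h.2.1
  · rw [Cfsg.Agent.Lib.Helper34.relIndex_map_conj]
    exact h.2.2

theorem conj_smul_eq_map (k : G) (H : Subgroup G) :
    MulAut.conj k • H = H.map (MulAut.conj k).toMonoidHom := rfl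

/-- Two Hall `κ`-subgroups of conjugate maximal subgroups are conjugate together with the maximal
subgroups. -/
theorem exists_conj_pair [Finite G] (hG : IsMinSimpleOddOrder G) {M₂ K₂ M₁ K₁ : Subgroup G}
    (hM₁ : IsCoatom M₁) (hK₂ : IsPiHallOf (kappa M₂) K₂ M₂) (hK₁ : IsPiHallOf (kappa M₁) K₁ M₁)
    (h : G) (hh : M₁ = M₂.map (MulAut.conj h).toMonoidHom) :
    ∃ y : G, M₁ = M₂.map (MulAut.conj y).toMonoidHom ∧ K₁ = K₂.map (MulAut.conj y).toMonoidHom := by
  have hsolv : Group.IsSolvable ↥M₁ := hG.2.2.2 M₁ hM₁.1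
  have h1 : IsPiHallOf (kappa M₁) (K₂.map (MulAut.conj h).toMonoidHom) M₁ := by
    have := isPiHallOf_map_conj hK₂ h
    rw [← hh] at this
    have hk : kappa M₁ = kappa M₂ := by rw [hh]; exact kappa_map (MulAut.conj h) M₂
    rw [hk]
    exact this
  obtain ⟨k, hkM, hk⟩ := Cfsg.Agent.Lib.Helper62.isPiHallOf_conj hsolv h1 hK₁
  refine ⟨k * h, ?_, ?_⟩
  · rw [Cfsg.Agent.Lib.Helper34.map_conj_mul, ← hh]
    exact (Cfsg.Agent.Lib.Helper34.map_conj_eq_self_of_mem_normalizer M₁ k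
      (Subgroup.le_normalizer hkM)).symm
  · rw [Cfsg.Agent.Lib.Helper34.map_conj_mul, ← hk]
    rfl

/-- Elements of `K ⊔ K*` are products, when `K*` centralizes `K`. -/
theorem exists_mul_of_mem_sup {K S : Subgroup G} (hS : S ≤ Subgroup.centralizer (K : Set G))
    {z : G} (hz : z ∈ K ⊔ S) : ∃ k ∈ K, ∃ s ∈ S, z = k * s ∧ k * s = s * k := by
  have hSN : S ≤ Subgroup.normalizer (K : Set G) :=
    hS.trans (Subgroup.centralizer_le_normalizer (K : Set G))
  have h1 : z ∈ ((S ⊔ K : Subgroup G) : Set G) := by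
    rw [sup_comm]; exact hz
  rw [Subgroup.coe_mul_of_left_le_normalizer_right S K hSN] at h1
  obtain ⟨s, hs, k, hk, rfl⟩ := Set.mem_mul.mp h1
  have hc : k * s = s * k := by
    have := Subgroup.mem_centralizer_iff.mp (hS hs) k hk
    exact this
  exact ⟨k, hk, s, hs, hc.symm, hc⟩

/-! ### Hypotheses on the type-`P` maximal subgroups -/

/-- `M*` is a partner of `(M, K)`: `K = C_{M*_σ}(K*)` and `K*` is a Hall `κ(M*)`-subgroup of `M*`,
where `K* = C_{M_σ}(K)`. -/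
def IsPartner (M K Mstar : Subgroup G) : Prop :=
  IsCoatom Mstar ∧
    K = sigmaCore Mstar ⊓ Subgroup.centralizer
      ((sigmaCore M ⊓ Subgroup.centralizer (K : Set G) : Subgroup G) : Set G) ∧
    IsPiHallOf (kappa Mstar) (sigmaCore M ⊓ Subgroup.centralizer (K : Set G)) Mstar

/-- Existence half of S1366. -/
def H1366 (G : Type*) [Group G] : Prop :=
  ∀ (M : Subgroup G), IsCoatom M → ∀ K U : Subgroup G, IsSigmaDecomposition M K U → K ≠ ⊥ →
    ∃ Mstar : Subgroup G, IsPartner M K Mstar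

/-- The containments of S1367. -/
def H1367 (G : Type*) [Group G] : Prop :=
  ∀ (M : Subgroup G), IsCoatom M → ∀ K U : Subgroup G, IsSigmaDecomposition M K U → K ≠ ⊥ →
    ∀ Mstar : Subgroup G, IsPartner M K Mstar →
    (∀ X : Subgroup G, X ≤ sigmaCore M ⊓ Subgroup.centralizer (K : Set G) → (Nat.card X).Prime →
        Subgroup.centralizer (X : Set G) ≤ M) ∧
      (∀ Y : Subgroup G, Y ≤ K → (Nat.card Y).Prime → Subgroup.centralizer (Y : Set G) ≤ Mstar)

/-- Second half of S1369. -/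
def H1369 (G : Type*) [Group G] : Prop :=
  ∀ (M : Subgroup G), IsCoatom M → ∀ K U : Subgroup G, IsSigmaDecomposition M K U → K ≠ ⊥ →
    ∀ Mstar : Subgroup G, IsPartner M K Mstar →
    ∀ H : Subgroup G, IsCoatom H → (kappa H).Nonempty →
      ∃ g : G, H = M.map (MulAut.conj g).toMonoidHom ∨ H = Mstar.map (MulAut.conj g).toMonoidHom

/-- The centralizer clause of S1434. -/
def H1434c (G : Type*) [Group G] : Prop :=
  ∀ (M : Subgroup G), IsCoatom M → ∀ K U : Subgroup G, IsSigmaDecomposition M K U → K ≠ ⊥ →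
    ∀ Mstar : Subgroup G, IsPartner M K Mstar →
    ∀ x ∈ K, x ≠ 1 → ∀ y ∈ sigmaCore M ⊓ Subgroup.centralizer (K : Set G), y ≠ 1 →
      Subgroup.centralizer ({x * y} : Set G) =
        K ⊔ (sigmaCore M ⊓ Subgroup.centralizer (K : Set G))

/-- First clause of S1430. -/
def H1430a (G : Type*) [Group G] : Prop :=
  ∀ (M : Subgroup G), IsCoatom M → ∀ K : Subgroup G, IsPiHallOf (kappa M) K M → K ≠ ⊥ →
    ∀ k ∈ K, k ≠ 1 → sigmaCore M ⊓ Subgroup.centralizer ({k} : Set G) =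
      sigmaCore M ⊓ Subgroup.centralizer (K : Set G)

/-- First clause of S1431. -/
def H1431a (G : Type*) [Group G] : Prop :=
  ∀ (M : Subgroup G), IsCoatom M → ∀ K : Subgroup G, IsPiHallOf (kappa M) K M → K ≠ ⊥ →
    ∀ g : G, g ∉ M → (sigmaCore M ⊓ Subgroup.centralizer (K : Set G)) ⊓
      M.map (MulAut.conj g).toMonoidHom = ⊥

/-! ### Clause (3a) -/

/-- Pull back a pair `(x, x')` along a simultaneous conjugation of `(M₂, K₂)` to `(M₁, K₁)`. -/
theorem pull_back_pair {M₂ K₂ M₁ K₁ : Subgroup G} {y x x' : G}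
    (hM : M₁ = M₂.map (MulAut.conj y).toMonoidHom) (hK : K₁ = K₂.map (MulAut.conj y).toMonoidHom)
    (hx : x ∈ sigmaCore M₁ ⊓ Subgroup.centralizer (K₁ : Set G)) (hx' : x' ∈ K₁) :
    y⁻¹ * x * y ∈ sigmaCore M₂ ⊓ Subgroup.centralizer (K₂ : Set G) ∧ y⁻¹ * x' * y ∈ K₂ ∧
      x * x' = y * ((y⁻¹ * x * y) * (y⁻¹ * x' * y)) * y⁻¹ := by
  have hx1 : x ∈ sigmaCore M₁ := (Subgroup.mem_inf.mp hx).1
  have hx2 : x ∈ Subgroup.centralizer (K₁ : Set G) := (Subgroup.mem_inf.mp hx).2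
  refine ⟨Subgroup.mem_inf.mpr ⟨?_, ?_⟩, ?_, by group⟩
  · rw [hM, sigmaCore_map, Cfsg.Agent.Lib.Helper34.mem_map_conj_iff] at hx1
    exact hx1
  · rw [Subgroup.mem_centralizer_iff]
    intro t ht
    have ht' : y * t * y⁻¹ ∈ K₁ := by
      rw [hK]
      exact ⟨t, ht, by simp [MulAut.conj_apply]⟩
    have e : y * t * y⁻¹ * x = x * (y * t * y⁻¹) :=
      Subgroup.mem_centralizer_iff.mp hx2 _ ht'
    have e1 : t * (y⁻¹ * x * y) = y⁻¹ * (y * t * y⁻¹ * x) * y := by group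
    rw [e1, e]
    group
  · rw [hK, Cfsg.Agent.Lib.Helper34.mem_map_conj_iff] at hx'
    exact hx'

theorem conj_ne_one {y x : G} (hx : x ≠ 1) : y⁻¹ * x * y ≠ 1 := by
  intro h
  apply hx
  have : x = y * (y⁻¹ * x * y) * y⁻¹ := by group
  rw [this, h]
  group

/-- `c d ∈ Ẑ` for `c ∈ K^#`, `d ∈ K*^#`. -/
theorem mul_mem_zhat [Finite G] {M K : Subgroup G}
    (hKκ : ∀ p : ℕ, p.Prime → p ∣ Nat.card K → p ∈ kappa M) {c d : G} (hc : c ∈ K) (hc1 : c ≠ 1)
    (hd : d ∈ sigmaCore M ⊓ Subgroup.centralizer (K : Set G)) (hd1 : d ≠ 1) :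
    c * d ∈ ((↑(K ⊔ (sigmaCore M ⊓ Subgroup.centralizer (K : Set G))) : Set G) \
      ((K : Set G) ∪ ↑(sigmaCore M ⊓ Subgroup.centralizer (K : Set G)))) := by
  have hbot := inf_sigmaCore_eq_bot_of_kappa hKκ
  refine ⟨Subgroup.mul_mem _ (Subgroup.mem_sup_left hc) (Subgroup.mem_sup_right hd), ?_⟩
  rintro (h | h)
  · have hdK : d ∈ K := by
      have := K.mul_mem (K.inv_mem hc) h
      simpa using this
    have : d ∈ K ⊓ sigmaCore M := ⟨hdK, hd.1⟩
    rw [hbot, Subgroup.mem_bot] at this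
    exact hd1 this
  · have hcS : c ∈ sigmaCore M ⊓ Subgroup.centralizer (K : Set G) := by
      have := Subgroup.mul_mem _ h (Subgroup.inv_mem _ hd)
      simpa using this
    have : c ∈ K ⊓ sigmaCore M := ⟨hc, hcS.1⟩
    rw [hbot, Subgroup.mem_bot] at this
    exact hc1 this

theorem clause_three_a [Finite G] (hG : IsMinSimpleOddOrder G) (h78a : H1378a G)
    (h25 : H1425 G) (h74 : H1374 G) (h75 : H1375 G) (h32 : H1432 G) (h66 : H1366 G)
    (h69 : H1369 G) (h30 : H1430a G)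
    (M K U : Subgroup G) (hM : IsCoatom M) (hKU : IsSigmaDecomposition M K U) (hK1 : K ≠ ⊥)
    (g : G) (hg1 : g ≠ 1) :
    (∃ N : Subgroup G, IsCoatom N ∧ g ∈ tildeSigma N) ∨
      ∃ y : G, ∃ z ∈ ((↑(K ⊔ (sigmaCore M ⊓ Subgroup.centralizer (K : Set G))) : Set G) \
        ((K : Set G) ∪ ↑(sigmaCore M ⊓ Subgroup.centralizer (K : Set G)))), g = y * z * y⁻¹ := by
  rcases mem_tilde_or_kappaAlt hG h78a h25 h74 h75 h32 g hg1 with h | h
  · exact Or.inl h
  · right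
    obtain ⟨M₁, hM₁, x, hxM₁, hx1, x', hx'MC, hx'1, hx'κ, hgxx'⟩ := h
    obtain ⟨Mstar, hP⟩ := h66 M hM K U hKU hK1
    obtain ⟨hMstar, hKst, hKstH⟩ := hP
    obtain ⟨q, hq, hqd⟩ := exists_prime_dvd_orderOf hx'1
    obtain ⟨h, hh⟩ := h69 M hM K U hKU hK1 Mstar ⟨hMstar, hKst, hKstH⟩ M₁ hM₁
      ⟨q, hx'κ q hq hqd⟩
    have hsolv : Group.IsSolvable ↥M₁ := hG.2.2.2 M₁ hM₁.1
    have hX'M : Subgroup.zpowers x' ≤ M₁ := Subgroup.zpowers_le.mpr hx'MC.1
    have hX'π : IsPiNum (kappa M₁) (Nat.card (Subgroup.zpowers x')) := by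
      intro p hp hpd
      rw [Nat.card_zpowers] at hpd
      exact hx'κ p hp hpd
    obtain ⟨K₁, hK₁, hX'K₁⟩ := Cfsg.Agent.Lib.Helper62.isPiHallOf_dom hsolv hX'M hX'π
    have hx'K₁ : x' ∈ K₁ := hX'K₁ (Subgroup.mem_zpowers x')
    have hK₁ne : K₁ ≠ ⊥ := by
      intro hb
      rw [hb, Subgroup.mem_bot] at hx'K₁
      exact hx'1 hx'K₁
    have hx'x : x' * x = x * x' := mem_centralizer_singleton.mp hx'MC.2
    have hxK₁s : x ∈ sigmaCore M₁ ⊓ Subgroup.centralizer (K₁ : Set G) := by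
      rw [← h30 M₁ hM₁ K₁ hK₁ hK₁ne x' hx'K₁ hx'1]
      exact ⟨hxM₁, mem_centralizer_singleton.mpr hx'x.symm⟩
    have hKκ : ∀ p : ℕ, p.Prime → p ∣ Nat.card K → p ∈ kappa M := hKU.hall.2.1
    rcases hh with hh | hh
    · obtain ⟨y, hyM, hyK⟩ := exists_conj_pair hG hM₁ hKU.hall hK₁ h hh
      obtain ⟨ha, hb, hprod⟩ := pull_back_pair hyM hyK hxK₁s hx'K₁
      have hcomm : (y⁻¹ * x * y) * (y⁻¹ * x' * y) = (y⁻¹ * x' * y) * (y⁻¹ * x * y) :=
        (Subgroup.mem_centralizer_iff.mp ha.2 _ hb).symm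
      refine ⟨y, (y⁻¹ * x' * y) * (y⁻¹ * x * y),
        mul_mem_zhat hKκ hb (conj_ne_one hx'1) ha (conj_ne_one hx1), ?_⟩
      rw [hgxx', hprod, hcomm]
    · obtain ⟨y, hyM, hyK⟩ := exists_conj_pair hG hM₁ hKstH hK₁ h hh
      obtain ⟨ha, hb, hprod⟩ := pull_back_pair hyM hyK hxK₁s hx'K₁
      rw [← hKst] at ha
      refine ⟨y, (y⁻¹ * x * y) * (y⁻¹ * x' * y),
        mul_mem_zhat hKκ ha (conj_ne_one hx1) hb (conj_ne_one hx'1), ?_⟩
      rw [hgxx', hprod]

/-! ### Clause (3b) -/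

/-- Key step: an element `a ≠ 1` of `N'_σ` lying in a `σ(M₂)`-group `S₂` which is a "TI-piece"
of `M₂` forces `N' = M₂`. -/
theorem eq_of_mem_sigmaCore_of_ti [Finite G] (h78b : H1378b G) {M₂ N' S₂ : Subgroup G}
    (hM₂ : IsCoatom M₂) (hN' : IsCoatom N') (hS₂ : S₂ ≤ sigmaCore M₂)
    (hTI : ∀ g : G, g ∉ M₂ → S₂ ⊓ M₂.map (MulAut.conj g).toMonoidHom = ⊥)
    {c : G} (hc1 : c ≠ 1) (hcS : c ∈ S₂) (hcN : c ∈ sigmaCore N') : N' = M₂ := by
  obtain ⟨q, hq, hqd⟩ := exists_prime_dvd_orderOf hc1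
  have h1 : q ∈ sigma M₂ := prime_mem_sigma_of_mem_sigmaCore (hS₂ hcS) q hq hqd
  have h2 : q ∈ sigma N' := prime_mem_sigma_of_mem_sigmaCore hcN q hq hqd
  obtain ⟨h, hh⟩ := h78b M₂ N' hM₂ hN' ⟨q, h1, h2⟩
  by_cases hhM : h ∈ M₂
  · rw [hh]
    exact Cfsg.Agent.Lib.Helper34.map_conj_eq_self_of_mem_normalizer M₂ h
      (Subgroup.le_normalizer hhM)
  · exfalso
    have h3 : c ∈ S₂ ⊓ M₂.map (MulAut.conj h).toMonoidHom := by
      refine ⟨hcS, ?_⟩
      rw [← hh]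
      exact Cfsg.Agent.Lib.Helper54.sigmaCore_le N' hcN
    rw [hTI h hhM, Subgroup.mem_bot] at h3
    exact hc1 h3

theorem pow_natCard_eq_one_of_mem [Finite G] {H : Subgroup G} {t : G} (ht : t ∈ H) :
    t ^ Nat.card H = 1 := by
  have h1 : (⟨t, ht⟩ : H) ^ Nat.card H = 1 := _root_.pow_card_eq_one'
  have h2 : ((⟨t, ht⟩ : H) ^ Nat.card H : H).1 = (1 : H).1 := by rw [h1]
  rw [Subgroup.coe_pow] at h2
  exact h2

theorem clause_three_b [Finite G] (hG : IsMinSimpleOddOrder G) (h78b : H1378b G)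
    (h66 : H1366 G) (h67 : H1367 G) (h31 : H1431a G) (h34 : H1434c G)
    (M K U : Subgroup G) (hM : IsCoatom M) (hKU : IsSigmaDecomposition M K U) (hK1 : K ≠ ⊥)
    (N : Subgroup G) (hN : IsCoatom N) (y z : G)
    (hz : z ∈ ((↑(K ⊔ (sigmaCore M ⊓ Subgroup.centralizer (K : Set G))) : Set G) \
        ((K : Set G) ∪ ↑(sigmaCore M ⊓ Subgroup.centralizer (K : Set G))))) :
    y * z * y⁻¹ ∉ tildeSigma N := by
  intro hmem
  obtain ⟨Mstar, hP⟩ := h66 M hM K U hKU hK1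
  obtain ⟨hMstar, hKst, hKstH⟩ := hP
  set Ks := sigmaCore M ⊓ Subgroup.centralizer (K : Set G) with hKsdef
  have hKsC : Ks ≤ Subgroup.centralizer (K : Set G) := inf_le_right
  have hKsσ : Ks ≤ sigmaCore M := inf_le_left
  obtain ⟨hzZ, hznot⟩ := hz
  have hzK : z ∉ K := fun h => hznot (Or.inl h)
  have hzKs : z ∉ Ks := fun h => hznot (Or.inr h)
  -- `z ∈ Ñ`
  have hz' : z ∈ tildeSigma N := by
    have := conj_mem_tildeSigma hmem y⁻¹
    have e : y⁻¹ * (y * z * y⁻¹) * y⁻¹⁻¹ = z := by group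
    rwa [e] at this
  obtain ⟨g₀, a, ha, ha1, r, hr, hzar⟩ := (mem_tildeSigma_iff N z).mp hz'
  set N' := N.map (MulAut.conj g₀).toMonoidHom with hN'def
  have hN' : IsCoatom N' := isCoatom_map_conj hN g₀
  -- decompose `z`
  obtain ⟨k, hk, ks, hks, hzk, hkcomm⟩ := exists_mul_of_mem_sup hKsC hzZ
  have hk1 : k ≠ 1 := by
    rintro rfl
    rw [one_mul] at hzk
    exact hzKs (hzk ▸ hks)
  have hks1 : ks ≠ 1 := by
    rintro rfl
    rw [mul_one] at hzk
    exact hzK (hzk ▸ hk)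
  have hCz : Subgroup.centralizer ({z} : Set G) = K ⊔ Ks := by
    rw [hzk]
    exact h34 M hM K U hKU hK1 Mstar ⟨hMstar, hKst, hKstH⟩ k hk hk1 ks hks hks1
  have hra : r * a = a * r := mem_centralizer_singleton.mp (supportR_le_centralizer N' a hr)
  have haZ : a ∈ K ⊔ Ks := by
    rw [← hCz]
    apply mem_centralizer_singleton.mpr
    rw [hzar, mul_assoc, hra]
  -- decompose `a`
  obtain ⟨ak, hak, as, has, haa, hacomm⟩ := exists_mul_of_mem_sup hKsC haZ
  have hKκ : ∀ p : ℕ, p.Prime → p ∣ Nat.card K → p ∈ kappa M := hKU.hall.2.1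
  have hKsκ : ∀ p : ℕ, p.Prime → p ∣ Nat.card Ks → p ∈ kappa Mstar := hKstH.2.1
  have hKsne : Ks ≠ ⊥ := by
    intro hb
    rw [hb, Subgroup.mem_bot] at hks
    exact hks1 hks
  have hKσs : K ≤ sigmaCore Mstar := by
    intro t ht
    rw [hKst] at ht
    exact ht.1
  have hcop : (Nat.card K).Coprime (Nat.card Ks) := by
    apply Nat.coprime_of_dvd
    intro p hp hpK hpKs
    have h1 : p ∈ sigma M :=
      Cfsg.Agent.Lib.Helper54.sigmaCore_isPi M p hp (hpKs.trans (Subgroup.card_dvd_of_le hKsσ))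
    exact (hKκ p hp hpK).2.2.1 h1
  have hpowK : a ^ Nat.card K = as ^ Nat.card K := by
    rw [haa, (show Commute ak as from hacomm).mul_pow, pow_natCard_eq_one_of_mem hak, one_mul]
  have hpowKs : a ^ Nat.card Ks = ak ^ Nat.card Ks := by
    rw [haa, (show Commute ak as from hacomm).mul_pow, pow_natCard_eq_one_of_mem has, mul_one]
  have hsome : a ^ Nat.card K ≠ 1 ∨ a ^ Nat.card Ks ≠ 1 := by
    by_contra hcon
    push Not at hcon
    have h1 : orderOf a ∣ Nat.card K := orderOf_dvd_of_pow_eq_one hcon.1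
    have h2 : orderOf a ∣ Nat.card Ks := orderOf_dvd_of_pow_eq_one hcon.2
    have h3 : orderOf a ∣ 1 := by
      have := Nat.dvd_gcd h1 h2
      rwa [hcop.gcd_eq_one] at this
    exact ha1 (orderOf_eq_one_iff.mp (Nat.dvd_one.mp h3))
  rcases hsome with hc | hc
  · -- a nontrivial power of `a` lies in `K* ∩ N'_σ`: then `N' = M`
    have hcKs : a ^ Nat.card K ∈ Ks := by rw [hpowK]; exact Subgroup.pow_mem _ has _
    have hcN : a ^ Nat.card K ∈ sigmaCore N' := Subgroup.pow_mem _ ha _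
    have hNM : N' = M :=
      eq_of_mem_sigmaCore_of_ti h78b hM hN' hKsσ (h31 M hM K hKU.hall hK1) hc hcKs hcN
    rw [hNM] at ha hr
    -- `a ∈ K*`
    have hak1 : ak = 1 := by
      have h1 : ak ∈ K ⊓ sigmaCore M := by
        refine ⟨hak, ?_⟩
        have : ak = a * as⁻¹ := by rw [haa]; group
        rw [this]
        exact Subgroup.mul_mem _ ha (Subgroup.inv_mem _ (hKsσ has))
      rw [inf_sigmaCore_eq_bot_of_kappa hKκ, Subgroup.mem_bot] at h1
      exact h1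
    have haKs : a ∈ Ks := by rw [haa, hak1, one_mul]; exact has
    obtain ⟨X, hXa, hXp⟩ := exists_prime_card_le_zpowers ha1
    have hXKs : X ≤ Ks := hXa.trans (Subgroup.zpowers_le.mpr haKs)
    have hCa : Subgroup.centralizer ({a} : Set G) ≤ M :=
      (centralizer_singleton_le_of_le_zpowers hXa).trans
        ((h67 M hM K U hKU hK1 Mstar ⟨hMstar, hKst, hKstH⟩).1 X hXKs hXp)
    rw [supportR_eq_bot_of_le M hCa, Subgroup.mem_bot] at hr
    rw [hr, mul_one] at hzar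
    exact hzKs (hzar ▸ haKs)
  · -- a nontrivial power of `a` lies in `K ∩ N'_σ`: then `N' = M*`
    have hcK : a ^ Nat.card Ks ∈ K := by rw [hpowKs]; exact Subgroup.pow_mem _ hak _
    have hcN : a ^ Nat.card Ks ∈ sigmaCore N' := Subgroup.pow_mem _ ha _
    have hTI : ∀ g : G, g ∉ Mstar → K ⊓ Mstar.map (MulAut.conj g).toMonoidHom = ⊥ := by
      intro g hg
      have := h31 Mstar hMstar Ks hKstH hKsne g hg
      rwa [← hKst] at this
    have hNM : N' = Mstar :=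
      eq_of_mem_sigmaCore_of_ti h78b hMstar hN' hKσs hTI hc hcK hcN
    rw [hNM] at ha hr
    have has1 : as = 1 := by
      have h1 : as ∈ Ks ⊓ sigmaCore Mstar := by
        refine ⟨has, ?_⟩
        have : as = ak⁻¹ * a := by rw [haa]; group
        rw [this]
        exact Subgroup.mul_mem _ (Subgroup.inv_mem _ (hKσs hak)) ha
      rw [inf_sigmaCore_eq_bot_of_kappa hKsκ, Subgroup.mem_bot] at h1
      exact h1
    have haK : a ∈ K := by rw [haa, has1, mul_one]; exact hak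
    obtain ⟨X, hXa, hXp⟩ := exists_prime_card_le_zpowers ha1
    have hXK : X ≤ K := hXa.trans (Subgroup.zpowers_le.mpr haK)
    have hCa : Subgroup.centralizer ({a} : Set G) ≤ Mstar :=
      (centralizer_singleton_le_of_le_zpowers hXa).trans
        ((h67 M hM K U hKU hK1 Mstar ⟨hMstar, hKst, hKstH⟩).2 X hXK hXp)
    rw [supportR_eq_bot_of_le Mstar hCa, Subgroup.mem_bot] at hr
    rw [hr, mul_one] at hzar
    exact hzK (hzar ▸ haK)

/-! ### The statement S1379 -/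

/-- **Statement S1379**, conditional form. -/
theorem s1379_of [Finite G] (hG : IsMinSimpleOddOrder G) (h78a : H1378a G) (h78b : H1378b G)
    (h25 : H1425 G) (h74 : H1374 G) (h75 : H1375 G) (h32 : H1432 G) (h33 : Stmt1433 G)
    (h66 : H1366 G) (h67 : H1367 G) (h69 : H1369 G) (h30 : H1430a G) (h31 : H1431a G)
    (h34 : H1434c G) :
    (∀ M N : Subgroup G, IsCoatom M → IsCoatom N →
        (∀ g : G, N ≠ M.map (MulAut.conj g).toMonoidHom) →
        Cfsg.tildeOf M ((Cfsg.sigmaCore M : Set G) \ {1}) ∩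
          Cfsg.tildeOf N ((Cfsg.sigmaCore N : Set G) \ {1}) = ∅) ∧
      ((∀ M : Subgroup G, IsCoatom M → Cfsg.kappa M = ∅) →
        ∀ g : G, g ≠ 1 → ∃ M : Subgroup G, IsCoatom M ∧
          g ∈ Cfsg.tildeOf M ((Cfsg.sigmaCore M : Set G) \ {1})) ∧
      ∀ (M K U : Subgroup G), IsCoatom M → Cfsg.IsSigmaDecomposition M K U → K ≠ ⊥ →
        (∀ g : G, g ≠ 1 → (∃ N : Subgroup G, IsCoatom N ∧
              g ∈ Cfsg.tildeOf N ((Cfsg.sigmaCore N : Set G) \ {1})) ∨
            ∃ y : G, ∃ z ∈ ((↑(K ⊔ (Cfsg.sigmaCore M ⊓ Subgroup.centralizer (K : Set G))) : Set G) \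
              ((K : Set G) ∪ ↑(Cfsg.sigmaCore M ⊓ Subgroup.centralizer (K : Set G)))),
              g = y * z * y⁻¹) ∧
        ∀ N : Subgroup G, IsCoatom N → ∀ y : G,
          ∀ z ∈ ((↑(K ⊔ (Cfsg.sigmaCore M ⊓ Subgroup.centralizer (K : Set G))) : Set G) \
            ((K : Set G) ∪ ↑(Cfsg.sigmaCore M ⊓ Subgroup.centralizer (K : Set G)))),
            y * z * y⁻¹ ∉ Cfsg.tildeOf N ((Cfsg.sigmaCore N : Set G) \ {1}) := by
  refine ⟨?_, ?_, ?_⟩
  · intro M N hM hN hne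
    exact tildeSigma_disjoint_of h33 h78b M N hM hN hne
  · intro hκ g hg1
    exact clause_two hG h78a h25 h74 h75 h32 hκ g hg1
  · intro M K U hM hKU hK1
    refine ⟨?_, ?_⟩
    · intro g hg1
      exact clause_three_a hG h78a h25 h74 h75 h32 h66 h69 h30 M K U hM hKU hK1 g hg1
    · intro N hN y z hz
      exact clause_three_b hG h78b h66 h67 h31 h34 M K U hM hKU hK1 N hN y z hz

end Cfsg.Agent.Lib.Helper34.TildePartition
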