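import Mathlib
import Cfsg.Prelude.Def_OddOrderLocal
import Cfsg.Prelude.Def_OddOrder
import Cfsg.Agent.Lib.Helper34.TildePartition

/-!
# `M̃ ∩ Z ⊆ A` for a subgroup `Z` whose `σ(M)`-elements lie in `A ≤ M_σ` with `C_G(a) ≤ M` (helper34)

Module (C4) of the clique count for B&G Theorem 14.7: the class support of `Z − ⋃ A_i` is disjoint
from the sets `M̃_j`.  Hypotheses: the literal statements S1374 and S1375 (first six clauses).
-/

set_option autoImplicit false
set_option linter.unusedVariables false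

namespace Cfsg.Agent.Lib.Helper34.TildeZhat

open Cfsg
open scoped Pointwise
open Cfsg.Agent.Lib.Helper34.TildeEquiv
open Cfsg.Agent.Lib.Helper34.TildePartition

variable {G : Type*} [Group G]

/-- Literal S1374. -/
def Stmt1374 (G : Type*) [Group G] : Prop :=
  ∀ (M : Subgroup G), IsCoatom M → ∀ x : G, x ∈ sigmaCore M → x ≠ 1 →
    (Nat.card ↥(M ⊓ Subgroup.centralizer ({x} : Set G))).Coprime
        ((M ⊓ Subgroup.centralizer ({x} : Set G)).relIndex (Subgroup.centralizer ({x} : Set G))) ∧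
      ∃ R : Subgroup G, Subgroup.centralizer ({x} : Set G) ≤ Subgroup.normalizer (R : Set G) ∧
        IsComplIn (M ⊓ Subgroup.centralizer ({x} : Set G)) R (Subgroup.centralizer ({x} : Set G)) ∧
        ∀ g : G, x ∈ M.map (MulAut.conj g).toMonoidHom →
          ∃! r : G, r ∈ R ∧ M.map (MulAut.conj r).toMonoidHom = M.map (MulAut.conj g).toMonoidHom

/-- The first six clauses of S1375. -/
def Stmt1375 (G : Type*) [Group G] : Prop :=
  ∀ (M : Subgroup G), IsCoatom M → ∀ x : G, x ∈ sigmaCore M → x ≠ 1 →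
    ¬ Subgroup.centralizer ({x} : Set G) ≤ M →
    ∃ N : Subgroup G, IsCoatom N ∧ Subgroup.centralizer ({x} : Set G) ≤ N ∧
      (∀ L : Subgroup G, IsCoatom L → Subgroup.centralizer ({x} : Set G) ≤ L → L = N) ∧
      sigmaCore N = fittingHallOf N ∧
      Subgroup.centralizer ({x} : Set G) ≤ Subgroup.normalizer
        ((sigmaCore N ⊓ Subgroup.centralizer ({x} : Set G) : Subgroup G) : Set G) ∧
      IsComplIn (M ⊓ Subgroup.centralizer ({x} : Set G))
        (sigmaCore N ⊓ Subgroup.centralizer ({x} : Set G)) (Subgroup.centralizer ({x} : Set G)) ∧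
      IsComplIn (M ⊓ N) (sigmaCore N) N

theorem h1374_of (h : Stmt1374 G) : H1374 G := fun M hM x hx hx1 => (h M hM x hx hx1).1

theorem h1375_of (h : Stmt1375 G) : H1375 G := by
  intro M hM x hx hx1 hxM
  obtain ⟨N, h1, h2, h3, h4, h5, h6, -⟩ := h M hM x hx hx1 hxM
  exact ⟨N, h1, h2, h3, h4, h5, h6⟩

/-- For `x ∈ M_σ^#` and `r ∈ R(x)` the orders of `x` and `r` are coprime. -/
theorem coprime_orderOf_of_mem_supportR [Finite G] (h74 : Stmt1374 G) (h75 : Stmt1375 G)
    {M : Subgroup G} (hM : IsCoatom M) {x r : G} (hx : x ∈ sigmaCore M) (hx1 : x ≠ 1)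
    (hr : r ∈ supportR M x) : (orderOf x).Coprime (orderOf r) := by
  by_cases hC : Subgroup.centralizer ({x} : Set G) ≤ M
  · rw [supportR_eq_bot_of_le M hC, Subgroup.mem_bot] at hr
    rw [hr, orderOf_one]
    exact Nat.coprime_one_right _
  · obtain ⟨N, hN, hCN, huniq, hNF, -, hcompl, -⟩ := h75 M hM x hx hx1 hC
    have hcop := (h74 M hM x hx hx1).1
    rw [supportR_eq_of_unique M hC hN hCN huniq, ← hNF] at hr
    set C := Subgroup.centralizer ({x} : Set G)
    set A := M ⊓ C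
    set R := sigmaCore N ⊓ C
    have hcard : Nat.card C = Nat.card A * Nat.card R :=
      Cfsg.Agent.Lib.Helper23.card_of_isComplIn hcompl
    have hrelA : A.relIndex C = Nat.card R := by
      have h1 := Cfsg.Agent.Lib.Helper23.card_mul_relIndex_of_le (inf_le_right : A ≤ C)
      rw [hcard] at h1
      exact Nat.eq_of_mul_eq_mul_left Nat.card_pos h1
    rw [hrelA] at hcop
    have hxA : x ∈ A := ⟨Cfsg.Agent.Lib.Helper54.sigmaCore_le M hx,
      mem_centralizer_singleton.mpr rfl⟩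
    have h1 : orderOf x ∣ Nat.card A := by
      have : orderOf (⟨x, hxA⟩ : A) = orderOf x := Subgroup.orderOf_mk x hxA
      rw [← this]
      exact orderOf_dvd_natCard _
    have h2 : orderOf r ∣ Nat.card R := by
      have : orderOf (⟨r, hr⟩ : R) = orderOf r := Subgroup.orderOf_mk r hr
      rw [← this]
      exact orderOf_dvd_natCard _
    exact (hcop.coprime_dvd_left h1).coprime_dvd_right h2

/-- If `x r = t` with `x`, `r` commuting of coprime orders then `x` is a power of `t`. -/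
theorem mem_zpowers_of_coprime {x r : G} (hxr : x * r = r * x)
    (hco : (orderOf x).Coprime (orderOf r)) : x ∈ Subgroup.zpowers (x * r) := by
  have hb : (orderOf x : ℤ) * Nat.gcdA (orderOf x) (orderOf r) +
      (orderOf r : ℤ) * Nat.gcdB (orderOf x) (orderOf r) = 1 := by
    have := Nat.gcd_eq_gcd_ab (orderOf x) (orderOf r)
    rw [hco.gcd_eq_one] at this
    simpa using this.symm
  have h1 : (x * r) ^ (orderOf r) = x ^ (orderOf r) := by
    rw [(show Commute x r from hxr).mul_pow, pow_orderOf_eq_one, mul_one]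
  have h2 : x = (x ^ (orderOf r)) ^ (Nat.gcdB (orderOf x) (orderOf r)) := by
    have e : x ^ ((orderOf x : ℤ) * Nat.gcdA (orderOf x) (orderOf r) +
        (orderOf r : ℤ) * Nat.gcdB (orderOf x) (orderOf r)) = x := by rw [hb, zpow_one]
    rw [zpow_add, zpow_mul, zpow_mul, zpow_natCast, zpow_natCast, pow_orderOf_eq_one, one_zpow,
      one_mul] at e
    exact e.symm
  have h3 : ((x * r) ^ (orderOf r)) ^ (Nat.gcdB (orderOf x) (orderOf r)) ∈
      Subgroup.zpowers (x * r) :=
    Subgroup.zpow_mem _ (Subgroup.pow_mem _ (Subgroup.mem_zpowers (x * r)) _) _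
  rw [h1, ← h2] at h3
  exact h3

/-- **Module (C4).** Let `A ≤ M_σ` contain every `σ(M)`-element of the subgroup `Z`, and suppose
`C_G(a) ≤ M` for `a ∈ A^#`. Then every element of `M̃ ∩ Z` lies in `A`. -/
theorem mem_of_mem_tildeSigma_of_mem [Finite G] (h74 : Stmt1374 G) (h75 : Stmt1375 G)
    {M A Z : Subgroup G} (hM : IsCoatom M) (hAσ : A ≤ sigmaCore M)
    (hZA : ∀ x ∈ Z, (∀ q : ℕ, q.Prime → q ∣ orderOf x → q ∈ sigma M) → x ∈ A)
    (hCA : ∀ x ∈ A, x ≠ 1 → Subgroup.centralizer ({x} : Set G) ≤ M)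
    {t : G} (ht : t ∈ tildeSigma M) (htZ : t ∈ Z) : t ∈ A := by
  obtain ⟨g, a, ha, ha1, r, hr, rfl⟩ := (mem_tildeSigma_iff M t).mp ht
  set M' := M.map (MulAut.conj g).toMonoidHom with hM'def
  have hM' : IsCoatom M' := isCoatom_map_conj hM g
  have hra : r * a = a * r := mem_centralizer_singleton.mp (supportR_le_centralizer M' a hr)
  have hco := coprime_orderOf_of_mem_supportR h74 h75 hM' ha ha1 hr
  have haZ : a ∈ Z := (Subgroup.zpowers_le.mpr htZ) (mem_zpowers_of_coprime hra.symm hco)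
  have haσ : ∀ q : ℕ, q.Prime → q ∣ orderOf a → q ∈ sigma M := by
    intro q hq hqd
    rw [← sigma_map_conj M g]
    exact prime_mem_sigma_of_mem_sigmaCore ha q hq hqd
  have haA : a ∈ A := hZA a haZ haσ
  have hCaM : Subgroup.centralizer ({a} : Set G) ≤ M := hCA a haA ha1
  have haM : a ∈ M := Cfsg.Agent.Lib.Helper54.sigmaCore_le M (hAσ haA)
  by_cases hC : Subgroup.centralizer ({a} : Set G) ≤ M'
  · -- then `M' = M`
    obtain ⟨-, R, -, hcompl, hreg⟩ := h74 M' hM' a ha ha1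
    have hRbot : R = ⊥ := by
      have h1 : R ≤ M' ⊓ Subgroup.centralizer ({a} : Set G) :=
        le_inf (hcompl.2.1.trans hC) hcompl.2.1
      have h2 := hcompl.2.2.1
      rw [inf_eq_right.mpr h1] at h2
      exact h2
    have hMM' : M'.map (MulAut.conj g⁻¹).toMonoidHom = M := by
      rw [hM'def]
      exact Cfsg.Agent.Lib.Helper34.map_conj_inv_map_conj M g
    have haM'' : a ∈ M'.map (MulAut.conj g⁻¹).toMonoidHom := by rw [hMM']; exact haM
    obtain ⟨r₀, ⟨hr₀R, hr₀⟩, -⟩ := hreg g⁻¹ haM''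
    rw [hRbot, Subgroup.mem_bot] at hr₀R
    have hM'M : M' = M := by
      rw [← hMM', ← hr₀, hr₀R]
      ext y
      simp
    rw [hM'M] at hr
    rw [supportR_eq_bot_of_le M hCaM, Subgroup.mem_bot] at hr
    rw [hr, mul_one]
    exact haA
  · exfalso
    obtain ⟨N, hN, hCN, huniq, -, -, -, hcomplN⟩ := h75 M' hM' a ha ha1 hC
    have hNM : M = N := huniq M hM hCaM
    rw [← hNM] at hcomplN
    have h1 : a ∈ (M' ⊓ M) ⊓ sigmaCore M :=
      ⟨⟨Cfsg.Agent.Lib.Helper54.sigmaCore_le M' ha, haM⟩, hAσ haA⟩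
    rw [hcomplN.2.2.1, Subgroup.mem_bot] at h1
    exact ha1 h1

/-- Corollary: a conjugate of an element of `Z` outside `A` never lies in `M̃`. -/
theorem conj_notMem_tildeSigma [Finite G] (h74 : Stmt1374 G) (h75 : Stmt1375 G)
    {M A Z : Subgroup G} (hM : IsCoatom M) (hAσ : A ≤ sigmaCore M)
    (hZA : ∀ x ∈ Z, (∀ q : ℕ, q.Prime → q ∣ orderOf x → q ∈ sigma M) → x ∈ A)
    (hCA : ∀ x ∈ A, x ≠ 1 → Subgroup.centralizer ({x} : Set G) ≤ M)
    {z : G} (hzZ : z ∈ Z) (hzA : z ∉ A) (y : G) : y * z * y⁻¹ ∉ tildeSigma M := by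
  intro h
  have h1 := conj_mem_tildeSigma h y⁻¹
  have e : y⁻¹ * (y * z * y⁻¹) * y⁻¹⁻¹ = z := by group
  rw [e] at h1
  exact hzA (mem_of_mem_tildeSigma_of_mem h74 h75 hM hAσ hZA hCA h1 hzZ)

end Cfsg.Agent.Lib.Helper34.TildeZhat
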