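import Mathlib

set_option autoImplicit false

/-!
# S2279 module [ALG-NT] (helper53 sheet): Lucas-type congruence and the number-theoretic step
`c ^ n ∈ K`, `binom (n-1+i) (n-1) * c ^ i ∈ K` for `i + 3 ≤ n`  ⟹  `c ∈ K`.
-/

namespace Cfsg.Agent.Lib.Helper34.TwoReg

/-- Lucas: `choose (p^e (m+1) - 1) (p^e) ≡ m (mod p)` -/
theorem choose_pow_mul_sub_one_modEq (p : ℕ) [hp : Fact p.Prime] (e m : ℕ) :
    (p ^ e * (m + 1) - 1).choose (p ^ e) ≡ m [MOD p] := by
  induction e with
  | zero => simp [Nat.ModEq]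
  | succ e ih =>
    have hp1 : 1 ≤ p := hp.out.one_le
    have hM : 1 ≤ p ^ e * (m + 1) := Nat.one_le_iff_ne_zero.2 (by positivity)
    obtain ⟨M, hM'⟩ : ∃ M, p ^ e * (m + 1) = M + 1 := ⟨_, (Nat.succ_pred_eq_of_pos hM).symm⟩
    obtain ⟨P, hP⟩ : ∃ P, p = P + 1 := ⟨_, (Nat.succ_pred_eq_of_pos hp1).symm⟩
    have hN : p ^ (e + 1) * (m + 1) - 1 = p * M + P := by
      have : p ^ (e + 1) * (m + 1) = p * (M + 1) := by
        rw [pow_succ, mul_comm (p ^ e) p, mul_assoc, hM']
      rw [this, mul_add, mul_one]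
      conv_lhs => rw [show p * M + p = p * M + P + 1 by omega]
      rfl
    have hPlt : P < p := by omega
    have hmod : (p ^ (e + 1) * (m + 1) - 1) % p = P := by
      rw [hN, Nat.mul_add_mod, Nat.mod_eq_of_lt hPlt]
    have hdiv : (p ^ (e + 1) * (m + 1) - 1) / p = M := by
      rw [hN, Nat.mul_add_div (by omega), Nat.div_eq_of_lt hPlt, add_zero]
    have hkmod : p ^ (e + 1) % p = 0 := by
      rw [pow_succ, Nat.mul_mod_left]
    have hkdiv : p ^ (e + 1) / p = p ^ e := by
      rw [pow_succ, Nat.mul_div_cancel _ (by omega)]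
    have h1 := Choose.choose_modEq_choose_mod_mul_choose_div_nat (p := p)
      (n := p ^ (e + 1) * (m + 1) - 1) (k := p ^ (e + 1))
    rw [hmod, hdiv, hkmod, hkdiv, Nat.choose_zero_right, one_mul] at h1
    have hM2 : M = p ^ e * (m + 1) - 1 := by omega
    rw [hM2] at h1
    exact h1.trans ih

/-- `x ↦ x ^ (p ^ e)` is injective in characteristic `p` -/
theorem pow_char_pow_injective {F : Type*} [Field F] (p : ℕ) [Fact p.Prime] [CharP F p] (e : ℕ) :
    Function.Injective (fun x : F => x ^ p ^ e) := by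
  induction e with
  | zero =>
    intro x y h
    simpa using h
  | succ e ih =>
    intro x y h
    apply ih
    apply frobenius_inj F p
    show (x ^ p ^ e) ^ p = (y ^ p ^ e) ^ p
    rw [← pow_mul, ← pow_mul, ← pow_succ]
    exact h

/-- in a finite field, `c ^ (p ^ e) ∈ K` implies `c ∈ K` -/
theorem mem_of_pow_char_pow_mem {F : Type*} [Field F] [Fintype F] (p : ℕ) [Fact p.Prime]
    [CharP F p] (K : Subfield F) (e : ℕ) (c : F) (h : c ^ p ^ e ∈ K) : c ∈ K := by
  classical
  -- `k ↦ k ^ (p^e)` is an injective self-map of the finite set `K`, hence surjective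
  let f : K → K := fun k => ⟨(k : F) ^ p ^ e, K.pow_mem k.2 _⟩
  have hinj : Function.Injective f := by
    intro x y hxy
    apply Subtype.ext
    apply pow_char_pow_injective p e
    exact congrArg Subtype.val hxy
  have hsurj : Function.Surjective f := Finite.injective_iff_surjective.1 hinj
  obtain ⟨k, hk⟩ := hsurj ⟨c ^ p ^ e, h⟩
  have : (k : F) ^ p ^ e = c ^ p ^ e := congrArg Subtype.val hk
  have := pow_char_pow_injective (F := F) p e this
  rw [← this]
  exact k.2

set_option linter.unusedVariables false in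
theorem gen_mem_of_binom {F : Type*} [Field F] [Fintype F] (K : Subfield F) (n : ℕ) (hn : 4 ≤ n)
    (c : F) (hc : c ≠ 0)
    (hgen : ∀ y : F, y ≠ 0 → ∃ j : ℕ, y = c ^ j) (hcn : c ^ n ∈ K)
    (hb : ∀ i, i + 3 ≤ n → ((n - 1 + i).choose (n - 1) : F) * c ^ i ∈ K) : c ∈ K := by
  obtain ⟨p, hchar⟩ := CharP.exists F
  have := hchar
  have hp : Fact p.Prime := ⟨CharP.char_is_prime F p⟩
  have hp2 : 2 ≤ p := hp.out.two_le
  -- write n = p^e * n'
  have hn0 : n ≠ 0 := by omega
  obtain ⟨e, n', hn', hnn⟩ := Nat.exists_eq_pow_mul_and_not_dvd hn0 p hp.out.ne_one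
  have hn'0 : n' ≠ 0 := by
    rintro rfl
    exact hn' (dvd_zero p)
  -- it suffices to show c^(p^e) ∈ K
  apply mem_of_pow_char_pow_mem p K e
  by_cases h1 : n' = 1
  · rw [h1, mul_one] at hnn
    rw [← hnn]
    exact hcn
  · have hn'2 : 2 ≤ n' := by omega
    have hpe : 1 ≤ p ^ e := Nat.one_le_pow _ _ (by omega)
    -- i := p^e satisfies i + 3 ≤ n
    have hi : p ^ e + 3 ≤ n := by
      rcases Nat.eq_zero_or_pos e with he | he
      · subst he
        simp only [pow_zero] at hnn ⊢
        omega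
      · have hpe2 : p ≤ p ^ e := by
          calc p = p ^ 1 := (pow_one p).symm
            _ ≤ p ^ e := Nat.pow_le_pow_right (by omega) he
        rcases Nat.lt_or_ge n' 3 with h3 | h3
        · have hn'eq : n' = 2 := by omega
          have hpodd : p ≠ 2 := by
            rintro rfl
            exact hn' (by rw [hn'eq])
          have : 3 ≤ p ^ e := by omega
          rw [hnn, hn'eq]
          omega
        · rw [hnn]
          nlinarith
    have hmem := hb (p ^ e) hi
    -- the binomial coefficient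
    have hchoose : (n - 1 + p ^ e).choose (n - 1) = (p ^ e * (n' + 1) - 1).choose (p ^ e) := by
      have h2 : n - 1 + p ^ e = p ^ e * (n' + 1) - 1 := by
        rw [hnn, mul_add, mul_one]
        have : 1 ≤ p ^ e * n' := by
          calc 1 = 1 * 1 := rfl
            _ ≤ p ^ e * n' := Nat.mul_le_mul hpe (by omega)
        omega
      rw [h2]
      have h3 : p ^ e * (n' + 1) - 1 = (n - 1) + p ^ e := by rw [← h2]
      rw [h3, Nat.choose_symm_add]
    have hmodEq := choose_pow_mul_sub_one_modEq p e n'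
    rw [← hchoose] at hmodEq
    have hcast : (((n - 1 + p ^ e).choose (n - 1) : ℕ) : F) = (n' : F) :=
      (CharP.natCast_eq_natCast F p).2 hmodEq
    have hne : (((n - 1 + p ^ e).choose (n - 1) : ℕ) : F) ≠ 0 := by
      rw [hcast]
      intro h0
      exact hn' ((CharP.cast_eq_zero_iff F p n').1 h0)
    have hbK : (((n - 1 + p ^ e).choose (n - 1) : ℕ) : F) ∈ K := natCast_mem K _
    have : c ^ p ^ e = (((n - 1 + p ^ e).choose (n - 1) : ℕ) : F)⁻¹ *
        ((((n - 1 + p ^ e).choose (n - 1) : ℕ) : F) * c ^ p ^ e) := by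
      rw [← mul_assoc, inv_mul_cancel₀ hne, one_mul]
    rw [this]
    exact K.mul_mem (K.inv_mem hbK) hmem

end Cfsg.Agent.Lib.Helper34.TwoReg
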